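import Cfsg.Prelude.Def_BaumannBlocks
import Cfsg.Prelude.Def_PLocal
import Mathlib.GroupTheory.Commutator.Basic
import Mathlib.GroupTheory.Nilpotent
import Mathlib.Data.Set.Card

/-!
# Chermak–Delgado measure, centrally large subgroups, replacement
-/

set_option autoImplicit false
open scoped Pointwise commutatorElement
open Cfsg

namespace Cfsg.Agent.Lib.LocalEven2.CD

set_option linter.unusedSectionVars false

variable {G : Type*} [Group G] [Finite G]

/-- Chermak–Delgado measure. -/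
noncomputable def cdm (R : Subgroup G) : ℕ :=
  Nat.card ↥R * Nat.card ↥(Subgroup.centralizer (R : Set G))

theorem cdm_pos (R : Subgroup G) : 0 < cdm R := Nat.mul_pos Nat.card_pos Nat.card_pos

theorem centralizer_sup (Q R : Subgroup G) :
    Subgroup.centralizer ((Q ⊔ R : Subgroup G) : Set G) =
      Subgroup.centralizer (Q : Set G) ⊓ Subgroup.centralizer (R : Set G) := by
  refine le_antisymm (le_inf (Subgroup.centralizer_le (le_sup_left : Q ≤ Q ⊔ R))
    (Subgroup.centralizer_le (le_sup_right : R ≤ Q ⊔ R))) ?_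
  exact Subgroup.le_centralizer_iff.mp (sup_le (Subgroup.le_centralizer_iff.mp inf_le_left)
    (Subgroup.le_centralizer_iff.mp inf_le_right))

theorem card_center_eq (R : Subgroup G) :
    Nat.card ↥(Subgroup.center ↥R) = Nat.card ↥(R ⊓ Subgroup.centralizer (R : Set G)) := by
  have h : (Subgroup.center ↥R).map R.subtype = R ⊓ Subgroup.centralizer (R : Set G) := by
    ext x
    simp only [Subgroup.mem_map, Subgroup.mem_inf, Subgroup.mem_centralizer_iff,
      Subgroup.mem_center_iff]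
    constructor
    · rintro ⟨y, hy, rfl⟩
      exact ⟨y.2, fun h hh => congrArg Subtype.val (hy ⟨h, hh⟩)⟩
    · rintro ⟨hx, hc⟩
      exact ⟨⟨x, hx⟩, fun g => Subtype.ext (hc g g.2), rfl⟩
  rw [← h]
  exact Nat.card_congr ((Subgroup.center ↥R).equivMapOfInjective _ R.subtype_injective).toEquiv

theorem card_mul_mul_card_inf (H K : Subgroup G) :
    Nat.card ↥((H : Set G) * (K : Set G)) * Nat.card ↥(H ⊓ K) = Nat.card ↥H * Nat.card ↥K := by
  classical
  have h1 : ∀ x : ↥((H : Set G) * (K : Set G)), ∃ h ∈ H, ∃ k ∈ K, (x : G) = h * k := by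
    rintro ⟨x, h, hh, k, hk, rfl⟩
    exact ⟨h, hh, k, hk, rfl⟩
  choose a ha b hb hab using h1
  rw [← Nat.card_prod, ← Nat.card_prod]
  refine Nat.card_congr (Equiv.ofBijective (fun x =>
    ((⟨a x.1 * x.2, H.mul_mem (ha _) x.2.2.1⟩ : ↥H),
      (⟨(x.2 : G)⁻¹ * b x.1, K.mul_mem (K.inv_mem x.2.2.2) (hb _)⟩ : ↥K))) ⟨?_, ?_⟩)
  · rintro ⟨x, d⟩ ⟨y, e⟩ hxy
    have h2 : a x * (d : G) = a y * (e : G) := congrArg (fun z : ↥H × ↥K => (z.1 : G)) hxy
    have h3 : (d : G)⁻¹ * b x = (e : G)⁻¹ * b y :=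
      congrArg (fun z : ↥H × ↥K => (z.2 : G)) hxy
    have h4 : (x : G) = (y : G) := by
      calc (x : G) = (a x * (d : G)) * ((d : G)⁻¹ * b x) := by rw [hab x]; group
        _ = (a y * (e : G)) * ((e : G)⁻¹ * b y) := by rw [h2, h3]
        _ = (y : G) := by rw [hab y]; group
    obtain rfl := Subtype.ext h4
    have h5 : (d : G) = e := mul_left_cancel h2
    obtain rfl := Subtype.ext h5
    rfl
  · rintro ⟨⟨h, hh⟩, ⟨k, hk⟩⟩
    let x : ↥((H : Set G) * (K : Set G)) := ⟨h * k, h, hh, k, hk, rfl⟩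
    have hd : (a x)⁻¹ * h = b x * k⁻¹ := by
      calc (a x)⁻¹ * h = (a x)⁻¹ * (h * k) * k⁻¹ := by group
        _ = (a x)⁻¹ * (a x * b x) * k⁻¹ := by rw [show h * k = a x * b x from hab x]
        _ = b x * k⁻¹ := by group
    refine ⟨⟨x, ⟨(a x)⁻¹ * h, H.mul_mem (H.inv_mem (ha x)) hh, ?_⟩⟩, ?_⟩
    · show (a x)⁻¹ * h ∈ K
      rw [hd]; exact K.mul_mem (hb x) (K.inv_mem hk)
    · refine Prod.ext (Subtype.ext ?_) (Subtype.ext ?_)
      · show a x * ((a x)⁻¹ * h) = h
        group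
      · show ((a x)⁻¹ * h)⁻¹ * b x = k
        rw [hd]; group

theorem card_set_eq (K : Subgroup G) (S : Set G) (h : S ⊆ K) (hc : Nat.card ↥K ≤ Nat.card ↥S) :
    (K : Set G) = S := by
  refine (Set.eq_of_subset_of_ncard_le h ?_ (Set.toFinite _)).symm
  rw [← Nat.card_coe_set_eq, ← Nat.card_coe_set_eq]
  exact hc

theorem mul_subset_sup (H K : Subgroup G) :
    (H : Set G) * (K : Set G) ⊆ ((H ⊔ K : Subgroup G) : Set G) := by
  rintro x ⟨h, hh, k, hk, rfl⟩
  exact Subgroup.mul_mem_sup hh hk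

theorem card_mul_le_sup (H K : Subgroup G) :
    Nat.card ↥H * Nat.card ↥K ≤ Nat.card ↥(H ⊔ K) * Nat.card ↥(H ⊓ K) := by
  rw [← card_mul_mul_card_inf]
  exact Nat.mul_le_mul_right _ (Nat.card_mono (Set.toFinite _) (mul_subset_sup H K))

theorem sup_eq_mul_of_card_le (H K : Subgroup G)
    (h : Nat.card ↥(H ⊔ K) * Nat.card ↥(H ⊓ K) ≤ Nat.card ↥H * Nat.card ↥K) :
    ((H ⊔ K : Subgroup G) : Set G) = (H : Set G) * (K : Set G) := by
  refine card_set_eq _ _ (mul_subset_sup H K) ?_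
  rw [← card_mul_mul_card_inf H K] at h
  exact Nat.le_of_mul_le_mul_right h Nat.card_pos

theorem centralizer_sup_le_inf (Q R : Subgroup G) :
    Subgroup.centralizer (Q : Set G) ⊔ Subgroup.centralizer (R : Set G) ≤
      Subgroup.centralizer ((Q ⊓ R : Subgroup G) : Set G) :=
  sup_le (Subgroup.centralizer_le inf_le_left) (Subgroup.centralizer_le inf_le_right)

theorem cdm_mul_le (Q R : Subgroup G) : cdm Q * cdm R ≤ cdm (Q ⊔ R) * cdm (Q ⊓ R) := by
  have h1 := card_mul_le_sup Q R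
  have h2 := card_mul_le_sup (Subgroup.centralizer (Q : Set G)) (Subgroup.centralizer (R : Set G))
  rw [← centralizer_sup] at h2
  have h3 := Subgroup.card_le_of_le (centralizer_sup_le_inf Q R)
  calc cdm Q * cdm R
      = (Nat.card ↥Q * Nat.card ↥R) * (Nat.card ↥(Subgroup.centralizer (Q : Set G)) *
          Nat.card ↥(Subgroup.centralizer (R : Set G))) := by unfold cdm; ring
    _ ≤ (Nat.card ↥(Q ⊔ R) * Nat.card ↥(Q ⊓ R)) *
        (Nat.card ↥(Subgroup.centralizer ((Q ⊓ R : Subgroup G) : Set G)) *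
          Nat.card ↥(Subgroup.centralizer ((Q ⊔ R : Subgroup G) : Set G))) :=
        Nat.mul_le_mul h1 (h2.trans (Nat.mul_le_mul_right _ h3))
    _ = cdm (Q ⊔ R) * cdm (Q ⊓ R) := by unfold cdm; ring

theorem bddAbove_cdm :
    BddAbove {k : ℕ | ∃ R : Subgroup G, cdm R = k} :=
  (Set.finite_range (cdm (G := G))).bddAbove

theorem cdm_le (R : Subgroup G) : cdm R ≤ maxCentralizerProduct G :=
  le_csSup bddAbove_cdm ⟨R, rfl⟩

theorem exists_large : ∃ R : Subgroup G, IsCentralizerLarge R :=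
  Nat.sSup_mem (s := {k : ℕ | ∃ R : Subgroup G, cdm R = k}) ⟨cdm ⊥, ⊥, rfl⟩ bddAbove_cdm

theorem isLarge_iff {R : Subgroup G} :
    IsCentralizerLarge R ↔ maxCentralizerProduct G ≤ cdm R :=
  ⟨fun h => le_of_eq h.symm, fun h => le_antisymm (cdm_le R) h⟩

section Large
variable {Q R : Subgroup G} (hQ : IsCentralizerLarge Q) (hR : IsCentralizerLarge R)
include hQ hR

theorem large_sup_inf : IsCentralizerLarge (Q ⊔ R) ∧ IsCentralizerLarge (Q ⊓ R) := by
  have h := cdm_mul_le Q R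
  rw [show cdm Q = maxCentralizerProduct G from hQ,
    show cdm R = maxCentralizerProduct G from hR] at h
  have hpos : 0 < maxCentralizerProduct G := lt_of_lt_of_le (cdm_pos Q) (cdm_le Q)
  constructor
  · exact isLarge_iff.mpr
      (Nat.le_of_mul_le_mul_right (h.trans (Nat.mul_le_mul_left _ (cdm_le _))) hpos)
  · exact isLarge_iff.mpr
      (Nat.le_of_mul_le_mul_left (h.trans (Nat.mul_le_mul_right _ (cdm_le _))) hpos)

theorem large_card_eq :
    Nat.card ↥(Q ⊔ R) * Nat.card ↥(Q ⊓ R) ≤ Nat.card ↥Q * Nat.card ↥R ∧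
    Subgroup.centralizer (Q : Set G) ⊔ Subgroup.centralizer (R : Set G) =
      Subgroup.centralizer ((Q ⊓ R : Subgroup G) : Set G) ∧
    Nat.card ↥(Subgroup.centralizer (Q : Set G) ⊔ Subgroup.centralizer (R : Set G)) *
      Nat.card ↥(Subgroup.centralizer (Q : Set G) ⊓ Subgroup.centralizer (R : Set G)) ≤
      Nat.card ↥(Subgroup.centralizer (Q : Set G)) *
        Nat.card ↥(Subgroup.centralizer (R : Set G)) := by
  obtain ⟨hs, hi⟩ := large_sup_inf hQ hR
  set a := Nat.card ↥Q * Nat.card ↥R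
  set a' := Nat.card ↥(Q ⊔ R) * Nat.card ↥(Q ⊓ R)
  set b := Nat.card ↥(Subgroup.centralizer (Q : Set G)) *
    Nat.card ↥(Subgroup.centralizer (R : Set G))
  set b' := Nat.card ↥(Subgroup.centralizer (Q : Set G) ⊓ Subgroup.centralizer (R : Set G)) *
    Nat.card ↥(Subgroup.centralizer ((Q ⊓ R : Subgroup G) : Set G)) with hb'
  have heq : a * b = a' * b' := by
    have : cdm Q * cdm R = cdm (Q ⊔ R) * cdm (Q ⊓ R) := by
      rw [show cdm Q = _ from hQ, show cdm R = _ from hR, show cdm (Q ⊔ R) = _ from hs,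
        show cdm (Q ⊓ R) = _ from hi]
    unfold cdm at this
    rw [centralizer_sup] at this
    calc a * b = _ := by ring
      _ = _ := this
      _ = a' * b' := by ring
  have ha : a ≤ a' := card_mul_le_sup Q R
  have hle := centralizer_sup_le_inf Q R
  have hb : b ≤ b' := by
    refine (card_mul_le_sup _ _).trans ?_
    rw [hb', mul_comm]
    exact Nat.mul_le_mul_left _ (Subgroup.card_le_of_le hle)
  have haa : a' ≤ a := by
    refine Nat.le_of_mul_le_mul_right ?_ (Nat.mul_pos Nat.card_pos Nat.card_pos : 0 < b')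
    rw [← heq]
    exact Nat.mul_le_mul_left _ hb
  have hbb : b' ≤ b := by
    refine Nat.le_of_mul_le_mul_left ?_ (Nat.mul_pos Nat.card_pos Nat.card_pos : 0 < a')
    rw [← heq]
    exact Nat.mul_le_mul_right _ ha
  have hCeq : Subgroup.centralizer (Q : Set G) ⊔ Subgroup.centralizer (R : Set G) =
      Subgroup.centralizer ((Q ⊓ R : Subgroup G) : Set G) := by
    refine Subgroup.eq_of_le_of_card_ge hle ?_
    refine Nat.le_of_mul_le_mul_right ?_ (Nat.card_pos (α := ↥(Subgroup.centralizer (Q : Set G) ⊓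
      Subgroup.centralizer (R : Set G))))
    refine le_trans ?_ ((card_mul_le_sup _ _))
    rw [mul_comm]
    exact hbb
  refine ⟨haa, hCeq, ?_⟩
  rw [hCeq, mul_comm]
  exact hbb

theorem large_sup_eq_mul : ((Q ⊔ R : Subgroup G) : Set G) = (Q : Set G) * (R : Set G) :=
  sup_eq_mul_of_card_le Q R (large_card_eq hQ hR).1

theorem large_centralizer_inf :
    Subgroup.centralizer ((Q ⊓ R : Subgroup G) : Set G) =
      Subgroup.centralizer (Q : Set G) ⊔ Subgroup.centralizer (R : Set G) :=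
  (large_card_eq hQ hR).2.1.symm

theorem large_centralizer_sup_eq_mul :
    ((Subgroup.centralizer (Q : Set G) ⊔ Subgroup.centralizer (R : Set G) : Subgroup G) : Set G) =
      (Subgroup.centralizer (Q : Set G) : Set G) * (Subgroup.centralizer (R : Set G) : Set G) :=
  sup_eq_mul_of_card_le _ _ (large_card_eq hQ hR).2.2

end Large

theorem le_centralizer_centralizer (Q : Subgroup G) :
    Q ≤ Subgroup.centralizer ((Subgroup.centralizer (Q : Set G) : Subgroup G) : Set G) :=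
  Subgroup.le_centralizer_iff.mp le_rfl

theorem large_centralizer {Q : Subgroup G} (hQ : IsCentralizerLarge Q) :
    IsCentralizerLarge (Subgroup.centralizer (Q : Set G)) ∧
      Subgroup.centralizer ((Subgroup.centralizer (Q : Set G) : Subgroup G) : Set G) = Q := by
  have h : cdm Q ≤ cdm (Subgroup.centralizer (Q : Set G)) := by
    unfold cdm
    rw [mul_comm]
    exact Nat.mul_le_mul_left _ (Subgroup.card_le_of_le (le_centralizer_centralizer Q))
  have hl : IsCentralizerLarge (Subgroup.centralizer (Q : Set G)) :=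
    isLarge_iff.mpr ((isLarge_iff.mp hQ).trans h)
  refine ⟨hl, (Subgroup.eq_of_le_of_card_ge (le_centralizer_centralizer Q) ?_).symm⟩
  have h2 : cdm (Subgroup.centralizer (Q : Set G)) ≤ cdm Q := (cdm_le _).trans (isLarge_iff.mp hQ)
  unfold cdm at h2
  rw [mul_comm (Nat.card ↥Q)] at h2
  exact Nat.le_of_mul_le_mul_left h2 Nat.card_pos

/-! ### centrally large subgroups -/

theorem bddAbove_central :
    BddAbove {k : ℕ | ∃ R : Subgroup G, Nat.card ↥R * Nat.card ↥(Subgroup.center ↥R) = k} :=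
  (Set.finite_range fun R : Subgroup G => Nat.card ↥R * Nat.card ↥(Subgroup.center ↥R)).bddAbove

theorem central_le_cdm (R : Subgroup G) :
    Nat.card ↥R * Nat.card ↥(Subgroup.center ↥R) ≤ cdm R := by
  rw [card_center_eq]
  exact Nat.mul_le_mul_left _ (Subgroup.card_le_of_le inf_le_right)

theorem maxCentral_eq : maxCentralProduct G = maxCentralizerProduct G := by
  refine le_antisymm (csSup_le' ?_) ?_
  · rintro k ⟨R, rfl⟩
    exact (central_le_cdm R).trans (cdm_le R)
  · obtain ⟨Q, hQ⟩ := exists_large (G := G)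
    obtain ⟨hC, hCC⟩ := large_centralizer hQ
    have hT := (large_sup_inf hQ hC).1
    have hz : Subgroup.centralizer ((Q ⊔ Subgroup.centralizer (Q : Set G) : Subgroup G) : Set G) ≤
        Q ⊔ Subgroup.centralizer (Q : Set G) := by
      rw [centralizer_sup]; exact inf_le_left.trans le_sup_right
    have h := le_csSup bddAbove_central
      (a := Nat.card ↥(Q ⊔ Subgroup.centralizer (Q : Set G)) *
        Nat.card ↥(Subgroup.center ↥(Q ⊔ Subgroup.centralizer (Q : Set G)))) ⟨_, rfl⟩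
    rw [card_center_eq, inf_eq_right.mpr hz] at h
    exact le_of_eq_of_le hT.symm h

theorem isCentrallyLarge_iff {Q : Subgroup G} :
    IsCentrallyLarge Q ↔
      IsCentralizerLarge Q ∧ Subgroup.centralizer (Q : Set G) ≤ Q := by
  unfold IsCentrallyLarge
  rw [maxCentral_eq]
  constructor
  · intro h
    have hl : IsCentralizerLarge Q := isLarge_iff.mpr (h ▸ central_le_cdm Q)
    refine ⟨hl, ?_⟩
    rw [card_center_eq] at h
    have h2 : Nat.card ↥(Q ⊓ Subgroup.centralizer (Q : Set G)) =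
        Nat.card ↥(Subgroup.centralizer (Q : Set G)) :=
      Nat.eq_of_mul_eq_mul_left Nat.card_pos (h.trans hl.symm)
    exact inf_eq_right.mp (Subgroup.eq_of_le_of_card_ge inf_le_right h2.ge)
  · rintro ⟨hl, hc⟩
    rw [card_center_eq, inf_eq_right.mpr hc]
    exact hl

/-- Lower bound criterion. -/
theorem isCentrallyLarge_of_le {Q : Subgroup G} (Z : Subgroup G) (hZ : Z ≤ Q)
    (hZc : Z ≤ Subgroup.centralizer (Q : Set G))
    (h : maxCentralizerProduct G ≤ Nat.card ↥Q * Nat.card ↥Z) :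
    IsCentrallyLarge Q ∧ Z = Subgroup.centralizer (Q : Set G) := by
  have h1 : Nat.card ↥Z ≤ Nat.card ↥(Subgroup.centralizer (Q : Set G)) :=
    Subgroup.card_le_of_le hZc
  have h2 : cdm Q ≤ Nat.card ↥Q * Nat.card ↥Z := (cdm_le Q).trans h
  have heq : Z = Subgroup.centralizer (Q : Set G) :=
    Subgroup.eq_of_le_of_card_ge hZc (Nat.le_of_mul_le_mul_left h2 Nat.card_pos)
  refine ⟨isCentrallyLarge_iff.mpr ⟨isLarge_iff.mpr ?_, heq ▸ hZ⟩, heq⟩
  exact h.trans (Nat.mul_le_mul_left _ h1)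

theorem exists_centrallyLarge : ∃ Q : Subgroup G, IsCentrallyLarge Q := by
  obtain ⟨Q, hQ⟩ := exists_large (G := G)
  refine ⟨Q ⊔ Subgroup.centralizer (Q : Set G), isCentrallyLarge_iff.mpr
    ⟨(large_sup_inf hQ (large_centralizer hQ).1).1, ?_⟩⟩
  rw [centralizer_sup]; exact inf_le_left.trans le_sup_right

theorem centrallyLarge_sup {Q R : Subgroup G} (hQ : IsCentrallyLarge Q) (hR : IsCentrallyLarge R) :
    IsCentrallyLarge (Q ⊔ R) := by
  rw [isCentrallyLarge_iff] at hQ hR ⊢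
  refine ⟨(large_sup_inf hQ.1 hR.1).1, ?_⟩
  rw [centralizer_sup]
  exact inf_le_left.trans (hQ.2.trans le_sup_left)

theorem centrallyLarge_sup_sSup {Q : Subgroup G} (hQ : IsCentrallyLarge Q) (S : Set (Subgroup G))
    (hS : ∀ A ∈ S, ∀ R, IsCentrallyLarge R → IsCentrallyLarge (R ⊔ A)) :
    IsCentrallyLarge (Q ⊔ sSup S) := by
  refine Set.Finite.induction_on_subset (motive := fun T _ => IsCentrallyLarge (Q ⊔ sSup T)) S
    (Set.toFinite S) (by simpa using hQ) fun {a s} ha _ _ ih => ?_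
  rw [sSup_insert, sup_comm a, ← sup_assoc]
  exact hS a ha _ ih

theorem centrallyLarge_sSup {S : Set (Subgroup G)} (hne : S.Nonempty)
    (hS : ∀ A ∈ S, IsCentrallyLarge A) : IsCentrallyLarge (sSup S) := by
  obtain ⟨Q, hQ⟩ := hne
  have := centrallyLarge_sup_sSup (hS Q hQ) S fun A hA R hR => centrallyLarge_sup hR (hS A hA)
  rwa [sup_eq_right.mpr (le_sSup hQ)] at this

theorem exists_minimal_le {Q : Subgroup G} (hQ : IsCentrallyLarge Q) :
    ∃ R, R ≤ Q ∧ IsMinimalCentrallyLarge R := by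
  obtain ⟨R, ⟨hRQ, hR⟩, hmin⟩ := Set.Finite.exists_minimalFor (fun R : Subgroup G => R)
    {R : Subgroup G | R ≤ Q ∧ IsCentrallyLarge R} (Set.toFinite _) ⟨Q, le_rfl, hQ⟩
  exact ⟨R, hRQ, hR, fun R' h' hR' => le_antisymm h' (hmin ⟨h'.trans hRQ, hR'⟩ h')⟩

section MCL
variable {Q R : Subgroup G} (hQ : IsMinimalCentrallyLarge Q) (hR : IsMinimalCentrallyLarge R)
include hQ hR

theorem minimal_eq_inf_sup :
    (Q ⊓ R) ⊔ Subgroup.centralizer (Q : Set G) = Q := by
  obtain ⟨hQl, hQc⟩ := isCentrallyLarge_iff.mp hQ.1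
  obtain ⟨hRl, hRc⟩ := isCentrallyLarge_iff.mp hR.1
  refine hQ.2 _ (sup_le inf_le_left hQc) (isCentrallyLarge_iff.mpr
    ⟨(large_sup_inf (large_sup_inf hQl hRl).2 (large_centralizer hQl).1).1, ?_⟩)
  rw [centralizer_sup, (large_centralizer hQl).2, large_centralizer_inf hQl hRl]
  rintro x ⟨hx, hxQ⟩
  replace hx : x ∈ ((Subgroup.centralizer (Q : Set G) ⊔ Subgroup.centralizer (R : Set G) :
      Subgroup G) : Set G) := hx
  rw [large_centralizer_sup_eq_mul hQl hRl] at hx
  obtain ⟨a, ha, b, hb, rfl⟩ := hx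
  refine Subgroup.mul_mem _ (Subgroup.mem_sup_right ha) (Subgroup.mem_sup_left ⟨?_, hRc hb⟩)
  have : a⁻¹ * (a * b) ∈ Q := Q.mul_mem (Q.inv_mem (hQc ha)) hxQ
  simpa using this

theorem minimal_inf_centre :
    (Q ⊓ R) ⊓ Subgroup.centralizer (Q : Set G) =
      (Q ⊓ R) ⊓ Subgroup.centralizer ((Q ⊓ R : Subgroup G) : Set G) := by
  refine le_antisymm (le_inf inf_le_left (inf_le_right.trans (Subgroup.centralizer_le inf_le_left)))
    (le_inf inf_le_left fun x hx => ?_)
  have h1 : (Q ⊓ R) ⊔ Subgroup.centralizer (Q : Set G) ≤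
      Subgroup.centralizer ((Subgroup.zpowers x : Subgroup G) : Set G) := by
    refine sup_le (Subgroup.le_centralizer_iff.mp (Subgroup.zpowers_le.mpr hx.2))
      (Subgroup.centralizer_le (Subgroup.zpowers_le.mpr hx.1.1))
  rw [minimal_eq_inf_sup hQ hR] at h1
  exact Subgroup.le_centralizer_iff.mp h1 (Subgroup.mem_zpowers x)

theorem minimal_card_eq :
    Nat.card ↥Q = Nat.card ↥R ∧ Nat.card ↥(Subgroup.centralizer (Q : Set G)) =
      Nat.card ↥(Subgroup.centralizer (R : Set G)) := by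
  obtain ⟨hQl, hQc⟩ := isCentrallyLarge_iff.mp hQ.1
  obtain ⟨hRl, hRc⟩ := isCentrallyLarge_iff.mp hR.1
  have key : ∀ {Q R : Subgroup G}, IsMinimalCentrallyLarge Q → IsMinimalCentrallyLarge R →
      Nat.card ↥Q * Nat.card ↥((Q ⊓ R) ⊓ Subgroup.centralizer ((Q ⊓ R : Subgroup G) : Set G)) =
      Nat.card ↥(Q ⊓ R) * Nat.card ↥(Subgroup.centralizer (Q : Set G)) := by
    intro Q R hQ hR
    rw [← minimal_inf_centre hQ hR,
      ← card_mul_mul_card_inf (Q ⊓ R) (Subgroup.centralizer (Q : Set G))]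
    refine congrArg (· * Nat.card ↥((Q ⊓ R) ⊓ Subgroup.centralizer (Q : Set G))) ?_
    have hsub : ((Q ⊓ R : Subgroup G) : Set G) * (Subgroup.centralizer (Q : Set G) : Set G) =
        (((Q ⊓ R) ⊔ Subgroup.centralizer (Q : Set G) : Subgroup G) : Set G) :=
      (Subgroup.coe_mul_of_left_le_normalizer_right _ _
        ((Subgroup.le_centralizer_iff.mp (Subgroup.centralizer_le inf_le_left)).trans
          (Subgroup.centralizer_le_normalizer _))).symm
    rw [hsub, minimal_eq_inf_sup hQ hR]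
    rfl
  have h1 := key hQ hR
  have h2 := key hR hQ
  rw [inf_comm R Q] at h2
  have h3 : cdm Q = cdm R := hQl.trans hRl.symm
  unfold cdm at h3
  have h4 : Nat.card ↥Q * Nat.card ↥(Subgroup.centralizer (R : Set G)) =
      Nat.card ↥R * Nat.card ↥(Subgroup.centralizer (Q : Set G)) := by
    refine Nat.eq_of_mul_eq_mul_left (Nat.card_pos (α := ↥(Q ⊓ R))) ?_
    calc Nat.card ↥(Q ⊓ R) * (Nat.card ↥Q * Nat.card ↥(Subgroup.centralizer (R : Set G)))
        = Nat.card ↥Q * (Nat.card ↥(Q ⊓ R) * Nat.card ↥(Subgroup.centralizer (R : Set G))) := by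
          ring
      _ = Nat.card ↥R * (Nat.card ↥Q *
            Nat.card ↥((Q ⊓ R) ⊓ Subgroup.centralizer ((Q ⊓ R : Subgroup G) : Set G))) := by
          rw [← h2]; ring
      _ = _ := by rw [h1]; ring
  have h5 : Nat.card ↥Q * Nat.card ↥Q = Nat.card ↥R * Nat.card ↥R := by
    refine Nat.eq_of_mul_eq_mul_right (Nat.mul_pos (Nat.card_pos (α :=
      ↥(Subgroup.centralizer (Q : Set G)))) (Nat.card_pos (α :=
        ↥(Subgroup.centralizer (R : Set G))))) ?_
    calc _ = (Nat.card ↥Q * Nat.card ↥(Subgroup.centralizer (Q : Set G))) *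
          (Nat.card ↥Q * Nat.card ↥(Subgroup.centralizer (R : Set G))) := by ring
      _ = _ := by rw [h3, h4]; ring
  have hqr : Nat.card ↥Q = Nat.card ↥R := Nat.mul_self_inj.mp h5
  refine ⟨hqr, ?_⟩
  rw [← hqr] at h3
  exact Nat.eq_of_mul_eq_mul_left Nat.card_pos h3

theorem minimal_commutator_eq : ⁅Q, Q⁆ = ⁅R, R⁆ := by
  have key : ∀ {Q R : Subgroup G}, IsMinimalCentrallyLarge Q → IsMinimalCentrallyLarge R →
      ⁅Q, Q⁆ ≤ ⁅R, R⁆ := by
    intro Q R hQ hR
    refine Subgroup.commutator_le.mpr fun x hx y hy => ?_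
    have hdec : ∀ z ∈ Q, ∃ a ∈ Q ⊓ R, ∃ c ∈ Subgroup.centralizer (Q : Set G), z = a * c := by
      intro z hz
      rw [← minimal_eq_inf_sup hQ hR, ← SetLike.mem_coe,
        Subgroup.coe_mul_of_left_le_normalizer_right _ _
        ((Subgroup.le_centralizer_iff.mp (Subgroup.centralizer_le inf_le_left)).trans
          (Subgroup.centralizer_le_normalizer _))] at hz
      obtain ⟨a, ha, c, hc, rfl⟩ := hz
      exact ⟨a, ha, c, hc, rfl⟩
    obtain ⟨a, ha, c, hc, rfl⟩ := hdec x hx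
    obtain ⟨b, hb, d, hd, rfl⟩ := hdec y hy
    have h1 : c * (b * d) = (b * d) * c := (Subgroup.mem_centralizer_iff.mp hc _ hy).symm
    have h2 : d * a⁻¹ = a⁻¹ * d :=
      (Subgroup.mem_centralizer_iff.mp hd _ (Q.inv_mem ha.1)).symm
    have : ⁅a * c, b * d⁆ = ⁅a, b⁆ := by
      calc ⁅a * c, b * d⁆ = a * (c * (b * d)) * c⁻¹ * a⁻¹ * (d⁻¹ * b⁻¹) := by
            rw [commutatorElement_def]; group
        _ = a * b * (d * a⁻¹) * d⁻¹ * b⁻¹ := by rw [h1]; group
        _ = ⁅a, b⁆ := by rw [h2, commutatorElement_def]; group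
    rw [this]
    exact Subgroup.commutator_mem_commutator ha.2 hb.2
  exact le_antisymm (key hQ hR) (key hR hQ)

end MCL

/-! ### abelian subgroups of largest order -/

theorem isMulCommutative_iff_le_centralizer {A : Subgroup G} :
    IsMulCommutative ↥A ↔ A ≤ Subgroup.centralizer (A : Set G) := by
  constructor
  · intro h x hx
    exact Subgroup.mem_centralizer_iff.mpr fun y hy =>
      congrArg Subtype.val (mul_comm' (⟨y, hy⟩ : ↥A) ⟨x, hx⟩)
  · intro h
    exact ⟨⟨fun a b => Subtype.ext ((Subgroup.mem_centralizer_iff.mp (h a.2) b b.2).symm)⟩⟩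

theorem sup_abelian {A B : Subgroup G} (hA : A ≤ Subgroup.centralizer (A : Set G))
    (hB : B ≤ Subgroup.centralizer (B : Set G)) (hAB : B ≤ Subgroup.centralizer (A : Set G)) :
    A ⊔ B ≤ Subgroup.centralizer ((A ⊔ B : Subgroup G) : Set G) := by
  rw [centralizer_sup]
  exact sup_le (le_inf hA (Subgroup.le_centralizer_iff.mp hAB)) (le_inf hAB hB)

theorem centralizer_maxAbelian {A : Subgroup G} (hA : A ∈ maxAbelianSubgroups G) :
    Subgroup.centralizer (A : Set G) = A := by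
  have hAc := isMulCommutative_iff_le_centralizer.mp hA.1
  refine le_antisymm (fun x hx => ?_) hAc
  have hz : Subgroup.zpowers x ≤ Subgroup.centralizer (Subgroup.zpowers x : Set G) :=
    isMulCommutative_iff_le_centralizer.mp inferInstance
  have hab := sup_abelian hAc hz (Subgroup.zpowers_le.mpr hx)
  have h := hA.2 _ (isMulCommutative_iff_le_centralizer.mpr hab)
  rw [Subgroup.eq_of_le_of_card_ge (le_sup_left : A ≤ A ⊔ Subgroup.zpowers x) h]
  exact Subgroup.mem_sup_right (Subgroup.mem_zpowers x)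

theorem sq_card_le {A : Subgroup G} (hA : IsMulCommutative ↥A) :
    Nat.card ↥A * Nat.card ↥A ≤ maxCentralizerProduct G :=
  le_trans (Nat.mul_le_mul_left _
    (Subgroup.card_le_of_le (isMulCommutative_iff_le_centralizer.mp hA))) (cdm_le A)

theorem exists_maxAbelian : ∃ A : Subgroup G, A ∈ maxAbelianSubgroups G := by
  obtain ⟨A, hA, hmax⟩ := Set.exists_max_image {A : Subgroup G | IsMulCommutative ↥A}
    (fun A => Nat.card ↥A) (Set.toFinite _) ⟨⊥, inferInstanceAs (IsMulCommutative ↥(⊥ : Subgroup G))⟩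
  exact ⟨A, hA, hmax⟩

/-- If `Q` is centrally large and `A` abelian of largest order, then `QA` is centrally large. -/
theorem sup_maxAbelian {Q A : Subgroup G} (hQ : IsCentrallyLarge Q)
    (hA : A ∈ maxAbelianSubgroups G) :
    ((Q ⊔ A : Subgroup G) : Set G) = (Q : Set G) * (A : Set G) ∧ IsCentrallyLarge (Q ⊔ A) ∧
    (Q ⊔ A) ⊓ Subgroup.centralizer ((Q ⊓ A : Subgroup G) : Set G) =
      Subgroup.centralizer (Q : Set G) ⊔ A ∧
    ((Subgroup.centralizer (Q : Set G) ⊔ A : Subgroup G) : Set G) =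
      (Subgroup.centralizer (Q : Set G) : Set G) * (A : Set G) := by
  obtain ⟨hQl, hQc⟩ := isCentrallyLarge_iff.mp hQ
  set Z := Subgroup.centralizer (Q : Set G) with hZdef
  have hAc := isMulCommutative_iff_le_centralizer.mp hA.1
  have hZab : Z ≤ Subgroup.centralizer (Z : Set G) := Subgroup.centralizer_le hQc
  set K := Q ⊓ A
  have hKab : K ≤ Subgroup.centralizer (K : Set G) :=
    inf_le_right.trans (hAc.trans (Subgroup.centralizer_le inf_le_right))
  have hBab := sup_abelian hKab hZab (Subgroup.centralizer_le inf_le_left)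
  have hB : Nat.card ↥(K ⊔ Z) ≤ Nat.card ↥A := hA.2 _ (isMulCommutative_iff_le_centralizer.mpr hBab)
  have hKZ : K ⊓ Z = Z ⊓ A := le_antisymm (le_inf inf_le_right (inf_le_left.trans inf_le_right))
    (le_inf (le_inf (inf_le_left.trans hQc) inf_le_right) inf_le_left)
  have hCT : Subgroup.centralizer ((Q ⊔ A : Subgroup G) : Set G) = Z ⊓ A := by
    rw [centralizer_sup, centralizer_maxAbelian hA]
  have h1 := card_mul_le_sup K Z
  rw [hKZ] at h1
  have h2 := card_mul_le_sup Q A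
  -- |Q||Z| ≤ |Q ⊔ A||Z ⊓ A|
  have hchain : Nat.card ↥Q * Nat.card ↥Z * (Nat.card ↥A * Nat.card ↥K) ≤
      Nat.card ↥(Q ⊔ A) * Nat.card ↥(Z ⊓ A) * (Nat.card ↥(K ⊔ Z) * Nat.card ↥K) := by
    calc _ = (Nat.card ↥Q * Nat.card ↥A) * (Nat.card ↥K * Nat.card ↥Z) := by ring
      _ ≤ (Nat.card ↥(Q ⊔ A) * Nat.card ↥K) * (Nat.card ↥(K ⊔ Z) * Nat.card ↥(Z ⊓ A)) :=
          Nat.mul_le_mul h2 h1
      _ = _ := by ring
  have hg : cdm Q = maxCentralizerProduct G := hQl
  have hT : IsCentrallyLarge (Q ⊔ A) := by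
    refine (isCentrallyLarge_of_le (Z ⊓ A) (inf_le_right.trans le_sup_right) hCT.ge ?_).1
    rw [← hg]
    refine Nat.le_of_mul_le_mul_right (hchain.trans (Nat.mul_le_mul_left _
      (Nat.mul_le_mul_right _ hB))) (Nat.mul_pos Nat.card_pos Nat.card_pos)
  have hTm : Nat.card ↥(Q ⊔ A) * Nat.card ↥(Z ⊓ A) = Nat.card ↥Q * Nat.card ↥Z := by
    have := (isCentrallyLarge_iff.mp hT).1.trans hg.symm
    rwa [hCT] at this
  have hBcard : Nat.card ↥A ≤ Nat.card ↥(K ⊔ Z) := by
    rw [hTm] at hchain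
    exact Nat.le_of_mul_le_mul_right
      (Nat.le_of_mul_le_mul_left hchain (Nat.mul_pos Nat.card_pos Nat.card_pos)) Nat.card_pos
  have hset : ((Q ⊔ A : Subgroup G) : Set G) = (Q : Set G) * (A : Set G) := by
    refine sup_eq_mul_of_card_le Q A ?_
    refine Nat.le_of_mul_le_mul_right ?_ (Nat.mul_pos (Nat.card_pos (α := ↥K))
      (Nat.card_pos (α := ↥Z)))
    calc Nat.card ↥(Q ⊔ A) * Nat.card ↥K * (Nat.card ↥K * Nat.card ↥Z)
        ≤ Nat.card ↥(Q ⊔ A) * Nat.card ↥K * (Nat.card ↥(K ⊔ Z) * Nat.card ↥(Z ⊓ A)) :=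
          Nat.mul_le_mul_left _ h1
      _ = Nat.card ↥(Q ⊔ A) * Nat.card ↥(Z ⊓ A) * (Nat.card ↥(K ⊔ Z) * Nat.card ↥K) := by ring
      _ ≤ Nat.card ↥(Q ⊔ A) * Nat.card ↥(Z ⊓ A) * (Nat.card ↥A * Nat.card ↥K) :=
          Nat.mul_le_mul_left _ (Nat.mul_le_mul_right _ hB)
      _ = Nat.card ↥Q * Nat.card ↥A * (Nat.card ↥K * Nat.card ↥Z) := by rw [hTm]; ring
  have hBmax : K ⊔ Z ∈ maxAbelianSubgroups G :=
    ⟨isMulCommutative_iff_le_centralizer.mpr hBab, fun B hB' => (hA.2 B hB').trans hBcard⟩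
  have hAK : A ≤ Subgroup.centralizer (K : Set G) := hAc.trans (Subgroup.centralizer_le inf_le_right)
  have hsub : (((Q ⊔ A) ⊓ Subgroup.centralizer (K : Set G) : Subgroup G) : Set G) ⊆
      (Z : Set G) * (A : Set G) := by
    rintro x ⟨hx1, hx2⟩
    replace hx1 : x ∈ ((Q ⊔ A : Subgroup G) : Set G) := hx1
    rw [hset] at hx1
    obtain ⟨q, hq, a, ha, rfl⟩ := hx1
    have hqK : q ∈ Subgroup.centralizer (K : Set G) := by
      simpa using Subgroup.mul_mem _ hx2 (Subgroup.inv_mem _ (hAK ha))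
    have hqB : q ∈ K ⊔ Z := by
      rw [← centralizer_maxAbelian hBmax, centralizer_sup]
      exact ⟨hqK, Subgroup.le_centralizer_iff.mp le_rfl hq⟩
    rw [sup_comm, ← SetLike.mem_coe, Subgroup.coe_mul_of_left_le_normalizer_right _ _
      ((Subgroup.centralizer_le (inf_le_left : K ≤ Q)).trans
        (Subgroup.centralizer_le_normalizer _))] at hqB
    obtain ⟨z, hz, k, hk, rfl⟩ := hqB
    exact ⟨z, hz, k * a, A.mul_mem hk.2 ha, (mul_assoc z k a).symm⟩
  have hle : Z ⊔ A ≤ (Q ⊔ A) ⊓ Subgroup.centralizer (K : Set G) :=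
    sup_le (le_inf (hQc.trans le_sup_left) (Subgroup.centralizer_le inf_le_left))
      (le_inf le_sup_right hAK)
  refine ⟨hset, hT, le_antisymm (fun x hx => mul_subset_sup Z A (hsub hx)) hle, ?_⟩
  exact Set.Subset.antisymm (fun x hx => hsub (hle hx)) (mul_subset_sup Z A)

theorem centrallyLarge_sup_thompson {Q : Subgroup G} (hQ : IsCentrallyLarge Q) :
    IsCentrallyLarge (Q ⊔ thompsonSubgroupA G) :=
  centrallyLarge_sup_sSup hQ _ fun _ hA _ hR => (sup_maxAbelian hR hA).2.1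

theorem centralizer_center_thompson_le {Q : Subgroup G} (hQ : IsCentrallyLarge Q) :
    Subgroup.centralizer ((thompsonSubgroupA G ⊓
      Subgroup.centralizer (thompsonSubgroupA G : Set G) : Subgroup G) : Set G) ≤
      Q ⊔ thompsonSubgroupA G := by
  obtain ⟨hl, _⟩ := isCentrallyLarge_iff.mp (centrallyLarge_sup_thompson hQ)
  rw [← (large_centralizer hl).2]
  refine Subgroup.centralizer_le ?_
  obtain ⟨A, hA⟩ := exists_maxAbelian (G := G)
  have h1 : Subgroup.centralizer ((Q ⊔ thompsonSubgroupA G : Subgroup G) : Set G) ≤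
      Subgroup.centralizer (thompsonSubgroupA G : Set G) :=
    Subgroup.centralizer_le (le_sup_right : thompsonSubgroupA G ≤ Q ⊔ thompsonSubgroupA G)
  refine le_inf ?_ h1
  refine (h1.trans (Subgroup.centralizer_le (le_sSup hA))).trans ?_
  rw [centralizer_maxAbelian hA]
  exact le_sSup hA

end Cfsg.Agent.Lib.LocalEven2.CD
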