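import Mathlib

/-!
# Irreducibility of two natural modules under derived groups
-/

set_option autoImplicit false

namespace Cfsg.Agent.Lib.LocalEven2.SL2Irred

open Matrix
open scoped commutatorElement

variable {F : Type*} [Field F]

theorem exists_sq_ne_one [Fintype F] (h : 3 < Fintype.card F) : ∃ t : F, t ≠ 0 ∧ t ^ 2 ≠ 1 := by
  classical
  by_contra hc
  push Not at hc
  have hsub : (Finset.univ : Finset F) ⊆ {0, 1, -1} := by
    intro t _
    rcases eq_or_ne t 0 with rfl | ht
    · simp
    · have := hc t ht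
      rw [sq, mul_self_eq_one_iff] at this
      rcases this with rfl | rfl <;> simp
  have := Finset.card_le_card hsub
  rw [Finset.card_univ] at this
  have := Finset.card_le_three (a := (0 : F)) (b := 1) (c := -1)
  omega

theorem mem_commutator_of_eq {G : Type*} [Group G] {a b c : G} (h : a * b = c * (b * a)) :
    c ∈ commutator G := by
  rw [show c = ⁅a, b⁆ by rw [commutatorElement_def, h]; group, commutator_def]
  exact Subgroup.commutator_mem_commutator (Subgroup.mem_top _) (Subgroup.mem_top _)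

/-- An additive subgroup invariant under the derived group of `SL₂(F)` is trivial or everything. -/
theorem sl2_irreducible [Fintype F] (A : AddSubgroup (Fin 2 → F))
    (hA : ∀ g ∈ commutator (SpecialLinearGroup (Fin 2) F), ∀ v ∈ A,
      (g : Matrix (Fin 2) (Fin 2) F).mulVec v ∈ A) : A = ⊥ ∨ A = ⊤ := by
  classical
  rcases eq_or_ne A ⊥ with h | h
  · exact Or.inl h
  right
  obtain ⟨v, hv, hv0⟩ : ∃ v ∈ A, v ≠ 0 := by
    by_contra hc
    push Not at hc
    exact h (eq_bot_iff.mpr fun v hv => hc v hv)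
  by_cases hcard : 3 < Fintype.card F
  · obtain ⟨t, ht0, ht2⟩ := exists_sq_ne_one hcard
    let D : SpecialLinearGroup (Fin 2) F :=
      ⟨!![t, 0; 0, t⁻¹], by rw [det_fin_two_of]; field_simp; ring⟩
    have hU : ∀ s : F, ∃ g ∈ commutator (SpecialLinearGroup (Fin 2) F),
        (g : Matrix (Fin 2) (Fin 2) F) = !![1, s; 0, 1] := by
      intro s
      refine ⟨⟨!![1, s; 0, 1], by rw [det_fin_two_of]; ring⟩, ?_, rfl⟩
      refine mem_commutator_of_eq (a := D) (b := ⟨!![1, s / (t ^ 2 - 1); 0, 1], by rw [det_fin_two_of]; ring⟩) ?_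
      apply Subtype.ext
      show !![t, 0; 0, t⁻¹] * !![1, s / (t ^ 2 - 1); 0, 1] =
        !![1, s; 0, 1] * (!![1, s / (t ^ 2 - 1); 0, 1] * !![t, 0; 0, t⁻¹])
      rw [Matrix.mul_fin_two, Matrix.mul_fin_two, Matrix.mul_fin_two]
      have : t ^ 2 - 1 ≠ 0 := sub_ne_zero.mpr ht2
      ext i j
      fin_cases i <;> fin_cases j <;> simp
      field_simp
      ring
    have hL : ∀ s : F, ∃ g ∈ commutator (SpecialLinearGroup (Fin 2) F),
        (g : Matrix (Fin 2) (Fin 2) F) = !![1, 0; s, 1] := by
      intro s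
      obtain ⟨g, hg, hge⟩ := hU (-s)
      let W : SpecialLinearGroup (Fin 2) F := ⟨!![0, 1; -1, 0], by rw [det_fin_two_of]; ring⟩
      refine ⟨W * g * W⁻¹, (inferInstance : (commutator (SpecialLinearGroup (Fin 2) F)).Normal).conj_mem g hg W, ?_⟩
      change !![0, 1; -1, 0] * (g : Matrix (Fin 2) (Fin 2) F) * adjugate !![0, 1; -1, 0] = !![1, 0; s, 1]
      rw [hge, adjugate_fin_two_of, Matrix.mul_fin_two, Matrix.mul_fin_two]
      ext i j; fin_cases i <;> fin_cases j <;> simp
    have hU' : ∀ (w : Fin 2 → F) (s : F), w ∈ A → ![s * w 1, 0] ∈ A := fun w s hw => by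
      obtain ⟨g, hg, hge⟩ := hU s
      have := A.sub_mem (hA g hg w hw) hw
      rw [hge] at this
      convert this using 1
      ext i; fin_cases i <;> simp [mulVec, dotProduct, Fin.sum_univ_two]
    have hL' : ∀ (w : Fin 2 → F) (s : F), w ∈ A → ![0, s * w 0] ∈ A := fun w s hw => by
      obtain ⟨g, hg, hge⟩ := hL s
      have := A.sub_mem (hA g hg w hw) hw
      rw [hge] at this
      convert this using 1
      ext i; fin_cases i <;> simp [mulVec, dotProduct, Fin.sum_univ_two]
    have hx : ∀ s, (![s, 0] : Fin 2 → F) ∈ A := by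
      intro s
      by_cases h1 : v 1 = 0
      · have h0 : v 0 ≠ 0 := fun h0 => hv0 (by ext i; fin_cases i <;> assumption)
        have h2 := hU' _ s (hL' v (v 0)⁻¹ hv)
        simpa [h0] using h2
      · have h2 := hU' v (s / v 1) hv
        simpa [h1] using h2
    rw [eq_top_iff]
    intro w _
    have h2 := hL' _ (w 1) (hx 1)
    have h3 := A.add_mem (hx (w 0)) h2
    convert h3 using 1
    ext i; fin_cases i <;> simp
  · -- two or three elements
    have hcard2 : 2 ≤ Fintype.card F := Fintype.one_lt_card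
    set c : Matrix (Fin 2) (Fin 2) F := !![3, -1; 1, 0] with hcdef
    obtain ⟨g, hg, hgc⟩ : ∃ g ∈ commutator (SpecialLinearGroup (Fin 2) F),
        (g : Matrix (Fin 2) (Fin 2) F) = c := by
      refine ⟨⟨c, by rw [hcdef, det_fin_two_of]; ring⟩, ?_, rfl⟩
      refine mem_commutator_of_eq (a := ⟨!![1, 1; 0, 1], by rw [det_fin_two_of]; ring⟩)
        (b := ⟨!![1, 0; 1, 1], by rw [det_fin_two_of]; ring⟩) ?_
      apply Subtype.ext
      show !![1, 1; 0, 1] * !![1, 0; 1, 1] = c * (!![1, 0; 1, 1] * !![1, 1; 0, 1])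
      rw [hcdef, Matrix.mul_fin_two, Matrix.mul_fin_two, Matrix.mul_fin_two]
      ext i j
      fin_cases i <;> fin_cases j <;> simp <;> ring
    -- `c` has no eigenvalue
    obtain ⟨q, hqp, ⟨e⟩⟩ : ∃ q, (q = 2 ∨ q = 3) ∧ Nonempty (ZMod q ≃+* F) := by
      obtain ⟨r, hr⟩ := CharP.exists F
      haveI := hr
      obtain ⟨n, hrp, hn⟩ := FiniteField.card F r
      haveI : Fact r.Prime := ⟨hrp⟩
      have hn1 : (n : ℕ) = 1 := by
        by_contra hne
        have h2 : r ^ 2 ≤ Fintype.card F := hn ▸ Nat.pow_le_pow_right hrp.pos (by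
          have := n.pos; omega)
        nlinarith [hrp.two_le]
      rw [hn1, pow_one] at hn
      refine ⟨r, ?_, ⟨ZMod.ringEquivOfPrime F hrp hn⟩⟩
      have := hrp.two_le
      omega
    have hne : ∀ x : F, x * x - 3 * x + 1 ≠ 0 := by
      intro x hx
      obtain ⟨y, rfl⟩ := e.surjective x
      have : y * y - 3 * y + 1 = 0 := e.injective (by
        rw [map_add, map_sub, map_mul, map_mul, map_one, map_ofNat, map_zero]; exact hx)
      rcases hqp with rfl | rfl <;> (clear hx; revert this; revert y; decide)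
    have hdet : v 0 * (c.mulVec v) 1 - v 1 * (c.mulVec v) 0 ≠ 0 := by
      simp only [hcdef, mulVec, dotProduct, Fin.sum_univ_two]
      simp
      intro h0
      by_cases h1 : v 1 = 0
      · rw [h1] at h0
        simp at h0
        exact hv0 (by ext i; fin_cases i <;> assumption)
      · refine hne (v 0 / v 1) ?_
        field_simp
        linear_combination h0
    have hcv : c.mulVec v ∈ A := hgc ▸ hA g hg v hv
    rw [eq_top_iff]
    intro w _
    -- integer multiples give all scalars
    have hsmul : ∀ (a : F) (u : Fin 2 → F), u ∈ A → a • u ∈ A := by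
      intro a u hu
      obtain ⟨y, rfl⟩ := e.surjective a
      haveI : NeZero q := ⟨by rcases hqp with rfl | rfl <;> norm_num⟩
      rw [← ZMod.natCast_zmod_val y, map_natCast, Nat.cast_smul_eq_nsmul]
      exact A.nsmul_mem hu _
    set d := v 0 * (c.mulVec v) 1 - v 1 * (c.mulVec v) 0
    have hw : w = ((w 0 * (c.mulVec v) 1 - w 1 * (c.mulVec v) 0) / d) • v +
        ((v 0 * w 1 - v 1 * w 0) / d) • c.mulVec v := by
      ext i
      fin_cases i <;> simp [Pi.smul_apply] <;> field_simp <;> simp only [d, hcdef] <;> simp [mulVec, dotProduct, Fin.sum_univ_two] <;> ring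
    rw [hw]
    exact A.add_mem (hsmul _ _ hv) (hsmul _ _ hcv)

/-- The even-weight module is irreducible for an alternating group of odd degree. -/
theorem alt_irreducible {n : ℕ} (A : AddSubgroup (Fin n → ZMod 2))
    (hA : ∀ σ ∈ alternatingGroup (Fin n), ∀ v ∈ A, (fun i => v (σ⁻¹ i)) ∈ A)
    (hodd : Odd n) {v : Fin n → ZMod 2} (hv : v ∈ A) (hv0 : v ≠ 0) (hvs : ∑ i, v i = 0) :
    ∀ w : Fin n → ZMod 2, ∑ i, w i = 0 → w ∈ A := by
  classical
  have h01 : ∀ a : ZMod 2, a = 0 ∨ a = 1 := by decide
  have haa : ∀ a : ZMod 2, a + a = 0 := by decide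
  let E : Fin n → Fin n → (Fin n → ZMod 2) := fun i j => Pi.single i 1 + Pi.single j 1
  have hE : ∀ i j, E i j = E j i := fun i j => add_comm _ _
  have h3 : ∀ i j k : Fin n, i ≠ j → j ≠ k → i ≠ k →
      Equiv.swap i j * Equiv.swap j k ∈ alternatingGroup (Fin n) := fun i j k h1 h2 _ => by
    rw [Equiv.Perm.mem_alternatingGroup, map_mul, Equiv.Perm.sign_swap h1, Equiv.Perm.sign_swap h2]
    rfl
  obtain ⟨i, j, hij⟩ : ∃ i j, v i ≠ v j := by
    by_contra hc
    push Not at hc
    rcases Nat.eq_zero_or_pos n with rfl | hn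
    · exact hv0 (funext fun i => i.elim0)
    rcases h01 (v ⟨0, hn⟩) with h | h
    · exact hv0 (funext fun i => (hc i ⟨0, hn⟩).trans h)
    · rw [Finset.sum_congr rfl (fun i _ => (hc i ⟨0, hn⟩).trans h), Finset.sum_const, Finset.card_univ,
        Fintype.card_fin, nsmul_one] at hvs
      obtain ⟨m, rfl⟩ := hodd
      simp [show (2 : ZMod 2) = 0 from rfl] at hvs
  have hij' : i ≠ j := fun e => hij (e ▸ rfl)
  have hthird : ∀ a b : Fin n, a ≠ b → ∃ k : Fin n, k ≠ a ∧ k ≠ b := by
    intro a b hab
    by_contra hc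
    push Not at hc
    have : (Finset.univ : Finset (Fin n)) = {a, b} := by
      ext x; simp only [Finset.mem_univ, Finset.mem_insert, Finset.mem_singleton, true_iff]
      by_cases hx : x = a
      · exact Or.inl hx
      · exact Or.inr (hc x hx)
    have h2 := congrArg Finset.card this
    rw [Finset.card_univ, Fintype.card_fin, Finset.card_pair hab] at h2
    exact absurd hodd (by rw [h2]; decide)
  -- one vector of weight two
  obtain ⟨a, b, hab, habA⟩ : ∃ a b, a ≠ b ∧ E a b ∈ A := by
    obtain ⟨k, hki, hkj⟩ := hthird i j hij'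
    set σ := Equiv.swap i j * Equiv.swap j k with hσ
    have hu := A.add_mem (hA σ (h3 i j k hij' hkj.symm hki.symm) v hv) hv
    set u := (fun x => v (σ⁻¹ x)) + v with hudef
    have hinv : σ⁻¹ = Equiv.swap j k * Equiv.swap i j := by
      rw [hσ, _root_.mul_inv_rev, Equiv.swap_inv, Equiv.swap_inv]
    have eI : u i = v k + v i := by
      simp [hudef, hinv, Equiv.Perm.mul_apply, Equiv.swap_apply_left]
    have eJ : u j = v i + v j := by
      simp [hudef, hinv, Equiv.Perm.mul_apply, Equiv.swap_apply_right,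
        Equiv.swap_apply_of_ne_of_ne hij' hki.symm]
    have eK : u k = v j + v k := by
      simp [hudef, hinv, Equiv.Perm.mul_apply, Equiv.swap_apply_of_ne_of_ne hki hkj, Equiv.swap_apply_right]
    have eX : ∀ x, x ≠ i → x ≠ j → x ≠ k → u x = 0 := fun x h1 h2 h3 => by
      simp [hudef, hinv, Equiv.Perm.mul_apply, Equiv.swap_apply_of_ne_of_ne h1 h2,
        Equiv.swap_apply_of_ne_of_ne h2 h3, haa]
    have key : ∀ a b c : ZMod 2, a ≠ b → (c + a = 1 ∧ a + b = 1 ∧ b + c = 0) ∨ (c + a = 0 ∧ a + b = 1 ∧ b + c = 1) := by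
      decide
    rcases key (v i) (v j) (v k) hij with ⟨k1, k2, k3⟩ | ⟨k1, k2, k3⟩
    · refine ⟨i, j, hij', ?_⟩
      have : u = E i j := by
        ext x
        by_cases h1 : x = i
        · subst h1; simp [E, eI, k1, hij']
        by_cases h2 : x = j
        · subst h2; simp [E, eJ, k2, hij'.symm]
        by_cases h3 : x = k
        · subst h3; simp [E, eK, k3, hki, hkj]
        simp [E, eX x h1 h2 h3, h1, h2]
      rwa [← this]
    · refine ⟨j, k, hkj.symm, ?_⟩
      have : u = E j k := by
        ext x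
        by_cases h1 : x = i
        · subst h1; simp [E, eI, k1, hij', hki.symm]
        by_cases h2 : x = j
        · subst h2; simp [E, eJ, k2, hkj.symm]
        by_cases h3 : x = k
        · subst h3; simp [E, eK, k3, hkj]
        simp [E, eX x h1 h2 h3, h2, h3]
      rwa [← this]
  -- all vectors of weight two
  have hmove : ∀ a b c : Fin n, a ≠ b → c ≠ a → c ≠ b → E a b ∈ A → E b c ∈ A := by
    intro a b c hab hca hcb h
    have h' := hA _ (h3 a b c hab hcb.symm hca.symm) _ h
    convert h' using 1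
    ext x
    simp only [_root_.mul_inv_rev, Equiv.swap_inv, Equiv.Perm.mul_apply, zero_add, E, Pi.add_apply, Pi.single_apply]
    by_cases h1 : x = a
    · subst h1; simp [Equiv.swap_apply_left, Ne.symm hab, hab, hca.symm, hca, hcb, hcb.symm]
    by_cases h2 : x = b
    · subst h2
      simp [Equiv.swap_apply_of_ne_of_ne hab hca.symm, hcb.symm, Equiv.swap_apply_right, hab]
    by_cases h3 : x = c
    · subst h3
      simp [Equiv.swap_apply_of_ne_of_ne hca hcb, Equiv.swap_apply_right, hcb, hab.symm]
    simp [Equiv.swap_apply_of_ne_of_ne h1 h2, Equiv.swap_apply_of_ne_of_ne h2 h3, h1, h2, h3]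
  have hstar : ∀ c, c ≠ a → E a c ∈ A := by
    intro c hc
    by_cases hcb : c = b
    · subst hcb; exact habA
    · exact hmove b a c hab.symm hcb hc (hE a b ▸ habA)
  have hall : ∀ c d, c ≠ d → E c d ∈ A := by
    intro c d hcd
    by_cases hca : c = a
    · subst hca; exact hstar d hcd.symm
    by_cases hda : d = a
    · subst hda; exact hE d c ▸ hstar c hcd
    exact hmove a c d (Ne.symm hca) hda hcd.symm (hstar c hca)
  intro w hw
  obtain ⟨s, hs⟩ : ∃ s : Finset (Fin n), s = Finset.univ.filter fun i => w i ≠ 0 := ⟨_, rfl⟩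
  induction s using Finset.strongInduction generalizing w with
  | H s ih =>
    by_cases hw0 : w = 0
    · rw [hw0]; exact A.zero_mem
    obtain ⟨c, hc⟩ : ∃ c, w c = 1 := by
      by_contra hn
      push Not at hn
      exact hw0 (funext fun i => (h01 (w i)).resolve_right (hn i))
    obtain ⟨d, hdc, hd⟩ : ∃ d, d ≠ c ∧ w d = 1 := by
      by_contra hn
      push Not at hn
      rw [Finset.sum_eq_single c (fun x _ hx => (h01 (w x)).resolve_right (hn x hx))
        (fun h => absurd (Finset.mem_univ c) h), hc] at hw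
      exact one_ne_zero hw
    have hlt : (Finset.univ.filter fun i => (w + E c d) i ≠ 0) ⊂ s := by
      rw [hs, Finset.ssubset_iff_of_subset]
      · exact ⟨c, by simp [hc], by simp [E, hc, hdc.symm, haa]⟩
      · intro x hx
        simp only [Finset.mem_filter, Finset.mem_univ, true_and] at hx ⊢
        intro hx0
        have h1 : x ≠ c := fun e => by rw [e, hc] at hx0; exact one_ne_zero hx0
        have h2 : x ≠ d := fun e => by rw [e, hd] at hx0; exact one_ne_zero hx0
        simp [E, hx0, h1, h2] at hx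
    have := ih _ hlt (w + E c d) (by
      rw [show (∑ i, (w + E c d) i) = (∑ i, w i) + ((∑ i, (Pi.single c 1 : Fin n → ZMod 2) i) +
        ∑ i, (Pi.single d 1 : Fin n → ZMod 2) i) by simp [E, Finset.sum_add_distrib]]
      simp [hw, haa]) rfl
    have h4 := A.sub_mem this (hall c d hdc.symm)
    rwa [add_sub_cancel_right] at h4

end Cfsg.Agent.Lib.LocalEven2.SL2Irred
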