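import Cfsg.Agent.Lib.LocalEven2.Baumann
import Cfsg.Agent.Lib.LocalEven2.SL2Irred
import Cfsg.Agent.Lib.LocalEven.PCore
import Cfsg.Agent.Lib.FusionControl.Centric

/-!
# The commutator module of a block
-/

set_option autoImplicit false

namespace Cfsg.Agent.Lib.LocalEven2.Baumann

open scoped commutatorElement

variable {G : Type*} [Group G] {p : ℕ}

theorem le_normalizer_commutator {A B K : Subgroup G} (hA : K ≤ Subgroup.normalizer (A : Set G))
    (hB : K ≤ Subgroup.normalizer (B : Set G)) :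
    K ≤ Subgroup.normalizer ((⁅A, B⁆ : Subgroup G) : Set G) := by
  intro k hk
  rw [Subgroup.mem_normalizer_iff_map_conj_eq]
  rw [Subgroup.map_commutator, Subgroup.mem_normalizer_iff_map_conj_eq.mp (hA hk),
    Subgroup.mem_normalizer_iff_map_conj_eq.mp (hB hk)]

theorem commutator_eq_self_of_residual {E A : Subgroup G} (hres : Cfsg.pResidualOf p E = E)
    [Finite G] [hp : Fact p.Prime] (hA : IsPGroup p ↥A) (hEA : E ≤ Subgroup.normalizer (A : Set G)) :
    ⁅⁅A, E⁆, E⁆ = ⁅A, E⁆ := by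
  set D := ⁅⁅A, E⁆, E⁆
  have hAE : ⁅A, E⁆ ≤ A := Subgroup.commutator_le.mpr fun a ha e he => by
    rw [commutatorElement_def, mul_assoc, mul_assoc, ← mul_assoc e]
    exact mul_mem ha ((Subgroup.mem_normalizer_iff.mp (hEA he) a⁻¹).mp (inv_mem ha))
  have hnAE : E ≤ Subgroup.normalizer ((⁅A, E⁆ : Subgroup G) : Set G) :=
    le_normalizer_commutator hEA Subgroup.le_normalizer
  have hDA : D ≤ ⁅A, E⁆ := Subgroup.commutator_le.mpr fun a ha e he => by
    rw [commutatorElement_def, mul_assoc, mul_assoc, ← mul_assoc e]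
    exact mul_mem ha ((Subgroup.mem_normalizer_iff.mp (hnAE he) a⁻¹).mp (inv_mem ha))
  refine le_antisymm hDA (Subgroup.commutator_le.mpr fun a ha => ?_)
  -- it is enough to treat elements of order prime to `p`
  suffices h : ∀ e ∈ E, ⁅a, e⁆ ∈ D by exact h
  have hnD : E ≤ Subgroup.normalizer (D : Set G) := le_normalizer_commutator hnAE Subgroup.le_normalizer
  let K : Subgroup G :=
    { carrier := {e | e ∈ E ∧ ⁅a, e⁆ ∈ D}
      one_mem' := ⟨one_mem _, by simp⟩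
      mul_mem' := fun {x y} hx hy => ⟨mul_mem hx.1 hy.1, by
        rw [show ⁅a, x * y⁆ = ⁅a, x⁆ * (x * ⁅a, y⁆ * x⁻¹) by simp only [commutatorElement_def]; group]
        exact mul_mem hx.2 ((Subgroup.mem_normalizer_iff.mp (hnD hx.1) _).mp hy.2)⟩
      inv_mem' := fun {x} hx => ⟨inv_mem hx.1, by
        rw [show ⁅a, x⁻¹⁆ = x⁻¹ * ⁅a, x⁆⁻¹ * x by simp only [commutatorElement_def]; group]
        exact (Subgroup.mem_normalizer_iff''.mp (hnD hx.1) _).mp (inv_mem hx.2)⟩ }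
  suffices h : E ≤ K by exact fun e he => (h he).2
  conv_lhs => rw [← hres]
  rw [Cfsg.pResidualOf, Cfsg.pResidual, MonoidHom.map_closure, Subgroup.closure_le]
  rintro _ ⟨e, he, rfl⟩
  refine ⟨e.2, ?_⟩
  show ⁅a, (e : G)⁆ ∈ D
  set c := ⁅a, (e : G)⁆ with hc
  have hcX : c ∈ ⁅A, E⁆ := Subgroup.commutator_mem_commutator ha e.2
  haveI : (D.subgroupOf ⁅A, E⁆).Normal := by
    refine (Subgroup.normal_subgroupOf_iff_le_normalizer hDA).mpr fun x hx => ?_
    refine FusionControl.mem_normalizer_of_cj_le ?_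
    rintro _ ⟨d, hd, rfl⟩
    show x * d * x⁻¹ ∈ D
    induction hd using Subgroup.closure_induction with
    | mem d hd =>
      obtain ⟨u, hu, f, hf, rfl⟩ := hd
      rw [show x * ⁅u, f⁆ * x⁻¹ = ⁅x * u, f⁆ * ⁅x, f⁆⁻¹ by simp only [commutatorElement_def]; group]
      exact mul_mem (Subgroup.commutator_mem_commutator (mul_mem hx hu) hf)
        (inv_mem (Subgroup.commutator_mem_commutator hx hf))
    | one => simp
    | mul u v _ _ ihu ihv =>
      rw [show x * (u * v) * x⁻¹ = (x * u * x⁻¹) * (x * v * x⁻¹) by group]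
      exact mul_mem ihu ihv
    | inv u _ ih =>
      rw [show x * u⁻¹ * x⁻¹ = (x * u * x⁻¹)⁻¹ by group]
      exact inv_mem ih
  -- modulo `D` the commutator with `a` is a homomorphism on `E`
  let f : ↥E →* ↥⁅A, E⁆ ⧸ D.subgroupOf ⁅A, E⁆ := MonoidHom.mk'
    (fun x => ((⟨⁅a, (x : G)⁆, Subgroup.commutator_mem_commutator ha x.2⟩ : ↥⁅A, E⁆) :
      ↥⁅A, E⁆ ⧸ D.subgroupOf ⁅A, E⁆)) (fun x y => by
    rw [← QuotientGroup.mk_mul, eq_comm, QuotientGroup.eq, Subgroup.mem_subgroupOf]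
    show (⁅a, (x : G)⁆ * ⁅a, (y : G)⁆)⁻¹ * ⁅a, (x : G) * y⁆ ∈ D
    rw [show (⁅a, (x : G)⁆ * ⁅a, (y : G)⁆)⁻¹ * ⁅a, (x : G) * y⁆ = ⁅⁅a, (y : G)⁆⁻¹, (x : G)⁆ by
      simp only [commutatorElement_def]; group]
    exact Subgroup.commutator_mem_commutator
      (inv_mem (Subgroup.commutator_mem_commutator ha y.2)) x.2)
  set q : ↥⁅A, E⁆ ⧸ D.subgroupOf ⁅A, E⁆ := ((⟨c, hcX⟩ : ↥⁅A, E⁆) : ↥⁅A, E⁆ ⧸ D.subgroupOf ⁅A, E⁆)
  have hq : q ^ orderOf e = 1 := by
    rw [show q = f e from rfl, ← map_pow, pow_orderOf_eq_one, map_one]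
  obtain ⟨k, hk⟩ := (hA.to_le hAE) ⟨c, hcX⟩
  have hq' : q ^ p ^ k = 1 := by rw [← QuotientGroup.mk_pow, hk, QuotientGroup.mk_one]
  have : q = 1 := by
    rw [← orderOf_eq_one_iff]
    refine Nat.eq_one_of_dvd_coprimes (Nat.Coprime.pow_right k ?_) (orderOf_dvd_of_pow_eq_one hq)
      (orderOf_dvd_of_pow_eq_one hq')
    exact he
  exact (QuotientGroup.eq_one_iff (⟨c, hcX⟩ : ↥⁅A, E⁆)).mp this

theorem mulVec_eq_self {F : Type*} [Field F] {X : Subgroup G} {E : Subgroup G} {U₀ : Subgroup G}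
    (ψ : ↥X →* Multiplicative (Fin 2 → F)) (hker : ∀ u : ↥X, ψ u = 1 ↔ (u : G) ∈ U₀) {u : ↥X}
    (hu : Multiplicative.toAdd (ψ u) = 0) : (u : G) ∈ U₀ :=
  (hker u).mp (toAdd_eq_zero.mp hu)

/-- An invariant subgroup of a natural module section is trivial or everything. -/
theorem invariant_section {F : Type*} [Field F] [Fintype F] {E U U₀ Y : Subgroup G}
    (hact : Cfsg.ActsAsSL2OnSection F (commutator (Matrix.SpecialLinearGroup (Fin 2) F)) E U U₀)
    (hYU : Y ≤ U) (hEY : E ≤ Subgroup.normalizer (Y : Set G)) :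
    Y ≤ U₀ ∨ U ≤ Y ⊔ U₀ := by
  obtain ⟨-, hU₀, ρ, ψ, hρ, hψ, hker, hequiv⟩ := hact
  let A : AddSubgroup (Fin 2 → F) :=
    { carrier := {v | ∃ y : ↥U, (y : G) ∈ Y ∧ Multiplicative.toAdd (ψ y) = v}
      zero_mem' := ⟨1, by simp, by simp⟩
      add_mem' := fun {a b} ⟨y, hy, hya⟩ ⟨z, hz, hzb⟩ => ⟨y * z, mul_mem hy hz, by simp [hya, hzb]⟩
      neg_mem' := fun {a} ⟨y, hy, hya⟩ => ⟨y⁻¹, inv_mem hy, by simp [hya]⟩ }
  rcases SL2Irred.sl2_irreducible A (fun g hg v ⟨y, hy, hyv⟩ => by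
    obtain ⟨e, rfl⟩ : g ∈ ρ.range := hρ ▸ hg
    obtain ⟨w, hw, hwv⟩ := hequiv e y
    exact ⟨w, hw ▸ (Subgroup.mem_normalizer_iff.mp (hEY e.2) _).mp hy, hwv.trans (by rw [hyv])⟩) with h | h
  · left
    intro y hy
    have : Multiplicative.toAdd (ψ ⟨y, hYU hy⟩) ∈ A := ⟨⟨y, hYU hy⟩, hy, rfl⟩
    rw [h, AddSubgroup.mem_bot] at this
    exact mulVec_eq_self (E := E) ψ hker this
  · right
    intro u hu
    obtain ⟨y, hy, hyv⟩ : Multiplicative.toAdd (ψ ⟨u, hu⟩) ∈ A := h ▸ AddSubgroup.mem_top _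
    have h1 : ψ (y⁻¹ * ⟨u, hu⟩) = 1 := by
      rw [map_mul, map_inv, Multiplicative.toAdd.injective hyv, inv_mul_cancel]
    have h2 : (y : G)⁻¹ * u ∈ U₀ := (hker _).mp h1
    rw [show u = (y : G) * ((y : G)⁻¹ * u) by group]
    exact mul_mem (Subgroup.mem_sup_left hy) (Subgroup.mem_sup_right h2)

theorem invariant_section_alt {n : ℕ} (hn : Odd n) {E U U₀ Y : Subgroup G}
    (hact : Cfsg.ActsAsOddPermModuleOnSection n (alternatingGroup (Fin n)) E U U₀)
    (hYU : Y ≤ U) (hEY : E ≤ Subgroup.normalizer (Y : Set G)) :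
    Y ≤ U₀ ∨ U ≤ Y ⊔ U₀ := by
  obtain ⟨-, hU₀, ρ, ψ, hρ, heven, -, hker, hequiv⟩ := hact
  let A : AddSubgroup (Fin n → ZMod 2) :=
    { carrier := {v | ∃ y : ↥U, (y : G) ∈ Y ∧ Multiplicative.toAdd (ψ y) = v}
      zero_mem' := ⟨1, by simp, by simp⟩
      add_mem' := fun {a b} ⟨y, hy, hya⟩ ⟨z, hz, hzb⟩ => ⟨y * z, mul_mem hy hz, by simp [hya, hzb]⟩
      neg_mem' := fun {a} ⟨y, hy, hya⟩ => ⟨y⁻¹, inv_mem hy, by simp [hya]⟩ }
  by_cases h : Y ≤ U₀
  · exact Or.inl h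
  right
  obtain ⟨y₀, hy₀, hy₀U⟩ := SetLike.not_le_iff_exists.mp h
  have hv0 : Multiplicative.toAdd (ψ ⟨y₀, hYU hy₀⟩) ≠ 0 := fun e =>
    hy₀U ((hker _).mp (toAdd_eq_zero.mp e))
  intro u hu
  obtain ⟨y, hy, hyv⟩ : Multiplicative.toAdd (ψ ⟨u, hu⟩) ∈ A := by
    refine SL2Irred.alt_irreducible A (fun σ hσ v ⟨y, hy, hyv⟩ => ?_) hn
      (v := Multiplicative.toAdd (ψ ⟨y₀, hYU hy₀⟩)) ⟨_, hy₀, rfl⟩ hv0 (heven _) _ (heven _)
    obtain ⟨e, rfl⟩ : σ ∈ ρ.range := hρ ▸ hσ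
    obtain ⟨w, hw, hwv⟩ := hequiv e y
    exact ⟨w, hw ▸ (Subgroup.mem_normalizer_iff.mp (hEY e.2) _).mp hy, funext fun i => (hwv i).trans (by rw [hyv])⟩
  have h1 : ψ (y⁻¹ * ⟨u, hu⟩) = 1 := by
    rw [map_mul, map_inv, Multiplicative.toAdd.injective hyv, inv_mul_cancel]
  have h2 : (y : G)⁻¹ * u ∈ U₀ := (hker _).mp h1
  rw [show u = (y : G) * ((y : G)⁻¹ * u) by group]
  exact mul_mem (Subgroup.mem_sup_left hy) (Subgroup.mem_sup_right h2)

theorem center_centralizes (X : Subgroup G) {a : G} (ha : a ∈ X ⊓ Subgroup.centralizer (X : Set G))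
    {x : G} (hx : x ∈ X) : x * a = a * x :=
  Subgroup.mem_centralizer_iff.mp ha.2 x hx

theorem omegaOneCenter_normalizer {X : Subgroup G} [Finite G] :
    Subgroup.normalizer (X : Set G) ≤ Subgroup.normalizer (Cfsg.omegaOneCenter p X : Set G) := by
  intro g hg
  refine FusionControl.mem_normalizer_of_cj_le ((cj_omegaOne_le g _).trans (omega_mono ?_))
  refine (cj_center_le g X).trans (le_of_eq ?_)
  rw [FusionControl.mem_normalizer_iff_cj.mp hg]

/-- In a group of characteristic `p` the commutator module of a block is central in `O_p(G)`. -/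
theorem module_le [Finite G] [hp : Fact p.Prime]
    (hG : Subgroup.centralizer (Cfsg.pCore p G : Set G) ≤ Cfsg.pCore p G) (T : Sylow p G) (E : Subgroup G)
    (hE : Cfsg.IsBaumannBlock p (T : Subgroup G) E) :
    ⁅Cfsg.omegaOneCenter p (Cfsg.pCoreOf p E), E⁆ ≤ Cfsg.omegaOneCenter p (Cfsg.pCore p G) ∧
      ⁅Cfsg.omegaOneCenter p (Cfsg.pCoreOf p E), E⁆ ≠ ⊥ ∧
      ⁅⁅Cfsg.omegaOneCenter p (Cfsg.pCoreOf p E), E⁆, E⁆ = ⁅Cfsg.omegaOneCenter p (Cfsg.pCoreOf p E), E⁆ := by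
  obtain ⟨hres, hEB, hQE, hZT, hcases⟩ := hE
  set R := Cfsg.pCore p G with hR
  set B := Cfsg.baumannSubgroupOf p (T : Subgroup G)
  set V := Cfsg.omegaOneCenter p R
  set Q := Cfsg.pCoreOf p E with hQdef
  set W := Cfsg.omegaOneCenter p Q
  set Z := W ⊓ Subgroup.centralizer (E : Set G)
  have hRn : ∀ K : Subgroup G, K ≤ Subgroup.normalizer (R : Set G) := fun K => by
    rw [Subgroup.normalizer_eq_top_iff.mpr inferInstance]; exact le_top
  have hRT : R ≤ (T : Subgroup G) := LocalEven.pCore_le_sylow T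
  have hRp : IsPGroup p ↥R := Components.pCore_isPGroup p
  have hRE : R ≤ Subgroup.normalizer (E : Set G) :=
    le_normalizer_block T hres hEB hRp (hRn _) (hRn _)
  have hVR : V ≤ R := (omegaOne_le _).trans inf_le_left
  have hEV : E ≤ Subgroup.normalizer (V : Set G) := (hRn E).trans omegaOneCenter_normalizer
  have hXE : ⁅V, E⁆ ≤ E := Subgroup.commutator_le.mpr fun v hv e he =>
    mul_mem ((Subgroup.mem_normalizer_iff.mp (hRE (hVR hv)) e).mp he) (inv_mem he)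
  have hXV : ⁅V, E⁆ ≤ V := Subgroup.commutator_le.mpr fun v hv e he => by
    rw [commutatorElement_def, mul_assoc, mul_assoc, ← mul_assoc e]
    exact mul_mem hv ((Subgroup.mem_normalizer_iff.mp (hEV he) v⁻¹).mp (inv_mem hv))
  set X := ⁅V, E⁆ with hX
  have hVcomm : ∀ a ∈ V, ∀ b ∈ V, a * b = b * a := fun a ha b hb =>
    center_centralizes R (omegaOne_le _ hb) (hVR ha)
  have hXX : ⁅X, E⁆ = X := commutator_eq_self_of_residual hres (hRp.to_le hVR) hEV
  -- `[V, E]` is nontrivial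
  have hX1 : X ≠ ⊥ := by
    intro h
    refine hZT (eq_bot_iff.mpr ?_)
    rw [← h, hX, Subgroup.commutator_comm V E]
    refine Subgroup.commutator_mono le_rfl ((Subgroup.closure_le _).mpr ?_)
    rintro z ⟨⟨hzT, hzc⟩, hzp⟩
    have hzR : z ∈ R := hG (Subgroup.mem_centralizer_iff.mpr fun r hr =>
      Subgroup.mem_centralizer_iff.mp hzc r (hRT hr))
    exact mem_omegaOne (Subgroup.mem_inf.mpr ⟨hzR, Subgroup.mem_centralizer_iff.mpr fun r hr =>
      Subgroup.mem_centralizer_iff.mp hzc r (hRT hr)⟩) hzp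
  have hXn : E ≤ Subgroup.normalizer (X : Set G) := le_normalizer_commutator hEV Subgroup.le_normalizer
  have hXQ : X ≤ Q := by
    haveI : (X.subgroupOf E).Normal := Subgroup.normal_subgroupOf_of_le_normalizer hXn
    have h1 : X.subgroupOf E ≤ Cfsg.pCore p ↥E :=
      Components.le_pCore inferInstance ((hRp.to_le (hXV.trans hVR)).comap_of_injective _ E.subtype_injective)
    intro x hx
    exact ⟨⟨x, hXE hx⟩, h1 hx, rfl⟩
  have hWQ : W ≤ Q := (omegaOne_le _).trans inf_le_left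
  have hQp : IsPGroup p ↥Q := (Components.pCore_isPGroup p).map _
  have hQE' : Q ≤ E := Subgroup.map_subtype_le _
  have hEQ : E ≤ Subgroup.normalizer (Q : Set G) := FusionControl.le_normalizer_map_subtype _
  have hEW : E ≤ Subgroup.normalizer (W : Set G) := hEQ.trans omegaOneCenter_normalizer
  have hXW : X ≤ W ∧ ∀ Y : Subgroup G, Y ≤ W → E ≤ Subgroup.normalizer (Y : Set G) → Y ≤ Z ∨ W ≤ Y ⊔ Z := by
    rcases hcases with ⟨F, iF, iFin, n, hF, -, hact, hcase⟩ | ⟨-, m, -, hact, hQW⟩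
    · refine ⟨?_, fun Y hY hEY => invariant_section hact hY hEY⟩
      rcases hcase with hQW | ⟨-, hact', hcomm, -, hZE, hcard, -⟩
      · exact hQW ▸ hXQ
      rcases invariant_section (Y := X) hact' hXQ hXn with h | h
      · exact h
      exfalso
      have hQc : ∀ a ∈ Q, ∀ b ∈ Q, a * b = b * a := by
        have h1 : Q ≤ Subgroup.centralizer (X : Set G) := h.trans (sup_le
          (fun x hx => Subgroup.mem_centralizer_iff.mpr fun y hy => hVcomm y (hXV hy) x (hXV hx))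
          fun w hw => Subgroup.mem_centralizer_iff.mpr fun y hy => center_centralizes Q (omegaOne_le _ hw) (hXQ hy))
        intro a ha b hb
        have h2 : X ⊔ W ≤ Subgroup.centralizer ({a} : Set G) := sup_le
          (fun x hx => Subgroup.mem_centralizer_singleton_iff.mpr
            (Subgroup.mem_centralizer_iff.mp (h1 ha) x hx))
          fun w hw => Subgroup.mem_centralizer_singleton_iff.mpr
            (center_centralizes Q (omegaOne_le _ hw) ha).symm
        exact (Subgroup.mem_centralizer_singleton_iff.mp (h2 (h hb))).symm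
      have hbot : ⁅Q, Q⁆ = ⊥ := by
        rw [Subgroup.commutator_eq_bot_iff_le_centralizer]
        exact fun a ha => Subgroup.mem_centralizer_iff.mpr fun b hb => hQc b hb a ha
      rw [hZE, ← hcomm, hbot, Subgroup.card_bot] at hcard
      have hn : n ≠ 0 := by
        rintro rfl
        have := Fintype.one_lt_card (α := F)
        rw [hF, pow_zero] at this
        exact lt_irrefl _ this
      exact absurd hcard.symm (Nat.one_lt_pow hn (by norm_num : 1 < 3)).ne'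
    · exact ⟨hQW ▸ hXQ, fun Y hY hEY => invariant_section_alt ⟨m, rfl⟩ hact hY hEY⟩
  have hle : ⁅W, E⁆ ≤ X := by
    rcases hXW.2 X hXW.1 hXn with h | h
    · exfalso
      apply hX1
      rw [← hXX, Subgroup.commutator_eq_bot_iff_le_centralizer]
      exact h.trans inf_le_right
    · refine Subgroup.commutator_le.mpr fun w hw e he => ?_
      let K : Subgroup G :=
        { carrier := {u | ⁅u, e⁆ ∈ X ∧ u ∈ Subgroup.normalizer (X : Set G)}
          one_mem' := ⟨by simp, one_mem _⟩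
          mul_mem' := fun {u v} hu hv => ⟨by
            rw [show ⁅u * v, e⁆ = (u * ⁅v, e⁆ * u⁻¹) * ⁅u, e⁆ by simp only [commutatorElement_def]; group]
            exact mul_mem ((Subgroup.mem_normalizer_iff.mp hu.2 _).mp hv.1) hu.1, mul_mem hu.2 hv.2⟩
          inv_mem' := fun {u} hu => ⟨by
            rw [show ⁅u⁻¹, e⁆ = u⁻¹ * ⁅u, e⁆⁻¹ * u by simp only [commutatorElement_def]; group]
            exact (Subgroup.mem_normalizer_iff''.mp hu.2 _).mp (inv_mem hu.1), inv_mem hu.2⟩ }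
      have hXK : X ≤ K := fun x hx =>
        ⟨hXX.le (Subgroup.commutator_mem_commutator hx he), Subgroup.le_normalizer hx⟩
      have hZK : Z ≤ K := fun z hz => by
        refine ⟨?_, hXn (hQE' (hWQ (Subgroup.mem_inf.mp hz).1))⟩
        rw [commutatorElement_eq_one_iff_mul_comm.mpr
          (Subgroup.mem_centralizer_iff.mp (Subgroup.mem_inf.mp hz).2 e he).symm]
        exact one_mem _
      exact (sup_le hXK hZK (h hw)).1
  have hge : X ≤ ⁅W, E⁆ := hXX.ge.trans (Subgroup.commutator_mono hXW.1 le_rfl)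
  have heq : ⁅W, E⁆ = X := le_antisymm hle hge
  rw [heq]
  exact ⟨hXV, hX1, hXX⟩

end Cfsg.Agent.Lib.LocalEven2.Baumann
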