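import Cfsg.Agent.Lib.LocalEven2.Basic
import Cfsg.Prelude.Def_IsolatedElements

/-!
Sylow conjugacy in subgroups; isolated `p`-elements.
-/

set_option autoImplicit false

open Pointwise

namespace Cfsg.Agent.Lib.LocalEven2

variable {G : Type*} [Group G] {p : ℕ}

theorem mem_map_conj {g x : G} {H : Subgroup G} :
    x ∈ H.map (MulAut.conj g).toMonoidHom ↔ g⁻¹ * x * g ∈ H := by
  rw [Subgroup.mem_map]
  constructor
  · rintro ⟨y, hy, rfl⟩; simpa [mul_assoc] using hy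
  · exact fun h => ⟨_, h, by simp [mul_assoc]⟩

theorem mem_smul_sylow {g x : G} {P : Sylow p G} :
    x ∈ ((g • P : Sylow p G) : Subgroup G) ↔ g⁻¹ * x * g ∈ (P : Subgroup G) := by
  rw [Sylow.coe_subgroup_smul, Subgroup.mem_pointwise_smul_iff_inv_smul_mem]
  simp [MulAut.smul_def]

theorem smul_sylow_eq_map (g : G) (P : Sylow p G) :
    ((g • P : Sylow p G) : Subgroup G) = (P : Subgroup G).map (MulAut.conj g).toMonoidHom := by
  ext x; rw [mem_smul_sylow, mem_map_conj]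

theorem isPGroup_zpowers {x : G} (hx : ∃ k : ℕ, orderOf x = p ^ k) :
    IsPGroup p ↥(Subgroup.zpowers x) := by
  obtain ⟨k, hk⟩ := hx
  exact IsPGroup.of_card (n := k) (by rw [Nat.card_zpowers, hk])

theorem orderOf_of_mem_pgroup [Fact p.Prime] {P : Subgroup G} (hP : IsPGroup p ↥P) {x : G}
    (hx : x ∈ P) : ∃ k : ℕ, orderOf x = p ^ k := by
  obtain ⟨k, hk⟩ := IsPGroup.iff_orderOf.mp hP ⟨x, hx⟩
  exact ⟨k, by simpa using hk⟩

/-- A `p`-subgroup of `H` can be conjugated inside `H` into a Sylow subgroup contained in `H`. -/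
theorem exists_conj_le [Fact p.Prime] [Finite G] (T : Sylow p G) {H R : Subgroup G}
    (hT : (T : Subgroup G) ≤ H) (hR : IsPGroup p ↥R) (hRH : R ≤ H) :
    ∃ h ∈ H, R ≤ ((h • T : Sylow p G) : Subgroup G) := by
  obtain ⟨Q, hQ⟩ := (hR.comap_subtype (K := H)).exists_le_sylow
  obtain ⟨h, hh⟩ := MulAction.exists_smul_eq ↥H (T.subtype hT) Q
  refine ⟨h, h.2, fun r hr => ?_⟩
  have h1 : (⟨r, hRH hr⟩ : ↥H) ∈ (Q : Subgroup ↥H) := hQ hr
  rw [← hh, mem_smul_sylow] at h1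
  rw [mem_smul_sylow]
  exact h1

/-- Two `p`-elements of `H` lie in a common `p`-subgroup after conjugation in `H`. -/
theorem exists_conj_mem_pgroup [Fact p.Prime] [Finite G] {H : Subgroup G} {x z : G}
    (hxH : x ∈ H) (hzH : z ∈ H) (hx : ∃ k : ℕ, orderOf x = p ^ k)
    (hz : ∃ k : ℕ, orderOf z = p ^ k) :
    ∃ c ∈ H, ∃ R : Subgroup G, IsPGroup p ↥R ∧ x ∈ R ∧ c * z * c⁻¹ ∈ R := by
  have hx' : ∃ k, orderOf (⟨x, hxH⟩ : ↥H) = p ^ k := by simpa using hx
  have hz' : ∃ k, orderOf (⟨z, hzH⟩ : ↥H) = p ^ k := by simpa using hz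
  obtain ⟨Qx, hQx⟩ := (isPGroup_zpowers hx').exists_le_sylow
  obtain ⟨Qz, hQz⟩ := (isPGroup_zpowers hz').exists_le_sylow
  obtain ⟨c, hc⟩ := MulAction.exists_smul_eq ↥H Qz Qx
  refine ⟨c, c.2, (Qx : Subgroup ↥H).map H.subtype, Qx.2.map _,
    ⟨_, hQx (Subgroup.mem_zpowers _), rfl⟩, c * ⟨z, hzH⟩ * c⁻¹, ?_, by simp⟩
  show c * ⟨z, hzH⟩ * c⁻¹ ∈ (Qx : Subgroup ↥H)
  rw [← hc, mem_smul_sylow]
  simpa [mul_assoc] using hQz (Subgroup.mem_zpowers _)

theorem exists_orderOf_conj {x : G} (hx : ∃ k : ℕ, orderOf x = p ^ k) (g : G) :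
    ∃ k : ℕ, orderOf (g * x * g⁻¹) = p ^ k := by
  obtain ⟨k, hk⟩ := hx
  refine ⟨k, ?_⟩
  rw [← hk]
  exact (MulAut.conj g).orderOf_eq x

/-- An isolated element is central in every `p`-subgroup containing it. -/
theorem isolated_central [Fact p.Prime] [Finite G] {x : G} (hiso : Cfsg.IsIsolated x)
    {R : Subgroup G} (hR : IsPGroup p ↥R) (hxR : x ∈ R) : ∀ y ∈ R, x * y = y * x := by
  set C := R ⊓ Subgroup.centralizer ({x} : Set G) with hC
  have hCmem : ∀ {y}, y ∈ C ↔ y ∈ R ∧ x * y = y * x := by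
    intro y
    simp only [hC, Subgroup.mem_inf, Subgroup.mem_centralizer_singleton_iff, eq_comm]
  by_contra hne
  have hlt : C < R := lt_of_le_of_ne inf_le_left fun h => hne fun y hy => (hCmem.mp (h.ge hy)).2
  obtain ⟨w, hwR, hwC, hwN⟩ := exists_normalizer_not_mem hR hlt
  apply hwC
  refine hCmem.mpr ⟨hwR, ?_⟩
  have h1 := hCmem.mp ((Subgroup.mem_normalizer_iff.mp hwN x).mp (hCmem.mpr ⟨hxR, rfl⟩))
  have h2 := hiso w h1.2
  calc x * w = (w * x * w⁻¹) * w := by rw [h2]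
    _ = w * x := by group

theorem isolated_unique [Fact p.Prime] [Finite G] {x : G} (hiso : Cfsg.IsIsolated x)
    {R : Subgroup G} (hR : IsPGroup p ↥R) (hxR : x ∈ R) {g : G} (hg : g * x * g⁻¹ ∈ R) :
    g * x * g⁻¹ = x :=
  hiso g (isolated_central hiso hR hxR _ hg)

/-- An isolated `p`-element is conjugate only to itself inside a subgroup containing it, up to
that subgroup. -/
theorem isolated_conj_eq [Fact p.Prime] [Finite G] {x : G} (hiso : Cfsg.IsIsolated x)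
    (hx : ∃ k : ℕ, orderOf x = p ^ k) {H : Subgroup G} (hxH : x ∈ H) {g : G}
    (hg : g * x * g⁻¹ ∈ H) : ∃ c ∈ H, c * g * x = x * (c * g) := by
  obtain ⟨c, hc, R, hR, hxR, hzR⟩ := exists_conj_mem_pgroup hxH hg hx (exists_orderOf_conj hx g)
  refine ⟨c, hc, ?_⟩
  have h1 : (c * g) * x * (c * g)⁻¹ ∈ R := by simpa [mul_assoc] using hzR
  have h2 := isolated_unique hiso hR hxR h1
  calc c * g * x = ((c * g) * x * (c * g)⁻¹) * (c * g) := by group
    _ = x * (c * g) := by rw [h2]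

end Cfsg.Agent.Lib.LocalEven2
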