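import Cfsg.Agent.Lib.LocalEven2.CharP
import Cfsg.Agent.Lib.LocalEven2.Sylow
import Cfsg.Agent.Lib.Coprime.PxQ

/-!
Local subgroups of groups of characteristic `p`.
-/

set_option autoImplicit false

namespace Cfsg.Agent.Lib.LocalEven2

variable {G : Type*} [Group G] {p : ℕ}

theorem pCoreOf_normalizes {M : Subgroup G} :
    M ≤ Subgroup.normalizer (Cfsg.pCoreOf p M : Set G) := by
  intro m hm
  rw [Subgroup.mem_normalizer_iff]
  intro y
  refine ⟨fun hy => conj_mem_pCoreOf hm hy, fun hy => ?_⟩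
  have := conj_mem_pCoreOf (inv_mem hm) hy
  simpa [mul_assoc] using this

/-- Intersections with subnormal subgroups inherit characteristic `p`. -/
theorem IsCharPIn.inf_isSubnormal [Fact p.Prime] [Finite G] {M : Subgroup G} (hM : IsCharPIn p M)
    {H : Subgroup G} (hH : H.IsSubnormal) : IsCharPIn p (M ⊓ H) := by
  induction hH with
  | top => rwa [inf_top_eq]
  | step H K hle _ hN ih =>
    refine ih.of_normalized (inf_le_inf_left M hle) ((pCoreOf_le _).trans ?_)
    exact (inf_le_inf Subgroup.le_normalizer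
      ((Subgroup.normal_subgroupOf_iff_le_normalizer hle).mp hN)).trans
      Subgroup.inf_normalizer_le_normalizer_inf

/-- `p`-local subgroups of a group of characteristic `p` have characteristic `p`. -/
theorem IsCharPIn.inf_normalizer [Fact p.Prime] [Finite G] {M R : Subgroup G} (hM : IsCharPIn p M)
    (hR : IsPGroup p ↥R) (hRM : R ≤ M) :
    IsCharPIn p (M ⊓ Subgroup.normalizer (R : Set G)) := by
  set L := M ⊓ Subgroup.normalizer (R : Set G) with hL
  set P := Cfsg.pCoreOf p M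
  set E := Cfsg.pCoreOf p L
  set C := L ⊓ Subgroup.centralizer (E : Set G) with hC
  have hRE : R ≤ E := le_pCoreOf (le_inf hRM Subgroup.le_normalizer) hR fun g hg y hy =>
    (Subgroup.mem_normalizer_iff.mp hg.2 y).mp hy
  have hCp : IsPGroup p ↥C := by
    refine isPGroup_of_coprime_trivial fun x hx hxo => ?_
    refine eq_one_of_isPGroup (pCoreOf_isPGroup (p := p) M) (hM x hx.1.1 fun w hw => ?_) hxo
    have hxR : R ≤ Subgroup.centralizer (Subgroup.zpowers x : Set G) :=
      Subgroup.le_centralizer_iff.mp (Subgroup.zpowers_le.mpr (Subgroup.centralizer_le hRE hx.2))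
    have h := Cfsg.Agent.Lib.Coprime.le_centralizer_of_PxQ (P := R) (Q := Subgroup.zpowers x) (U := P)
      hR (by rw [Nat.card_zpowers]; exact hxo) (pCoreOf_isPGroup M) hxR
      (hRM.trans pCoreOf_normalizes)
      (Subgroup.zpowers_le.mpr (pCoreOf_normalizes hx.1.1))
      (by
        rintro u ⟨hu, huR⟩
        have huE : u ∈ E := by
          refine (le_pCoreOf (N := P ⊓ L) inf_le_right (pCoreOf_isPGroup M).to_inf_left
            fun g hg y hy => ⟨conj_mem_pCoreOf hg.1 hy.1, L.mul_mem (L.mul_mem hg hy.2) (inv_mem hg)⟩) ?_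
          exact ⟨hu, pCoreOf_le M hu, Subgroup.centralizer_le_normalizer _ huR⟩
        refine Subgroup.mem_centralizer_iff.mpr ?_
        rintro y ⟨k, rfl⟩
        have hc : Commute x u := (Subgroup.mem_centralizer_iff.mp hx.2 u huE).symm
        exact (hc.zpow_left k).eq)
    exact Subgroup.mem_centralizer_iff.mp (h (Subgroup.mem_zpowers x)) w hw
  intro c hc hq
  refine le_pCoreOf inf_le_left hCp (fun g hg y hy => ⟨L.mul_mem (L.mul_mem hg hy.1) (inv_mem hg), ?_⟩)
    ⟨hc, Subgroup.mem_centralizer_iff.mpr hq⟩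
  refine Subgroup.mem_centralizer_iff.mpr ?_
  intro e he
  have h1 := Subgroup.mem_centralizer_iff.mp hy.2 _ (conj_mem_pCoreOf (inv_mem hg) he)
  rw [inv_inv] at h1
  calc e * (g * y * g⁻¹) = g * ((g⁻¹ * e * g) * y) * g⁻¹ := by group
    _ = g * (y * (g⁻¹ * e * g)) * g⁻¹ := by rw [h1]
    _ = g * y * g⁻¹ * e := by group

/-- A normal subgroup containing the centralizer of `O_p` detects characteristic `p`. -/
theorem IsCharPIn.of_normal_sub [Fact p.Prime] [Finite G] {K N : Subgroup G} (hK : IsCharPIn p K)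
    (hKN : K ≤ N) (hCK : N ⊓ Subgroup.centralizer (Cfsg.pCoreOf p N : Set G) ≤ K) :
    IsCharPIn p N := by
  set C := N ⊓ Subgroup.centralizer (Cfsg.pCoreOf p N : Set G) with hC
  have hCn : ∀ g ∈ N, ∀ y ∈ C, g * y * g⁻¹ ∈ C := by
    rintro g hg y ⟨hy1, hy2⟩
    refine ⟨N.mul_mem (N.mul_mem hg hy1) (inv_mem hg), Subgroup.mem_centralizer_iff.mpr fun e he => ?_⟩
    have h1 := Subgroup.mem_centralizer_iff.mp hy2 _ (conj_mem_pCoreOf (inv_mem hg) he)
    rw [inv_inv] at h1
    calc e * (g * y * g⁻¹) = g * ((g⁻¹ * e * g) * y) * g⁻¹ := by group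
      _ = g * (y * (g⁻¹ * e * g)) * g⁻¹ := by rw [h1]
      _ = g * y * g⁻¹ * e := by group
  have hCnorm : K ≤ Subgroup.normalizer (C : Set G) := by
    intro k hk
    rw [Subgroup.mem_normalizer_iff]
    refine fun y => ⟨fun hy => hCn k (hKN hk) y hy, fun hy => ?_⟩
    have := hCn k⁻¹ (inv_mem (hKN hk)) _ hy
    simpa [mul_assoc] using this
  have hCchar : IsCharPIn p C := hK.of_normalized hCK ((pCoreOf_le K).trans hCnorm)
  have hOC : Cfsg.pCoreOf p C ≤ Cfsg.pCoreOf p N := by
    refine le_pCoreOf ((pCoreOf_le C).trans inf_le_left) (pCoreOf_isPGroup C) fun g hg y hy => ?_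
    -- `O_p(C)` is characteristic in the normal subgroup `C`
    have hmap : C.map (MulAut.conj g).toMonoidHom = C := by
      refine Subgroup.eq_of_le_of_card_ge ?_
        (Nat.card_congr (C.equivMapOfInjective _ (MulAut.conj g).injective).toEquiv).le
      rintro _ ⟨z, hz, rfl⟩
      exact hCn g hg z hz
    have hle : (Cfsg.pCoreOf p C).map (MulAut.conj g).toMonoidHom ≤ Cfsg.pCoreOf p C := by
      refine le_pCoreOf ?_ ((pCoreOf_isPGroup C).map _) fun h hh z hz => ?_
      · exact le_trans (Subgroup.map_mono (pCoreOf_le C)) hmap.le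
      · obtain ⟨w, hw, rfl⟩ := hz
        have hh' : g⁻¹ * h * g ∈ C := by
          have := hCn g⁻¹ (inv_mem hg) h hh
          simpa using this
        refine ⟨_, conj_mem_pCoreOf hh' hw, ?_⟩
        simp [mul_assoc]
    exact hle ⟨y, hy, rfl⟩
  intro c hc hq
  have hcC : c ∈ C := ⟨hc, Subgroup.mem_centralizer_iff.mpr hq⟩
  exact hOC (hCchar c hcC fun q hq' => hq q (hOC hq'))

/-- Characteristic `p` does not depend on the ambient group. -/
theorem pCoreOf_map {A : Type*} [Group A] (f : A →* G) (hf : Function.Injective f)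
    (N : Subgroup A) : Cfsg.pCoreOf p (N.map f) = (Cfsg.pCoreOf p N).map f := by
  refine le_antisymm ?_ (le_pCoreOf (Subgroup.map_mono (pCoreOf_le N)) ((pCoreOf_isPGroup N).map f) ?_)
  · intro x hx
    obtain ⟨a, ha, rfl⟩ := pCoreOf_le _ hx
    refine ⟨a, ?_, rfl⟩
    have hsub : (Cfsg.pCoreOf p (N.map f)).comap f ≤ Cfsg.pCoreOf p N := by
      refine le_pCoreOf ?_ ?_ ?_
      · intro b hb
        obtain ⟨c, hc, hcb⟩ := pCoreOf_le _ (show f b ∈ Cfsg.pCoreOf p (N.map f) from hb)
        rwa [← hf hcb]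
      · exact (pCoreOf_isPGroup _).comap_of_injective f hf
      · intro g hg y hy
        show f (g * y * g⁻¹) ∈ Cfsg.pCoreOf p (N.map f)
        rw [map_mul, map_mul, map_inv]
        exact conj_mem_pCoreOf ⟨g, hg, rfl⟩ hy
    exact hsub hx
  · rintro _ ⟨g, hg, rfl⟩ _ ⟨y, hy, rfl⟩
    exact ⟨g * y * g⁻¹, conj_mem_pCoreOf hg hy, by simp⟩

theorem isCharPIn_map {A : Type*} [Group A] (f : A →* G) (hf : Function.Injective f)
    (N : Subgroup A) : IsCharPIn p (N.map f) ↔ IsCharPIn p N := by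
  unfold IsCharPIn
  rw [pCoreOf_map f hf]
  constructor
  · intro h c hc hq
    obtain ⟨d, hd, hdc⟩ := h (f c) ⟨c, hc, rfl⟩ (by
      rintro _ ⟨q, hq', rfl⟩
      rw [← map_mul, ← map_mul, hq q hq'])
    rwa [← hf hdc]
  · rintro h _ ⟨c, hc, rfl⟩ hq
    exact ⟨c, h c hc (fun q hq' => hf (by rw [map_mul, map_mul]; exact hq _ ⟨q, hq', rfl⟩)), rfl⟩

end Cfsg.Agent.Lib.LocalEven2
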