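import Cfsg.Agent.Lib.Subnormal.Join
import Cfsg.Agent.Lib.FusionControl.Centric
import Cfsg.Agent.Lib.FusionControl.Section
import Cfsg.Agent.Lib.Coprime.Action
import Cfsg.Agent.Lib.Transfer.Basic
import Mathlib.GroupTheory.Transfer
import Mathlib.GroupTheory.SpecificGroups.Cyclic

/-!
Sylow subgroups of the join of two subnormal subgroups.
-/

set_option autoImplicit false
set_option linter.unusedSectionVars false
set_option linter.style.haveILetI false

universe u

namespace Cfsg.Agent.Lib.LocalEven2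

open Subgroup
open scoped commutatorElement

variable {G : Type u} [Group G] [Finite G] {p : ℕ} [Fact p.Prime]

theorem exists_minimal_normal_le {X : Type*} [Group X] [Finite X] {N : Subgroup X} (hN : N.Normal)
    (hN1 : N ≠ ⊥) :
    ∃ M : Subgroup X, M ≤ N ∧ M.Normal ∧ M ≠ ⊥ ∧
      ∀ M' : Subgroup X, M'.Normal → M' ≤ M → M' = ⊥ ∨ M' = M := by
  obtain ⟨M, ⟨hMn, hM1, hMN⟩, hmin⟩ := Set.exists_min_image
    {K : Subgroup X | K.Normal ∧ K ≠ ⊥ ∧ K ≤ N} (fun K => Nat.card K) (Set.toFinite _)
    ⟨N, hN, hN1, le_rfl⟩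
  refine ⟨M, hMN, hMn, hM1, fun M' hn hle => or_iff_not_imp_left.mpr fun h1 => ?_⟩
  exact Subgroup.eq_of_le_of_card_ge hle (hmin M' ⟨hn, h1, hle.trans hMN⟩)

/-- Minimal normal subgroups normalize subnormal subgroups. -/
theorem minimal_normal_le_normalizer : ∀ (n : ℕ) (X : Type u) [Group X] [Finite X], Nat.card X = n →
    ∀ M A : Subgroup X, M.Normal → (∀ M' : Subgroup X, M'.Normal → M' ≤ M → M' = ⊥ ∨ M' = M) →
      A.IsSubnormal → M ≤ normalizer (A : Set X) := by
  intro n
  induction n using Nat.strong_induction_on with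
  | _ n ih =>
    intro X _ _ hn M A hM hmin hA
    by_cases hA1 : A = ⊤
    · subst hA1
      rw [normalizer_eq_top]
      exact le_top
    obtain ⟨N, hNlt, hAN, hNn⟩ :
        ∃ N : Subgroup X, Nat.card N < n ∧ A ≤ N ∧ N.Normal := by
      obtain ⟨K, hKn, hle, hlt⟩ := hA.exists_normal_and_le_and_lt_top_of_ne hA1
      exact ⟨K, hn ▸ FusionControl.card_lt_of_ne_top hlt.ne, hle, hKn⟩
    rcases hmin (M ⊓ N) inferInstance inf_le_left with h | h
    · refine le_trans ?_ (centralizer_le_normalizer _)
      refine le_trans ?_ (centralizer_le (SetLike.coe_subset_coe.mpr hAN))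
      rw [← commutator_eq_bot_iff_le_centralizer, eq_bot_iff, ← h]
      exact le_inf (commutator_le_left M N) (commutator_le_right M N)
    · have hMN : M ≤ N := inf_eq_left.mp h
      by_cases hM1 : M = ⊥
      · rw [hM1]; exact bot_le
      obtain ⟨M₁, hle, hM₁n, hM₁1, hM₁min⟩ := exists_minimal_normal_le (X := ↥N)
        (N := M.subgroupOf N) inferInstance
        (by rw [Ne, subgroupOf_eq_bot, disjoint_iff]; exact fun h' => hM1 (h ▸ h'))
      have hAs : (A.subgroupOf N).IsSubnormal := hA.subgroupOf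
      have key : ∀ g : X, (M₁.map N.subtype).map (MulAut.conj g).toMonoidHom ≤
          normalizer (A : Set X) := by
        intro g
        let c : ↥N ≃* ↥N := MulAut.conjNormal g
        have h1 := ih _ hNlt ↥N rfl (M₁.map c.toMonoidHom) (A.subgroupOf N)
          (hM₁n.map _ c.surjective) (fun M' hn' hle' => by
            rcases hM₁min (M'.comap c.toMonoidHom) inferInstance
              (by rw [← comap_map_eq_self_of_injective (f := c.toMonoidHom) c.injective M₁]
                  exact comap_mono hle') with h' | h'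
            · left
              rw [← map_comap_eq_self_of_surjective (f := c.toMonoidHom) c.surjective M', h', Subgroup.map_bot]
            · right
              rw [← map_comap_eq_self_of_surjective (f := c.toMonoidHom) c.surjective M', h'])
          hAs
        have h2 := (map_mono (f := N.subtype) h1).trans (le_normalizer_map N.subtype)
        rw [subgroupOf_map_subtype, inf_eq_left.mpr hAN, map_map] at h2
        rw [map_map]
        exact h2
      set W := ⨆ g : X, (M₁.map N.subtype).map (MulAut.conj g).toMonoidHom with hW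
      have hWM : W ≤ M := by
        refine iSup_le fun g => ?_
        rintro _ ⟨_, ⟨m, hm, rfl⟩, rfl⟩
        exact hM.conj_mem _ (hle hm) g
      have hWn : W.Normal := by
        constructor
        intro w hw g
        have : W.map (MulAut.conj g).toMonoidHom ≤ W := by
          rw [hW, Subgroup.map_iSup]
          refine iSup_le fun k => le_trans (le_of_eq ?_) (le_iSup _ (g * k))
          rw [map_map, show (MulAut.conj g).toMonoidHom.comp (MulAut.conj k).toMonoidHom =
            (MulAut.conj (g * k)).toMonoidHom from MonoidHom.ext fun x => by simp [mul_assoc]]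
        exact this ⟨w, hw, rfl⟩
      rcases hmin W hWn hWM with h' | h'
      · refine absurd ?_ hM₁1
        rw [← Subgroup.map_eq_bot_iff_of_injective M₁ N.subtype_injective, eq_bot_iff, ← h']
        refine le_trans (le_of_eq ?_) (le_iSup _ (1 : X))
        rw [map_one, show (1 : MulAut X).toMonoidHom = MonoidHom.id X from rfl, Subgroup.map_id]
      · rw [← h']
        exact iSup_le key

/-- A Sylow subgroup meets a subnormal subgroup in a Sylow subgroup of it. -/
theorem not_dvd_relIndex_inf_isSubnormal (S : Sylow p G) {H : Subgroup G} (hH : H.IsSubnormal) :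
    ¬ p ∣ ((S : Subgroup G) ⊓ H).relIndex H := by
  induction hH with
  | top =>
    rw [inf_top_eq, relIndex_top_right]
    exact S.not_dvd_index
  | step H K hHK _ hn ih =>
    have := FusionControl.not_dvd_relIndex_inf (inf_le_right : (S : Subgroup G) ⊓ K ≤ K)
      (S.2.to_le inf_le_left) ih hHK ((normal_subgroupOf_iff_le_normalizer hHK).mp hn)
    rwa [inf_assoc, inf_eq_right.mpr hHK] at this

/-- The case in which one subgroup normalizes the other. -/
theorem inf_sup_of_normalizes (S : Sylow p G) {H K : Subgroup G} (hH : H.IsSubnormal)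
    (hK : K.IsSubnormal) (hHK : H ≤ normalizer (K : Set G)) :
    (H ⊔ K) ⊓ (S : Subgroup G) = (H ⊓ (S : Subgroup G)) ⊔ (K ⊓ (S : Subgroup G)) := by
  set R := (H ⊓ (S : Subgroup G)) ⊔ (K ⊓ (S : Subgroup G)) with hR
  have hle : R ≤ (H ⊔ K) ⊓ (S : Subgroup G) :=
    sup_le (inf_le_inf_right _ le_sup_left) (inf_le_inf_right _ le_sup_right)
  refine (Subgroup.eq_of_le_of_card_ge hle ?_).symm
  have hnm : H ⊓ (S : Subgroup G) ≤ normalizer ((K ⊓ (S : Subgroup G) : Subgroup G) : Set G) := by
    intro x hx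
    rw [FusionControl.mem_normalizer_iff_cj, FusionControl.cj_inf,
      FusionControl.mem_normalizer_iff_cj.mp (hHK hx.1),
      FusionControl.mem_normalizer_iff_cj.mp (Subgroup.le_normalizer hx.2)]
  have c1 := Coprime.card_sup_mul_card_inf hHK
  have c2 := Coprime.card_sup_mul_card_inf hnm
  have i1 : Nat.card ↥((S : Subgroup G) ⊓ H) * ((S : Subgroup G) ⊓ H).relIndex H = Nat.card H :=
    Coprime.relIndex_mul_card inf_le_right
  have i2 : Nat.card ↥((S : Subgroup G) ⊓ K) * ((S : Subgroup G) ⊓ K).relIndex K = Nat.card K :=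
    Coprime.relIndex_mul_card inf_le_right
  have i3 : Nat.card ↥R * R.relIndex (H ⊔ K) = Nat.card ↥(H ⊔ K) :=
    Coprime.relIndex_mul_card (hle.trans inf_le_left)
  have hq : ¬ p ∣ R.relIndex (H ⊔ K) := by
    intro hd
    have hm : ¬ p ∣ ((S : Subgroup G) ⊓ H).relIndex H * ((S : Subgroup G) ⊓ K).relIndex K :=
      (Fact.out : p.Prime).not_dvd_mul (not_dvd_relIndex_inf_isSubnormal S hH)
        (not_dvd_relIndex_inf_isSubnormal S hK)
    apply hm
    have hl : (K ⊓ (S : Subgroup G)) ⊓ (H ⊓ (S : Subgroup G)) = (S : Subgroup G) ⊓ (H ⊓ K) := by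
      ext x; simp only [mem_inf]; tauto
    have i4 : Nat.card ↥((S : Subgroup G) ⊓ (H ⊓ K)) * ((S : Subgroup G) ⊓ (H ⊓ K)).relIndex (H ⊓ K) =
        Nat.card ↥(H ⊓ K) := Coprime.relIndex_mul_card inf_le_right
    have key : Nat.card ↥R * Nat.card ↥((S : Subgroup G) ⊓ (H ⊓ K)) *
        (R.relIndex (H ⊔ K) * ((S : Subgroup G) ⊓ (H ⊓ K)).relIndex (H ⊓ K)) =
        Nat.card ↥R * Nat.card ↥((S : Subgroup G) ⊓ (H ⊓ K)) *
        (((S : Subgroup G) ⊓ H).relIndex H * ((S : Subgroup G) ⊓ K).relIndex K) := by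
      have e1 : Nat.card ↥(H ⊔ K) * Nat.card ↥(H ⊓ K) = Nat.card H * Nat.card K := by
        rw [sup_comm H K, inf_comm H K] at *
        linarith [c1, mul_comm (Nat.card H) (Nat.card K)]
      have e2 : Nat.card ↥R * Nat.card ↥((S : Subgroup G) ⊓ (H ⊓ K)) =
          Nat.card ↥((S : Subgroup G) ⊓ H) * Nat.card ↥((S : Subgroup G) ⊓ K) := by
        rw [← hl, inf_comm (S : Subgroup G) H, inf_comm (S : Subgroup G) K, hR,
          sup_comm (H ⊓ (S : Subgroup G))]
        rw [inf_comm (K ⊓ (S : Subgroup G)), sup_comm] at *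
        linarith [c2, mul_comm (Nat.card ↥(H ⊓ (S : Subgroup G))) (Nat.card ↥(K ⊓ (S : Subgroup G)))]
      calc _ = (Nat.card ↥R * R.relIndex (H ⊔ K)) * (Nat.card ↥((S : Subgroup G) ⊓ (H ⊓ K)) *
            ((S : Subgroup G) ⊓ (H ⊓ K)).relIndex (H ⊓ K)) := by ring
        _ = Nat.card H * Nat.card K := by rw [i3, i4, e1]
        _ = (Nat.card ↥((S : Subgroup G) ⊓ H) * Nat.card ↥((S : Subgroup G) ⊓ K)) *
            (((S : Subgroup G) ⊓ H).relIndex H * ((S : Subgroup G) ⊓ K).relIndex K) := by
          rw [← i1, ← i2]; ring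
        _ = _ := by rw [e2]
    have := Nat.eq_of_mul_eq_mul_left (Nat.mul_pos Nat.card_pos Nat.card_pos) key
    rw [← this]
    exact hd.mul_right _
  obtain ⟨a, ha⟩ := IsPGroup.iff_card.mp (S.2.to_le (inf_le_right : (H ⊔ K) ⊓ (S : Subgroup G) ≤ _))
  obtain ⟨b, hb⟩ := IsPGroup.iff_card.mp (S.2.to_le (hle.trans inf_le_right))
  have hd := Subgroup.card_dvd_of_le (inf_le_left : (H ⊔ K) ⊓ (S : Subgroup G) ≤ H ⊔ K)
  rw [← i3, ha, hb] at hd
  rw [ha, hb]
  refine Nat.le_of_dvd (pow_pos (Fact.out : p.Prime).pos _) ?_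
  exact ((Nat.Coprime.pow_left a ((Fact.out : p.Prime).coprime_iff_not_dvd.mpr hq))).dvd_of_dvd_mul_right hd

/-- The main induction. -/
theorem inf_sylow_join : ∀ (n : ℕ) (G : Type u) [Group G] [Finite G], Nat.card G = n →
    ∀ (S : Sylow p G) (A B : Subgroup G), A.IsSubnormal → B.IsSubnormal →
      (A ⊔ B) ⊓ (S : Subgroup G) ≤ (A ⊓ (S : Subgroup G)) ⊔ (B ⊓ (S : Subgroup G)) := by
  intro n
  induction n using Nat.strong_induction_on with
  | _ n ih =>
    intro G _ _ hn S A B hA hB
    set R := (A ⊓ (S : Subgroup G)) ⊔ (B ⊓ (S : Subgroup G)) with hR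
    by_cases htop : A ⊔ B = ⊤
    swap
    · set K := A ⊔ B with hK
      have hKs : K.IsSubnormal := Subnormal.isSubnormal_sup hA hB
      let S' : Sylow p K := ((S.2.to_le (inf_le_left : (S : Subgroup G) ⊓ K ≤ _)).comap_of_injective
        K.subtype K.subtype_injective : IsPGroup p (((S : Subgroup G) ⊓ K).subgroupOf K)).toSylow
          (not_dvd_relIndex_inf_isSubnormal S hKs)
      have h1 := ih _ (hn ▸ FusionControl.card_lt_of_ne_top htop) K rfl S' (A.subgroupOf K)
        (B.subgroupOf K) hA.subgroupOf hB.subgroupOf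
      rintro x ⟨hxK, hxS⟩
      rw [← subgroupOf_sup le_sup_left le_sup_right, subgroupOf_self, top_inf_eq] at h1
      have h2 := (map_mono (f := K.subtype) h1) ⟨⟨x, hxK⟩, (⟨hxS, hxK⟩ : x ∈ (S : Subgroup G) ⊓ K), rfl⟩
      rw [Subgroup.map_sup, map_inf _ _ _ K.subtype_injective, map_inf _ _ _ K.subtype_injective] at h2
      refine (sup_le_sup (le_inf ?_ ?_) (le_inf ?_ ?_) : _ ≤ R) h2
      · exact inf_le_left.trans (by rw [subgroupOf_map_subtype]; exact inf_le_left)
      · exact inf_le_right.trans (by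
          show (((S : Subgroup G) ⊓ K).subgroupOf K).map K.subtype ≤ _
          rw [subgroupOf_map_subtype]; exact inf_le_left.trans inf_le_left)
      · exact inf_le_left.trans (by rw [subgroupOf_map_subtype]; exact inf_le_left)
      · exact inf_le_right.trans (by
          show (((S : Subgroup G) ⊓ K).subgroupOf K).map K.subtype ≤ _
          rw [subgroupOf_map_subtype]; exact inf_le_left.trans inf_le_left)
    rw [htop, top_inf_eq]
    by_cases hO : Cfsg.pResidual p G = ⊥
    · have hS : (S : Subgroup G) = ⊤ := by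
        rw [← Transfer.sylow_sup_pResidual S, hO, sup_bot_eq]
      rw [hR, hS, inf_top_eq, inf_top_eq, htop]
    haveI := Transfer.pResidual_normal (G := G) (p := p)
    obtain ⟨M, hMO, hMn, hM1, hMmin⟩ := exists_minimal_normal_le this hO
    have hMs : M.IsSubnormal := hMn.isSubnormal
    -- the quotient
    have hquot : (S : Subgroup G) ≤ R ⊔ (M ⊓ (S : Subgroup G)) := by
      set f := QuotientGroup.mk' M with hf
      have hfs : Function.Surjective f := QuotientGroup.mk'_surjective M
      have h1 := ih _ (by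
        rw [← hn, card_eq_card_quotient_mul_card_subgroup M]
        exact lt_mul_of_one_lt_right Nat.card_pos ((one_lt_card_iff_ne_bot M).2 hM1)) (G ⧸ M) rfl
        (S.mapSurjective hfs) (A.map f) (B.map f) (hA.map hfs) (hB.map hfs)
      rw [← Subgroup.map_sup, htop, map_top_of_surjective f hfs, top_inf_eq,
        Sylow.coe_mapSurjective] at h1
      have hstep : ∀ C : Subgroup G, C.IsSubnormal →
          C.map f ⊓ (S : Subgroup G).map f ≤ ((C ⊓ (S : Subgroup G)) ⊔ (M ⊓ (S : Subgroup G))).map f := by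
        rintro C hC _ ⟨⟨c, hc, rfl⟩, ⟨s, hs, he⟩⟩
        refine ⟨s, ?_, he⟩
        rw [← inf_sup_of_normalizes S hC hMs (by rw [normalizer_eq_top]; exact le_top)]
        refine ⟨?_, hs⟩
        have : c⁻¹ * s ∈ M := by rw [← QuotientGroup.eq]; exact he.symm
        rw [show s = c * (c⁻¹ * s) by group]
        exact mul_mem (mem_sup_left hc) (mem_sup_right this)
      intro s hs
      have h2 : f s ∈ (R ⊔ (M ⊓ (S : Subgroup G))).map f := by
        refine ((sup_le ((hstep A hA).trans ?_) ((hstep B hB).trans ?_)) (h1 ⟨s, hs, rfl⟩))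
        · exact map_mono (sup_le_sup_right le_sup_left _)
        · exact map_mono (sup_le_sup_right le_sup_right _)
      obtain ⟨r, hr, he⟩ := h2
      have hrS : r ∈ (S : Subgroup G) := (sup_le (sup_le inf_le_right inf_le_right) inf_le_right :
        R ⊔ (M ⊓ (S : Subgroup G)) ≤ S) hr
      rw [show s = r * (r⁻¹ * s) by group]
      refine mul_mem hr (mem_sup_right (mem_inf.mpr ⟨?_, mul_mem (inv_mem hrS) hs⟩))
      rw [← QuotientGroup.eq]; exact he
    refine hquot.trans (sup_le le_rfl ?_)
    -- the minimal normal subgroup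
    have hMA := minimal_normal_le_normalizer _ G rfl M A hMn hMmin hA
    have hMB := minimal_normal_le_normalizer _ G rfl M B hMn hMmin hB
    set M₀ := (M ⊓ A) ⊔ (M ⊓ B) with hM₀
    have hnorm : ∀ C D : Subgroup G, M ≤ normalizer (C : Set G) → ∀ c ∈ C,
        ((M ⊓ C) ⊔ (M ⊓ D)).map (MulAut.conj c).toMonoidHom ≤ (M ⊓ C) ⊔ (M ⊓ D) := by
      intro C D hMC c hc
      rw [Subgroup.map_sup]
      refine sup_le ?_ ?_
      · rintro _ ⟨y, hy, rfl⟩
        exact mem_sup_left (mem_inf.mpr ⟨hMn.conj_mem y hy.1 c, mul_mem (mul_mem hc hy.2) (inv_mem hc)⟩)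
      · rintro _ ⟨y, hy, rfl⟩
        have h1 : c * y * c⁻¹ * y⁻¹ ∈ M ⊓ C := by
          refine mem_inf.mpr ⟨mul_mem (hMn.conj_mem y hy.1 c) (inv_mem hy.1), ?_⟩
          rw [mul_assoc, mul_assoc, ← mul_assoc y]
          exact mul_mem hc ((mem_normalizer_iff.mp (hMC hy.1) _).mp (inv_mem hc))
        show c * y * c⁻¹ ∈ _
        rw [show c * y * c⁻¹ = (c * y * c⁻¹ * y⁻¹) * y by group]
        exact mul_mem (mem_sup_left h1) (mem_sup_right hy)
    have hM₀n : M₀.Normal := by
      rw [← normalizer_eq_top_iff, eq_top_iff, ← htop]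
      refine sup_le ?_ ?_
      · intro c hc
        rw [FusionControl.mem_normalizer_iff_cj]
        exact Subgroup.eq_of_le_of_card_ge (hnorm A B hMA c hc) (FusionControl.card_cj c M₀).ge
      · intro c hc
        rw [FusionControl.mem_normalizer_iff_cj]
        refine Subgroup.eq_of_le_of_card_ge ?_ (FusionControl.card_cj c M₀).ge
        rw [hM₀, sup_comm]
        exact hnorm B A hMB c hc
    rcases hMmin M₀ hM₀n (sup_le inf_le_left inf_le_left) with h0 | h0
    swap
    · rw [← h0, hM₀]
      have hs : ∀ {C : Subgroup G}, C.IsSubnormal → (M ⊓ C).IsSubnormal := fun hC => hMs.inf hC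
      rw [inf_sup_of_normalizes S (hs hA) (hs hB) ?_]
      · exact sup_le_sup (inf_le_inf_right _ inf_le_right) (inf_le_inf_right _ inf_le_right)
      · intro x hx
        rw [FusionControl.mem_normalizer_iff_cj, FusionControl.cj_inf,
          FusionControl.mem_normalizer_iff_cj.mp (Subgroup.le_normalizer hx.1),
          FusionControl.mem_normalizer_iff_cj.mp (hMB hx.1)]
    -- the central case
    have hMc : M ≤ center G := by
      intro y hy
      have hc : ∀ C : Subgroup G, M ⊓ C ≤ M₀ → M ≤ normalizer (C : Set G) → C ≤ centralizer ({y} : Set G) := by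
        intro C hC hMC c hc
        have h1 : c * y * c⁻¹ * y⁻¹ ∈ M ⊓ C := by
          refine mem_inf.mpr ⟨mul_mem (hMn.conj_mem y hy c) (inv_mem hy), ?_⟩
          rw [mul_assoc, mul_assoc, ← mul_assoc y]
          exact mul_mem hc ((mem_normalizer_iff.mp (hMC hy) _).mp (inv_mem hc))
        have h2 := hC h1
        rw [h0, mem_bot, mul_inv_eq_one, mul_inv_eq_iff_eq_mul] at h2
        exact mem_centralizer_singleton_iff.mpr h2
      have : (⊤ : Subgroup G) ≤ centralizer ({y} : Set G) := by
        rw [← htop]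
        exact sup_le (hc A le_sup_left hMA) (hc B le_sup_right hMB)
      exact mem_center_iff.mpr fun g => mem_centralizer_singleton_iff.mp (this (mem_top g))
    intro x hx
    by_contra hxR
    have hx1 : x ≠ 1 := fun h => hxR (h ▸ one_mem R)
    set Z := M ⊓ (S : Subgroup G) with hZ
    have hRS : R ≤ (S : Subgroup G) := sup_le inf_le_right inf_le_right
    -- the order of `x` is `p`
    have hxp : x ^ p = 1 := by
      have hn' : (zpowers (x ^ p)).Normal := by
        constructor
        intro a ha g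
        have hac : a ∈ center G := by
          obtain ⟨k, rfl⟩ := ha
          exact zpow_mem (pow_mem (hMc hx.1) p) k
        rwa [mem_center_iff.mp hac g, mul_inv_cancel_right]
      rcases hMmin _ hn' (zpowers_le.mpr (pow_mem hx.1 p)) with h | h
      · exact zpowers_eq_bot.mp h
      · exfalso
        obtain ⟨k, hk⟩ := (h.symm ▸ hx.1 : x ∈ zpowers (x ^ p))
        obtain ⟨e, he⟩ := S.2 ⟨x, hx.2⟩
        have he' : x ^ p ^ e = 1 := congrArg Subtype.val he
        have hk' : x ^ ((p : ℤ) * k - 1) = 1 := by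
          rw [zpow_sub, zpow_mul, zpow_natCast, zpow_one]
          rw [show (x ^ p) ^ k = x from hk, mul_inv_cancel]
        obtain ⟨j, hj, hoj⟩ := (Nat.dvd_prime_pow (Fact.out : p.Prime)).mp (orderOf_dvd_of_pow_eq_one he')
        rcases Nat.eq_zero_or_pos j with h0 | h0
        · exact hx1 (orderOf_eq_one_iff.mp (by rw [hoj, h0, pow_zero]))
        · have hdd : (p : ℤ) ∣ (p : ℤ) * k - 1 :=
            (Int.natCast_dvd_natCast.mpr (hoj ▸ dvd_pow_self p h0.ne' : p ∣ orderOf x)).trans
              (orderOf_dvd_iff_zpow_eq_one.mpr hk')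
          have : (p : ℤ) ∣ 1 := by simpa using dvd_sub (dvd_mul_right (p : ℤ) k) hdd
          exact (Fact.out : p.Prime).ne_one (Nat.dvd_one.mp (by exact_mod_cast this))
    set R₀ := R.subgroupOf (S : Subgroup G) with hR₀
    set x' : ↥(S : Subgroup G) := ⟨x, hx.2⟩
    have hxR₀ : x' ∉ R₀ := hxR
    have hMx : M ⊓ (S : Subgroup G) ≤ zpowers x := by
      have hn' : (zpowers x).Normal := by
        constructor
        intro a ha g
        have hac : a ∈ center G := by
          obtain ⟨k, rfl⟩ := ha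
          exact zpow_mem (hMc hx.1) k
        rwa [mem_center_iff.mp hac g, mul_inv_cancel_right]
      rcases hMmin _ hn' (zpowers_le.mpr hx.1) with h | h
      · exact absurd (zpowers_eq_bot.mp h) hx1
      · rw [h]; exact inf_le_left
    have hSR : (⊤ : Subgroup ↥(S : Subgroup G)) ≤ R₀ ⊔ zpowers x' := by
      intro s _
      have h1 : ((R₀ ⊔ zpowers x').map (S : Subgroup G).subtype) = R ⊔ zpowers x := by
        rw [Subgroup.map_sup, hR₀, subgroupOf_map_subtype, inf_eq_left.mpr hRS, MonoidHom.map_zpowers]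
        rfl
      have h2 : (s : G) ∈ R ⊔ zpowers x := (sup_le_sup_left hMx R) (hquot s.2)
      rw [← h1] at h2
      obtain ⟨t, ht, he⟩ := h2
      rwa [← Subtype.ext he]
    haveI : R₀.Normal := by
      rw [← normalizer_eq_top_iff, eq_top_iff]
      refine hSR.trans (sup_le le_normalizer ?_)
      rw [zpowers_le]
      have : x' ∈ center ↥(S : Subgroup G) := mem_center_iff.mpr fun g =>
        Subtype.ext (mem_center_iff.mp (hMc hx.1) g)
      exact center_le_normalizer _ this
    have hcard : IsCyclic (↥(S : Subgroup G) ⧸ R₀) := by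
      refine ⟨⟨QuotientGroup.mk' R₀ x', fun q => ?_⟩⟩
      obtain ⟨s, rfl⟩ := QuotientGroup.mk'_surjective R₀ q
      have h := mem_map_of_mem (QuotientGroup.mk' R₀) (hSR (mem_top s))
      rwa [Subgroup.map_sup, QuotientGroup.map_mk'_self, bot_sup_eq, MonoidHom.map_zpowers] at h
    letI : CommGroup (↥(S : Subgroup G) ⧸ R₀) := IsCyclic.commGroup
    let χ : ↥(S : Subgroup G) →* ↥(S : Subgroup G) ⧸ R₀ := QuotientGroup.mk' R₀
    have hV : MonoidHom.transfer χ x = χ x' ^ (S : Subgroup G).index := by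
      rw [MonoidHom.transfer_eq_pow χ x (fun k g₀ _ => by
        rw [mem_center_iff.mp (pow_mem (hMc hx.1) k) g₀⁻¹, inv_mul_cancel_right])]
      rw [← map_pow]
      rfl
    have hV1 : MonoidHom.transfer χ x = 1 :=
      Transfer.pResidual_le_ker ((S.2).to_quotient R₀) (MonoidHom.transfer χ) (hMO hx.1)
    rw [hV] at hV1
    apply hxR₀
    rw [← QuotientGroup.eq_one_iff]
    have hp : (χ x') ^ p = 1 := by
      rw [← map_pow, show x' ^ p = 1 from Subtype.ext hxp, map_one]
    rw [← orderOf_eq_one_iff]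
    refine Nat.eq_one_of_dvd_coprimes ?_ (orderOf_dvd_of_pow_eq_one hp) (orderOf_dvd_of_pow_eq_one hV1)
    exact (Fact.out : p.Prime).coprime_iff_not_dvd.mpr S.not_dvd_index

theorem sylow_join (S : Sylow p G) {A B : Subgroup G} (hA : A.IsSubnormal) (hB : B.IsSubnormal) :
    (A ⊔ B) ⊓ (S : Subgroup G) = (A ⊓ (S : Subgroup G)) ⊔ (B ⊓ (S : Subgroup G)) :=
  le_antisymm (inf_sylow_join _ G rfl S A B hA hB)
    (sup_le (inf_le_inf_right _ le_sup_left) (inf_le_inf_right _ le_sup_right))

end Cfsg.Agent.Lib.LocalEven2
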