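import Cfsg.Agent.Lib.LocalEven2.Sylow
import Cfsg.Agent.Lib.Coprime.Basic
import Cfsg.Prelude.Def_SylowChains

/-!
Sylow subgroups of subnormal subgroups; strongly `p`-embedded subgroups.
-/

set_option autoImplicit false

open Pointwise

namespace Cfsg.Agent.Lib.LocalEven2

variable {G : Type*} [Group G] {p : ℕ}

theorem relIndex_inf_eq [Finite G] {H R : Subgroup G}
    (hR : R ≤ Subgroup.normalizer (H : Set G)) :
    (H ⊓ R).relIndex H = R.relIndex (H ⊔ R) := by
  have e := Cfsg.Agent.Lib.Coprime.card_sup_mul_card_inf hR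
  rw [← Cfsg.Agent.Lib.Coprime.relIndex_mul_card le_sup_right,
    ← Cfsg.Agent.Lib.Coprime.relIndex_mul_card (show H ⊓ R ≤ H from inf_le_left)] at e
  have h2 : Nat.card ↥R * Nat.card ↥(H ⊓ R) * R.relIndex (H ⊔ R) =
      Nat.card ↥R * Nat.card ↥(H ⊓ R) * (H ⊓ R).relIndex H := by
    rw [mul_right_comm, e]; ring
  exact (Nat.eq_of_mul_eq_mul_left (Nat.mul_pos Nat.card_pos Nat.card_pos) h2).symm

/-- A Sylow subgroup meets a subnormal subgroup in a Sylow subgroup of it. -/
theorem not_dvd_relIndex_inf_subnormal [Fact p.Prime] [Finite G] (T : Sylow p G) {H : Subgroup G}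
    (hH : H.IsSubnormal) : ¬ p ∣ ((T : Subgroup G) ⊓ H).relIndex H := by
  induction hH with
  | top =>
    rw [inf_top_eq, Subgroup.relIndex_top_right]
    exact T.not_dvd_index
  | step H K hle _ hN ih =>
    intro hd
    apply ih
    set R := (T : Subgroup G) ⊓ K with hR
    have hRn : R ≤ Subgroup.normalizer (H : Set G) :=
      inf_le_right.trans ((Subgroup.normal_subgroupOf_iff_le_normalizer hle).mp hN)
    have h1 : (T : Subgroup G) ⊓ H = H ⊓ R := by
      rw [hR, inf_comm H, inf_assoc, inf_eq_right.mpr hle]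
    rw [h1, relIndex_inf_eq hRn] at hd
    exact hd.trans (Dvd.intro _ (Subgroup.relIndex_mul_relIndex R (H ⊔ R) K le_sup_right
      (sup_le hle inf_le_right)))

/-- The strong embedding condition. -/
def MeetsOddly (p : ℕ) (H : Subgroup G) : Prop :=
  ∀ g : G, g ∉ H → ¬ p ∣ Nat.card ↥(H ⊓ H.map (MulAut.conj g).toMonoidHom)

theorem dvd_card_of_pgroup_ne_bot [Fact p.Prime] [Finite G] {R : Subgroup G}
    (hR : IsPGroup p ↥R) (h1 : R ≠ ⊥) : p ∣ Nat.card ↥R := by
  refine hR.card_eq_or_dvd.resolve_left fun h => h1 ?_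
  exact Subgroup.eq_bot_of_card_eq R h

theorem MeetsOddly.mem_of_meet [Fact p.Prime] [Finite G] {H R : Subgroup G}
    (hH : MeetsOddly p H) (hR : IsPGroup p ↥R) (h1 : R ≠ ⊥) (hRH : R ≤ H) {g : G}
    (hRg : R ≤ H.map (MulAut.conj g).toMonoidHom) : g ∈ H := by
  by_contra hg
  exact hH g hg ((dvd_card_of_pgroup_ne_bot hR h1).trans (Subgroup.card_dvd_of_le (le_inf hRH hRg)))

theorem MeetsOddly.normalizer_le [Fact p.Prime] [Finite G] {H R : Subgroup G}
    (hH : MeetsOddly p H) (hR : IsPGroup p ↥R) (h1 : R ≠ ⊥) (hRH : R ≤ H) :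
    Subgroup.normalizer (R : Set G) ≤ H := by
  intro n hn
  refine hH.mem_of_meet hR h1 hRH fun x hx => ?_
  rw [mem_map_conj]
  exact hRH ((Subgroup.mem_normalizer_iff''.mp hn x).mp hx)

theorem MeetsOddly.centralizer_le [Fact p.Prime] [Finite G] {H : Subgroup G}
    (hH : MeetsOddly p H) {x : G} (hx : x ∈ H) (hxp : ∃ k, orderOf x = p ^ k) (hx1 : x ≠ 1) :
    Subgroup.centralizer ({x} : Set G) ≤ H := by
  refine le_trans ?_ (hH.normalizer_le (isPGroup_zpowers hxp)
    (by simpa [Subgroup.zpowers_eq_bot] using hx1) (Subgroup.zpowers_le.mpr hx))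
  rw [← Subgroup.centralizer_closure, ← Subgroup.zpowers_eq_closure]
  exact Subgroup.centralizer_le_normalizer _

theorem MeetsOddly.exists_sylow_le [Fact p.Prime] [Finite G] {H : Subgroup G}
    (hH : MeetsOddly p H) (hp : p ∣ Nat.card ↥H) : ∃ P : Sylow p G, (P : Subgroup G) ≤ H := by
  set S₀ : Sylow p ↥H := default
  obtain ⟨P, hP⟩ := (S₀.2.map H.subtype).exists_le_sylow
  refine ⟨P, ?_⟩
  have hne : (S₀ : Subgroup ↥H).map H.subtype ≠ ⊥ := by
    rw [Ne, Subgroup.map_eq_bot_iff_of_injective _ H.subtype_injective]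
    exact S₀.ne_bot_of_dvd_card hp
  set S := (S₀ : Subgroup ↥H).map H.subtype with hS
  rcases eq_or_lt_of_le hP with h | h
  · rw [← h]; exact Subgroup.map_subtype_le _
  obtain ⟨w, hwP, hwS, hwn⟩ := exists_normalizer_not_mem P.2 h
  exfalso
  apply hwS
  have hwH := hH.normalizer_le (S₀.2.map _) hne (Subgroup.map_subtype_le _) hwn
  have h1 : ((P : Subgroup G) ⊓ H).subgroupOf H = (S₀ : Subgroup ↥H) :=
    S₀.3 (P.2.to_inf_left.comap_subtype) fun y hy => ⟨hP ⟨y, hy, rfl⟩, y.2⟩
  exact ⟨⟨w, hwH⟩, h1 ▸ (show w ∈ (P : Subgroup G) ⊓ H from ⟨hwP, hwH⟩), rfl⟩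

theorem exists_ne_one_inter {X Y : Subgroup G} (h : X ⊓ Y ≠ ⊥) :
    ∃ a, a ∈ X ∧ a ∈ Y ∧ a ≠ 1 := by
  by_contra hc
  push Not at hc
  exact h ((Subgroup.eq_bot_iff_forall _).mpr fun a ha => hc a ha.1 ha.2)

/-- A strongly `p`-embedded subgroup disconnects the Sylow subgroups. -/
theorem not_connected_of_meetsOddly [Fact p.Prime] [Finite G] {H : Subgroup G}
    (hH : MeetsOddly p H) (hp : p ∣ Nat.card ↥H) (hne : H ≠ ⊤) :
    ¬ Cfsg.IsSylowChainConnected p G := by
  intro hconn
  obtain ⟨P, hP⟩ := hH.exists_sylow_le hp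
  have hPbot : (P : Subgroup G) ≠ ⊥ :=
    P.ne_bot_of_dvd_card (hp.trans (Subgroup.card_subgroup_dvd_card H))
  apply hne
  rw [eq_top_iff]
  intro g _
  obtain ⟨n, c, hc0, hcn, -, hstep⟩ := hconn P (g • P)
  have key : ∀ i : Fin (n + 1), (c i : Subgroup G) ≤ H := by
    intro i
    induction i using Fin.induction with
    | zero => rw [hc0]; exact hP
    | succ i ih =>
      obtain ⟨z, hz1, hz2, hz3⟩ := exists_ne_one_inter (hstep i).2
      obtain ⟨k, hk⟩ := MulAction.exists_smul_eq G P (c i.succ)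
      have hkH : k ∈ H := by
        refine hH.mem_of_meet (isPGroup_zpowers (orderOf_of_mem_pgroup (c i.succ).2 hz2))
          (by simpa [Subgroup.zpowers_eq_bot] using hz3) (Subgroup.zpowers_le.mpr (ih hz1))
          (Subgroup.zpowers_le.mpr ?_)
        rw [mem_map_conj]
        rw [← hk] at hz2
        exact hP (mem_smul_sylow.mp hz2)
      intro y hy
      rw [← hk, mem_smul_sylow] at hy
      simpa [mul_assoc] using H.mul_mem (H.mul_mem hkH (hP hy)) (inv_mem hkH)
  have h1 := key (Fin.last n)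
  rw [hcn] at h1
  refine hH.mem_of_meet (g • P).2 ?_ h1 ?_
  · rw [smul_sylow_eq_map, Ne, Subgroup.map_eq_bot_iff_of_injective _ (MulAut.conj g).injective]
    exact hPbot
  · rw [smul_sylow_eq_map]; exact Subgroup.map_mono hP

theorem connected_of_not_dvd_card [Fact p.Prime] [Finite G] (h : ¬ p ∣ Nat.card G) :
    Cfsg.IsSylowChainConnected p G := by
  intro S T
  have hbot : ∀ R : Sylow p G, (R : Subgroup G) = ⊥ := fun R => by
    by_contra hR
    exact h ((dvd_card_of_pgroup_ne_bot R.2 hR).trans (Subgroup.card_subgroup_dvd_card _))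
  refine ⟨0, fun _ => S, rfl, Sylow.ext (by rw [hbot, hbot]), fun _ => inf_le_left, finZeroElim⟩

/-- A disconnected Sylow graph gives a strongly `p`-embedded subgroup. -/
theorem exists_meetsOddly [Fact p.Prime] [Finite G] (h : ¬ Cfsg.IsSylowChainConnected p G) :
    ∃ H : Subgroup G, H ≠ ⊤ ∧ p ∣ Nat.card ↥H ∧ MeetsOddly p H := by
  have hpG : p ∣ Nat.card G := by_contra fun hd => h (connected_of_not_dvd_card hd)
  let E : Sylow p G → Sylow p G → Prop := fun A B =>
    A ≠ B ∧ (A : Subgroup G) ⊓ (B : Subgroup G) ≠ ⊥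
  have hEg : ∀ (g : G) A B, E A B → E (g • A) (g • B) := by
    rintro g A B ⟨h1, h2⟩
    refine ⟨fun he => h1 (smul_left_cancel g he), ?_⟩
    rw [smul_sylow_eq_map, smul_sylow_eq_map,
      ← Subgroup.map_inf _ _ _ (MulAut.conj g).injective, Ne,
      Subgroup.map_eq_bot_iff_of_injective _ (MulAut.conj g).injective]
    exact h2
  have hchain : ∀ S T, Relation.ReflTransGen E S T →
      ∃ (n : ℕ) (c : Fin (n + 1) → Sylow p G), c 0 = S ∧ c (Fin.last n) = T ∧
        ∀ i : Fin n, E (c i.castSucc) (c i.succ) := by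
    intro S T hST
    induction hST with
    | refl => exact ⟨0, fun _ => S, rfl, rfl, finZeroElim⟩
    | @tail B D _ hBD ih =>
      obtain ⟨n, c, h0, hl, hs⟩ := ih
      refine ⟨n + 1, Fin.snoc c D, ?_, by simp, fun i => ?_⟩
      · rw [← Fin.castSucc_zero, Fin.snoc_castSucc, h0]
      · induction i using Fin.lastCases with
        | last => rw [Fin.snoc_castSucc, hl, Fin.succ_last, Fin.snoc_last]; exact hBD
        | cast j => rw [Fin.snoc_castSucc, ← Fin.castSucc_succ, Fin.snoc_castSucc]; exact hs j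
  set S : Sylow p G := default
  have hmul : ∀ g k : G, Relation.ReflTransGen E S (g • S) → Relation.ReflTransGen E S (k • S) →
      Relation.ReflTransGen E S ((g * k) • S) := by
    intro g k hg hk
    rw [mul_smul]
    exact hg.trans (hk.lift (fun A => g • A) (fun A B h => hEg g A B h))
  have hsymm : ∀ A B, Relation.ReflTransGen E A B → Relation.ReflTransGen E B A := by
    intro A B hAB
    induction hAB with
    | refl => exact .refl
    | tail _ hbc ih => exact Relation.ReflTransGen.head ⟨hbc.1.symm, by rw [inf_comm]; exact hbc.2⟩ ih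
  let H : Subgroup G :=
    { carrier := {g | Relation.ReflTransGen E S (g • S)}
      one_mem' := by show Relation.ReflTransGen E S ((1 : G) • S); rw [one_smul]
      mul_mem' := fun {g k} hg hk => hmul g k hg hk
      inv_mem' := fun {g} hg => by
        have h1 : Relation.ReflTransGen E (g⁻¹ • (g • S)) (g⁻¹ • S) :=
          (hsymm _ _ hg).lift (fun A => g⁻¹ • A) (fun A B h => hEg g⁻¹ A B h)
        simpa using h1 }
  have hSH : (S : Subgroup G) ≤ H := fun s hs => by
    show Relation.ReflTransGen E S (s • S)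
    rw [Sylow.smul_eq_iff_mem_normalizer.mpr (Subgroup.le_normalizer hs)]
  refine ⟨H, fun htop => h fun A B => ?_, ?_, fun g hg hd => ?_⟩
  · obtain ⟨a, rfl⟩ := MulAction.exists_smul_eq G S A
    obtain ⟨b, rfl⟩ := MulAction.exists_smul_eq G S B
    have h1 : Relation.ReflTransGen E (a • S) (b • S) :=
      (hsymm _ _ (show a ∈ H from htop ▸ trivial)).trans (show b ∈ H from htop ▸ trivial)
    by_cases hab : ((a • S : Sylow p G) : Subgroup G) ⊓ ((b • S : Sylow p G) : Subgroup G) = ⊥
    · obtain ⟨n, c, h0, hl, hs⟩ := hchain _ _ h1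
      exact ⟨n, c, h0, hl, fun i => hab ▸ bot_le, hs⟩
    · by_cases he : a • S = b • S
      · exact ⟨0, fun _ => a • S, rfl, he, fun _ => inf_le_left, finZeroElim⟩
      · refine ⟨1, ![a • S, b • S], rfl, rfl, fun i => ?_, fun i => ?_⟩
        · fin_cases i
          · exact inf_le_left
          · exact inf_le_right
        · fin_cases i
          exact ⟨he, hab⟩
  · exact (dvd_card_of_pgroup_ne_bot S.2 (S.ne_bot_of_dvd_card hpG)).trans
      (Subgroup.card_dvd_of_le hSH)
  · obtain ⟨⟨z, hzH, hzg⟩, hz⟩ :=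
      exists_prime_orderOf_dvd_card' (G := ↥(H ⊓ H.map (MulAut.conj g).toMonoidHom)) p hd
    have hzp : orderOf z = p := by rwa [← Subgroup.orderOf_coe] at hz
    have hz1 : z ≠ 1 := fun h1 => (Fact.out : p.Prime).ne_one (by rw [← hzp, h1, orderOf_one])
    obtain ⟨a, ha, haz⟩ := exists_conj_le S hSH (isPGroup_zpowers ⟨1, by simpa using hzp⟩)
      (Subgroup.zpowers_le.mpr hzH)
    replace hzg : g⁻¹ * z * g ∈ H := mem_map_conj.mp hzg
    obtain ⟨b, hb, hbz⟩ := exists_conj_le S hSH
      (isPGroup_zpowers ⟨1, by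
        rw [pow_one, ← hzp]
        simpa [mul_assoc] using (MulAut.conj g⁻¹).orderOf_eq z⟩)
      (Subgroup.zpowers_le.mpr hzg)
    have hzb : z ∈ (((g * b) • S : Sylow p G) : Subgroup G) := by
      rw [mul_smul, mem_smul_sylow]
      exact hbz (Subgroup.mem_zpowers _)
    have hgb : g * b ∈ H := by
      show Relation.ReflTransGen E S ((g * b) • S)
      by_cases he : a • S = (g * b) • S
      · rw [← he]; exact ha
      · refine Relation.ReflTransGen.tail ha ⟨he, fun hbot => hz1 ?_⟩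
        exact Subgroup.mem_bot.mp (hbot ▸ ⟨haz (Subgroup.mem_zpowers z), hzb⟩)
    exact hg (by simpa using mul_mem hgb (inv_mem hb))

end Cfsg.Agent.Lib.LocalEven2
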