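import Cfsg.Prelude.Def_IsolatedElements
import Cfsg.Agent.Lib.LocalEven2.Sylow
import Cfsg.Agent.Lib.LocalEven2.Embedded
import Cfsg.Agent.Lib.Cores
import Cfsg.Agent.Lib.Transfer.Frobenius

/-!
Minimal counterexamples to the `Z*_p` statement.
-/

set_option autoImplicit false

namespace Cfsg.Agent.Lib.LocalEven2

variable {G : Type*} [Group G]

theorem le_pPrimeCore_map [Finite G] {p : ℕ} {H K : Subgroup G} (hKH : K ≤ H)
    (hn : H ≤ Subgroup.normalizer (K : Set G)) (hc : (Nat.card ↥K).Coprime p) :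
    K ≤ (Cfsg.pPrimeCore p ↥H).map H.subtype := by
  intro k hk
  refine ⟨⟨k, hKH hk⟩, ?_, rfl⟩
  refine Lib.Cores.le_pPrimeCore (N := K.subgroupOf H)
    (Subgroup.normal_subgroupOf_of_le_normalizer hn) ?_ hk
  rwa [Nat.card_congr (Subgroup.subgroupOfEquivOfLe hKH).toEquiv]

theorem map_pPrimeCore_normalizes [Finite G] {p : ℕ} (H : Subgroup G) :
    H ≤ Subgroup.normalizer ((Cfsg.pPrimeCore p ↥H).map H.subtype : Set G) := by
  intro h hh
  rw [Subgroup.mem_normalizer_iff]
  have key : ∀ h ∈ H, ∀ y ∈ (Cfsg.pPrimeCore p ↥H).map H.subtype,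
      h * y * h⁻¹ ∈ (Cfsg.pPrimeCore p ↥H).map H.subtype := by
    rintro h hh _ ⟨y, hy, rfl⟩
    exact ⟨_, (inferInstance : (Cfsg.pPrimeCore p ↥H).Normal).conj_mem y hy ⟨h, hh⟩, rfl⟩
  refine fun y => ⟨key h hh y, fun hy => ?_⟩
  have := key h⁻¹ (inv_mem hh) _ hy
  simpa [mul_assoc] using this

/-- A minimal counterexample to the `Z*_p` statement. -/
structure IsMinimalZStar (p : ℕ) (x : G) : Prop where
  order : orderOf x = p
  iso : Cfsg.IsIsolated x
  notZ : ¬ Cfsg.InZStar p x
  proper : ∀ (H : Subgroup G) (hxH : x ∈ H), H ≠ ⊤ → Cfsg.InZStar p (⟨x, hxH⟩ : ↥H)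
  quot : ∀ (N : Subgroup G) [N.Normal], N ≠ ⊥ → Cfsg.InZStar p (QuotientGroup.mk x : G ⧸ N)

variable [Finite G] {p : ℕ} [Fact p.Prime] {x : G}

theorem IsMinimalZStar.commutator_mem (h : IsMinimalZStar p x) {H : Subgroup G} (hxH : x ∈ H)
    (hH : H ≠ ⊤) {g : G} (hg : g ∈ H) :
    g * x * g⁻¹ * x⁻¹ ∈ (Cfsg.pPrimeCore p ↥H).map H.subtype :=
  ⟨_, h.proper H hxH hH ⟨g, hg⟩, rfl⟩

theorem IsMinimalZStar.ne_one (h : IsMinimalZStar p x) : x ≠ 1 := fun h1 => by
  have := h.order
  rw [h1, orderOf_one] at this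
  exact (Fact.out : p.Prime).ne_one this.symm

theorem IsMinimalZStar.exists_order (h : IsMinimalZStar p x) : ∃ k, orderOf x = p ^ k :=
  ⟨1, by rw [pow_one, h.order]⟩

theorem IsMinimalZStar.not_central (h : IsMinimalZStar p x) : ∃ g : G, g * x * g⁻¹ ≠ x := by
  by_contra hc
  simp only [not_exists, not_not] at hc
  exact h.notZ fun g => by rw [hc g, mul_inv_cancel]; exact one_mem _

theorem IsMinimalZStar.pPrimeCore_eq_bot (h : IsMinimalZStar p x) :
    Cfsg.pPrimeCore p G = ⊥ := by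
  by_contra hne
  refine h.notZ fun g => ?_
  have h1 := h.quot _ hne (QuotientGroup.mk g)
  rw [Lib.Cores.pPrimeCore_quotient_pPrimeCore, Subgroup.mem_bot] at h1
  rwa [← QuotientGroup.eq_one_iff]

theorem IsMinimalZStar.pCore_eq_bot (h : IsMinimalZStar p x) : Cfsg.pCore p G = ⊥ := by
  by_contra hne
  set Q := Cfsg.pCore p G with hQ
  set M := (Cfsg.pPrimeCore p (G ⧸ Q)).comap (QuotientGroup.mk' Q) with hM
  haveI : M.Normal := Subgroup.normal_comap _
  set C := M ⊓ Subgroup.centralizer (Q : Set G) with hC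
  haveI : C.Normal := Subgroup.normal_inf_normal M (Subgroup.centralizer (Q : Set G))
  have hp : p.Prime := Fact.out
  -- `C ≤ Q`
  have hCQ : C ≤ Q := by
    set X := Q ⊓ C with hX
    have hXp : IsPGroup p ↥X := (Lib.Cores.pCore_isPGroup p G).to_inf_left
    have hidx : ¬ p ∣ (X.subgroupOf C).index := by
      intro hd
      rw [← Subgroup.relIndex, hX, Subgroup.inf_relIndex_right] at hd
      have h1 : Q.relIndex C ∣ Nat.card ↥(Cfsg.pPrimeCore p (G ⧸ Q)) := by
        have e := Subgroup.relIndex_comap (⊥ : Subgroup (G ⧸ Q)) (QuotientGroup.mk' Q) C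
        rw [MonoidHom.comap_bot, QuotientGroup.ker_mk', Subgroup.relIndex_bot_left] at e
        rw [e]
        refine Subgroup.card_dvd_of_le ?_
        rw [Subgroup.map_le_iff_le_comap]
        exact inf_le_left
      exact Lib.Cores.not_dvd_card_pPrimeCore (hd.trans h1)
    have hXc : IsPGroup p ↥(X.subgroupOf C) := hXp.comap_subtype
    let S : Sylow p ↥C := hXc.toSylow hidx
    have hcen : Subgroup.normalizer ((S : Subgroup ↥C) : Set ↥C) ≤
        Subgroup.centralizer ((S : Subgroup ↥C) : Set ↥C) := by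
      intro c _
      refine Subgroup.mem_centralizer_iff.mpr fun s hs => Subtype.ext ?_
      exact Subgroup.mem_centralizer_iff.mp c.2.2 s hs.1
    obtain ⟨S', N, hNn, hN⟩ := Lib.Transfer.hasNormalPComplement_of_normalizer_le_centralizer S hcen
    have hN' : (Nat.card ↥N).Coprime p := by
      rw [← hN.index_eq_card.trans rfl] at *
      exact (hp.coprime_iff_not_dvd.mpr S'.not_dvd_index).symm
    have hNbot : N = ⊥ := by
      have h1 : N.map C.subtype ≤ Cfsg.pPrimeCore p G :=
        (Subgroup.map_mono (Lib.Cores.le_pPrimeCore hNn hN')).trans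
          (Lib.Cores.map_subtype_pPrimeCore_le C)
      rw [h.pPrimeCore_eq_bot, le_bot_iff, Subgroup.map_eq_bot_iff_of_injective _ C.subtype_injective] at h1
      exact h1
    intro c hc
    have hmem : (⟨c, hc⟩ : ↥C) ∈ (S' : Subgroup ↥C) := by
      have := hN.sup_eq_top
      rw [hNbot, bot_sup_eq] at this
      rw [this]; trivial
    have hp' : IsPGroup p ↥C := by
      have h2 := hN.sup_eq_top
      rw [hNbot, bot_sup_eq] at h2
      exact (h2 ▸ S'.2 : IsPGroup p ↥(⊤ : Subgroup ↥C)).of_equiv Subgroup.topEquiv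
    exact Lib.Cores.le_pCore inferInstance hp' hc
  obtain ⟨P, hP⟩ := (isPGroup_zpowers h.exists_order).exists_le_sylow
  have hxQ : x ∈ Subgroup.centralizer (Q : Set G) := Subgroup.mem_centralizer_iff.mpr fun q hq =>
    (isolated_central h.iso P.2 (hP (Subgroup.mem_zpowers x)) q (Lib.Cores.pCore_le_sylow P hq)).symm
  obtain ⟨g, hg⟩ := h.not_central
  apply hg
  have hc : g * x * g⁻¹ * x⁻¹ ∈ C := by
    refine ⟨?_, Subgroup.mul_mem _
      ((inferInstance : (Subgroup.centralizer (Q : Set G)).Normal).conj_mem x hxQ g) (inv_mem hxQ)⟩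
    exact h.quot Q hne (QuotientGroup.mk g)
  refine h.iso g ?_
  have h1 : g * x * g⁻¹ = (g * x * g⁻¹ * x⁻¹) * x := by group
  rw [h1]
  exact Commute.mul_right (Subgroup.mem_centralizer_iff.mp hxQ _ (hCQ hc)).symm (Commute.refl x)

/-- No nontrivial normal subgroup commutes with `x`. -/
theorem IsMinimalZStar.sup_zpowers_eq_top (h : IsMinimalZStar p x) {N : Subgroup G} [N.Normal]
    (hN : N ≠ ⊥) : N ⊔ Subgroup.zpowers x = ⊤ := by
  by_contra hne
  set H := N ⊔ Subgroup.zpowers x with hH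
  have hxH : x ∈ H := Subgroup.mem_sup_right (Subgroup.mem_zpowers x)
  have hNc : N ≤ Subgroup.centralizer ({x} : Set G) := by
    intro n hn
    rw [Subgroup.mem_centralizer_singleton_iff]
    have h1 := h.commutator_mem hxH hne (Subgroup.mem_sup_left hn)
    set K := (Cfsg.pPrimeCore p ↥H).map H.subtype with hK
    have hKN : K ⊓ N = ⊥ := by
      have hle : K ⊓ N ≤ (Cfsg.pPrimeCore p ↥N).map N.subtype := by
        refine le_pPrimeCore_map inf_le_right ?_ ?_
        · exact (le_inf ((le_sup_left : N ≤ H).trans (map_pPrimeCore_normalizes H))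
            Subgroup.le_normalizer).trans Subgroup.inf_normalizer_le_normalizer_inf
        · refine Nat.Coprime.coprime_dvd_left (Subgroup.card_dvd_of_le inf_le_left) ?_
          rw [hK, ← Nat.card_congr
            ((Cfsg.pPrimeCore p ↥H).equivMapOfInjective _ H.subtype_injective).toEquiv]
          exact Lib.Cores.pPrimeCore_coprime p _
      rw [Lib.Cores.map_subtype_pPrimeCore_eq, h.pPrimeCore_eq_bot, inf_bot_eq] at hle
      exact le_bot_iff.mp hle
    have h2 : n * x * n⁻¹ * x⁻¹ ∈ N := by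
      have := N.mul_mem hn ((inferInstance : N.Normal).conj_mem n⁻¹ (N.inv_mem hn) x)
      simpa [mul_assoc] using this
    have h3 : n * x * n⁻¹ * x⁻¹ ∈ K ⊓ N := ⟨h1, h2⟩
    rw [hKN, Subgroup.mem_bot, mul_inv_eq_one, mul_inv_eq_iff_eq_mul] at h3
    exact h3
  set C := Subgroup.centralizer (N : Set G) with hC
  have hxC : x ∈ C := Subgroup.mem_centralizer_iff.mpr fun n hn =>
    Subgroup.mem_centralizer_singleton_iff.mp (hNc hn)
  have hCne : C ≠ ⊤ := by
    intro htop
    -- `N` would be abelian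
    have hab : N ≤ Subgroup.centralizer (N : Set G) := le_of_le_of_eq le_top htop.symm
    have hcen : N ≤ Subgroup.center G := fun n hn =>
      Subgroup.mem_center_iff.mpr fun y =>
        (Subgroup.mem_centralizer_iff.mp (htop.symm ▸ Subgroup.mem_top y : y ∈ C) n hn).symm
    obtain ⟨r, hr, hrd⟩ := Nat.exists_prime_and_dvd
      (n := Nat.card ↥N) (fun h1 => hN (Subgroup.eq_bot_of_card_eq N h1))
    haveI := Fact.mk hr
    obtain ⟨n, hn⟩ := exists_prime_orderOf_dvd_card' r hrd
    have hn' : orderOf (n : G) = r := by rw [Subgroup.orderOf_coe, hn]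
    haveI : (Subgroup.zpowers (n : G)).Normal := ⟨fun y hy g => by
      rw [show g * y * g⁻¹ = y by
        rw [Subgroup.mem_center_iff.mp (Subgroup.zpowers_le.mpr (hcen n.2) hy) g]; group]
      exact hy⟩
    have hne' : Subgroup.zpowers (n : G) ≠ ⊥ := by
      rw [Subgroup.zpowers_ne_bot]
      intro h1; rw [h1, orderOf_one] at hn'; exact hr.ne_one hn'.symm
    by_cases hrp : r = p
    · exact hne' (le_bot_iff.mp (h.pCore_eq_bot ▸ Lib.Cores.le_pCore inferInstance
        (isPGroup_zpowers ⟨1, by rw [pow_one, hn', hrp]⟩)))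
    · exact hne' (le_bot_iff.mp (h.pPrimeCore_eq_bot ▸ Lib.Cores.le_pPrimeCore inferInstance
        (by rw [Nat.card_zpowers, hn']; exact (Nat.coprime_primes hr Fact.out).mpr hrp)))
  have hcom : ∀ c ∈ C, Commute x c := by
    intro c hc
    have h1 := h.commutator_mem hxC hCne hc
    rw [Lib.Cores.map_subtype_pPrimeCore_eq, h.pPrimeCore_eq_bot, inf_bot_eq, Subgroup.mem_bot,
      mul_inv_eq_one, mul_inv_eq_iff_eq_mul] at h1
    exact h1.symm
  obtain ⟨g, hg⟩ := h.not_central
  exact hg (h.iso g (hcom _ ((inferInstance : C.Normal).conj_mem x hxC g)))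

end Cfsg.Agent.Lib.LocalEven2
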