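import Cfsg.Agent.Lib.LocalEven2.CharPLocal
import Cfsg.Agent.Lib.Components.Local
import Cfsg.Agent.Lib.Cores

/-!
`F* = O_p` versus `C(O_p) ≤ O_p`.
-/

set_option autoImplicit false

namespace Cfsg.Agent.Lib.LocalEven2

variable {G : Type*} [Group G] {p : ℕ}

theorem genFitting_eq_pCore_iff [Fact p.Prime] [Finite G] :
    Cfsg.generalizedFittingSubgroup G = Cfsg.pCore p G ↔
      Subgroup.centralizer (Cfsg.pCore p G : Set G) ≤ Cfsg.pCore p G := by
  constructor
  · intro h
    have := Lib.Components.centralizer_genFitting_le (G := G)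
    rwa [h] at this
  · intro h
    have h0 : Cfsg.pPrimeCore p G = ⊥ := by
      rw [eq_bot_iff, ← Lib.Cores.pCore_inf_pPrimeCore (p := p)]
      exact le_inf (fun x hx => h (Subgroup.mem_centralizer_iff.mpr fun q hq =>
        Lib.Cores.commute_of_mem_pCore_of_mem_pPrimeCore hq hx)) le_rfl
    refine Lib.Components.genFitting_eq_pCore_of h0 ?_
    have h1 := Lib.Components.layer_le_centralizer_fittingSubgroup (G := G)
    have h2 : Cfsg.layer G ≤ Cfsg.pCore p G :=
      (h1.trans (Subgroup.centralizer_le (Lib.Cores.pCore_le_fittingSubgroup p))).trans h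
    refine Lib.Components.eq_bot_of_perfect_solvable (Lib.Components.layer_commutator_self G) ?_
    have := ((Lib.Cores.pCore_isPGroup p G).to_le h2).isNilpotent
    exact IsNilpotent.to_isSolvable

theorem genFitting_eq_pCore_subgroup_iff [Fact p.Prime] [Finite G] (H : Subgroup G) :
    Cfsg.generalizedFittingSubgroup ↥H = Cfsg.pCore p ↥H ↔ IsCharPIn p H := by
  rw [genFitting_eq_pCore_iff, isCharPIn_iff]

end Cfsg.Agent.Lib.LocalEven2
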