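import Mathlib.GroupTheory.Sylow
import Mathlib.GroupTheory.Nilpotent
import Mathlib.GroupTheory.IsSubnormal
import Mathlib.GroupTheory.Transfer
import Mathlib.GroupTheory.Commutator.Basic
import Cfsg.Prelude.Def_Solvable
import Cfsg.Prelude.Def_Amalgam

/-!
Basic facts on `p`-cores, coprime stabilizers and the `A × B` lemma.
-/

set_option autoImplicit false

namespace Cfsg.Agent.Lib.LocalEven2

variable {G : Type*} [Group G] {p : ℕ}

theorem pCore_isPGroup (p : ℕ) (G : Type*) [Group G] : IsPGroup p ↥(Cfsg.pCore p G) := by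
  unfold Cfsg.pCore
  exact Sylow.sSup_of_normal _ (fun H hH => hH.2) (fun H hH => hH.1)

theorem pCore_normal (p : ℕ) (G : Type*) [Group G] : (Cfsg.pCore p G).Normal := by
  unfold Cfsg.pCore
  rw [sSup_eq_iSup']
  haveI : ∀ N : {N : Subgroup G | N.Normal ∧ IsPGroup p N}, (N : Subgroup G).Normal :=
    fun N => N.2.1
  exact Subgroup.iSup_normal _

theorem le_pCore {N : Subgroup G} (hn : N.Normal) (hp : IsPGroup p N) : N ≤ Cfsg.pCore p G :=
  le_sSup ⟨hn, hp⟩

theorem pCoreOf_le (H : Subgroup G) : Cfsg.pCoreOf p H ≤ H := Subgroup.map_subtype_le _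

theorem pCoreOf_isPGroup (H : Subgroup G) : IsPGroup p ↥(Cfsg.pCoreOf p H) :=
  (pCore_isPGroup p ↥H).map _

theorem mem_pCoreOf {H : Subgroup G} {x : G} :
    x ∈ Cfsg.pCoreOf p H ↔ ∃ h : x ∈ H, (⟨x, h⟩ : ↥H) ∈ Cfsg.pCore p ↥H := by
  constructor
  · rintro ⟨y, hy, rfl⟩; exact ⟨y.2, hy⟩
  · rintro ⟨h, hx⟩; exact ⟨_, hx, rfl⟩

theorem coe_mem_pCoreOf {H : Subgroup G} {x : ↥H} :
    (x : G) ∈ Cfsg.pCoreOf p H ↔ x ∈ Cfsg.pCore p ↥H := by
  rw [mem_pCoreOf]; exact ⟨fun ⟨_, h⟩ => h, fun h => ⟨x.2, h⟩⟩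

theorem conj_mem_pCoreOf {H : Subgroup G} {g x : G} (hg : g ∈ H) (hx : x ∈ Cfsg.pCoreOf p H) :
    g * x * g⁻¹ ∈ Cfsg.pCoreOf p H := by
  obtain ⟨h, hx⟩ := mem_pCoreOf.mp hx
  exact ⟨_, (pCore_normal p ↥H).conj_mem _ hx ⟨g, hg⟩, rfl⟩

theorem le_pCoreOf {H N : Subgroup G} (hNH : N ≤ H) (hp : IsPGroup p ↥N)
    (hconj : ∀ g ∈ H, ∀ x ∈ N, g * x * g⁻¹ ∈ N) : N ≤ Cfsg.pCoreOf p H := by
  intro x hx
  refine mem_pCoreOf.mpr ⟨hNH hx, ?_⟩
  have hn : (N.subgroupOf H).Normal :=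
    ⟨fun y hy g => hconj g g.2 y hy⟩
  exact le_pCore hn (hp.comap_subtype) hx

theorem pCoreOf_top : Cfsg.pCoreOf p (⊤ : Subgroup G) = Cfsg.pCore p G := by
  apply le_antisymm
  · exact le_pCore ⟨fun x hx g => conj_mem_pCoreOf (Subgroup.mem_top g) hx⟩ (pCoreOf_isPGroup _)
  · exact le_pCoreOf le_top (pCore_isPGroup p G) fun g _ x hx => (pCore_normal p G).conj_mem x hx g

/-- A `p'`-element of a `p`-group is trivial. -/
theorem eq_one_of_isPGroup [Fact p.Prime] {P : Subgroup G} (hP : IsPGroup p ↥P) {x : G}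
    (hx : x ∈ P) (hc : (orderOf x).Coprime p) : x = 1 := by
  obtain ⟨k, hk⟩ := IsPGroup.iff_orderOf.mp hP ⟨x, hx⟩
  rw [Subgroup.orderOf_mk] at hk
  rw [hk] at hc
  have : Nat.Coprime (p ^ k) (p ^ k) := Nat.Coprime.pow_right k hc
  rw [Nat.coprime_self] at this
  exact orderOf_eq_one_iff.mp (hk.trans this)

/-- If `x` is a `p'`-element and `c = [x,w]` is a `p`-element commuting with `x`, it is trivial. -/
theorem commutator_eq_one_of_commute [Fact p.Prime] {P : Subgroup G} (hP : IsPGroup p ↥P)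
    {x w : G} (hx : (orderOf x).Coprime p) (hcP : x * w * x⁻¹ * w⁻¹ ∈ P)
    (hcomm : Commute x (x * w * x⁻¹ * w⁻¹)) : x * w * x⁻¹ * w⁻¹ = 1 := by
  set c := x * w * x⁻¹ * w⁻¹ with hc
  have key : ∀ n : ℕ, x ^ n * w * (x ^ n)⁻¹ = c ^ n * w := by
    intro n
    induction n with
    | zero => simp
    | succ n ih =>
      have h1 : x ^ (n + 1) * w * (x ^ (n + 1))⁻¹ = x * (x ^ n * w * (x ^ n)⁻¹) * x⁻¹ := by
        rw [pow_succ']; group
      rw [h1, ih]
      have h2 : x * (c ^ n * w) * x⁻¹ = c ^ n * (x * w * x⁻¹) := by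
        rw [← mul_assoc x, (hcomm.pow_right n).eq]; group
      rw [h2, pow_succ, hc]; group
  have h1 := key (orderOf x)
  rw [pow_orderOf_eq_one] at h1
  have h2 : c ^ orderOf x = 1 := by simpa using h1.symm
  exact eq_one_of_isPGroup hP hcP
    (Nat.Coprime.coprime_dvd_left (orderOf_dvd_of_pow_eq_one h2) hx)

theorem commute_of_commutator_eq_one {x w : G} (h : x * w * x⁻¹ * w⁻¹ = 1) : x * w = w * x :=
  calc x * w = (x * w * x⁻¹ * w⁻¹) * (w * x) := by group
    _ = w * x := by rw [h, one_mul]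

/-- `x` stabilizes a chain with fixed middle term, so centralizes. -/
theorem commute_of_stabilizes [Fact p.Prime] {P : Subgroup G} (hP : IsPGroup p ↥P)
    {x w : G} (hx : (orderOf x).Coprime p) (hcP : x * w * x⁻¹ * w⁻¹ ∈ P)
    (hcomm : Commute x (x * w * x⁻¹ * w⁻¹)) : x * w = w * x :=
  commute_of_commutator_eq_one (commutator_eq_one_of_commute hP hx hcP hcomm)

/-- A finite group all of whose `p'`-elements are trivial is a `p`-group. -/
theorem isPGroup_of_coprime_trivial [Fact p.Prime] [Finite G] {C : Subgroup G}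
    (h : ∀ x ∈ C, (orderOf x).Coprime p → x = 1) : IsPGroup p ↥C := by
  rw [IsPGroup.iff_card]
  refine ⟨_, Nat.eq_prime_pow_of_unique_prime_dvd (Nat.card_pos (α := ↥C)).ne' fun {q} hq hdvd => ?_⟩
  haveI := Fact.mk hq
  obtain ⟨x, hx⟩ := exists_prime_orderOf_dvd_card' (G := ↥C) q hdvd
  by_contra hne
  have h1 : (orderOf (x : G)).Coprime p := by
    rw [Subgroup.orderOf_coe, hx]
    exact (Nat.coprime_primes hq Fact.out).mpr hne
  have h2 := h _ x.2 h1
  rw [OneMemClass.coe_eq_one] at h2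
  rw [h2, orderOf_one] at hx
  exact hq.ne_one hx.symm

/-- Normalizers grow in `p`-groups. -/
theorem exists_normalizer_not_mem [Fact p.Prime] [Finite G] {P F : Subgroup G}
    (hP : IsPGroup p ↥P) (hFP : F < P) :
    ∃ w ∈ P, w ∉ F ∧ w ∈ Subgroup.normalizer (F : Set G) := by
  haveI := hP.isNilpotent
  have hne : F.subgroupOf P < ⊤ := by
    rw [lt_top_iff_ne_top, Ne, Subgroup.subgroupOf_eq_top]
    exact fun h => lt_irrefl _ (lt_of_lt_of_le hFP h)
  obtain ⟨w, hw, hwF⟩ := SetLike.exists_of_lt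
    (Group.normalizerCondition_of_isNilpotent (F.subgroupOf P) hne)
  refine ⟨w, w.2, fun h => hwF h, ?_⟩
  rw [Subgroup.mem_normalizer_iff] at hw ⊢
  intro h
  constructor
  · intro hh; exact (hw ⟨h, hFP.le hh⟩).mp hh
  · intro hh
    have hhP : h ∈ P := by
      have := P.mul_mem (P.mul_mem (inv_mem w.2) (hFP.le hh)) w.2
      simpa [mul_assoc] using this
    exact (hw ⟨h, hhP⟩).mpr hh

/-- Thompson's `A × B` lemma: a `p'`-element normalizing the `p`-group `P` which centralizes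
`A ≤ P` and `C_P(A)` centralizes `P`. -/
theorem axb_centralizes [Fact p.Prime] [Finite G] {P A : Subgroup G} (hP : IsPGroup p ↥P)
    (hAP : A ≤ P) {x : G} (hx : (orderOf x).Coprime p) (hxP : ∀ w ∈ P, x * w * x⁻¹ ∈ P)
    (hxA : ∀ a ∈ A, x * a = a * x)
    (hxC : ∀ c ∈ P, (∀ a ∈ A, a * c = c * a) → x * c = c * x) :
    ∀ w ∈ P, x * w = w * x := by
  by_contra hne
  set F := P ⊓ Subgroup.centralizer ({x} : Set G) with hF
  have hFmem : ∀ {y}, y ∈ F ↔ y ∈ P ∧ x * y = y * x := by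
    intro y
    simp only [hF, Subgroup.mem_inf, Subgroup.mem_centralizer_singleton_iff, eq_comm]
  have hFP : F < P := by
    refine lt_of_le_of_ne inf_le_left fun h => hne fun w hw => ?_
    exact (hFmem.mp (h.ge hw)).2
  obtain ⟨w, hwP, hwF, hwN⟩ := exists_normalizer_not_mem hP hFP
  apply hwF
  refine hFmem.mpr ⟨hwP, ?_⟩
  set c := x * w * x⁻¹ * w⁻¹ with hc
  have hcP : c ∈ P := P.mul_mem (hxP w hwP) (inv_mem hwP)
  refine commute_of_stabilizes hP hx hcP (hxC c hcP fun a ha => ?_)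
  -- `f = w a w⁻¹` is fixed by `x`, so `c` centralizes it
  have hf : ∀ b ∈ A, x * (w⁻¹ * b * w) = (w⁻¹ * b * w) * x := fun b hb =>
    (hFmem.mp ((Subgroup.mem_normalizer_iff''.mp hwN b).mp (hFmem.mpr ⟨hAP hb, hxA b hb⟩))).2
  have h1 := hf a ha
  have h2 : x * a * x⁻¹ = a := by rw [hxA a ha]; group
  have h3 : (x * w * x⁻¹)⁻¹ * a * (x * w * x⁻¹) = w⁻¹ * a * w := by
    calc (x * w * x⁻¹)⁻¹ * a * (x * w * x⁻¹)
        = (x * w * x⁻¹)⁻¹ * (x * a * x⁻¹) * (x * w * x⁻¹) := by rw [h2]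
      _ = x * (w⁻¹ * a * w) * x⁻¹ := by group
      _ = w⁻¹ * a * w := by rw [h1]; group
  calc a * c = (x * w * x⁻¹) * ((x * w * x⁻¹)⁻¹ * a * (x * w * x⁻¹)) * w⁻¹ := by
        rw [hc]; group
    _ = (x * w * x⁻¹) * (w⁻¹ * a * w) * w⁻¹ := by rw [h3]
    _ = c * a := by rw [hc]; group

/-- In a finite cyclic group the subgroups generated by elements of equal order coincide. -/
theorem zpowers_eq_of_isCyclic {C : Type*} [Group C] [Finite C] [IsCyclic C] {x y : C}
    (h : orderOf x = orderOf y) : Subgroup.zpowers x = Subgroup.zpowers y := by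
  classical
  haveI := Fintype.ofFinite C
  have key : ∀ z : C, orderOf z = orderOf x →
      (Subgroup.zpowers z : Set C) = {a : C | a ^ orderOf x = 1} := by
    intro z hz
    refine Set.eq_of_subset_of_ncard_le (fun a ha => ?_) ?_ (Set.toFinite _)
    · obtain ⟨k, rfl⟩ := ha
      show (z ^ k) ^ orderOf x = 1
      rw [← zpow_natCast, ← zpow_mul, mul_comm, zpow_mul, zpow_natCast, ← hz,
        pow_orderOf_eq_one, one_zpow]
    · rw [← Nat.card_coe_set_eq (Subgroup.zpowers z : Set C), show Nat.card ↥(Subgroup.zpowers z : Set C)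
        = orderOf x from (Nat.card_zpowers z).trans hz, ← Finset.coe_filter_univ, Set.ncard_coe_finset]
      exact IsCyclic.card_pow_eq_one_le (orderOf_pos x)
  exact SetLike.coe_injective ((key x rfl).trans (key y h.symm).symm)

end Cfsg.Agent.Lib.LocalEven2
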