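import Cfsg.Agent.Lib.LocalEven2.Sylow
import Cfsg.Prelude.Def_JComponents

/-!
The elementary abelian Thompson subgroup of a subgroup, described inside the ambient group.
-/

set_option autoImplicit false

namespace Cfsg.Agent.Lib.LocalEven2

variable {G : Type*} [Group G] {p : ℕ}

theorem isElementaryAbelian_iff {A : Subgroup G} :
    Cfsg.IsElementaryAbelian p A ↔
      (∀ a ∈ A, ∀ b ∈ A, a * b = b * a) ∧ ∀ a ∈ A, a ^ p = 1 := by
  constructor
  · rintro ⟨hc, he⟩
    exact ⟨fun a ha b hb => congrArg Subtype.val (hc.is_comm.comm (⟨a, ha⟩ : ↥A) ⟨b, hb⟩), he⟩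
  · rintro ⟨hc, he⟩
    exact ⟨⟨⟨fun a b => Subtype.ext (hc a a.2 b b.2)⟩⟩, he⟩

theorem isElementaryAbelian_map_subtype {H : Subgroup G} (A : Subgroup ↥H) :
    Cfsg.IsElementaryAbelian p (A.map H.subtype) ↔ Cfsg.IsElementaryAbelian p A := by
  simp only [isElementaryAbelian_iff, Subgroup.mem_map, forall_exists_index, and_imp,
    forall_apply_eq_imp_iff₂, Subgroup.coe_subtype]
  constructor
  · rintro ⟨hc, he⟩
    exact ⟨fun a ha b hb => Subtype.ext (hc a ha b hb), fun a ha => Subtype.ext (he a ha)⟩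
  · rintro ⟨hc, he⟩
    exact ⟨fun a ha b hb => congrArg Subtype.val (hc a ha b hb),
      fun a ha => congrArg Subtype.val (he a ha)⟩

/-- `A` is an elementary abelian `p`-subgroup of `T` of largest order. -/
def IsMaxEA (p : ℕ) (T A : Subgroup G) : Prop :=
  A ≤ T ∧ Cfsg.IsElementaryAbelian p A ∧
    ∀ B : Subgroup G, B ≤ T → Cfsg.IsElementaryAbelian p B → Nat.card ↥B ≤ Nat.card ↥A

theorem card_map_subtype' {H : Subgroup G} (A : Subgroup ↥H) :
    Nat.card ↥(A.map H.subtype) = Nat.card ↥A :=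
  (Nat.card_congr (A.equivMapOfInjective H.subtype H.subtype_injective).toEquiv).symm

theorem isMaxEA_map_subtype {T : Subgroup G} (A : Subgroup ↥T) :
    IsMaxEA p T (A.map T.subtype) ↔ A ∈ Cfsg.maxElementaryAbelianSubgroups p ↥T := by
  constructor
  · rintro ⟨-, h1, h2⟩
    refine ⟨(isElementaryAbelian_map_subtype A).mp h1, fun B hB => ?_⟩
    have := h2 _ (Subgroup.map_subtype_le B) ((isElementaryAbelian_map_subtype B).mpr hB)
    rwa [card_map_subtype', card_map_subtype'] at this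
  · rintro ⟨h1, h2⟩
    refine ⟨Subgroup.map_subtype_le A, (isElementaryAbelian_map_subtype A).mpr h1, fun B hBT hB => ?_⟩
    rw [card_map_subtype', ← Subgroup.map_subgroupOf_eq_of_le hBT, card_map_subtype']
    refine h2 _ ((isElementaryAbelian_map_subtype _).mp ?_)
    rwa [Subgroup.map_subgroupOf_eq_of_le hBT]

theorem IsMaxEA.mem {T A : Subgroup G} (h : IsMaxEA p T A) :
    A.subgroupOf T ∈ Cfsg.maxElementaryAbelianSubgroups p ↥T := by
  rw [← isMaxEA_map_subtype, Subgroup.map_subgroupOf_eq_of_le h.1]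
  exact h

theorem exists_isMaxEA [Finite G] (p : ℕ) (T : Subgroup G) : ∃ A, IsMaxEA p T A := by
  obtain ⟨A, ⟨hAT, hA⟩, hmax⟩ := Set.exists_max_image
    {A : Subgroup G | A ≤ T ∧ Cfsg.IsElementaryAbelian p A} (fun A => Nat.card ↥A)
    (Set.toFinite _) ⟨⊥, bot_le, isElementaryAbelian_iff.mpr ⟨fun a ha b hb => by
      rw [Subgroup.mem_bot.mp ha, Subgroup.mem_bot.mp hb], fun a ha => by
      rw [Subgroup.mem_bot.mp ha, one_pow]⟩⟩
  exact ⟨A, hAT, hA, fun B hBT hB => hmax B ⟨hBT, hB⟩⟩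

theorem thompsonSubgroupOf_le (p : ℕ) (T : Subgroup G) : Cfsg.thompsonSubgroupOf p T ≤ T :=
  Subgroup.map_subtype_le _

theorem le_thompsonSubgroupOf {T A : Subgroup G} (h : IsMaxEA p T A) :
    A ≤ Cfsg.thompsonSubgroupOf p T := by
  have := Subgroup.map_mono (f := T.subtype) (le_sSup h.mem : _ ≤ Cfsg.thompsonSubgroup p ↥T)
  rwa [Subgroup.map_subgroupOf_eq_of_le h.1] at this

theorem thompsonSubgroupOf_le_of {T X : Subgroup G} (h : ∀ A, IsMaxEA p T A → A ≤ X) :
    Cfsg.thompsonSubgroupOf p T ≤ X := by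
  rw [Cfsg.thompsonSubgroupOf, Subgroup.map_le_iff_le_comap, Cfsg.thompsonSubgroup, sSup_le_iff]
  intro A hA
  rw [← Subgroup.map_le_iff_le_comap]
  exact h _ ((isMaxEA_map_subtype A).mpr hA)

theorem thompsonSubgroupOf_eq (p : ℕ) (T : Subgroup G) :
    Cfsg.thompsonSubgroupOf p T = sSup {A | IsMaxEA p T A} :=
  le_antisymm (thompsonSubgroupOf_le_of fun _ hA => le_sSup hA)
    (sSup_le fun _ hA => le_thompsonSubgroupOf hA)

theorem IsMaxEA.card_eq {T A B : Subgroup G} (hA : IsMaxEA p T A) (hB : IsMaxEA p T B) :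
    Nat.card ↥A = Nat.card ↥B :=
  le_antisymm (hB.2.2 A hA.1 hA.2.1) (hA.2.2 B hB.1 hB.2.1)

theorem IsMaxEA.map_conj {T A : Subgroup G} (h : IsMaxEA p T A) (g : G) :
    IsMaxEA p (T.map (MulAut.conj g).toMonoidHom) (A.map (MulAut.conj g).toMonoidHom) := by
  have hcard : ∀ (H : Subgroup G) (x : G),
      Nat.card ↥(H.map (MulAut.conj x).toMonoidHom) = Nat.card ↥H := fun H x =>
    (Nat.card_congr (H.equivMapOfInjective _ (MulAut.conj x).injective).toEquiv).symm
  have hea : ∀ (H : Subgroup G) (x : G), Cfsg.IsElementaryAbelian p H →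
      Cfsg.IsElementaryAbelian p (H.map (MulAut.conj x).toMonoidHom) := by
    intro H x hH
    obtain ⟨hc, he⟩ := isElementaryAbelian_iff.mp hH
    refine isElementaryAbelian_iff.mpr ⟨?_, ?_⟩
    · rintro _ ⟨a, ha, rfl⟩ _ ⟨b, hb, rfl⟩
      rw [← map_mul, ← map_mul, hc a ha b hb]
    · rintro _ ⟨a, ha, rfl⟩
      rw [← map_pow, he a ha, map_one]
  refine ⟨Subgroup.map_mono h.1, hea A g h.2.1, fun B hB hBe => ?_⟩
  rw [hcard, ← hcard B g⁻¹]
  refine h.2.2 _ ?_ (hea B g⁻¹ hBe)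
  intro x hx
  rw [mem_map_conj] at hx
  have := hB hx
  rw [mem_map_conj] at this
  simpa [mul_assoc] using this

theorem thompsonSubgroupOf_map_conj (p : ℕ) (T : Subgroup G) (g : G) :
    Cfsg.thompsonSubgroupOf p (T.map (MulAut.conj g).toMonoidHom) =
      (Cfsg.thompsonSubgroupOf p T).map (MulAut.conj g).toMonoidHom := by
  have hmap : ∀ (H : Subgroup G) (x y : G),
      (H.map (MulAut.conj y).toMonoidHom).map (MulAut.conj x).toMonoidHom =
        H.map (MulAut.conj (x * y)).toMonoidHom := fun H x y => by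
    ext z; simp only [mem_map_conj]; simp [mul_assoc]
  have hone : ∀ H : Subgroup G, H.map (MulAut.conj (1 : G)).toMonoidHom = H := fun H => by
    ext z; simp [mem_map_conj]
  refine le_antisymm (thompsonSubgroupOf_le_of fun A hA => ?_) ?_
  · have h1 := le_thompsonSubgroupOf (hA.map_conj g⁻¹)
    rw [hmap, inv_mul_cancel, hone] at h1
    have := Subgroup.map_mono (f := (MulAut.conj g).toMonoidHom) h1
    rwa [hmap, mul_inv_cancel, hone] at this
  · rw [thompsonSubgroupOf_eq p T, (Subgroup.gc_map_comap _).l_sSup]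
    exact iSup₂_le fun A hA => le_thompsonSubgroupOf (hA.map_conj g)

theorem normalizer_le_normalizer_thompson [Finite G] (p : ℕ) (T : Subgroup G) :
    Subgroup.normalizer (T : Set G) ≤
      Subgroup.normalizer (Cfsg.thompsonSubgroupOf p T : Set G) := by
  intro n hn
  have h1 : T.map (MulAut.conj n).toMonoidHom = T := by
    ext x
    rw [mem_map_conj]
    exact (Subgroup.mem_normalizer_iff''.mp hn x).symm
  rw [Subgroup.mem_normalizer_iff'']
  intro x
  conv_lhs => rw [← h1, thompsonSubgroupOf_map_conj, mem_map_conj]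

/-- If `R` lies between a largest elementary abelian subgroup and `T`, its largest ones are
those of `T` inside it. -/
theorem isMaxEA_of_le {T R A : Subgroup G} (hA : IsMaxEA p T A) (hAR : A ≤ R) (hRT : R ≤ T) :
    IsMaxEA p R A :=
  ⟨hAR, hA.2.1, fun B hB hBe => hA.2.2 B (hB.trans hRT) hBe⟩

theorem IsMaxEA.of_sub {T R A B : Subgroup G} (hA : IsMaxEA p T A) (hAR : A ≤ R) (hRT : R ≤ T)
    (hB : IsMaxEA p R B) : IsMaxEA p T B :=
  ⟨hB.1.trans hRT, hB.2.1, fun C hC hCe =>
    (hA.2.2 C hC hCe).trans (hB.2.2 A hAR hA.2.1)⟩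

theorem thompsonSubgroupOf_eq_of_between [Finite G] {T R : Subgroup G}
    (hJR : Cfsg.thompsonSubgroupOf p T ≤ R) (hRT : R ≤ T) :
    Cfsg.thompsonSubgroupOf p R = Cfsg.thompsonSubgroupOf p T := by
  obtain ⟨A, hA⟩ := exists_isMaxEA p T
  refine le_antisymm (thompsonSubgroupOf_le_of fun B hB => ?_)
    (thompsonSubgroupOf_le_of fun B hB => ?_)
  · exact le_thompsonSubgroupOf (hA.of_sub ((le_thompsonSubgroupOf hA).trans hJR) hRT hB)
  · exact le_thompsonSubgroupOf (isMaxEA_of_le hB ((le_thompsonSubgroupOf hB).trans hJR) hRT)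

theorem maxElemAbelianOrder_eq [Finite G] {T A : Subgroup G} (hA : IsMaxEA 2 T A) :
    Cfsg.maxElemAbelianOrder T = Nat.card ↥A := by
  unfold Cfsg.maxElemAbelianOrder
  have h1 : (fun B : Subgroup ↥T => Nat.card ↥B) '' Cfsg.maxElementaryAbelianSubgroups 2 ↥T =
      {Nat.card ↥A} := by
    ext k
    constructor
    · rintro ⟨B, hB, rfl⟩
      simp only [Set.mem_singleton_iff]
      rw [← card_map_subtype' B]
      exact ((isMaxEA_map_subtype B).mpr hB).card_eq hA
    · rintro rfl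
      exact ⟨_, hA.mem, Nat.card_congr (Subgroup.subgroupOfEquivOfLe hA.1).toEquiv⟩
  rw [h1, csSup_singleton]

end Cfsg.Agent.Lib.LocalEven2
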