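import Cfsg.Agent.Lib.OddLocal.Coprime

/-!
A coprime group fixing the elements of order dividing `p ^ 2` of a `p`-group.
-/

set_option autoImplicit false

namespace Cfsg.Agent.Lib.LocalEven2

open Subgroup Cfsg.Agent.Lib.OddLocal
open scoped commutatorElement

variable {G : Type*} [Group G]

theorem le_centralizer_of_fixes_pow_sq [Finite G] {p : ℕ} [hp : Fact p.Prime]
    {A : Subgroup G} (hcop : (Nat.card A).Coprime p) :
    ∀ H : Subgroup G, IsPGroup p H → A ≤ normalizer (H : Set G) →
      (∀ x ∈ H, x ^ (p * p) = 1 → A ≤ centralizer ({x} : Set G)) → A ≤ centralizer (H : Set G) := by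
  intro H
  induction hn : Nat.card H using Nat.strong_induction_on generalizing H with
  | _ n ih =>
    intro hHp hA hfix
    subst hn
    have hcopH : ∀ K : Subgroup G, K ≤ H → (Nat.card A).Coprime (Nat.card K) := by
      intro K hK
      obtain ⟨m, hm⟩ := (hHp.to_le hK).exists_card_eq
      rw [hm]; exact hcop.pow_right m
    have hprop : ∀ K : Subgroup G, K < H → A ≤ normalizer (K : Set G) →
        A ≤ centralizer (K : Set G) := fun K hK hKA =>
      ih _ ((card_le_of_le hK.le).lt_of_ne fun he => hK.ne (eq_of_le_of_card_ge hK.le he.ge)) K rfl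
        (hHp.to_le hK.le) hKA fun x hx => hfix x (hK.le hx)
    rcases eq_or_ne H ⊥ with rfl | hne
    · intro a _; exact mem_centralizer_of_conj_eq fun x hx => by simp [mem_bot.mp hx]
    have := (hHp.isNilpotent : Group.IsNilpotent H)
    haveI : Nontrivial H := (nontrivial_iff_ne_bot H).mpr hne
    let F : Subgroup G := (frattini H).map H.subtype
    obtain ⟨M, hM, -⟩ := (eq_top_or_exists_le_coatom (⊥ : Subgroup H)).resolve_left bot_ne_top
    have hFlt : F < H := by
      refine lt_of_le_of_ne (map_subtype_le _) fun he => hM.1 (top_le_iff.mp ?_)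
      intro x _
      have hx : (x : G) ∈ F := he.ge x.2
      obtain ⟨y, hy, hyx⟩ := mem_map.mp hx
      rw [← Subtype.ext hyx]; exact frattini_le_coatom hM hy
    have hFA : A ≤ centralizer (F : Set G) := hprop F hFlt (map_subtype_frattini_le_normalizer hA)
    have hquo : ∀ M : Subgroup H, IsCoatom M → M.Normal ∧ M.index = p := by
      intro M hM
      have hMn : M.Normal := NormalizerCondition.normal_of_coatom M
        (Group.normalizerCondition_of_isNilpotent) hM
      refine ⟨hMn, ?_⟩
      obtain ⟨k, hk⟩ := hHp.index M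
      rcases k with _ | k
      · exact absurd (index_eq_one.mp (by simpa using hk)) hM.1
      · obtain ⟨q, hq⟩ := exists_prime_orderOf_dvd_card' (G := H ⧸ M) p
          (by rw [← Subgroup.index]; exact hk ▸ dvd_pow_self p k.succ_ne_zero)
        have h1 : M < (zpowers q).comap (QuotientGroup.mk' M) := by
          refine lt_of_le_of_ne (fun x hx => ?_) fun he => ?_
          · rw [mem_comap, QuotientGroup.mk'_apply, (QuotientGroup.eq_one_iff x).mpr hx]
            exact one_mem _
          · obtain ⟨x, rfl⟩ := QuotientGroup.mk'_surjective M q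
            have : x ∈ M := he ▸ mem_comap.mpr (mem_zpowers _)
            rw [QuotientGroup.mk'_apply, (QuotientGroup.eq_one_iff x).mpr this, orderOf_one] at hq
            exact hp.out.one_lt.ne hq
        have h2 : zpowers q = ⊤ :=
          comap_injective (QuotientGroup.mk'_surjective M) (by rw [comap_top]; exact hM.2 _ h1)
        rw [Subgroup.index, ← card_top (G := H ⧸ M), ← h2, Nat.card_zpowers, hq]
    have hfrat : ∀ y : H, (∀ M : Subgroup H, IsCoatom M → y ∈ M) → (y : G) ∈ F := by
      intro y hy
      refine mem_map.mpr ⟨y, ?_, rfl⟩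
      change y ∈ Order.radical (Subgroup H)
      simpa [Order.radical, mem_iInf] using hy
    have hpowF : ∀ x ∈ H, x ^ p ∈ F := by
      intro x hx
      refine hfrat (⟨x, hx⟩ ^ p) fun M hM => ?_
      obtain ⟨hMn, hMi⟩ := hquo M hM
      rw [← hMi]; exact M.pow_index_mem _
    have hcommF : ⁅H, H⁆ ≤ F := by
      rw [commutator_le]
      intro x hx y hy
      refine hfrat ⁅(⟨x, hx⟩ : H), (⟨y, hy⟩ : H)⁆ fun M hM => ?_
      obtain ⟨hMn, hMi⟩ := hquo M hM
      haveI : IsCyclic (H ⧸ M) := isCyclic_of_prime_card (p := p) hMi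
      letI := IsCyclic.commGroup (α := H ⧸ M)
      rw [← QuotientGroup.eq_one_iff, ← QuotientGroup.mk'_apply, map_commutatorElement]
      exact commutatorElement_eq_one_iff_mul_comm.mpr (mul_comm _ _)
    -- `[H, A]` is all of `H`, so the fixed points are central
    have hHA : ⁅H, A⁆ ≤ H := le_normalizer_iff_commutator_le_left.mp hA
    rcases hHA.lt_or_eq with hlt | heq
    · exact le_centralizer_of_coprime_stab le_rfl (hprop _ hlt (normalizer_commutator_ge_right _ _))
        (hcopH _ hHA)
    let C : Subgroup G := H ⊓ centralizer (A : Set G)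
    have hFC : F ≤ C := le_inf (map_subtype_le _) (le_centralizer_iff.mp hFA)
    have h1 : ⁅⁅H, C⁆, A⁆ = ⊥ := by
      rw [commutator_eq_bot_iff_le_centralizer]
      exact ((commutator_mono le_rfl inf_le_left).trans hcommF).trans (hFC.trans inf_le_right)
    have h2 : ⁅⁅C, A⁆, H⁆ = ⊥ := by
      rw [commutator_eq_bot_iff_le_centralizer.mpr (inf_le_right : C ≤ _), commutator_bot_left]
    have h3 : H ≤ centralizer (C : Set G) := by
      have := commutator_eq_bot_iff_le_centralizer.mp (commutator_commutator_eq_bot_of_rotate h1 h2)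
      rwa [commutator_comm, heq] at this
    intro a ha
    refine mem_centralizer_of_conj_eq fun x hx => ?_
    let z := a * x * a⁻¹ * x⁻¹
    have hz : z ∈ H := H.mul_mem (conj_mem_of_le_normalizer hA ha hx) (H.inv_mem hx)
    let c := x * z * x⁻¹ * z⁻¹
    have hc : c ∈ C := hFC (hcommF (commutator_mem_commutator hx hz))
    have hxp : x ^ p ∈ C := hFC (hpowF x hx)
    have hcx : ∀ y ∈ H, ∀ w ∈ C, Commute y w := fun y hy w hw =>
      (mem_centralizer_iff.mp (h3 hy) w hw).symm
    have hcp : c ^ p = 1 := by
      have := conj_pow_eq (a := x) (h := z) (z := c) (by simp only [c]; group)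
        (by rw [(hcx x hx c hc).eq, mul_inv_cancel_right]) p
      rw [← (hcx z hz _ hxp).eq, mul_inv_cancel_right] at this
      exact mul_eq_right.mp this.symm
    have hzp : z ^ (p * p) = 1 := by
      have e := mul_pow_of_central_commutator (hcx z hz c hc) (hcx x hx c hc)
        (by simp only [c]; group) p
      have e2 : (z * x) ^ p = x ^ p := by
        rw [show z * x = a * x * a⁻¹ by simp only [z]; group, conj_pow,
          mem_centralizer_iff.mp hxp.2 a ha, mul_inv_cancel_right]
      have e3 : c ^ p.choose 2 * z ^ p = 1 := mul_eq_right.mp (e.symm.trans e2)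
      rw [pow_mul, eq_inv_of_mul_eq_one_right e3, inv_pow, ← pow_mul, mul_comm, pow_mul, hcp,
        one_pow, inv_one]
    have hza : a * z * a⁻¹ = z :=
      conj_eq_of_mem_centralizer (hfix z hz hzp ha) (Set.mem_singleton z)
    have := conj_pow_eq (a := a) (h := x) (z := z) (by simp only [z]; group) hza (Nat.card A)
    have hak : a ^ Nat.card A = 1 := congrArg Subtype.val (pow_card_eq_one' (G := A) (x := ⟨a, ha⟩))
    rw [hak, one_mul, inv_one, mul_one, eq_comm, mul_eq_right] at this
    have hz1 : z = 1 := orderOf_eq_one_iff.mp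
      (Nat.eq_one_of_dvd_coprimes (hcop.mul_right hcop) (orderOf_dvd_of_pow_eq_one this)
        (orderOf_dvd_of_pow_eq_one hzp))
    exact mul_inv_eq_one.mp hz1
end Cfsg.Agent.Lib.LocalEven2
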