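import Cfsg.Agent.Lib.LocalEven2.JEndgame
import Cfsg.Agent.S0111

/-!
# Two maximal 2-local subgroups isomorphic to `S₄` in the subgroup generated by odd order elements

Starting from the two maximal 2-local subgroups over a maximal straddling `T`, Thompson transfer
removes the central factor of order two.
-/

set_option autoImplicit false
set_option linter.unusedSectionVars false
set_option linter.style.haveILetI false

namespace Cfsg.Agent.Lib.LocalEven2

variable {G : Type*} [Group G] [Finite G]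

/-- A normal subgroup of index two contains every element of odd order. -/
theorem odd_mem_of_index_two {N : Subgroup G} (hi : N.index = 2) {g : G} (hg : Odd (orderOf g)) :
    g ∈ N := by
  obtain ⟨m, hm⟩ := hg
  have h : g = (g * g) ^ (m + 1) := by
    rw [← pow_two, ← pow_mul, show 2 * (m + 1) = orderOf g + 1 by omega, pow_succ,
      pow_orderOf_eq_one, one_mul]
  rw [h]
  exact pow_mem (Subgroup.mul_self_mem_of_index_two hi g) _

theorem two_group_card_le_eight {R : Subgroup G} (hR : IsPGroup 2 ↥R)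
    (h : Nat.card ↥R ∣ 24) : Nat.card ↥R ≤ 8 := by
  haveI : Fact (Nat.Prime 2) := ⟨Nat.prime_two⟩
  obtain ⟨n, hn⟩ := IsPGroup.iff_card.mp hR
  rw [hn] at h ⊢
  have hle := Nat.le_of_dvd (by norm_num) h
  have hn5 : n ≤ 4 := by
    by_contra hlt
    have := Nat.pow_le_pow_right (show 0 < 2 by norm_num) (Nat.not_le.mp hlt)
    omega
  interval_cases n <;> simp_all

namespace Out

variable {M T K L M' K' L' : Subgroup G} (o : Out M T K L) (o' : Out M' T K' L') (hne : L' ≠ L)
include o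

theorem l_le_normalizer_w (o' : Out M' T K' L') (hne : L' ≠ L) :
    L ≤ Subgroup.normalizer (Cfsg.wOf K : Set G) := by
  obtain ⟨-, -, h⟩ := o.step_eq o' hne o.small.2
  rw [← h]
  exact (sup_le Subgroup.le_normalizer (o.t_le_normalizer o.small.2)).trans
    jc_normalizer_le_normalizer_w

theorem normalizer_w_le : Subgroup.normalizer (Cfsg.wOf K : Set G) ≤ L := by
  have hW1 : Cfsg.wOf K ≠ ⊥ := fun h => by
    have h4 := o.comp.2.2.2.2.1
    rw [h, Subgroup.card_bot] at h4
    norm_num at h4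
  have hloc : Cfsg.IsTwoLocal (Subgroup.normalizer (Cfsg.wOf K : Set G)) :=
    ⟨_, (pCoreOf_isPGroup K).to_le jc_w_le_q, hW1, rfl⟩
  obtain ⟨H, hH, hle⟩ := exists_maximalTwoLocal hloc
  have hKH : K ≤ H := (Subgroup.le_normalizer.trans jc_normalizer_le_normalizer_w).trans hle
  have hJH : Cfsg.thompsonSubgroupOf 2 T ≤ H :=
    (((jc_j_le_normalizer o.comp)).trans jc_normalizer_le_normalizer_w).trans hle
  exact hle.trans (o.unique hH hKH hJH).le

theorem w_le_t : Cfsg.wOf K ≤ T := o.w_le_o.trans o.ctx.o_le_t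

theorem gen_three : ∃ k : G, k ∈ K ∧ k ∈ L ∧ orderOf k = 3 ∧
    ∀ x ∈ Cfsg.wOf K, x ≠ 1 → k * x * k⁻¹ ≠ x := by
  haveI : Fact (Nat.Prime 3) := ⟨Nat.prime_three⟩
  obtain ⟨k, hk, hkK, -⟩ := o.gen
  obtain ⟨w, -, hwW, hw1, -, -⟩ := o.exists_w
  refine ⟨k, hkK, k.2, orderOf_eq_prime ?_ fun h => ?_, fun x hx hx1 => o.ctx.gen_moves hk hx hx1⟩
  · rw [← Subgroup.coe_pow, hk.1, Subgroup.coe_one]
  · exact o.ctx.gen_moves hk hwW hw1 (by rw [h]; group)

include o' hne

theorem l_cases : ∀ {a : G}, a ∈ Cfsg.wOf K → a ≠ 1 → ∀ x ∈ Cfsg.wOf K,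
    x = 1 ∨ ∃ l ∈ L, l * a * l⁻¹ = x := by
  intro a ha ha1 x hx
  obtain ⟨k, hkK, hkL, hk3, hmv⟩ := o.gen_three
  have hkn := o.l_le_normalizer_w o' hne hkL
  have hb := conj_mem_of_normalizer hkn ha
  have hb1 : k * a * k⁻¹ ≠ 1 := fun e => ha1 (conj_eq_one_iff.mp e)
  rcases four_cases o.comp.2.2.2.2.1 o.comp.2.2.2.2.2 ha hb ha1 hb1 (Ne.symm (hmv a ha ha1)) x hx
    with h | h | h | h
  · exact Or.inl h
  · exact Or.inr ⟨1, one_mem _, by rw [h]; group⟩
  · exact Or.inr ⟨k, hkL, h.symm⟩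
  · refine Or.inr ⟨k * k, mul_mem hkL hkL, ?_⟩
    have hk' : k * (k * k) = 1 := by
      rw [← mul_assoc, ← pow_three', ← hk3, pow_orderOf_eq_one]
    have hc := conj_mem_of_normalizer hkn hb
    rcases four_cases o.comp.2.2.2.2.1 o.comp.2.2.2.2.2 ha hb ha1 hb1 (Ne.symm (hmv a ha ha1)) _ hc
      with e | e | e | e
    · exact absurd (conj_eq_one_iff.mp e) hb1
    · refine absurd ?_ (hmv a ha ha1)
      calc k * a * k⁻¹ = k * (k * (k * a * k⁻¹) * k⁻¹) * k⁻¹ := by rw [e]
        _ = (k * (k * k)) * a * (k * (k * k))⁻¹ := by group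
        _ = a := by rw [hk']; group
    · exact absurd e (hmv _ hb hb1)
    · rw [h, ← e]; group

theorem w_ne : Cfsg.wOf K ≠ Cfsg.wOf K' := fun e => by
  have h1 : L' ≤ L := (o'.l_le_normalizer_w o hne.symm).trans (e ▸ o.normalizer_w_le)
  exact hne (o'.max.2 L o.max.1 h1).symm

/-- The centralizer of `W_K` in `L` is the 2-core. -/
theorem cent_w_le {x : G} (hx : x ∈ L) (hxW : x ∈ Subgroup.centralizer (Cfsg.wOf K : Set G)) :
    x ∈ Cfsg.pCoreOf 2 L := by
  obtain ⟨-, -, h⟩ := o.step_eq o' hne o.small.2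
  obtain ⟨φ, -, hker, hiff⟩ := o.exists_step_hom o.small.2
  rw [← h] at hx ⊢
  have := (hiff ⟨x, hx⟩).mpr hxW
  rw [hker] at this
  exact coe_mem_pCoreOf.mpr this

theorem w_not_comm : ¬ Cfsg.wOf K' ≤ Subgroup.centralizer (Cfsg.wOf K : Set G) := by
  intro h
  have hC := o.small.2
  obtain ⟨hc, hcT, -⟩ := o.step_eq o' hne hC
  obtain ⟨-, hcT', -⟩ := o'.step_eq o hne.symm hC
  have h' : Cfsg.wOf K ≤ Subgroup.centralizer (Cfsg.wOf K' : Set G) := fun a ha =>
    mem_cent_iff.mpr fun b hb => (mem_cent_iff.mp (h hb) a ha).symm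
  have hW'O : Cfsg.wOf K' ≤ Cfsg.pCoreOf 2 L := fun b hb =>
    o.cent_w_le o' hne (o.syl.1 (o'.w_le_t hb)) (h hb)
  have hWO' : Cfsg.wOf K ≤ Cfsg.pCoreOf 2 L' := fun a ha =>
    o'.cent_w_le o hne.symm (o'.syl.1 (o.w_le_t ha)) (h' ha)
  have hne' := o.w_ne o' hne
  set D := Cfsg.wOf K ⊔ Cfsg.wOf K' with hD
  have hD4 : 4 < Nat.card ↥D := by
    by_contra hle
    have e1 : Cfsg.wOf K = D := Subgroup.eq_of_le_of_card_ge le_sup_left (by
      rw [o.comp.2.2.2.2.1]; omega)
    have e2 : Cfsg.wOf K' = D := Subgroup.eq_of_le_of_card_ge le_sup_right (by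
      rw [o'.comp.2.2.2.2.1]; omega)
    exact hne' (e1.trans e2.symm)
  have hDO : D ≤ Cfsg.pCoreOf 2 L := sup_le o.w_le_o hW'O
  have hDO' : D ≤ Cfsg.pCoreOf 2 L' := sup_le hWO' o'.w_le_o
  have hd : Nat.card ↥D ∣ Nat.card ↥(Cfsg.pCoreOf 2 L) := Subgroup.card_dvd_of_le hDO
  have h8 : Nat.card ↥(Cfsg.pCoreOf 2 L) = 8 := by
    have := Subgroup.card_le_of_le hDO
    omega
  have hD8 : Nat.card ↥D = 8 := by
    rw [h8] at hd
    obtain ⟨q, hq⟩ := hd
    rcases q with _ | _ | q
    · omega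
    · omega
    · have := Nat.mul_le_mul (Nat.le_of_lt hD4) (show 2 ≤ q + 1 + 1 by omega)
      have := Nat.mul_le_mul (show 5 ≤ Nat.card ↥D by omega) (show 2 ≤ q + 1 + 1 by omega)
      omega
  have e1 : D = Cfsg.pCoreOf 2 L := Subgroup.eq_of_le_of_card_ge hDO (by omega)
  have e2 : D = Cfsg.pCoreOf 2 L' := Subgroup.eq_of_le_of_card_ge hDO' (by omega)
  exact hne (by rw [← normalizer_pCoreOf_of_maximal o'.max, ← e2, e1,
    normalizer_pCoreOf_of_maximal o.max])

/-- `W_K` and `W_{K'}` meet in a central subgroup of order two and generate one of order eight. -/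
theorem exists_z : ∃ z, z ∈ Cfsg.wOf K ∧ z ∈ Cfsg.wOf K' ∧ z ≠ 1 ∧
    (∀ x ∈ Cfsg.wOf K, x ∈ Cfsg.wOf K' → x = 1 ∨ x = z) ∧ (∀ t ∈ T, t * z = z * t) ∧
    Nat.card ↥(Cfsg.wOf K ⊔ Cfsg.wOf K' : Subgroup G) = 8 ∧
    ∀ a ∈ Cfsg.wOf K, ∀ b ∈ Cfsg.wOf K', a * b * a⁻¹ * b⁻¹ = 1 ∨ a * b * a⁻¹ * b⁻¹ = z := by
  set W := Cfsg.wOf K with hW
  set W' := Cfsg.wOf K' with hW'
  have hn : T ≤ Subgroup.normalizer (W : Set G) := o.syl.1.trans (o.l_le_normalizer_w o' hne)
  have hn' : T ≤ Subgroup.normalizer (W' : Set G) := o'.syl.1.trans (o'.l_le_normalizer_w o hne.symm)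
  have hcomm : ∀ a ∈ W, ∀ b ∈ W', a * b * a⁻¹ * b⁻¹ ∈ W ⊓ W' := fun a ha b hb => by
    refine ⟨?_, ?_⟩
    · rw [show a * b * a⁻¹ * b⁻¹ = a * (b * a⁻¹ * b⁻¹) by group]
      exact mul_mem ha (conj_mem_of_normalizer (hn (o'.w_le_t hb)) (inv_mem ha))
    · exact W'.mul_mem (conj_mem_of_normalizer (hn' (o.w_le_t ha)) hb) (W'.inv_mem hb)
  have hinf : W ⊓ W' ≠ ⊥ := fun h => o.w_not_comm o' hne fun b hb => mem_cent_iff.mpr fun a ha => by
    have := Subgroup.mem_bot.mp (h ▸ hcomm a ha b hb)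
    rwa [mul_inv_eq_one, mul_inv_eq_iff_eq_mul] at this
  have h4 : Nat.card ↥W = 4 := o.comp.2.2.2.2.1
  have h4' : Nat.card ↥W' = 4 := o'.comp.2.2.2.2.1
  have h2 : Nat.card ↥(W ⊓ W' : Subgroup G) = 2 := by
    have hd : Nat.card ↥(W ⊓ W' : Subgroup G) ∣ 4 := h4 ▸ Subgroup.card_dvd_of_le inf_le_left
    have h1 : Nat.card ↥(W ⊓ W' : Subgroup G) ≠ 1 := fun h => hinf (Subgroup.card_eq_one.mp h)
    have h4n : Nat.card ↥(W ⊓ W' : Subgroup G) ≠ 4 := fun h => o.w_ne o' hne (by
      have e1 := Subgroup.eq_of_le_of_card_ge (inf_le_left : W ⊓ W' ≤ W) (by omega)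
      have e2 := Subgroup.eq_of_le_of_card_ge (inf_le_right : W ⊓ W' ≤ W') (by omega)
      exact e1.symm.trans e2)
    have hle := Nat.le_of_dvd (by norm_num) hd
    have hpos : 0 < Nat.card ↥(W ⊓ W' : Subgroup G) := Nat.card_pos
    rcases (show Nat.card ↥(W ⊓ W' : Subgroup G) = 2 ∨ Nat.card ↥(W ⊓ W' : Subgroup G) = 3 by omega)
      with h | h
    · exact h
    · rw [h] at hd; norm_num at hd
  obtain ⟨⟨z, hz⟩, hz1⟩ := Subgroup.ne_bot_iff_exists_ne_one.mp hinf
  have hz1' : z ≠ 1 := fun e => hz1 (Subtype.ext e)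
  have huniq : ∀ x ∈ W, x ∈ W' → x = 1 ∨ x = z := by
    intro x hx hx'
    by_contra hcon
    push Not at hcon
    have hle : 2 < Nat.card ↥(W ⊓ W' : Subgroup G) := by
      classical
      have hsub : (({1, z, x} : Finset G) : Set G) ⊆ ((W ⊓ W' : Subgroup G) : Set G) := by
        intro y hy
        simp only [Finset.coe_insert, Finset.coe_singleton, Set.mem_insert_iff,
          Set.mem_singleton_iff] at hy
        rcases hy with rfl | rfl | rfl
        exacts [one_mem _, hz, ⟨hx, hx'⟩]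
      have := Set.ncard_le_ncard hsub (Set.toFinite _)
      rw [Set.ncard_coe_finset, ← Nat.card_coe_set_eq, Finset.card_insert_of_notMem
        (by simp [Ne.symm hz1', Ne.symm hcon.1]), Finset.card_insert_of_notMem
        (by simpa using Ne.symm hcon.2), Finset.card_singleton] at this
      exact this
    omega
  refine ⟨z, hz.1, hz.2, hz1', huniq, fun t ht => ?_, ?_, fun a ha b hb =>
    huniq _ (hcomm a ha b hb).1 (hcomm a ha b hb).2⟩
  · rcases huniq _ (conj_mem_of_normalizer (hn ht) hz.1) (conj_mem_of_normalizer (hn' ht) hz.2)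
      with h | h
    · exact absurd (conj_eq_one_iff.mp h) hz1'
    · calc t * z = (t * z * t⁻¹) * t := by group
        _ = z * t := by rw [h]
  · have h := Cfsg.Agent.Lib.Coprime.card_sup_mul_card_inf (o'.w_le_t.trans hn)
    rw [h2, h4, h4'] at h
    change Nat.card ↥(W ⊔ W' : Subgroup G) * 2 = 4 * 4 at h
    omega

/-- An involution of `⟨W_K, W_{K'}⟩` lies in one of the two. -/
theorem join_invol {y : G} (hy : y ∈ Cfsg.wOf K ⊔ Cfsg.wOf K') (hyy : y * y = 1) :
    y ∈ Cfsg.wOf K ∨ y ∈ Cfsg.wOf K' := by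
  obtain ⟨z, hz, hz', hz1, huniq, hzc, -, hcomm⟩ := o.exists_z o' hne
  have hn : Cfsg.wOf K' ≤ Subgroup.normalizer (Cfsg.wOf K : Set G) :=
    (o'.w_le_t.trans o.syl.1).trans (o.l_le_normalizer_w o' hne)
  rw [← SetLike.mem_coe, Subgroup.coe_mul_of_right_le_normalizer_left _ _ hn] at hy
  obtain ⟨a, ha, b, hb, rfl⟩ := hy
  by_cases haW : a ∈ Cfsg.wOf K'
  · exact Or.inr (mul_mem haW hb)
  by_cases hbW : b ∈ Cfsg.wOf K
  · exact Or.inl (mul_mem ha hbW)
  exfalso
  have hai := inv_eq_of_mul_eq_one_right (o.comp.2.2.2.2.2 a ha)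
  have hbi := inv_eq_of_mul_eq_one_right (o'.comp.2.2.2.2.2 b hb)
  have hab : a * b = b * a := by
    have h1 : (a * b)⁻¹ = a * b := inv_eq_of_mul_eq_one_right hyy
    rw [← h1, mul_inv_rev, hai, hbi]
  refine o.w_not_comm o' hne fun c hc => mem_cent_iff.mpr fun e he => ?_
  have ha1 : a ≠ 1 := fun h => haW (h ▸ one_mem _)
  have hb1 : b ≠ 1 := fun h => hbW (h ▸ one_mem _)
  have hza : z ≠ a := fun h => haW (h ▸ hz')
  have hzb : z ≠ b := fun h => hbW (h ▸ hz)
  have hbz : b * z = z * b := hzc b (o'.w_le_t hb)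
  have haz : a * z = z * a := hzc a (o.w_le_t ha)
  have hbe : Commute b e := by
    rcases four_cases o.comp.2.2.2.2.1 o.comp.2.2.2.2.2 hz ha hz1 ha1 hza e he with h | h | h | h <;>
      subst e
    exacts [Commute.one_right b, hbz, hab.symm, Commute.mul_right hbz hab.symm]
  have hze : Commute z e := (hzc e (o.w_le_t he)).symm
  rcases four_cases o'.comp.2.2.2.2.1 o'.comp.2.2.2.2.2 hz' hb hz1 hb1 hzb c hc with h | h | h | h <;>
    subst c
  exacts [(Commute.one_right e).eq, hze.symm.eq, hbe.symm.eq, (Commute.mul_left hze hbe).symm.eq]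

variable {H : Subgroup G} (hH : H = Subgroup.closure {g : G | Odd (orderOf g)})
include hH

omit o' hne in
theorem k_le_h : K ≤ H := by
  rw [hH, ← o.comp.1]
  exact Subgroup.closure_mono fun g hg => hg.2

omit o' hne in
theorem w_le_h : Cfsg.wOf K ≤ H :=
  (jc_w_le_q.trans (pCoreOf_le K)).trans (o.k_le_h hH)

/-- Transfer: `T ∩ H` is generated by the two four-groups. -/
theorem t_inf_h : T ⊓ H = Cfsg.wOf K ⊔ Cfsg.wOf K' := by
  classical
  haveI : Fact (Nat.Prime 2) := ⟨Nat.prime_two⟩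
  obtain ⟨z, hz, hz', hz1, huniq, hzc, hD8, hcomm⟩ := o.exists_z o' hne
  set W := Cfsg.wOf K with hW
  set W' := Cfsg.wOf K' with hW'
  set D := W ⊔ W' with hD
  have hDT : D ≤ T := sup_le o.w_le_t o'.w_le_t
  refine le_antisymm ?_ (le_inf hDT (sup_le (o.w_le_h hH) (o'.w_le_h hH)))
  have hC := o.small.2
  obtain ⟨hc8, hcT, hLeq⟩ := o.step_eq o' hne hC
  obtain ⟨hc8', hcT', hLeq'⟩ := o'.step_eq o hne.symm hC
  rcases hc8 with h4 | h8
  · exact inf_le_left.trans (Subgroup.eq_of_le_of_card_ge hDT (by omega)).ge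
  set E := Cfsg.pCoreOf 2 L with hE
  set E' := Cfsg.pCoreOf 2 L' with hE'
  have hE8' : Nat.card ↥E' = 8 := by omega
  have hexp : ∀ e ∈ E, e * e = 1 := o.core_exp h8.le
  have hexp' : ∀ e ∈ E', e * e = 1 := o'.core_exp hE8'.le
  have hET : E ≤ T := o.ctx.o_le_t
  have hE'T : E' ≤ T := o'.ctx.o_le_t
  have hEE : E' ≠ E := fun h => hne (by
    rw [← normalizer_pCoreOf_of_maximal o'.max, ← hE', h, normalizer_pCoreOf_of_maximal o.max])
  have hEn : E' ≤ Subgroup.normalizer (E : Set G) :=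
    (hE'T.trans o.syl.1).trans (LocalEven.le_normalizer_pCoreOf L)
  set F := E ⊓ E' with hF
  have hsupT : E ⊔ E' = T := by
    refine Subgroup.eq_of_le_of_card_ge (sup_le hET hE'T) ?_
    by_contra hlt
    have hd : Nat.card ↥(E ⊔ E' : Subgroup G) ∣ 16 := by
      have := Subgroup.card_dvd_of_le (sup_le hET hE'T)
      rwa [← hcT, h8] at this
    obtain ⟨q, hq⟩ := hd
    have hge := Subgroup.card_le_of_le (le_sup_left : E ≤ E ⊔ E')
    rcases q with _ | _ | _ | q
    · omega
    · omega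
    · exact hEE (((Subgroup.eq_of_le_of_card_ge (le_sup_right : E' ≤ E ⊔ E') (by omega))).trans
        (Subgroup.eq_of_le_of_card_ge (le_sup_left : E ≤ E ⊔ E') (by omega)).symm)
    · have := Nat.mul_le_mul hge (show 3 ≤ q + 1 + 1 + 1 by omega)
      omega
  have hF4 : Nat.card ↥F = 4 := by
    have h := Cfsg.Agent.Lib.Coprime.card_sup_mul_card_inf hEn
    rw [hsupT, ← hcT, h8, hE8'] at h
    change 2 * 8 * Nat.card ↥F = 8 * 8 at h
    omega
  have hFT : F ≤ T := inf_le_left.trans hET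
  have hcommE : ∀ {X : Subgroup G}, (∀ e ∈ X, e * e = 1) → ∀ a ∈ X, ∀ b ∈ X, a * b = b * a := by
    intro X hX a ha b hb
    have hinv : ∀ x ∈ X, x⁻¹ = x := fun x hx => inv_eq_of_mul_eq_one_right (hX x hx)
    rw [← hinv _ (mul_mem ha hb), mul_inv_rev, hinv a ha, hinv b hb]
  have hFc : ∀ f ∈ F, ∀ x ∈ T, x * f = f * x := by
    intro f hf x hx
    rw [← hsupT, ← SetLike.mem_coe, Subgroup.coe_mul_of_right_le_normalizer_left _ _ hEn] at hx
    obtain ⟨a, ha, b, hb, rfl⟩ := hx
    show a * b * f = f * (a * b)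
    rw [mul_assoc, hcommE hexp' b hb f hf.2, ← mul_assoc, hcommE hexp a ha f hf.1, mul_assoc]
  have hWD : ¬ W' ≤ Subgroup.centralizer (W : Set G) := o.w_not_comm o' hne
  have hFD : ∀ f ∈ F, f ∈ D → f = 1 ∨ f = z := by
    intro f hf hfD
    rcases o.join_invol o' hne hfD (hexp f hf.1) with h | h
    · by_contra hcon
      push Not at hcon
      refine hWD fun b hb => mem_cent_iff.mpr fun a ha => ?_
      rcases four_cases o.comp.2.2.2.2.1 o.comp.2.2.2.2.2 hz h hz1 hcon.1 hcon.2.symm a ha with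
        rfl | rfl | rfl | rfl
      · simp
      · exact (hzc b (o'.w_le_t hb)).symm
      · exact (hFc a hf b (o'.w_le_t hb)).symm
      · rw [mul_assoc, ← hFc f hf b (o'.w_le_t hb), ← mul_assoc, ← hzc b (o'.w_le_t hb), mul_assoc]
    · by_contra hcon
      push Not at hcon
      refine hWD fun b hb => mem_cent_iff.mpr fun a ha => ?_
      rcases four_cases o'.comp.2.2.2.2.1 o'.comp.2.2.2.2.2 hz' h hz1 hcon.1 hcon.2.symm b hb with
        rfl | rfl | rfl | rfl
      · simp
      · exact hzc a (o.w_le_t ha)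
      · exact hFc b hf a (o.w_le_t ha)
      · rw [← mul_assoc, hzc a (o.w_le_t ha), mul_assoc, hFc f hf a (o.w_le_t ha), ← mul_assoc]
  have hFz : F ≤ z0 T := fun f hf => o.omega_le_z0 (mem_omegaCenterOf_iff.mpr
    ⟨hFT hf, fun y hy => hFc f hf y hy, hexp f hf.1⟩)
  have hzF : z ∈ F := ⟨o.w_le_o hz, o'.w_le_o hz'⟩
  -- an involution attached to `L`
  obtain ⟨c, hcF, hcD, hcK⟩ : ∃ c ∈ F, c ∉ D ∧ c ∈ Subgroup.centralizer (K : Set G) := by
    obtain ⟨x, hx, hx1, hxz⟩ := exists_mem_ne_ne (W := F) (by omega) 1 z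
    have hxD : x ∉ D := fun h => (hFD x hx h).elim hx1 hxz
    obtain ⟨w, hw, hwW, hw1, huq, hK⟩ := o.exists_w
    have hwz : z = w := (huq z (hFz hzF) hz).resolve_left hz1
    rcases hK x (hFz hx) with h | h
    · exact ⟨x, hx, hxD, h⟩
    · refine ⟨x * z, mul_mem hx hzF, fun h' => hxD ?_, hwz ▸ h⟩
      have := mul_mem h' (inv_mem (show z ∈ D from Subgroup.mem_sup_left hz))
      rwa [mul_inv_cancel_right] at this
  have hc1 : c ≠ 1 := fun h => hcD (h ▸ one_mem _)
  have hcc : c * c = 1 := hexp c hcF.1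
  have hcT' : c ∈ T := hFT hcF
  have hcz : c ≠ z := fun h => hcD (h ▸ Subgroup.mem_sup_left hz)
  have hatt : Att L c := o.att (hFz hcF) hc1 hcK
  have hLc : L ≤ Subgroup.centralizer ({c} : Set G) := by
    rw [← hLeq]
    exact sup_le (fun y hy => Subgroup.mem_centralizer_singleton_iff.mpr (mem_cent_iff.mp hcK y hy))
      fun y hy => Subgroup.mem_centralizer_singleton_iff.mpr (hFc c hcF y hy)
  have hidx : D.relIndex T = 2 := by
    have h := Cfsg.Agent.Lib.Coprime.relIndex_mul_card hDT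
    rw [← hcT, h8] at h
    change Nat.card ↥D * D.relIndex T = 2 * 8 at h
    rw [hD8] at h
    omega
  have hTD : ∀ x ∈ T, x ∈ D ∨ c * x ∈ D := by
    intro x hx
    by_cases hxD : x ∈ D
    · exact Or.inl hxD
    exact Or.inr ((Subgroup.mul_mem_iff_of_index_two (H := D.subgroupOf T) hidx (a := ⟨c, hcT'⟩)
      (b := ⟨x, hx⟩)).mpr (iff_of_false hcD hxD))
  -- squares in `T`
  have hsq : ∀ x ∈ T, x * x = 1 ∨ x * x = z := by
    have hD' : ∀ x ∈ D, x * x = 1 ∨ x * x = z := by
      intro x hx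
      have hn : W' ≤ Subgroup.normalizer (W : Set G) :=
        (o'.w_le_t.trans o.syl.1).trans (o.l_le_normalizer_w o' hne)
      rw [hD, ← SetLike.mem_coe, Subgroup.coe_mul_of_right_le_normalizer_left _ _ hn] at hx
      obtain ⟨a, ha, b, hb, rfl⟩ := hx
      have hab : a * b * (a * b) = a * b * a⁻¹ * b⁻¹ := by
        rw [inv_eq_of_mul_eq_one_right (o.comp.2.2.2.2.2 a ha),
          inv_eq_of_mul_eq_one_right (o'.comp.2.2.2.2.2 b hb)]
        group
      show a * b * (a * b) = 1 ∨ a * b * (a * b) = z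
      rw [hab]
      exact hcomm a ha b hb
    intro x hx
    rcases hTD x hx with h | h
    · exact hD' x h
    · have : c * x * (c * x) = x * x := by
        calc c * x * (c * x) = c * (x * c) * x := by group
          _ = (c * c) * (x * x) := by rw [hFc c hcF x hx]; group
          _ = x * x := by rw [hcc, one_mul]
      rw [← this]
      exact hD' _ h
  -- `N(T)` fixes `z`
  have hzfix : ∀ n ∈ Subgroup.normalizer (T : Set G), n * z * n⁻¹ = z := by
    obtain ⟨a, ha, b, hb, hab⟩ : ∃ a ∈ W, ∃ b ∈ W', a * b * a⁻¹ * b⁻¹ = z := by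
      by_contra hcon
      push Not at hcon
      refine hWD fun b hb => mem_cent_iff.mpr fun a ha => ?_
      have := (hcomm a ha b hb).resolve_right (hcon a ha b hb)
      rwa [mul_inv_eq_one, mul_inv_eq_iff_eq_mul] at this
    have hsqz : (a * b) * (a * b) = z := by
      rw [← hab, inv_eq_of_mul_eq_one_right (o.comp.2.2.2.2.2 a ha),
        inv_eq_of_mul_eq_one_right (o'.comp.2.2.2.2.2 b hb)]
      group
    intro n hn
    rcases hsq _ (conj_mem_of_normalizer hn (mul_mem (o.w_le_t ha) (o'.w_le_t hb))) with h | h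
    · refine absurd ?_ hz1
      rw [← hsqz]
      refine conj_eq_one_iff.mp (?_ : n * (a * b * (a * b)) * n⁻¹ = 1)
      rw [← h]; group
    · calc n * z * n⁻¹ = n * (a * b * (a * b)) * n⁻¹ := by rw [hsqz]
        _ = n * (a * b) * n⁻¹ * (n * (a * b) * n⁻¹) := by group
        _ = z := h
  -- no conjugate of `c` lies in `D`
  have hzne : ∀ h : G, h * z * h⁻¹ ≠ c := by
    intro h e
    have hle : T.map (MulAut.conj h).toMonoidHom ≤ L := by
      rintro _ ⟨t, ht, rfl⟩
      refine hatt.1 (Subgroup.mem_centralizer_singleton_iff.mpr ?_)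
      show h * t * h⁻¹ * c = c * (h * t * h⁻¹)
      rw [← e]
      calc h * t * h⁻¹ * (h * z * h⁻¹) = h * (t * z) * h⁻¹ := by group
        _ = h * (z * t) * h⁻¹ := by rw [hzc t ht]
        _ = h * z * h⁻¹ * (h * t * h⁻¹) := by group
    obtain ⟨P, hP⟩ := (isSylowOf_of_sylowTwo o.syl).exists_sylow
    obtain ⟨l, hl, hl'⟩ := Cfsg.Agent.Lib.Involutions.exists_conj_le_sylow_of_le P (o.t_two.map _) hle
    have hn : l * h ∈ Subgroup.normalizer (T : Set G) := by
      refine Subgroup.mem_normalizer_iff_map_conj_eq.mpr (Subgroup.eq_of_le_of_card_ge ?_ ?_)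
      · exact (map_conj_map_conj T l h).symm.trans_le (hl'.trans hP.le)
      · rw [Subgroup.card_map_of_injective (MulAut.conj (l * h)).injective]
    refine hcz ?_
    rw [← hzfix _ hn]
    calc c = (l * c) * l⁻¹ := by
          rw [Subgroup.mem_centralizer_singleton_iff.mp (hLc hl)]; group
      _ = l * h * z * (l * h)⁻¹ := by rw [← e]; group
  have hnotD : ∀ h : G, h * c * h⁻¹ ∉ D := by
    intro h hmem
    have hyy : h * c * h⁻¹ * (h * c * h⁻¹) = 1 := by
      calc h * c * h⁻¹ * (h * c * h⁻¹) = h * (c * c) * h⁻¹ := by group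
        _ = 1 := by rw [hcc]; group
    have hy1 : h * c * h⁻¹ ≠ 1 := fun e => hc1 (conj_eq_one_iff.mp e)
    obtain ⟨l, hl⟩ : ∃ l : G, l * z * l⁻¹ = h * c * h⁻¹ := by
      rcases o.join_invol o' hne hmem hyy with hm | hm
      · obtain ⟨l, -, hl⟩ := (o.l_cases o' hne hz hz1 _ hm).resolve_left hy1
        exact ⟨l, hl⟩
      · obtain ⟨l, -, hl⟩ := (o'.l_cases o hne.symm hz' hz1 _ hm).resolve_left hy1
        exact ⟨l, hl⟩
    refine hzne (h⁻¹ * l) ?_
    calc h⁻¹ * l * z * (h⁻¹ * l)⁻¹ = h⁻¹ * (l * z * l⁻¹) * h := by group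
      _ = c := by rw [hl]; group
  -- a normal subgroup of index two avoiding `c`
  obtain ⟨S, hTS⟩ := o.t_two.exists_le_sylow
  obtain ⟨Q, hQS, hQi, hcQ, hQc⟩ : ∃ Q : Subgroup G, Q ≤ (S : Subgroup G) ∧
      Q.relIndex (S : Subgroup G) = 2 ∧ c ∉ Q ∧ ∀ h : G, h * c * h⁻¹ ∉ Q := by
    rcases lt_or_eq_of_le hTS with hlt | heq
    swap
    · exact ⟨D, hDT.trans heq.le, heq ▸ hidx, hcD, hnotD⟩
    -- large elementary subgroups of `T`
    have hinvolT : ∀ y ∈ T, y * y = 1 → y ∈ E ∨ y ∈ E' := by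
      intro y hy hyy
      rcases hTD y hy with h | h
      · exact (o.join_invol o' hne h hyy).imp (fun h => o.w_le_o h) fun h => o'.w_le_o h
      · have hcyy : c * y * (c * y) = 1 := by
          calc c * y * (c * y) = c * (y * c) * y := by group
            _ = (c * c) * (y * y) := by rw [hFc c hcF y hy]; group
            _ = 1 := by rw [hcc, hyy, one_mul]
        rcases o.join_invol o' hne h hcyy with h' | h'
        · have := E.mul_mem (E.inv_mem hcF.1) (o.w_le_o h')
          rw [inv_mul_cancel_left] at this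
          exact Or.inl this
        · have := E'.mul_mem (E'.inv_mem hcF.2) (o'.w_le_o h')
          rw [inv_mul_cancel_left] at this
          exact Or.inr this
    have hEA : ∀ A : Subgroup G, A ≤ T → (∀ a ∈ A, a * a = 1) → 8 ≤ Nat.card ↥A →
        A = E ∨ A = E' := by
      intro A hA hAe hA8
      by_cases h1 : A ≤ E
      · exact Or.inl (Subgroup.eq_of_le_of_card_ge h1 (by omega))
      refine Or.inr (Subgroup.eq_of_le_of_card_ge (fun a ha => ?_) (by omega))
      obtain ⟨b, hb, hbE⟩ := SetLike.not_le_iff_exists.mp h1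
      have hbE' := (hinvolT b (hA hb) (hAe b hb)).resolve_left hbE
      rcases hinvolT a (hA ha) (hAe a ha) with haE | haE
      · by_contra haE'
        rcases hinvolT _ (hA (mul_mem ha hb)) (hAe _ (mul_mem ha hb)) with h | h
        · exact hbE ((Subgroup.mul_mem_cancel_left _ haE).mp h)
        · exact haE' ((Subgroup.mul_mem_cancel_right _ hbE').mp h)
      · exact haE
    have hfixE : ∀ {E₀ L₀ : Subgroup G}, Cfsg.IsSylowTwoIn T L₀ →
        Subgroup.normalizer (E₀ : Set G) ≤ L₀ → ∀ x, x ∈ Subgroup.normalizer (T : Set G) →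
          (∃ m : ℕ, x ^ 2 ^ m = 1) → E₀.map (MulAut.conj x).toMonoidHom = E₀ → x ∈ T :=
      fun hs hN x hx h2 h => two_elem_mem hs (hN (Subgroup.mem_normalizer_iff_map_conj_eq.mpr h)) hx h2
    have hEN : Subgroup.normalizer (E : Set G) ≤ L := (normalizer_pCoreOf_of_maximal o.max).le
    have hpow : ∀ x ∈ (S : Subgroup G), ∃ m : ℕ, x ^ 2 ^ m = 1 := fun x hx => by
      obtain ⟨m, hm⟩ := S.isPGroup' ⟨x, hx⟩
      exact ⟨m, congrArg Subtype.val hm⟩
    have hswapE : ∀ x ∈ (S : Subgroup G), x ∈ Subgroup.normalizer (T : Set G) → x ∉ T →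
        E.map (MulAut.conj x).toMonoidHom = E' ∧ E'.map (MulAut.conj x).toMonoidHom = E := by
      intro x hx hxn hxT
      have himg : ∀ A : Subgroup G, (A = E ∨ A = E') →
          A.map (MulAut.conj x).toMonoidHom = E ∨ A.map (MulAut.conj x).toMonoidHom = E' := by
        intro A hA
        refine hEA _ ?_ ?_ ?_
        · rw [← Subgroup.mem_normalizer_iff_map_conj_eq.mp hxn]
          exact Subgroup.map_mono (hA.elim (fun h => h ▸ hET) (fun h => h ▸ hE'T))
        · rintro _ ⟨a, ha, rfl⟩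
          rw [← map_mul, show a * a = 1 from
            hA.elim (fun h => hexp a (h ▸ ha)) fun h => hexp' a (h ▸ ha), map_one]
        · rw [Subgroup.card_map_of_injective (MulAut.conj x).injective]
          rcases hA with rfl | rfl <;> omega
      have h1 := (himg E (Or.inl rfl)).resolve_left fun h =>
        hxT (hfixE o.syl hEN x hxn (hpow x hx) h)
      refine ⟨h1, (himg E' (Or.inr rfl)).resolve_right fun h => hEE ?_⟩
      exact (Subgroup.map_injective (MulAut.conj x).injective (h1.trans h.symm)).symm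
    have hcmove : ∀ x ∈ (S : Subgroup G), x ∈ Subgroup.normalizer (T : Set G) → x ∉ T →
        x * c * x⁻¹ = c * z := by
      intro x hx hxn hxT
      obtain ⟨h1, h2⟩ := hswapE x hx hxn hxT
      have hmem : x * c * x⁻¹ ∈ F := ⟨h2.le ⟨c, hcF.2, rfl⟩, h1.le ⟨c, hcF.1, rfl⟩⟩
      rcases four_cases hF4 (fun f hf => hexp f hf.1) hcF hzF hc1 hz1 hcz _ hmem with h | h | h | h
      · exact absurd (conj_eq_one_iff.mp h) hc1
      · refine absurd (two_elem_mem o.syl (hatt.1 ?_) hxn (hpow x hx)) hxT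
        rw [Subgroup.mem_centralizer_singleton_iff]
        calc x * c = (x * c * x⁻¹) * x := by group
          _ = c * x := by rw [h]
      · refine absurd ?_ hcz
        calc c = x⁻¹ * (x * c * x⁻¹) * x := by group
          _ = x⁻¹ * z * x⁻¹⁻¹ := by rw [h]; group
          _ = z := hzfix _ (inv_mem hxn)
      · exact h
    -- `S` normalizes `T`
    set R := (S : Subgroup G) ⊓ Subgroup.normalizer (T : Set G) with hR
    have hEAR : ∀ A : Subgroup G, A ≤ R → (∀ a ∈ A, a * a = 1) → 8 ≤ Nat.card ↥A → A ≤ T := by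
      intro A hA hAe hA8
      intro x hxA
      by_contra hxT
      obtain ⟨h1, h2⟩ := hswapE x (hA hxA).1 (hA hxA).2 hxT
      have hfl : ∀ a ∈ A, a ∉ T → x * a ∈ T := fun a ha haR => by
        refine hfixE o.syl hEN _ (mul_mem (hA hxA).2 (hA ha).2)
          (hpow _ (mul_mem (hA hxA).1 (hA ha).1)) ?_
        rw [← map_conj_map_conj, (hswapE a (hA ha).1 (hA ha).2 haR).1, h2]
      set B := A ⊓ T with hB
      let φ : ↥A → ↥B × Bool := fun a =>
        if h : (a : G) ∈ T then (⟨a, a.2, h⟩, true)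
        else (⟨x * a, mul_mem hxA a.2, hfl a a.2 h⟩, false)
      have hφ : Function.Injective φ := fun p q h => by
        simp only [φ] at h
        split_ifs at h with h1 h2 h2
        · exact Subtype.ext (congrArg (fun t : ↥B × Bool => (t.1 : G)) h)
        · exact absurd (congrArg Prod.snd h) (by simp)
        · exact absurd (congrArg Prod.snd h) (by simp)
        · exact Subtype.ext (mul_left_cancel (congrArg (fun t : ↥B × Bool => (t.1 : G)) h))
      have hcard := Nat.card_le_card_of_injective φ hφ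
      rw [Nat.card_prod, Nat.card_eq_fintype_card (α := Bool), Fintype.card_bool] at hcard
      have hBF : B ≤ F := fun b hb => by
        have hfix : x * b * x⁻¹ = b := by rw [hcommE hAe x hxA b hb.1]; group
        rcases hinvolT b hb.2 (hAe b hb.1) with h | h
        · exact ⟨h, hfix ▸ h1.le ⟨b, h, rfl⟩⟩
        · exact ⟨hfix ▸ h2.le ⟨b, h, rfl⟩, h⟩
      have hBeq : B = F := Subgroup.eq_of_le_of_card_ge hBF (by omega)
      have hxc := hcmove x (hA hxA).1 (hA hxA).2 hxT
      rw [hcommE hAe x hxA c (hBeq.ge hcF).1, mul_inv_cancel_right] at hxc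
      exact hz1 (mul_eq_left.mp hxc.symm)
    have hSR : (S : Subgroup G) ≤ Subgroup.normalizer (T : Set G) := by
      by_contra hnot
      have hRlt : R < (S : Subgroup G) :=
        lt_of_le_of_ne inf_le_left fun h => hnot (h.ge.trans inf_le_right)
      obtain ⟨n, hnS, hnR, hnn⟩ := exists_normalizer_not_mem S.isPGroup' hRlt
      refine hnR ⟨hnS, Subgroup.mem_normalizer_iff_map_conj_eq.mpr
        (Subgroup.eq_of_le_of_card_ge ?_
          (by rw [Subgroup.card_map_of_injective (MulAut.conj n).injective]))⟩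
      have hTR : T ≤ R := le_inf hTS Subgroup.le_normalizer
      have hmapR : R.map (MulAut.conj n).toMonoidHom = R :=
        Subgroup.mem_normalizer_iff_map_conj_eq.mp hnn
      have hpiece : ∀ A : Subgroup G, A ≤ T → (∀ a ∈ A, a * a = 1) → Nat.card ↥A = 8 →
          A.map (MulAut.conj n).toMonoidHom ≤ T := fun A hA hAe hA8 =>
        hEAR _ (hmapR ▸ Subgroup.map_mono (hA.trans hTR))
          (by rintro _ ⟨a, ha, rfl⟩; rw [← map_mul, hAe a ha, map_one])
          (by rw [Subgroup.card_map_of_injective (MulAut.conj n).injective, hA8])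
      rw [← hsupT, Subgroup.map_sup]
      exact (sup_le (hpiece E hET hexp h8) (hpiece E' hE'T hexp' hE8')).trans hsupT.ge
    obtain ⟨g, hgS, hgT⟩ := SetLike.exists_of_lt hlt
    have hgn := hSR hgS
    have hswapW : ∀ x ∈ (S : Subgroup G), x ∉ T →
        W.map (MulAut.conj x).toMonoidHom = W' ∧ W'.map (MulAut.conj x).toMonoidHom = W := by
      intro x hx hxT
      obtain ⟨h1, h2⟩ := hswapE x hx (hSR hx) hxT
      have hLx : L.map (MulAut.conj x).toMonoidHom = L' := by
        calc L.map (MulAut.conj x).toMonoidHom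
            = (Subgroup.normalizer (E : Set G)).map (MulAut.conj x).toMonoidHom :=
              (congrArg (Subgroup.map (MulAut.conj x).toMonoidHom)
                (normalizer_pCoreOf_of_maximal o.max)).symm
          _ = Subgroup.normalizer (E.map (MulAut.conj x).toMonoidHom : Set G) :=
              Subgroup.map_equiv_normalizer_eq E (MulAut.conj x)
          _ = L' := by rw [h1]; exact normalizer_pCoreOf_of_maximal o'.max
      set W₁ := W.map (MulAut.conj x).toMonoidHom with hW₁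
      have hW₁4 : Nat.card ↥W₁ = 4 := by
        rw [hW₁, Subgroup.card_map_of_injective (MulAut.conj x).injective]
        exact o.comp.2.2.2.2.1
      have hW₁n : L' ≤ Subgroup.normalizer (W₁ : Set G) := by
        rw [← hLx]
        exact (Subgroup.map_mono (o.l_le_normalizer_w o' hne)).trans
          (Subgroup.map_equiv_normalizer_eq W (MulAut.conj x)).le
      have hW₁E : W₁ ≤ E' := h1 ▸ Subgroup.map_mono o.w_le_o
      have hmeet : W₁ ⊓ W' ≠ ⊥ := fun hbot => by
        have h := Cfsg.Agent.Lib.Coprime.card_sup_mul_card_inf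
          ((o'.w_le_t.trans o'.syl.1).trans hW₁n)
        rw [hbot, Subgroup.card_bot, mul_one, hW₁4, o'.comp.2.2.2.2.1] at h
        change Nat.card ↥(W₁ ⊔ W' : Subgroup G) = 4 * 4 at h
        have := Subgroup.card_le_of_le (sup_le hW₁E o'.w_le_o : W₁ ⊔ W' ≤ E')
        omega
      obtain ⟨⟨u, hu⟩, hu1⟩ := Subgroup.ne_bot_iff_exists_ne_one.mp hmeet
      have hle : W' ≤ W₁ := fun v hv => by
        rcases o'.l_cases o hne.symm hu.2 (fun e => hu1 (Subtype.ext e)) v hv with rfl | ⟨l, hl, rfl⟩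
        · exact one_mem _
        · exact conj_mem_of_normalizer (hW₁n hl) hu.1
      have hfst : W₁ = W' := (Subgroup.eq_of_le_of_card_ge hle (by
        rw [hW₁4, o'.comp.2.2.2.2.1])).symm
      refine ⟨hfst, ?_⟩
      have hxx : x * x ∈ T := hfixE o.syl hEN _ (mul_mem (hSR hx) (hSR hx)) (hpow _ (mul_mem hx hx))
        (by rw [← map_conj_map_conj, h1, h2])
      rw [← hfst, hW₁, map_conj_map_conj]
      exact Subgroup.mem_normalizer_iff_map_conj_eq.mp
        (o.l_le_normalizer_w o' hne (o.syl.1 hxx))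
    have hDn : ∀ x ∈ (S : Subgroup G), x ∉ T → ∀ d ∈ D, x * d * x⁻¹ ∈ D := by
      intro x hx hxT d hd
      obtain ⟨h1, h2⟩ := hswapW x hx hxT
      have : D.map (MulAut.conj x).toMonoidHom = D := by
        rw [hD, Subgroup.map_sup, h1, h2, sup_comm]
      exact this.le ⟨d, hd, rfl⟩
    -- the two possible twists
    have hnW : W' ≤ Subgroup.normalizer (W : Set G) :=
      (o'.w_le_t.trans o.syl.1).trans (o.l_le_normalizer_w o' hne)
    have hzz : z * z = 1 := o.comp.2.2.2.2.2 z hz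
    have hzi : z⁻¹ = z := inv_eq_of_mul_eq_one_right hzz
    have htwist : ∀ x ∈ (S : Subgroup G), x ∉ T → ∀ d ∈ D,
        (x * d * x⁻¹ = d ∧ (d * d = 1 ∧ d ∈ W ∧ d ∈ W')) ∨
        ((d ∈ W ∧ d ∉ W' ∧ x * d * x⁻¹ ∈ W') ∨ (d ∈ W' ∧ d ∉ W ∧ x * d * x⁻¹ ∈ W)) ∨
        (d * d = z ∧ ∃ a ∈ W, a ∉ W' ∧ (d * a * d⁻¹ = z * a) ∧
          (x * x * a * (x * x)⁻¹ = a → x * d * x⁻¹ = z * d) ∧
          (x * x * a * (x * x)⁻¹ = z * a → x * d * x⁻¹ = d)) := by
      intro x hx hxT d hd
      obtain ⟨h1, h2⟩ := hswapW x hx hxT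
      have hxz := hzfix x (hSR hx)
      rw [hD, ← SetLike.mem_coe, Subgroup.coe_mul_of_right_le_normalizer_left _ _ hnW] at hd
      obtain ⟨a, ha, b, hb, rfl⟩ := hd
      show (x * (a * b) * x⁻¹ = a * b ∧ _) ∨ _
      by_cases hin : a * b ∈ W
      · by_cases hin' : a * b ∈ W'
        · refine Or.inl ⟨?_, o.comp.2.2.2.2.2 _ hin, hin, hin'⟩
          rcases huniq _ hin hin' with h | h
          · rw [h]; group
          · rw [h, hxz]
        · exact Or.inr (Or.inl (Or.inl ⟨hin, hin', h1.le ⟨_, hin, rfl⟩⟩))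
      by_cases hin' : a * b ∈ W'
      · exact Or.inr (Or.inl (Or.inr ⟨hin', hin, h2.le ⟨_, hin', rfl⟩⟩))
      have haW : a ∉ W' := fun h => hin' (mul_mem h hb)
      have hbW : b ∉ W := fun h => hin (mul_mem ha h)
      have ha1 : a ≠ 1 := fun h => haW (h ▸ one_mem _)
      have hb1 : b ≠ 1 := fun h => hbW (h ▸ one_mem _)
      have hza : z * a = a * z := (hzc a (o.w_le_t ha)).symm
      have hzb : z * b = b * z := (hzc b (o'.w_le_t hb)).symm
      have hai := inv_eq_of_mul_eq_one_right (o.comp.2.2.2.2.2 a ha)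
      have hbi := inv_eq_of_mul_eq_one_right (o'.comp.2.2.2.2.2 b hb)
      have hnc : a * b * a⁻¹ * b⁻¹ = z := by
        refine (hcomm a ha b hb).resolve_left fun h => ?_
        rw [mul_inv_eq_one, mul_inv_eq_iff_eq_mul] at h
        refine hWD fun c hc => mem_cent_iff.mpr fun e he => ?_
        have hza' : z ≠ a := fun h => haW (h ▸ hz')
        have hzb' : z ≠ b := fun h => hbW (h ▸ hz)
        have hbe : Commute b e := by
          rcases four_cases o.comp.2.2.2.2.1 o.comp.2.2.2.2.2 hz ha hz1 ha1 hza' e he with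
            rfl | rfl | rfl | rfl
          exacts [Commute.one_right b, hzb.symm, h.symm, Commute.mul_right hzb.symm h.symm]
        have hze : Commute z e := (hzc e (o.w_le_t he)).symm
        rcases four_cases o'.comp.2.2.2.2.1 o'.comp.2.2.2.2.2 hz' hb hz1 hb1 hzb' c hc with
          rfl | rfl | rfl | rfl
        exacts [(Commute.one_right e).eq, hze.symm.eq, hbe.symm.eq,
          (Commute.mul_left hze hbe).symm.eq]
      have hba : b * a = z * (a * b) := by
        have e : z * (b * a) = a * b := by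
          calc z * (b * a) = a * b * a⁻¹ * b⁻¹ * (b * a) := by rw [hnc]
            _ = a * b := by group
        rw [← e, ← mul_assoc, hzz, one_mul]
      have hdd : a * b * (a * b) = z := by
        rw [← hnc, hai, hbi]; group
      refine Or.inr (Or.inr ⟨hdd, a, ha, haW, ?_, ?_⟩)
      · calc a * b * a * (a * b)⁻¹ = a * b * a * b⁻¹ * a⁻¹ := by group
          _ = a * b * a⁻¹ * b⁻¹ * a := by rw [hai]
          _ = z * a := by rw [hnc]
      set b' := x * a * x⁻¹ with hb'
      have hb'W : b' ∈ W' := h1.le ⟨a, ha, rfl⟩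
      have hb'1 : b' ≠ 1 := fun e => ha1 (conj_eq_one_iff.mp e)
      have hb'z : b' ≠ z := fun e => haW (by
        have hzx : a = z := by
          calc a = x⁻¹ * (x * a * x⁻¹) * x⁻¹⁻¹ := by group
            _ = z := by rw [← hb', e]; exact hzfix _ (inv_mem (hSR hx))
        rw [hzx]; exact hz')
      have hb'cases : b' = b ∨ b' = z * b := by
        rcases four_cases o'.comp.2.2.2.2.1 o'.comp.2.2.2.2.2 hz' hb hz1 hb1
          (fun h => hbW (h ▸ hz)) b' hb'W with h | h | h | h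
        · exact absurd h hb'1
        · exact absurd h hb'z
        · exact Or.inl h
        · exact Or.inr h
      have himg : x * b' * x⁻¹ = x * x * a * (x * x)⁻¹ := by rw [hb']; group
      have hxb : ∀ v, x * x * a * (x * x)⁻¹ = v →
          x * b * x⁻¹ = v ∧ b' = b ∨ x * b * x⁻¹ = z * v ∧ b' = z * b := by
        intro v hv
        rcases hb'cases with h | h
        · exact Or.inl ⟨by rw [← h, himg, hv], h⟩
        · refine Or.inr ⟨?_, h⟩
          have : b = z * b' := by rw [h, ← mul_assoc, hzz, one_mul]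
          calc x * b * x⁻¹ = (x * z * x⁻¹) * (x * b' * x⁻¹) := by rw [this]; group
            _ = z * v := by rw [hxz, himg, hv]
      have hsplit : x * (a * b) * x⁻¹ = b' * (x * b * x⁻¹) := by rw [hb']; group
      refine ⟨fun hv => ?_, fun hv => ?_⟩ <;> rw [hsplit] <;> rcases hxb _ hv with ⟨e1, e2⟩ | ⟨e1, e2⟩ <;>
        rw [e1, e2]
      · exact hba
      · calc z * b * (z * a) = z * (b * z) * a := by group
          _ = (z * z) * (b * a) := by rw [← hzb]; group
          _ = z * (a * b) := by rw [hzz, one_mul, hba]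
      · calc b * (z * a) = (b * z) * a := by group
          _ = z * (b * a) := by rw [← hzb]; group
          _ = a * b := by rw [hba, ← mul_assoc, hzz, one_mul]
      · calc z * b * (z * (z * a)) = z * b * ((z * z) * a) := by group
          _ = z * (b * a) := by rw [hzz, one_mul, mul_assoc]
          _ = a * b := by rw [hba, ← mul_assoc, hzz, one_mul]
    have hgg : ∀ x ∈ (S : Subgroup G), x ∉ T → x * x ∈ D := by
      intro x hx hxT
      obtain ⟨h1, h2⟩ := hswapE x hx (hSR hx) hxT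
      have hxx : x * x ∈ T := hfixE o.syl hEN _ (mul_mem (hSR hx) (hSR hx)) (hpow _ (mul_mem hx hx))
        (by rw [← map_conj_map_conj, h1, h2])
      rcases hTD _ hxx with h | h
      · exact h
      exfalso
      set d := c * (x * x) with hd
      have hxd : x * d * x⁻¹ = z * d := by
        calc x * d * x⁻¹ = (x * c * x⁻¹) * (x * x) := by rw [hd]; group
          _ = z * c * (x * x) := by rw [hcmove x hx (hSR hx) hxT, (hFc z hzF c hcT').symm]
          _ = z * d := by rw [hd]; group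
      rcases htwist x hx hxT d h with ⟨e, -⟩ | (⟨hdW, hdW', e⟩ | ⟨hdW', hdW, e⟩) | ⟨-, a, ha, -, hda, -, e⟩
      · exact hz1 (mul_eq_right.mp (hxd.symm.trans e))
      · rw [hxd] at e
        exact hdW' ((Subgroup.mul_mem_cancel_left _ hz').mp e)
      · rw [hxd] at e
        exact hdW ((Subgroup.mul_mem_cancel_left _ hz).mp e)
      · have hxxd : x * x = c * d := by rw [hd, ← mul_assoc, hcc, one_mul]
        have hmove : x * x * a * (x * x)⁻¹ = z * a := by
          rw [hxxd, ← hda]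
          calc c * d * a * (c * d)⁻¹ = c * (d * a * d⁻¹) * c⁻¹ := by group
            _ = d * a * d⁻¹ := by
              rw [hda, ← hFc c hcF _ (mul_mem (hFT hzF) (o.w_le_t ha)), mul_inv_cancel_right]
        exact hz1 (mul_eq_right.mp (hxd.symm.trans (e hmove)))
    have hno : ∀ y ∈ (S : Subgroup G), y ∉ T → y * y = 1 → ∀ d ∈ D,
        y * c * d * (y * c * d) ≠ 1 := by
      intro y hy hyT hyy d hd he
      have hyi : y⁻¹ = y := inv_eq_of_mul_eq_one_right hyy
      have hkey : (y * d * y⁻¹) * d = z := by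
        have hyd : y * d * y⁻¹ ∈ T := hDT (hDn y hy hyT d hd)
        have e1 : z * ((y * d * y⁻¹) * d) = 1 := by
          rw [← he]
          calc z * ((y * d * y⁻¹) * d) = (c * c) * z * ((y * d * y⁻¹) * d) := by rw [hcc, one_mul]
            _ = c * z * (c * (y * d * y⁻¹)) * d := by
                rw [show c * c * z = c * z * c from
                  (mul_assoc c c z).trans ((congrArg (c * ·) (hzc c hcT')).trans (mul_assoc c z c).symm)]
                group
            _ = (y * c * y⁻¹) * ((y * d * y⁻¹) * c) * d := by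
                rw [hcmove y hy (hSR hy) hyT, ← hFc c hcF _ hyd]
            _ = y * c * (d * y⁻¹) * c * d := by group
            _ = y * c * d * (y * c * d) := by rw [hyi]; group
        rw [← hzi]; exact eq_inv_of_mul_eq_one_right e1
      rcases htwist y hy hyT d hd with ⟨e, hdd, -⟩ | (⟨hdW, hdW', e⟩ | ⟨hdW', hdW, e⟩) | ⟨hdd, a, -, -, -, e, -⟩
      · rw [e, hdd] at hkey
        exact hz1 hkey.symm
      · refine hdW' ?_
        rw [show d = (y * d * y⁻¹)⁻¹ * z by rw [← hkey]; group]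
        exact mul_mem (inv_mem e) hz'
      · refine hdW ?_
        rw [show d = (y * d * y⁻¹)⁻¹ * z by rw [← hkey]; group]
        exact mul_mem (inv_mem e) hz
      · rw [e (by rw [hyy]; group), mul_assoc, hdd, hzz] at hkey
        exact hz1 hkey.symm
    -- the coset without involutions
    obtain ⟨g', hg'S, hg'T, hg'⟩ : ∃ g' ∈ (S : Subgroup G), g' ∉ T ∧
        ∀ d ∈ D, g' * d * (g' * d) ≠ 1 := by
      by_cases hex : ∃ d ∈ D, g * d * (g * d) = 1
      · obtain ⟨d, hd, hyy⟩ := hex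
        set y := g * d with hy
        have hyS : y ∈ (S : Subgroup G) := mul_mem hgS (hTS (hDT hd))
        have hyT : y ∉ T := fun h => hgT (by
          have := mul_mem h (inv_mem (hDT hd))
          rwa [hy, mul_inv_cancel_right] at this)
        refine ⟨y * c, mul_mem hyS (hTS hcT'), fun h => hyT (by
          have := mul_mem h (inv_mem hcT')
          rwa [mul_inv_cancel_right] at this), fun d hd => hno y hyS hyT hyy d hd⟩
      · push Not at hex
        exact ⟨g, hgS, hgT, hex⟩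
    have hg2 := hgg g' hg'S hg'T
    have hconj : ∀ d ∈ D, g'⁻¹ * d * g' ∈ D := fun d hd => by
      have := hDn g'⁻¹ (inv_mem hg'S) (fun h => hg'T (inv_mem_iff.mp h)) d hd
      rwa [inv_inv] at this
    let Q : Subgroup G :=
      { carrier := {x | x ∈ D ∨ g'⁻¹ * x ∈ D}
        one_mem' := Or.inl (one_mem _)
        mul_mem' := by
          rintro p q (hp | hp) (hq | hq)
          · exact Or.inl (mul_mem hp hq)
          · refine Or.inr ?_
            rw [show g'⁻¹ * (p * q) = (g'⁻¹ * p * g') * (g'⁻¹ * q) by group]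
            exact mul_mem (hconj p hp) hq
          · refine Or.inr ?_
            rw [← mul_assoc]
            exact mul_mem hp hq
          · refine Or.inl ?_
            rw [show p * q = (g' * g') * (g'⁻¹ * (g'⁻¹ * p) * g') * (g'⁻¹ * q) by group]
            exact mul_mem (mul_mem hg2 (hconj _ hp)) hq
        inv_mem' := by
          rintro p (hp | hp)
          · exact Or.inl (inv_mem hp)
          · refine Or.inr ?_
            rw [show g'⁻¹ * p⁻¹ = g'⁻¹ * (g'⁻¹ * p)⁻¹ * g' * (g' * g')⁻¹ by group]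
            exact mul_mem (hconj _ (inv_mem hp)) (inv_mem hg2) }
    have hcQ : c ∉ Q := by
      rintro (h | h)
      · exact hcD h
      · refine hg'T ?_
        have := mul_mem hcT' (inv_mem (hDT h))
        rwa [mul_inv_rev, inv_inv, mul_inv_cancel_left] at this
    refine ⟨Q, ?_, ?_, hcQ, fun h hmem => ?_⟩
    · rintro x (hx | hx)
      · exact hTS (hDT hx)
      · have := mul_mem hg'S (hTS (hDT hx))
        rwa [mul_inv_cancel_left] at this
    · rw [Subgroup.relIndex_eq_two_iff_exists_notMem_and]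
      refine ⟨c, hTS hcT', hcQ, fun b hb => ?_⟩
      by_cases hbT : b ∈ T
      · rcases hTD b hbT with h | h
        · exact Or.inr (Or.inl h)
        · exact Or.inl (Or.inl (by rwa [hFc c hcF b hbT]))
      · have hmem : g'⁻¹ * b ∈ T := by
          refine hfixE o.syl hEN _ (mul_mem (inv_mem (hSR hg'S)) (hSR hb))
            (hpow _ (mul_mem (inv_mem hg'S) hb)) ?_
          rw [← map_conj_map_conj, (hswapE b hb (hSR hb) hbT).1]
          exact (hswapE g'⁻¹ (inv_mem hg'S) (inv_mem (hSR hg'S))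
            fun h => hg'T (inv_mem_iff.mp h)).2
        rcases hTD _ hmem with h | h
        · exact Or.inr (Or.inr h)
        · refine Or.inl (Or.inr ?_)
          rw [← mul_assoc]
          rwa [hFc c hcF _ hmem]
    · rcases hmem with hm | hm
      · exact hnotD h hm
      · refine hg' _ hm ?_
        rw [mul_inv_cancel_left]
        calc h * c * h⁻¹ * (h * c * h⁻¹) = h * (c * c) * h⁻¹ := by group
          _ = 1 := by rw [hcc]; group
  obtain ⟨N, hNn, hNi, hcN⟩ :=
    (Cfsg.Agent.S0111.result S Q hQS hQi c (orderOf_eq_prime (by rw [pow_two, hcc]) hc1) (hTS hcT') hcQ)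
      |>.resolve_right fun ⟨h, hh⟩ => hQc h hh
  have hHN : H ≤ N := by
    rw [hH, Subgroup.closure_le]
    exact fun g hg => odd_mem_of_index_two hNi hg
  intro x hx
  refine (hTD x hx.1).resolve_right fun h => hcN (hHN ?_)
  have := mul_mem ((sup_le (o.w_le_h hH) (o'.w_le_h hH) : D ≤ H) h) (inv_mem hx.2)
  rwa [mul_inv_cancel_right] at this

/-- `L ∩ H` is isomorphic to `S₄`. -/
theorem step_iso : Nonempty (↥(L ⊓ H) ≃* Equiv.Perm (Fin 4)) := by
  haveI : Fact (Nat.Prime 2) := ⟨Nat.prime_two⟩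
  have hC := o.small.2
  obtain ⟨hc8, hcT, hLeq⟩ := o.step_eq o' hne hC
  have hTH := o.t_inf_h o' hne hH
  obtain ⟨z, -, -, -, -, -, hD8, -⟩ := o.exists_z o' hne
  have h24 : Nat.card (Equiv.Perm (Fin 4)) = 24 := by rw [Nat.card_perm, Nat.card_fin]; rfl
  have hL3 := o.card_step hC
  rcases o.amalgam o' hne hC with ⟨⟨a⟩, -⟩ | ⟨⟨a⟩, -⟩
  · have hcard := (Nat.card_congr a.toEquiv).trans h24
    have hTle : T ≤ H := by
      have : T ⊓ H = T := Subgroup.eq_of_le_of_card_ge inf_le_left (by rw [hTH, hD8]; omega)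
      exact inf_eq_left.mp this
    have hLH : L ⊓ H = K ⊔ T := by
      rw [← hLeq]; exact inf_eq_left.mpr (sup_le (o.k_le_h hH) hTle)
    exact ⟨(MulEquiv.subgroupCongr hLH).trans a⟩
  · have hle : L ⊓ H ≤ K ⊔ T := inf_le_left.trans hLeq.ge
    let f : ↥(L ⊓ H) →* Equiv.Perm (Fin 4) :=
      (MonoidHom.snd (Multiplicative (ZMod 2)) (Equiv.Perm (Fin 4))).comp
        (a.toMonoidHom.comp (Subgroup.inclusion hle))
    have hinj : Function.Injective f := by
      rw [injective_iff_map_eq_one]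
      intro x hx
      have hcentral : ∀ y : ↥(K ⊔ T), Subgroup.inclusion hle x * y = y * Subgroup.inclusion hle x := by
        intro y
        apply a.injective
        rw [map_mul, map_mul]
        refine Prod.ext (mul_comm _ _) ?_
        change (a (Subgroup.inclusion hle x)).2 = 1 at hx
        simp [hx]
      have hxc : ∀ y ∈ K ⊔ T, (x : G) * y = y * x := fun y hy =>
        congrArg Subtype.val (hcentral ⟨y, hy⟩)
      have hxO : (x : G) ∈ Cfsg.pCoreOf 2 L := o.ctx.charp (mem_cent_iff.mpr fun y hy =>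
        (hxc y (hLeq.ge (LocalEven.pCoreOf_le L hy))).symm)
      have hxD : (x : G) ∈ Cfsg.wOf K ⊔ Cfsg.wOf K' := hTH.le ⟨o.ctx.o_le_t hxO, x.2.2⟩
      have hxW : (x : G) ∈ Cfsg.wOf K := by
        set W := Cfsg.wOf K with hW
        set I := (W ⊔ Cfsg.wOf K') ⊓ Cfsg.pCoreOf 2 L with hI
        have hWI : W ≤ I := le_inf le_sup_left o.w_le_o
        have hd : Nat.card ↥I ∣ 8 := hD8 ▸ Subgroup.card_dvd_of_le inf_le_left
        have h4 : 4 ∣ Nat.card ↥I := by
          have := Subgroup.card_dvd_of_le hWI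
          rwa [show Nat.card ↥W = 4 from o.comp.2.2.2.2.1] at this
        have hne8 : Nat.card ↥I ≠ 8 := fun h => o.w_not_comm o' hne fun b hb => by
          have e : I = W ⊔ Cfsg.wOf K' := Subgroup.eq_of_le_of_card_ge inf_le_left (by omega)
          have hbO : b ∈ Cfsg.pCoreOf 2 L := (e.ge (Subgroup.mem_sup_right hb)).2
          refine mem_cent_iff.mpr fun v hv => ?_
          obtain ⟨k, hk, -, -⟩ := o.gen
          have := o.ctx.o_fix_v hbO (o.ctx.block_le_v (o.ctx.gen_isBlock hk) hv)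
          calc v * b = (b * v * b⁻¹) * b := by rw [this]
            _ = b * v := by group
        have hle8 := Nat.le_of_dvd (by norm_num) hd
        have hpos : 0 < Nat.card ↥I := Nat.card_pos
        have e : W = I := Subgroup.eq_of_le_of_card_ge hWI (by
          rw [show Nat.card ↥W = 4 from o.comp.2.2.2.2.1]
          obtain ⟨q, hq⟩ := h4
          omega)
        exact e.ge ⟨hxD, hxO⟩
      by_contra hx1
      exact o.w_not_cent hxW (fun e => hx1 (Subtype.ext e))
        (mem_cent_iff.mpr fun y hy => (hxc y (Subgroup.mem_sup_left hy)).symm)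
    have hbij : Function.Bijective f := by
      refine (Nat.bijective_iff_injective_and_card f).mpr ⟨hinj, le_antisymm
        (Nat.card_le_card_of_injective f hinj) ?_⟩
      rw [h24]
      refine Nat.le_of_dvd Nat.card_pos ?_
      obtain ⟨k, hkK, hkL, hk3, -⟩ := o.gen_three
      have h8 : 8 ∣ Nat.card ↥(L ⊓ H) := hD8 ▸ Subgroup.card_dvd_of_le (le_inf
        (sup_le (o.w_le_t.trans o.syl.1) (o'.w_le_t.trans o.syl.1))
        (sup_le (o.w_le_h hH) (o'.w_le_h hH)))
      have h3 : 3 ∣ Nat.card ↥(L ⊓ H) :=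
        hk3 ▸ Subgroup.orderOf_dvd_natCard _ ⟨hkL, o.k_le_h hH hkK⟩
      exact Nat.Coprime.mul_dvd_of_dvd_of_dvd (by norm_num : Nat.Coprime 8 3) h8 h3
    exact ⟨MulEquiv.ofBijective f hbij⟩

/-- `L ∩ H` is a maximal 2-local subgroup of `H`. -/
theorem step_max : Cfsg.IsMaximalTwoLocal (L.subgroupOf H) := by
  haveI : Fact (Nat.Prime 2) := ⟨Nat.prime_two⟩
  obtain ⟨iso⟩ := o.step_iso o' hne hH
  have h24 : Nat.card ↥(L ⊓ H) = 24 := (Nat.card_congr iso.toEquiv).trans (by
    rw [Nat.card_perm, Nat.card_fin]; rfl)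
  obtain ⟨z, hz, hz', hz1, huniq, hzc, hD8, hcomm⟩ := o.exists_z o' hne
  set W := Cfsg.wOf K with hW
  set W' := Cfsg.wOf K' with hW'
  set D := W ⊔ W' with hD
  have hDLH : D ≤ L ⊓ H := le_inf (sup_le (o.w_le_t.trans o.syl.1) (o'.w_le_t.trans o.syl.1))
    (sup_le (o.w_le_h hH) (o'.w_le_h hH))
  have hD2 : IsPGroup 2 ↥D := o.t_two.to_le (sup_le o.w_le_t o'.w_le_t)
  have hWH : W ≤ H := o.w_le_h hH
  have hW2 : IsPGroup 2 ↥W := o.t_two.to_le o.w_le_t
  have h4 : Nat.card ↥W = 4 := o.comp.2.2.2.2.1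
  have hW1 : W ≠ ⊥ := fun h => by rw [h, Subgroup.card_bot] at h4; norm_num at h4
  have hNW : Subgroup.normalizer (W : Set G) = L :=
    le_antisymm o.normalizer_w_le (o.l_le_normalizer_w o' hne)
  refine ⟨⟨W.subgroupOf H, hW2.comap_subtype, fun h => hW1 ?_, ?_⟩, ?_⟩
  · rw [← Subgroup.map_subgroupOf_eq_of_le hWH, h, Subgroup.map_bot]
  · rw [← Subgroup.subgroupOf_normalizer_eq hWH, hNW]
  rintro N ⟨R', hR', hR'1, rfl⟩ hle
  set R := R'.map H.subtype with hR
  have hRH : R ≤ H := Subgroup.map_subtype_le _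
  have hR2 : IsPGroup 2 ↥R := hR'.map _
  have hR1 : R ≠ ⊥ := fun h => hR'1 ((Subgroup.map_eq_bot_iff_of_injective _ H.subtype_injective).mp h)
  have hnorm : L ⊓ H ≤ Subgroup.normalizer (R : Set G) := fun l hl =>
    Subgroup.le_normalizer_map _ ⟨⟨l, hl.2⟩, hle (show (⟨l, hl.2⟩ : ↥H) ∈ L.subgroupOf H from hl.1), rfl⟩
  set R0 := R ⊓ L with hR0
  have hR0LH : R0 ≤ L ⊓ H := le_inf inf_le_right (inf_le_left.trans hRH)
  have hR0n : L ⊓ H ≤ Subgroup.normalizer (R0 : Set G) := fun l hl =>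
    mem_normalizer_of_map_le fun r hr =>
      ⟨conj_mem_of_normalizer (hnorm hl) hr.1, L.mul_mem (L.mul_mem hl.1 hr.2) (L.inv_mem hl.1)⟩
  have hR02 : IsPGroup 2 ↥R0 := hR2.to_le inf_le_left
  -- `R ∩ L` lies in `D`
  have hR0D : R0 ≤ D := by
    have hp : IsPGroup 2 ↥(R0 ⊔ D) := hR02.to_sup_of_normal_left' hD2 (hDLH.trans hR0n)
    have hle8 : Nat.card ↥(R0 ⊔ D : Subgroup G) ≤ 8 :=
      two_group_card_le_eight hp (h24 ▸ Subgroup.card_dvd_of_le (sup_le hR0LH hDLH))
    have e : D = R0 ⊔ D := Subgroup.eq_of_le_of_card_ge le_sup_right (by omega)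
    exact le_sup_left.trans e.ge
  have hWLH : W ≤ L ⊓ H := le_sup_left.trans hDLH
  -- it is nontrivial
  have hR01 : R0 ≠ ⊥ := by
    have hWR : W ≤ Subgroup.normalizer (R : Set G) := hWLH.trans hnorm
    have hp : IsPGroup 2 ↥(R ⊔ W) := hR2.to_sup_of_normal_left' hW2 hWR
    obtain ⟨r, hr, hr1, hrc⟩ := exists_central_mod hp (le_sup_left : R ≤ R ⊔ W) bot_le
      (fun h => hR1 (le_bot_iff.mp h))
      (fun t _ => mem_normalizer_of_map_le fun x hx => by
        rw [Subgroup.mem_bot] at hx ⊢; rw [hx]; group)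
      (sup_le Subgroup.le_normalizer hWR)
    intro h
    refine hr1 ?_
    have hrL : r ∈ L := by
      refine hNW.le (mem_normalizer_of_map_le fun w hw => ?_)
      have := Subgroup.mem_bot.mp (hrc w (Subgroup.mem_sup_right hw))
      rw [mul_inv_eq_one] at this
      rw [this]
      exact hw
    exact h ▸ (⟨hr, hrL⟩ : r ∈ R0)
  obtain ⟨k, hkK, hkL, hk3, hkmv⟩ := o.gen_three
  have hkLH : k ∈ L ⊓ H := ⟨hkL, o.k_le_h hH hkK⟩
  have hkR0 : k ∈ Subgroup.normalizer (R0 : Set G) := hR0n hkLH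
  have hWn : L ≤ Subgroup.normalizer (W : Set G) := hNW.ge
  -- it contains `W`
  have hmeet : R0 ⊓ W ≠ ⊥ := fun hbot => by
    refine hR01 (le_bot_iff.mp fun r hr => hbot.le ⟨hr, ?_⟩)
    have hrO : r ∈ Cfsg.pCoreOf 2 L := by
      refine o.cent_w_le o' hne hr.2 (mem_cent_iff.mpr fun w hw => ?_)
      have hm : w * r * w⁻¹ * r⁻¹ ∈ R0 ⊓ W := ⟨R0.mul_mem (conj_mem_of_normalizer
        (hR0n (hWLH hw)) hr) (R0.inv_mem hr), by
          rw [show w * r * w⁻¹ * r⁻¹ = w * (r * w⁻¹ * r⁻¹) by group]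
          exact mul_mem hw (conj_mem_of_normalizer (hWn hr.2) (inv_mem hw))⟩
      have := Subgroup.mem_bot.mp (hbot ▸ hm)
      rwa [mul_inv_eq_one, mul_inv_eq_iff_eq_mul] at this
    set I := D ⊓ Cfsg.pCoreOf 2 L with hI
    have hWI : W ≤ I := le_inf le_sup_left o.w_le_o
    have hd : Nat.card ↥I ∣ 8 := hD8 ▸ Subgroup.card_dvd_of_le inf_le_left
    obtain ⟨q, hq⟩ : 4 ∣ Nat.card ↥I := h4 ▸ Subgroup.card_dvd_of_le hWI
    have hne8 : Nat.card ↥I ≠ 8 := fun h => o.w_not_comm o' hne fun b hb => by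
      have e : I = D := Subgroup.eq_of_le_of_card_ge inf_le_left (by omega)
      have hbO : b ∈ Cfsg.pCoreOf 2 L := (e.ge (Subgroup.mem_sup_right hb)).2
      refine mem_cent_iff.mpr fun v hv => ?_
      obtain ⟨k, hk, -, -⟩ := o.gen
      have := o.ctx.o_fix_v hbO (o.ctx.block_le_v (o.ctx.gen_isBlock hk) hv)
      calc v * b = (b * v * b⁻¹) * b := by rw [this]
        _ = b * v := by group
    have hle8 := Nat.le_of_dvd (by norm_num) hd
    have hpos : 0 < Nat.card ↥I := Nat.card_pos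
    have e : W = I := Subgroup.eq_of_le_of_card_ge hWI (by omega)
    exact e.ge ⟨hR0D hr, hrO⟩
  have hWR0 : W ≤ R0 := by
    obtain ⟨⟨x, hx⟩, hx1⟩ := Subgroup.ne_bot_iff_exists_ne_one.mp hmeet
    have hx1' : x ≠ 1 := fun e => hx1 (Subtype.ext e)
    intro w hw
    have hb := conj_mem_of_normalizer hkR0 hx.1
    rcases four_cases o.comp.2.2.2.2.1 o.comp.2.2.2.2.2 hx.2
      (conj_mem_of_normalizer (hWn hkL) hx.2) hx1' (fun e => hx1' (conj_eq_one_iff.mp e))
      (Ne.symm (hkmv x hx.2 hx1')) w hw with rfl | rfl | rfl | rfl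
    exacts [one_mem _, hx.1, hb, mul_mem hx.1 hb]
  -- it is `W`
  have hR0W : W = R0 := by
    refine Subgroup.eq_of_le_of_card_ge hWR0 ?_
    have hd : Nat.card ↥R0 ∣ 8 := hD8 ▸ Subgroup.card_dvd_of_le hR0D
    obtain ⟨q, hq⟩ : 4 ∣ Nat.card ↥R0 := h4 ▸ Subgroup.card_dvd_of_le hWR0
    have hle8 := Nat.le_of_dvd (by norm_num) hd
    have hne8 : Nat.card ↥R0 ≠ 8 := fun h => by
      have e : R0 = D := Subgroup.eq_of_le_of_card_ge hR0D (by omega)
      have hkD : k ∈ Subgroup.normalizer (D : Set G) := e ▸ hkR0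
      set W₁ := W'.map (MulAut.conj k).toMonoidHom with hW₁
      have hW₁4 : Nat.card ↥W₁ = 4 := by
        rw [hW₁, Subgroup.card_map_of_injective (MulAut.conj k).injective]
        exact o'.comp.2.2.2.2.1
      have hW₁e : ∀ w ∈ W₁, w * w = 1 := by
        rintro _ ⟨w, hw, rfl⟩
        rw [← map_mul, o'.comp.2.2.2.2.2 w hw, map_one]
      have hW₁D : W₁ ≤ D := by
        rw [← Subgroup.mem_normalizer_iff_map_conj_eq.mp hkD]
        exact Subgroup.map_mono le_sup_right
      have hcases : W₁ = W ∨ W₁ = W' := by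
        by_cases h1 : W₁ ≤ W
        · exact Or.inl (Subgroup.eq_of_le_of_card_ge h1 (by omega))
        refine Or.inr (Subgroup.eq_of_le_of_card_ge (fun a ha => ?_) (by
          rw [hW₁4]; exact o'.comp.2.2.2.2.1.le))
        obtain ⟨b, hb, hbW⟩ := SetLike.not_le_iff_exists.mp h1
        have hbW' := (o.join_invol o' hne (hW₁D hb) (hW₁e b hb)).resolve_left hbW
        rcases o.join_invol o' hne (hW₁D ha) (hW₁e a ha) with haW | haW
        · by_contra haW'
          rcases o.join_invol o' hne (hW₁D (mul_mem ha hb)) (hW₁e _ (mul_mem ha hb)) with h | h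
          · exact hbW ((Subgroup.mul_mem_cancel_left _ haW).mp h)
          · exact haW' ((Subgroup.mul_mem_cancel_right _ hbW').mp h)
        · exact haW
      rcases hcases with hc | hc
      · refine o.w_ne o' hne (Subgroup.map_injective (f := (MulAut.conj k).toMonoidHom) (MulAut.conj k).injective ?_)
        exact (Subgroup.mem_normalizer_iff_map_conj_eq.mp (hWn hkL)).trans hc.symm
      · have hk' : k ∈ L' := o'.normalizer_w_le (Subgroup.mem_normalizer_iff_map_conj_eq.mpr hc)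
        have hC := o.small.2
        obtain ⟨-, -, h₁⟩ := o.step_eq o' hne hC
        obtain ⟨-, -, h₂⟩ := o'.step_eq o hne.symm hC
        have hinf := o.step_inf o' hne hC
        rw [h₁, h₂] at hinf
        have hkT : k ∈ T := hinf.le ⟨hkL, hk'⟩
        obtain ⟨n, hn⟩ := IsPGroup.iff_card.mp o.t_two
        have := hk3 ▸ Subgroup.orderOf_dvd_natCard _ hkT
        rw [hn] at this
        exact absurd (Nat.prime_three.dvd_of_dvd_pow this) (by norm_num)
    omega
  -- so `R = W`
  have hRW : R = W := by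
    by_contra hneR
    have hWR : W ≤ R := hWR0.trans inf_le_left
    obtain ⟨n, hn, hnW, hnn⟩ := exists_normalizer_not_mem hR2 (lt_of_le_of_ne hWR (Ne.symm hneR))
    exact hnW (hR0W.ge ⟨hn, hNW.le hnn⟩)
  have hR'eq : R' = W.subgroupOf H := by
    rw [← hRW, hR, Subgroup.subgroupOf,
      Subgroup.comap_map_eq_self_of_injective H.subtype_injective]
  rw [hR'eq, ← Subgroup.subgroupOf_normalizer_eq hWH, hNW]

theorem sym_four_pair :
    ∃ M₁ M₂ : Subgroup H, M₁ ≠ M₂ ∧ Cfsg.IsMaximalTwoLocal M₁ ∧ Cfsg.IsMaximalTwoLocal M₂ ∧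
      Nonempty (M₁ ≃* Equiv.Perm (Fin 4)) ∧ Nonempty (M₂ ≃* Equiv.Perm (Fin 4)) ∧
      Nat.card ↥(M₁ ⊓ M₂) = 8 := by
  have hiso : ∀ L₀ : Subgroup G, Nonempty (↥(L₀ ⊓ H) ≃* Equiv.Perm (Fin 4)) →
      Nonempty (↥(L₀.subgroupOf H) ≃* Equiv.Perm (Fin 4)) := fun L₀ ⟨e⟩ =>
    ⟨((MulEquiv.subgroupCongr (Subgroup.inf_subgroupOf_right L₀ H).symm).trans
      (Subgroup.subgroupOfEquivOfLe inf_le_right)).trans e⟩
  have hC := o.small.2
  obtain ⟨-, -, h₁⟩ := o.step_eq o' hne hC
  obtain ⟨-, -, h₂⟩ := o'.step_eq o hne.symm hC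
  have hinf := o.step_inf o' hne hC
  rw [h₁, h₂] at hinf
  have hcard : Nat.card ↥(L.subgroupOf H ⊓ L'.subgroupOf H) = 8 := by
    obtain ⟨z, -, -, -, -, -, hD8, -⟩ := o.exists_z o' hne
    rw [← Subgroup.card_map_of_injective H.subtype_injective,
      show L.subgroupOf H ⊓ L'.subgroupOf H = (L ⊓ L').subgroupOf H from rfl,
      Subgroup.subgroupOf_map_subtype, hinf, o.t_inf_h o' hne hH, hD8]
  refine ⟨L.subgroupOf H, L'.subgroupOf H, fun e => ?_, o.step_max o' hne hH,
    o'.step_max o hne.symm hH, hiso L (o.step_iso o' hne hH), hiso L' (o'.step_iso o hne.symm hH),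
    hcard⟩
  obtain ⟨a⟩ := hiso L (o.step_iso o' hne hH)
  rw [← e, inf_idem, Nat.card_congr a.toEquiv, Nat.card_perm, Nat.card_fin,
    show Nat.factorial 4 = 24 from rfl] at hcard
  omega

end Out

end Cfsg.Agent.Lib.LocalEven2
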