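import Cfsg.Agent.Lib.LocalEven2.Thompson
import Cfsg.Agent.Lib.Components.Fitting
import Cfsg.Agent.Lib.Transfer.Basic
import Cfsg.Agent.Lib.FusionControl.Family
import Cfsg.Prelude.Def_BaumannBlocks

/-!
# Basic properties of blocks relative to a Baumann subgroup
-/

set_option autoImplicit false

namespace Cfsg.Agent.Lib.LocalEven2.Baumann

open scoped commutatorElement
open Cfsg.Agent.Lib.FusionControl (cj cs)

variable {G : Type*} [Group G] {p : ℕ}

theorem mem_omegaOne {H : Subgroup G} {x : G} (hx : x ∈ H) (hxp : x ^ p = 1) :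
    x ∈ Cfsg.omegaOne p H := Subgroup.subset_closure ⟨hx, hxp⟩

theorem omegaOne_le (H : Subgroup G) : Cfsg.omegaOne p H ≤ H :=
  (Subgroup.closure_le _).mpr fun _ h => h.1

theorem omega_mono {H K : Subgroup G} (h : H ≤ K) : Cfsg.omegaOne p H ≤ Cfsg.omegaOne p K :=
  Subgroup.closure_mono fun _ hx => ⟨h hx.1, hx.2⟩

theorem omegaOne_pow {H : Subgroup G} (hH : ∀ a ∈ H, ∀ b ∈ H, a * b = b * a) {x : G}
    (hx : x ∈ Cfsg.omegaOne p H) : x ^ p = 1 := by
  induction hx using Subgroup.closure_induction with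
  | mem a ha => exact ha.2
  | one => exact one_pow _
  | mul a b ha hb iha ihb =>
    rw [(show Commute a b from hH a (omegaOne_le H ha) b (omegaOne_le H hb)).mul_pow, iha, ihb,
      one_mul]
  | inv a _ iha => rw [inv_pow, iha, inv_one]

theorem cj_omegaOne_le (g : G) (H : Subgroup G) :
    cj g (Cfsg.omegaOne p H) ≤ Cfsg.omegaOne p (cj g H) := by
  rw [cj, Cfsg.omegaOne, MonoidHom.map_closure, Subgroup.closure_le]
  rintro _ ⟨a, ⟨ha, hap⟩, rfl⟩
  exact Subgroup.subset_closure ⟨⟨a, ha, rfl⟩, by rw [← map_pow, hap, map_one]⟩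

theorem cj_center_le (g : G) (H : Subgroup G) :
    cj g (H ⊓ Subgroup.centralizer (H : Set G)) ≤ cj g H ⊓ Subgroup.centralizer (cj g H : Set G) := by
  rintro _ ⟨a, ⟨ha, hac⟩, rfl⟩
  refine ⟨⟨a, ha, rfl⟩, Subgroup.mem_centralizer_iff.mpr ?_⟩
  rintro _ ⟨b, hb, rfl⟩
  rw [← map_mul, ← map_mul, Subgroup.mem_centralizer_iff.mp hac b hb]

theorem baumann_le (T : Subgroup G) : Cfsg.baumannSubgroupOf p T ≤ T := inf_le_left

theorem thompson_le_baumann (T : Subgroup G) :
    Cfsg.thompsonSubgroupOf p T ≤ Cfsg.baumannSubgroupOf p T :=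
  le_inf (thompsonSubgroupOf_le p T) (Subgroup.le_centralizer_iff.mp
    ((omegaOne_le _).trans inf_le_right))

variable [Finite G]

/-- The conjugates of a Baumann subgroup are Baumann subgroups. -/
theorem baumann_cj (g : G) (T : Subgroup G) :
    Cfsg.baumannSubgroupOf p (cj g T) = cj g (Cfsg.baumannSubgroupOf p T) := by
  have key : ∀ (g : G) (T : Subgroup G),
      cj g (Cfsg.baumannSubgroupOf p T) ≤ Cfsg.baumannSubgroupOf p (cj g T) := by
    intro g T
    rintro _ ⟨x, ⟨hxT, hxc⟩, rfl⟩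
    refine ⟨⟨x, hxT, rfl⟩, Subgroup.mem_centralizer_iff.mpr fun y hy => ?_⟩
    have hJ := thompsonSubgroupOf_map_conj p T g
    obtain ⟨z, hz, hzy⟩ : ∃ z ∈ Cfsg.omegaOne p (Cfsg.centerThompsonOf p T),
        g * z * g⁻¹ = y := by
      refine ⟨g⁻¹ * y * g, ?_, by group⟩
      have h1 := cj_omegaOne_le (p := p) g⁻¹ (Cfsg.centerThompsonOf p (cj g T)) ⟨y, hy, rfl⟩
      have h2 : cj g⁻¹ (Cfsg.centerThompsonOf p (cj g T)) ≤ Cfsg.centerThompsonOf p T := by
        refine (cj_center_le g⁻¹ _).trans (le_of_eq ?_)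
        rw [hJ, cj, ← cj, FusionControl.cj_inv_cj]
        rfl
      have h3 := omega_mono (p := p) h2 h1
      simpa using h3
    rw [← hzy]
    show g * z * g⁻¹ * (g * x * g⁻¹) = g * x * g⁻¹ * (g * z * g⁻¹)
    calc g * z * g⁻¹ * (g * x * g⁻¹) = g * (z * x) * g⁻¹ := by group
      _ = g * (x * z) * g⁻¹ := by rw [Subgroup.mem_centralizer_iff.mp hxc z hz]
      _ = _ := by group
  refine le_antisymm ?_ (key g T)
  have h := FusionControl.cj_le_cj (g := g) (key g⁻¹ (cj g T))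
  rw [FusionControl.cj_inv_cj, FusionControl.cj_cj, mul_inv_cancel] at h
  refine le_trans ?_ h
  intro x hx
  exact ⟨x, hx, by simp⟩

theorem baumann_eq_of_between {T U : Subgroup G} (hB : Cfsg.baumannSubgroupOf p T ≤ U) (hU : U ≤ T) :
    Cfsg.baumannSubgroupOf p U = Cfsg.baumannSubgroupOf p T := by
  have hJ : Cfsg.thompsonSubgroupOf p U = Cfsg.thompsonSubgroupOf p T :=
    thompsonSubgroupOf_eq_of_between ((thompson_le_baumann T).trans hB) hU
  have hZ : Cfsg.centerThompsonOf p U = Cfsg.centerThompsonOf p T := by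
    rw [Cfsg.centerThompsonOf, Cfsg.centerThompsonOf, hJ]
  rw [Cfsg.baumannSubgroupOf, Cfsg.baumannSubgroupOf, hZ]
  exact le_antisymm (inf_le_inf_right _ hU) (le_inf hB inf_le_right)

theorem sylow_le_normalizer_baumann (T : Sylow p G) :
    (T : Subgroup G) ≤ Subgroup.normalizer (Cfsg.baumannSubgroupOf p (T : Subgroup G) : Set G) := by
  intro t ht
  rw [FusionControl.mem_normalizer_iff_cj, ← baumann_cj,
    FusionControl.mem_normalizer_iff_cj.mp (Subgroup.le_normalizer ht)]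

variable [hp : Fact p.Prime]

/-- A Baumann subgroup of a Sylow subgroup is normal in every `p`-subgroup containing it. -/
theorem le_normalizer_baumann (T : Sylow p G) {X : Subgroup G} (hX : IsPGroup p ↥X)
    (hBX : Cfsg.baumannSubgroupOf p (T : Subgroup G) ≤ X) :
    X ≤ Subgroup.normalizer (Cfsg.baumannSubgroupOf p (T : Subgroup G) : Set G) := by
  set B := Cfsg.baumannSubgroupOf p (T : Subgroup G) with hB
  set U := X ⊓ Subgroup.normalizer (B : Set G) with hUdef
  by_contra hne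
  have hlt : U < X := lt_of_le_of_ne inf_le_left fun e => hne (e ▸ inf_le_right)
  have hTi : ¬ p ∣ (T : Subgroup G).relIndex (Subgroup.normalizer (B : Set G)) := fun h =>
    T.not_dvd_index (h.trans (Subgroup.relIndex_dvd_index_of_le (sylow_le_normalizer_baumann T)))
  obtain ⟨n, hn, hnU⟩ := FusionControl.exists_cj_le_of_not_dvd (sylow_le_normalizer_baumann T) T.2 hTi
    (inf_le_right : U ≤ _) (hX.to_le inf_le_left)
  have hnB : cj n B = B := FusionControl.mem_normalizer_iff_cj.mp hn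
  have hBU : B ≤ U := le_inf hBX Subgroup.le_normalizer
  have e1 : Cfsg.baumannSubgroupOf p U = B := by
    have h1 : Cfsg.baumannSubgroupOf p (cj n U) = B :=
      baumann_eq_of_between (hnB.ge.trans (FusionControl.cj_le_cj hBU)) hnU
    rw [baumann_cj, ← hnB] at h1
    exact Subgroup.map_injective (MulAut.conj n).injective h1
  obtain ⟨w, hw, hwU⟩ := SetLike.exists_of_lt (FusionControl.lt_nS hX hlt)
  obtain ⟨hwX, hwn⟩ := Subgroup.mem_inf.mp hw
  refine hwU (Subgroup.mem_inf.mpr ⟨hwX, ?_⟩)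
  rw [FusionControl.mem_normalizer_iff_cj]
  conv_lhs => rw [← e1]
  rw [← baumann_cj, FusionControl.mem_normalizer_iff_cj.mp hwn, e1]

/-- `B(T)` normalises a block. -/
theorem baumann_le_normalizer {B E : Subgroup G} (hEB : ⁅E, B⁆ = E) :
    B ≤ Subgroup.normalizer (E : Set G) := by
  intro b hb
  refine FusionControl.mem_normalizer_of_cj_le ?_
  rintro _ ⟨e, he, rfl⟩
  show b * e * b⁻¹ ∈ E
  rw [show b * e * b⁻¹ = e * ⁅e⁻¹, b⁆ by rw [commutatorElement_def]; group]
  exact mul_mem he (hEB.le (Subgroup.commutator_mem_commutator (inv_mem he) hb))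

theorem mem_of_sup_pgroup {E K : Subgroup G} (hK : IsPGroup p ↥K)
    (hKE : K ≤ Subgroup.normalizer (E : Set G)) {x : G} (hx : x ∈ E ⊔ K)
    (hcop : (orderOf x).Coprime p) : x ∈ E := by
  set M := E ⊔ K
  haveI : (E.subgroupOf M).Normal :=
    Subgroup.normal_subgroupOf_of_le_normalizer (sup_le Subgroup.le_normalizer hKE)
  have hEM : E ≤ M := le_sup_left
  set π := QuotientGroup.mk' (E.subgroupOf M)
  have hsurj : (K.subgroupOf M).map π = ⊤ := by
    have h1 : E.subgroupOf M ⊔ K.subgroupOf M = ⊤ := by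
      rw [← Subgroup.subgroupOf_sup hEM le_sup_right, Subgroup.subgroupOf_self]
    have h2 := congrArg (Subgroup.map π) h1
    rwa [Subgroup.map_sup, QuotientGroup.map_mk'_self, bot_sup_eq,
      Subgroup.map_top_of_surjective π (QuotientGroup.mk'_surjective _)] at h2
  obtain ⟨k, hk, hke⟩ : π ⟨x, hx⟩ ∈ (K.subgroupOf M).map π := hsurj ▸ Subgroup.mem_top _
  obtain ⟨a, ha⟩ := (hK.comap_of_injective M.subtype M.subtype_injective) ⟨k, hk⟩
  have h3 : π ⟨x, hx⟩ ^ p ^ a = 1 := by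
    rw [← hke, ← map_pow, show k ^ p ^ a = 1 from congrArg Subtype.val ha, map_one]
  have h4 : π ⟨x, hx⟩ = 1 := by
    rw [← orderOf_eq_one_iff]
    exact Nat.eq_one_of_dvd_coprimes (hcop.pow_right a)
      ((orderOf_map_dvd π _).trans (by rw [Subgroup.orderOf_mk])) (orderOf_dvd_of_pow_eq_one h3)
  exact (QuotientGroup.eq_one_iff (⟨x, hx⟩ : ↥M)).mp h4

/-- A `p`-subgroup normalised by `B(T)` and `E` normalises `E`. -/
theorem le_normalizer_block (T : Sylow p G) {E : Subgroup G} (hres : Cfsg.pResidualOf p E = E)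
    (hEB : ⁅E, Cfsg.baumannSubgroupOf p (T : Subgroup G)⁆ = E) {Q : Subgroup G} (hQ : IsPGroup p ↥Q)
    (hBQ : Cfsg.baumannSubgroupOf p (T : Subgroup G) ≤ Subgroup.normalizer (Q : Set G))
    (hEQ : E ≤ Subgroup.normalizer (Q : Set G)) : Q ≤ Subgroup.normalizer (E : Set G) := by
  set B := Cfsg.baumannSubgroupOf p (T : Subgroup G)
  have hBE : B ≤ Subgroup.normalizer (E : Set G) := baumann_le_normalizer hEB
  have hQB : Q ≤ Subgroup.normalizer (B : Set G) :=
    le_sup_left.trans (le_normalizer_baumann T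
      (hQ.to_sup_of_normal_left' (T.2.to_le inf_le_left) hBQ) le_sup_right)
  intro q hq
  refine FusionControl.mem_normalizer_of_cj_le ?_
  have hKp : IsPGroup p ↥(Q ⊓ B) := hQ.to_le inf_le_left
  have hKE : Q ⊓ B ≤ Subgroup.normalizer (E : Set G) := inf_le_right.trans hBE
  have hle : cj q E ≤ E ⊔ (Q ⊓ B) := by
    refine le_trans (le_of_eq (congrArg (cj q) hEB.symm)) ?_
    rw [cj, Subgroup.map_commutator, Subgroup.commutator_le]
    rintro _ ⟨e, he, rfl⟩ _ ⟨b, hb, rfl⟩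
    have hb' : q * b * q⁻¹ ∈ B := (Subgroup.mem_normalizer_iff.mp (hQB hq) b).mp hb
    set b' := q * b * q⁻¹
    set q' := e⁻¹ * (q * e * q⁻¹) with hq'
    have hq'Q : q' ∈ Q := by
      rw [hq', show e⁻¹ * (q * e * q⁻¹) = (e⁻¹ * q * e) * q⁻¹ by group]
      exact mul_mem ((Subgroup.mem_normalizer_iff''.mp (hEQ he) q).mp hq) (inv_mem hq)
    show ⁅q * e * q⁻¹, b'⁆ ∈ E ⊔ (Q ⊓ B)
    rw [show ⁅q * e * q⁻¹, b'⁆ = e * ⁅q', b'⁆ * e⁻¹ * ⁅e, b'⁆ by
      simp only [commutatorElement_def, hq']; group]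
    have hk : ⁅q', b'⁆ ∈ Q ⊓ B := by
      refine Subgroup.mem_inf.mpr ⟨?_, ?_⟩
      · rw [commutatorElement_def, show q' * b' * q'⁻¹ * b'⁻¹ = q' * (b' * q'⁻¹ * b'⁻¹) by group]
        exact mul_mem hq'Q ((Subgroup.mem_normalizer_iff.mp (hBQ hb') _).mp (inv_mem hq'Q))
      · rw [commutatorElement_def]
        exact mul_mem ((Subgroup.mem_normalizer_iff.mp (hQB hq'Q) b').mp hb') (inv_mem hb')
    have heM : e ∈ E ⊔ (Q ⊓ B) := Subgroup.mem_sup_left he
    exact mul_mem (mul_mem (mul_mem heM (Subgroup.mem_sup_right hk)) (inv_mem heM))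
      (Subgroup.mem_sup_left (hEB.le (Subgroup.commutator_mem_commutator he hb')))
  refine le_trans (le_of_eq (congrArg (cj q) hres.symm)) ?_
  rw [cj, Cfsg.pResidualOf, Cfsg.pResidual, MonoidHom.map_closure, MonoidHom.map_closure,
    Subgroup.closure_le]
  rintro _ ⟨_, ⟨e, he, rfl⟩, rfl⟩
  refine mem_of_sup_pgroup hKp hKE (hle ⟨_, e.2, rfl⟩) ?_
  show (orderOf (MulAut.conj q (e : G))).Coprime p
  rwa [MulEquiv.orderOf_eq, Subgroup.orderOf_coe]

/-- `O^p(E R) = E`. -/
theorem pResidualOf_sup {E R : Subgroup G} (hR : IsPGroup p ↥R) (hRE : R ≤ Subgroup.normalizer (E : Set G))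
    (hres : Cfsg.pResidualOf p E = E) : Cfsg.pResidualOf p (E ⊔ R) = E := by
  refine le_antisymm ?_ ?_
  · rw [Cfsg.pResidualOf, Cfsg.pResidual, MonoidHom.map_closure, Subgroup.closure_le]
    rintro _ ⟨x, hx, rfl⟩
    exact mem_of_sup_pgroup hR hRE x.2 (by
      show (orderOf (x : G)).Coprime p
      rw [Subgroup.orderOf_coe]; exact hx)
  · conv_lhs => rw [← hres]
    rw [Cfsg.pResidualOf, Cfsg.pResidual, MonoidHom.map_closure, Subgroup.closure_le]
    rintro _ ⟨x, hx, rfl⟩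
    refine ⟨⟨(x : G), Subgroup.mem_sup_left x.2⟩, Subgroup.subset_closure ?_, rfl⟩
    show (orderOf (⟨(x : G), _⟩ : ↥(E ⊔ R))).Coprime p
    rw [Subgroup.orderOf_mk, Subgroup.orderOf_coe]; exact hx

end Cfsg.Agent.Lib.LocalEven2.Baumann
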