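import Cfsg.Agent.Lib.LocalEven2.SylowControl

/-!
Chains of Sylow subgroups through a family of subgroups.
-/

set_option autoImplicit false

open Pointwise

namespace Cfsg.Agent.Lib.LocalEven2

variable {G : Type*} [Group G] {p : ℕ}

/-- One link of a chain over `R`. -/
def Link (p : ℕ) (𝓕 : Set (Subgroup G)) (R : Subgroup G) (U V : Sylow p G) : Prop :=
  ∃ (X : Subgroup G) (x : G), X ∈ Cfsg.sylowMembers p 𝓕 (U : Subgroup G) ∧
    X ∈ Cfsg.sylowMembers p 𝓕 (V : Subgroup G) ∧ x ∈ X ∧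
    Cfsg.subgroupConjRight x (V : Subgroup G) = (U : Subgroup G) ∧ R ≤ (V : Subgroup G) ⊓ X

/-- Chains over `R`. -/
def Linked (p : ℕ) (𝓕 : Set (Subgroup G)) (R : Subgroup G) : Sylow p G → Sylow p G → Prop :=
  Relation.ReflTransGen (Link p 𝓕 R)

theorem Linked.mono {𝓕 𝓖 : Set (Subgroup G)} (h𝓕 : 𝓕 ⊆ 𝓖) {R R' : Subgroup G} (hR : R' ≤ R)
    {U V : Sylow p G} (h : Linked p 𝓕 R U V) : Linked p 𝓖 R' U V := by
  unfold Linked at h ⊢
  refine Relation.ReflTransGen.mono (fun A B hAB => ?_) U V h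
  obtain ⟨X, x, h1, h2, h3, h4, h5⟩ := hAB
  exact ⟨X, x, ⟨h𝓕 h1.1, h1.2⟩, ⟨h𝓕 h2.1, h2.2⟩, h3, h4, hR.trans h5⟩

theorem Linked.conj {𝓕 : Set (Subgroup G)} (h𝓕 : Cfsg.IsNormalSet 𝓕) {R : Subgroup G}
    {U V : Sylow p G} (h : Linked p 𝓕 R U V) (g : G) :
    Linked p 𝓕 (Cfsg.subgroupConjRight g⁻¹ R) (g • U) (g • V) := by
  unfold Linked at h ⊢
  refine Relation.ReflTransGen.lift (fun A => g • A) (fun A B hAB => ?_) U V h
  obtain ⟨X, x, h1, h2, h3, h4, h5⟩ := hAB
  refine ⟨Cfsg.subgroupConjRight g⁻¹ X, g * x * g⁻¹, ?_, ?_, ?_, ?_, ?_⟩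
  · have := sylowMembers_conj h𝓕 h1 g⁻¹
    rwa [subgroupConjRight_sylow, inv_inv] at this
  · have := sylowMembers_conj h𝓕 h2 g⁻¹
    rwa [subgroupConjRight_sylow, inv_inv] at this
  · rw [mem_subgroupConjRight]; simpa [mul_assoc] using h3
  · rw [subgroupConjRight_sylow, smul_smul]
    rw [subgroupConjRight_sylow] at h4
    rw [← Sylow.ext h4]
    simp [smul_smul, mul_assoc]
  · have h6 := subgroupConjRight_mono g⁻¹ h5
    rwa [subgroupConjRight_inf, subgroupConjRight_sylow, inv_inv] at h6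

theorem controls_iff_linked {𝓕 : Set (Subgroup G)} :
    Cfsg.ControlsSylowIntersections p 𝓕 ↔ ∀ S T : Sylow p G,
      (S : Subgroup G) ⊓ (T : Subgroup G) ≠ ⊥ →
      Linked p 𝓕 ((S : Subgroup G) ⊓ (T : Subgroup G)) S T := by
  constructor
  · intro h S T hne
    by_cases hST : S = T
    · subst hST; exact Relation.ReflTransGen.refl
    obtain ⟨n, c, X, x, hc0, hcn, hstep⟩ := h S T hST hne
    have key : ∀ i : Fin (n + 1),
        Linked p 𝓕 ((S : Subgroup G) ⊓ (T : Subgroup G)) S (c i) := by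
      intro i
      induction i using Fin.induction with
      | zero => rw [hc0]; exact Relation.ReflTransGen.refl
      | succ i ih => exact Relation.ReflTransGen.tail ih ⟨X i, x i, hstep i⟩
    have h1 := key (Fin.last n)
    rwa [hcn] at h1
  · intro h S T _ hne
    have key : ∀ V : Sylow p G, Linked p 𝓕 ((S : Subgroup G) ⊓ (T : Subgroup G)) S V →
        ∃ (n : ℕ) (c : Fin (n + 1) → Sylow p G) (X : Fin n → Subgroup G) (x : Fin n → G),
          c 0 = S ∧ c (Fin.last n) = V ∧ ∀ i : Fin n,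
            X i ∈ Cfsg.sylowMembers p 𝓕 (c i.castSucc : Subgroup G) ∧
            X i ∈ Cfsg.sylowMembers p 𝓕 (c i.succ : Subgroup G) ∧ x i ∈ X i ∧
            Cfsg.subgroupConjRight (x i) (c i.succ : Subgroup G) = (c i.castSucc : Subgroup G) ∧
            (S : Subgroup G) ⊓ (T : Subgroup G) ≤ (c i.succ : Subgroup G) ⊓ X i := by
      intro V hV
      induction hV with
      | refl => exact ⟨0, fun _ => S, finZeroElim, finZeroElim, rfl, rfl, finZeroElim⟩
      | @tail B D _ hBD ih =>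
        obtain ⟨n, c, X, x, h0, hl, hs⟩ := ih
        obtain ⟨Y, y, hY⟩ := hBD
        refine ⟨n + 1, Fin.snoc c D, Fin.snoc X Y, Fin.snoc x y, ?_, by simp, fun i => ?_⟩
        · rw [← Fin.castSucc_zero, Fin.snoc_castSucc, h0]
        · induction i using Fin.lastCases with
          | last =>
            simp only [Fin.snoc_castSucc, Fin.succ_last, Fin.snoc_last, hl]
            exact hY
          | cast j =>
            simp only [← Fin.castSucc_succ, Fin.snoc_castSucc]
            exact hs j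
    exact key T (h S T hne)

/-- `subgroupConjRight` through a subgroup. -/
theorem map_subgroupConjRight {M : Subgroup G} (a : ↥M) (X : Subgroup ↥M) :
    (Cfsg.subgroupConjRight a X).map M.subtype =
      Cfsg.subgroupConjRight (a : G) (X.map M.subtype) := by
  ext y
  rw [mem_subgroupConjRight]
  constructor
  · rintro ⟨z, hz, rfl⟩
    exact ⟨_, mem_subgroupConjRight.mp hz, by simp⟩
  · rintro ⟨z, hz, hzy⟩
    refine ⟨a⁻¹ * z * a, mem_subgroupConjRight.mpr (by simpa [mul_assoc] using hz), ?_⟩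
    have hzy' : (z : G) = (a : G) * y * (a : G)⁻¹ := hzy
    simp [hzy', mul_assoc]

variable [Fact p.Prime] [Finite G]

/-- A subgroup containing a Sylow subgroup of `G`: the Sylow members are those containing `U`. -/
theorem le_of_mem_sylowMembers {M X : Subgroup G} {U : Sylow p G} (hUM : (U : Subgroup G) ≤ M)
    (hX : X ≤ M) {P : Sylow p G} (hPX : (P : Subgroup G) ≤ X)
    (hXm : ∃ Q : Sylow p ↥X, (Q : Subgroup ↥X).map X.subtype = (U : Subgroup G) ⊓ X) :
    (U : Subgroup G) ≤ X := by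
  obtain ⟨Q, hQ⟩ := hXm
  have hcard : Nat.card ↥((U : Subgroup G) ⊓ X) = Nat.card ↥(U : Subgroup G) := by
    rw [← hQ, ← Nat.card_congr ((Q : Subgroup ↥X).equivMapOfInjective _ X.subtype_injective).toEquiv,
      Nat.card_congr (Q.equiv (P.subtype hPX)).toEquiv, Sylow.coe_subtype,
      Nat.card_congr (Subgroup.subgroupOfEquivOfLe hPX).toEquiv,
      Nat.card_congr (P.equiv U).toEquiv]
  exact inf_eq_left.mp (Subgroup.eq_of_le_of_card_ge inf_le_left hcard.ge)

theorem mem_sylowMembers_of_le {𝓕 : Set (Subgroup G)} {X : Subgroup G} (hX : X ∈ 𝓕) {U : Sylow p G}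
    (hU : (U : Subgroup G) ≤ X) : X ∈ Cfsg.sylowMembers p 𝓕 (U : Subgroup G) :=
  ⟨hX, U.subtype hU, by rw [Sylow.coe_subtype, Subgroup.map_subgroupOf_eq_of_le hU, inf_eq_left.mpr hU]⟩

theorem functor_family_normal {f : Subgroup G → Set (Subgroup G)}
    (hf : Cfsg.IsNormalizerFunctor p f) : Cfsg.IsNormalSet (Cfsg.functorFamily p f (⊤ : Subgroup G)) := by
  rintro X ⟨P, F, hF, rfl⟩ g
  set P' := (P : Subgroup ↥(⊤ : Subgroup G)).map (⊤ : Subgroup G).subtype with hP'
  set a : ↥(⊤ : Subgroup G) := ⟨g⁻¹, trivial⟩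
  refine ⟨a • P, F.map (MulAut.conj g⁻¹).toMonoidHom, ?_, ?_⟩
  · have h1 : ((a • P : Sylow p ↥(⊤ : Subgroup G)) : Subgroup ↥(⊤ : Subgroup G)).map
        (⊤ : Subgroup G).subtype = P'.map (MulAut.conj g⁻¹).toMonoidHom := by
      rw [smul_sylow_eq_map, hP', Subgroup.map_map, Subgroup.map_map]
      rfl
    rw [h1, (hf P' (P.2.map _)).2 g⁻¹]
    exact ⟨F, hF, rfl⟩
  · ext y
    rw [mem_subgroupConjRight, Subgroup.mem_inf, Subgroup.mem_inf]
    refine and_congr (iff_of_true trivial trivial) ?_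
    rw [Subgroup.mem_normalizer_iff, Subgroup.mem_normalizer_iff]
    constructor
    · intro h z
      rw [mem_map_conj, mem_map_conj, h (g⁻¹⁻¹ * z * g⁻¹)]
      simp [mul_assoc]
    · intro h z
      have := h (g⁻¹ * z * g)
      rw [mem_map_conj, mem_map_conj] at this
      simpa [mul_assoc] using this

/-- Chains inside a regular subgroup of `p'`-index give chains in `G`. -/
theorem linked_of_regular {f : Subgroup G → Set (Subgroup G)}
    (hf : Cfsg.IsNormalizerFunctor p f) {M : Subgroup G} (hr : Cfsg.IsFunctorRegular p f M)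
    {U V : Sylow p G} (hU : (U : Subgroup G) ≤ M) (hV : (V : Subgroup G) ≤ M)
    (hne : (U : Subgroup G) ⊓ (V : Subgroup G) ≠ ⊥) :
    Linked p (Cfsg.functorFamily p f (⊤ : Subgroup G)) ((U : Subgroup G) ⊓ (V : Subgroup G)) U V := by
  set R₀ := (U.subtype hU : Subgroup ↥M) ⊓ (V.subtype hV : Subgroup ↥M)
  have hne' : R₀ ≠ ⊥ := by
    intro h
    apply hne
    rw [Subgroup.eq_bot_iff_forall]
    intro x hx
    have h1 : (⟨x, hU hx.1⟩ : ↥M) ∈ R₀ := ⟨hx.1, hx.2⟩
    rw [h, Subgroup.mem_bot] at h1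
    exact congrArg Subtype.val h1
  have key : ∀ B : Sylow p ↥M,
      Linked p ((fun X : Subgroup G => X.subgroupOf M) '' Cfsg.functorFamily p f M) R₀ (U.subtype hU) B →
      ∀ B' : Sylow p G, (B' : Subgroup G) = (B : Subgroup ↥M).map M.subtype →
      Linked p (Cfsg.functorFamily p f (⊤ : Subgroup G)) ((U : Subgroup G) ⊓ (V : Subgroup G)) U B' := by
    intro B hB
    induction hB with
    | refl =>
      intro B' hB'
      rw [Sylow.coe_subtype, Subgroup.map_subgroupOf_eq_of_le hU] at hB'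
      rw [Sylow.ext hB']
      exact Relation.ReflTransGen.refl
    | @tail A B _ hAB ih =>
      intro B' hB'
      have hsyl : ∀ A : Sylow p ↥M, ∃ A' : Sylow p G, (A' : Subgroup G) = (A : Subgroup ↥M).map M.subtype := by
        intro A
        obtain ⟨m, hm⟩ := MulAction.exists_smul_eq ↥M (U.subtype hU) A
        refine ⟨(m : G) • U, ?_⟩
        rw [← hm, smul_sylow_eq_map, smul_sylow_eq_map, Sylow.coe_subtype, Subgroup.map_map,
          show M.subtype.comp (MulAut.conj m).toMonoidHom =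
            (MulAut.conj (m : G)).toMonoidHom.comp M.subtype from MonoidHom.ext fun y => by simp,
          ← Subgroup.map_map, Subgroup.map_subgroupOf_eq_of_le hU]
      obtain ⟨A', hA'⟩ := hsyl A
      obtain ⟨Y, y, ⟨⟨X, ⟨P, F, hF, rfl⟩, rfl⟩, hA⟩, ⟨-, hBY⟩, hy, hconj, hR⟩ := hAB
      refine Relation.ReflTransGen.tail (ih A' hA') ?_
      obtain ⟨P', hP'⟩ := hsyl P
      have hFn := ((hf _ (P.2.map M.subtype)).1 F hF).2
      have hP'F : (P' : Subgroup G) ≤ M ⊓ Subgroup.normalizer (F : Set G) := by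
        rw [hP']
        exact le_inf (Subgroup.map_subtype_le _) (Subgroup.le_normalizer.trans hFn)
      set X := M ⊓ Subgroup.normalizer (F : Set G)
      have hXM : X ≤ M := inf_le_left
      have hlift : ∀ (A : Sylow p ↥M) (A' : Sylow p G),
          (A' : Subgroup G) = (A : Subgroup ↥M).map M.subtype →
          (∃ Q : Sylow p ↥(X.subgroupOf M), (Q : Subgroup ↥(X.subgroupOf M)).map (X.subgroupOf M).subtype =
            (A : Subgroup ↥M) ⊓ X.subgroupOf M) → (A' : Subgroup G) ≤ X := by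
        intro A A' hA' hQ
        have h1 : (A : Subgroup ↥M) ≤ X.subgroupOf M := by
          refine le_of_mem_sylowMembers (G := ↥M) (M := ⊤) (P := P'.subtype (hP'F.trans hXM))
            le_top le_top ?_ hQ
          rw [Sylow.coe_subtype]
          exact Subgroup.comap_mono hP'F
        rw [hA']
        exact (Subgroup.map_mono h1).trans (Subgroup.map_subgroupOf_eq_of_le hXM).le
      have hA'X := hlift A A' hA' hA
      have hB'X := hlift B B' hB' hBY
      set T : Subgroup G := ⊤ ⊓ Subgroup.normalizer (F : Set G)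
      have hXT : X ≤ T := le_inf le_top inf_le_right
      have hT : T ∈ Cfsg.functorFamily p f (⊤ : Subgroup G) := by
        refine ⟨P'.subtype le_top, F, ?_, rfl⟩
        rw [Sylow.coe_subtype, Subgroup.map_subgroupOf_eq_of_le le_top, hP']
        exact hF
      refine ⟨T, (y : G), mem_sylowMembers_of_le hT (hA'X.trans hXT),
        mem_sylowMembers_of_le hT (hB'X.trans hXT), hXT hy, ?_, ?_⟩
      · rw [hB', hA', ← map_subgroupConjRight, hconj]
      · intro z hz
        obtain ⟨h1, -⟩ := hR (show (⟨z, hU hz.1⟩ : ↥M) ∈ R₀ from ⟨hz.1, hz.2⟩)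
        have hzB : z ∈ (B' : Subgroup G) := hB' ▸ ⟨_, h1, rfl⟩
        exact ⟨hzB, hXT (hB'X hzB)⟩
  refine key (V.subtype hV) ((controls_iff_linked.mp hr) _ _ hne') V ?_
  rw [Sylow.coe_subtype, Subgroup.map_subgroupOf_eq_of_le hV]

end Cfsg.Agent.Lib.LocalEven2
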