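import Cfsg.Agent.Lib.PLocal.ZJFunctor
import Cfsg.Agent.Lib.FusionControl.Centric
import Cfsg.Agent.Lib.Coprime.PxQ
import Cfsg.Agent.Lib.Transfer.Basic

/-!
A characteristic subgroup deciding the existence of a normal `p`-complement.
-/

set_option autoImplicit false
set_option linter.unusedSectionVars false
set_option linter.style.haveILetI false

universe u

namespace Cfsg.Agent.Lib.LocalEven2

open Subgroup
open Cfsg.Agent.Lib.PLocal (zIn exists_maxIn zIn_le zIn_le_self map_zIn_of_injective center_le_zIn_zero zIn_zero_eq npc_zjA)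

variable {p : ℕ} [Fact p.Prime]

/-- A central `p`-subgroup can be removed. -/
theorem npc_of_quotient_central {C : Type*} [Group C] [Finite C] (Z : Subgroup C) [Z.Normal]
    (hZc : Z ≤ center C) (hZ : IsPGroup p Z) (h : Cfsg.HasNormalPComplement p (C ⧸ Z)) :
    Cfsg.HasNormalPComplement p C := by
  rw [Transfer.hasNormalPComplement_iff_coprime] at h
  set R := Cfsg.pResidual p C with hR
  obtain ⟨P⟩ : Nonempty (Sylow p R) := inferInstance
  have hPc : (P : Subgroup R) ≤ center R := by
    intro x hx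
    have hx1 : QuotientGroup.mk' Z (x : C) ∈ Cfsg.pResidual p (C ⧸ Z) :=
      (Transfer.map_pResidual_le (QuotientGroup.mk' Z)) ⟨x, x.2, rfl⟩
    have hxp := P.2.map (((QuotientGroup.mk' Z).comp R.subtype))
    have hx2 : QuotientGroup.mk' Z (x : C) = 1 :=
      Transfer.eq_one_of_isPGroup_of_coprime hxp ⟨x, hx, rfl⟩ (Transfer.coprime_orderOf_of_mem h hx1)
    have hxZ := hZc ((QuotientGroup.eq_one_iff _).mp hx2)
    exact mem_center_iff.mpr fun y => Subtype.ext (mem_center_iff.mp hxZ y)
  have hN : normalizer ((P : Subgroup R) : Set R) ≤ centralizer ((P : Subgroup R) : Set R) :=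
    fun x _ => mem_centralizer_iff.mpr fun y hy => (mem_center_iff.mp (hPc hy) x).symm
  have hnpc : Cfsg.HasNormalPComplement p R :=
    ⟨P, (MonoidHom.transferSylow P hN).ker, inferInstance,
      MonoidHom.ker_transferSylow_isComplement' P hN⟩
  rw [Transfer.hasNormalPComplement_iff_coprime, Transfer.pResidual_pResidual_eq_top,
    Subgroup.card_top] at hnpc
  rwa [Transfer.hasNormalPComplement_iff_coprime]

theorem isMulCommutative_zIn {S : Type*} [Group S] [Finite S] (e : ℕ) (T : Subgroup S) :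
    ∀ x ∈ zIn e T, ∀ y ∈ zIn e T, x * y = y * x := by
  intro x hx y hy
  obtain ⟨A, hA⟩ := exists_maxIn e T
  exact congrArg Subtype.val
    (hA.2.1.1.is_comm.comm ⟨x, zIn_le hA hx⟩ ⟨y, zIn_le hA hy⟩)

/-- The recursion. -/
theorem exists_char_npc (hp : p ≠ 2) : ∀ (n : ℕ) (S : Type u) [Group S] [Finite S],
    Nat.card S = n → IsPGroup p S →
    ∃ K : Subgroup S, K.Characteristic ∧ centralizer (K : Set S) ≤ K ∧
      ∀ (G : Type u) [Group G] [Finite G] (ι : S →* G), Function.Injective ι →
        (∃ P : Sylow p G, (P : Subgroup G) = ι.range) →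
        (∀ g ∈ normalizer ((K.map ι : Subgroup G) : Set G), (orderOf g).Coprime p →
          g ∈ centralizer ((K.map ι : Subgroup G) : Set G)) →
        Cfsg.HasNormalPComplement p G := by
  intro n
  induction n using Nat.strong_induction_on with
  | _ n ih =>
    intro S _ _ hn hS
    rcases subsingleton_or_nontrivial S with hsub | hnt
    · refine ⟨⊤, inferInstance, le_top, fun G _ _ ι _ hP _ => ?_⟩
      obtain ⟨P, hP⟩ := hP
      rw [Transfer.hasNormalPComplement_iff_inf_eq_bot P, hP, eq_bot_iff]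
      rintro x ⟨⟨s, rfl⟩, -⟩
      rw [Subsingleton.elim s 1, map_one]
      exact one_mem _
    set Z : Subgroup S := zIn 0 (⊤ : Subgroup S) with hZdef
    have hZne : Z ≠ ⊥ := by
      intro h
      obtain ⟨⟨z, hz⟩, hz1⟩ := @exists_ne (center S) hS.center_nontrivial 1
      refine hz1 (Subtype.ext ?_)
      have h1 : z ∈ Z := center_le_zIn_zero _ ⟨trivial, fun y _ => mem_center_iff.mp hz y⟩
      rwa [h, mem_bot] at h1
    haveI hZchar : Z.Characteristic := by
      refine characteristic_iff_map_eq.mpr fun φ => ?_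
      rw [hZdef, map_zIn_of_injective φ.toMonoidHom φ.injective,
        map_top_of_surjective φ.toMonoidHom φ.surjective]
    set T : Subgroup S := centralizer (Z : Set S) with hTdef
    haveI hTchar : T.Characteristic := by rw [hTdef]; infer_instance
    have hZT : Z ≤ T := fun x hx => mem_centralizer_iff.mpr fun y hy => isMulCommutative_zIn 0 _ y hy x hx
    set Z₀ := Z.subgroupOf T with hZ₀
    haveI : Z₀.Normal := inferInstance
    have hlt : Nat.card (↥T ⧸ Z₀) < n := by
      rw [← hn]
      refine lt_of_lt_of_le ?_ (card_le_card_group T)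
      rw [card_eq_card_quotient_mul_card_subgroup Z₀]
      refine lt_mul_of_one_lt_right Nat.card_pos ?_
      rw [Nat.card_congr (subgroupOfEquivOfLe hZT).toEquiv]
      exact (one_lt_card_iff_ne_bot Z).2 hZne
    obtain ⟨K₀, hK₀, hK₀c, hK₀G⟩ := ih _ hlt (↥T ⧸ Z₀) rfl ((hS.to_subgroup T).to_quotient Z₀)
    set K₁ : Subgroup ↥T := K₀.comap (QuotientGroup.mk' Z₀) with hK₁
    set K := K₁.map T.subtype with hKdef
    have hZK : Z ≤ K := fun x hx => ⟨⟨x, hZT hx⟩, by
      show QuotientGroup.mk' Z₀ ⟨x, hZT hx⟩ ∈ K₀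
      rw [QuotientGroup.mk'_apply, (QuotientGroup.eq_one_iff _).mpr (show (⟨x, hZT hx⟩ : T) ∈ Z₀ from hx)]
      exact one_mem _, rfl⟩
    have hKT : K ≤ T := map_subtype_le _
    -- `K` is characteristic
    have hKchar : K.Characteristic := by
      refine characteristic_iff_map_le.mpr fun φ => ?_
      rintro _ ⟨_, ⟨t, ht, rfl⟩, rfl⟩
      have hT' : ∀ x : S, x ∈ T → φ x ∈ T := fun x hx => by
        have := characteristic_iff_map_le.mp hTchar φ
        exact this ⟨x, hx, rfl⟩
      have hT'' : ∀ x : S, x ∈ T → φ.symm x ∈ T := fun x hx => by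
        have := characteristic_iff_map_le.mp hTchar φ.symm
        exact this ⟨x, hx, rfl⟩
      let ψ : ↥T ≃* ↥T :=
        { toFun := fun x => ⟨φ x, hT' x x.2⟩
          invFun := fun x => ⟨φ.symm x, hT'' x x.2⟩
          left_inv := fun x => Subtype.ext (φ.symm_apply_apply x)
          right_inv := fun x => Subtype.ext (φ.apply_symm_apply x)
          map_mul' := fun x y => Subtype.ext (map_mul φ (x : S) y) }
      have hψ : Z₀.map ψ.toMonoidHom = Z₀ := by
        ext x
        rw [mem_map_equiv]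
        show φ.symm (x : S) ∈ Z ↔ (x : S) ∈ Z
        conv_rhs => rw [← characteristic_iff_map_eq.mp hZchar φ, mem_map_equiv]
      refine ⟨ψ t, ?_, rfl⟩
      show QuotientGroup.mk' Z₀ (ψ t) ∈ K₀
      have := characteristic_iff_map_le.mp hK₀ (QuotientGroup.congr Z₀ Z₀ ψ hψ)
      exact this ⟨QuotientGroup.mk' Z₀ t, ht, rfl⟩
    have hKc : centralizer (K : Set S) ≤ K := by
      intro x hx
      have hxT : x ∈ T := centralizer_le (SetLike.coe_subset_coe.mpr hZK) hx
      refine ⟨⟨x, hxT⟩, hK₀c (mem_centralizer_iff.mpr fun y hy => ?_), rfl⟩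
      obtain ⟨y, rfl⟩ := QuotientGroup.mk'_surjective Z₀ y
      rw [← map_mul, ← map_mul]
      exact congrArg _ (Subtype.ext (mem_centralizer_iff.mp hx _ ⟨y, hy, rfl⟩))
    refine ⟨K, hKchar, hKc, fun G _ _ ι hι hP hyp => ?_⟩
    obtain ⟨P, hP⟩ := hP
    set Z' := Z.map ι with hZ'
    have hZ'eq : Z' = Cfsg.centerThompsonAOf (P : Subgroup G) := by
      rw [hZ', hZdef, map_zIn_of_injective ι hι, ← MonoidHom.range_eq_map, ← hP, zIn_zero_eq]
    refine npc_zjA hp P ?_
    rw [← hZ'eq]
    set H := normalizer (Z' : Set G) with hH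
    set C := centralizer (Z' : Set G) with hC
    have hCH : C ≤ H := centralizer_le_normalizer _
    have hHC : H ≤ normalizer (C : Set G) := FusionControl.normalizer_le_normalizer_centralizer Z'
    set T' := T.map ι with hT'
    have hT'C : T' ≤ C := by
      rintro _ ⟨t, ht, rfl⟩
      rw [hC, mem_centralizer_iff]
      rintro _ ⟨z, hz, rfl⟩
      rw [← map_mul, ← map_mul, mem_centralizer_iff.mp ht z hz]
    have hPC : (P : Subgroup G) ⊓ C ≤ T' := by
      rintro x ⟨hx, hxC⟩
      rw [hP] at hx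
      obtain ⟨s, rfl⟩ := hx
      exact ⟨s, mem_centralizer_iff.mpr fun z hz => hι (by
        rw [map_mul, map_mul]; exact mem_centralizer_iff.mp hxC _ ⟨z, hz, rfl⟩), rfl⟩
    have hT'P : T' ≤ P := by rw [hP]; rintro _ ⟨t, -, rfl⟩; exact ⟨t, rfl⟩
    have hPH : (P : Subgroup G) ≤ H := by
      rw [hP, MonoidHom.range_eq_map]
      refine le_trans ?_ (le_normalizer_map ι)
      exact map_mono le_normalizer_of_normal
    have hT'i : ¬ p ∣ T'.relIndex C := by
      rw [show T' = (P : Subgroup G) ⊓ C from le_antisymm (le_inf hT'P hT'C) hPC]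
      exact FusionControl.not_dvd_relIndex_inf hPH P.2 (FusionControl.not_dvd_relIndex_of_le P hPH) hCH hHC
    -- the quotient of the centralizer
    set Z'' := Z'.subgroupOf C with hZ''
    have hZ''c : Z'' ≤ center C := fun z hz => mem_center_iff.mpr fun c =>
      Subtype.ext ((mem_centralizer_iff.mp c.2) _ hz).symm
    haveI : Z''.Normal := normal_subgroupOf_of_le_normalizer hCH
    let φ : ↥T →* ↥C ⧸ Z'' :=
      (QuotientGroup.mk' Z'').comp ((ι.comp T.subtype).codRestrict C fun t => hT'C ⟨t, t.2, rfl⟩)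
    have hker : φ.ker = Z₀ := by
      ext t
      rw [MonoidHom.mem_ker]
      show QuotientGroup.mk' Z'' _ = 1 ↔ _
      rw [QuotientGroup.mk'_apply, QuotientGroup.eq_one_iff]
      show ι (t : S) ∈ Z.map ι ↔ (t : S) ∈ Z
      exact mem_map_iff_mem hι
    let ι₀ : ↥T ⧸ Z₀ →* ↥C ⧸ Z'' := QuotientGroup.lift Z₀ φ hker.ge
    have hι₀ : Function.Injective ι₀ := by
      rw [injective_iff_map_eq_one]
      intro x hx
      obtain ⟨t, rfl⟩ := QuotientGroup.mk'_surjective Z₀ x
      exact (QuotientGroup.eq_one_iff t).mpr (hker ▸ (hx : φ t = 1))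
    let P₀ : Sylow p ↥C :=
      ((P.2.to_le hT'P).comap_of_injective C.subtype C.subtype_injective :
        IsPGroup p (T'.subgroupOf C)).toSylow hT'i
    have hQ : ∃ Q : Sylow p (↥C ⧸ Z''), (Q : Subgroup (↥C ⧸ Z'')) = ι₀.range := by
      refine ⟨P₀.mapSurjective (QuotientGroup.mk'_surjective Z''), ?_⟩
      rw [Sylow.coe_mapSurjective]
      ext y
      constructor
      · rintro ⟨c, hc, rfl⟩
        obtain ⟨t, ht, he⟩ := (show (c : G) ∈ T' from hc)
        refine ⟨QuotientGroup.mk ⟨t, ht⟩, ?_⟩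
        show QuotientGroup.mk' Z'' _ = QuotientGroup.mk' Z'' c
        exact congrArg _ (Subtype.ext he)
      · rintro ⟨x, rfl⟩
        obtain ⟨t, rfl⟩ := QuotientGroup.mk'_surjective Z₀ x
        exact ⟨⟨ι t, hT'C ⟨t, t.2, rfl⟩⟩, (⟨t, t.2, rfl⟩ : ι (t : S) ∈ T'), rfl⟩
    have hKC : K.map ι ≤ C := (map_mono hKT).trans hT'C
    -- the image of `K₀` is the image of `K`
    have hK₀map : K₀.map ι₀ = ((K.map ι).subgroupOf C).map (QuotientGroup.mk' Z'') := by
      ext y
      constructor
      · rintro ⟨x, hx, rfl⟩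
        obtain ⟨t, rfl⟩ := QuotientGroup.mk'_surjective Z₀ x
        exact ⟨⟨ι t, hT'C ⟨t, t.2, rfl⟩⟩, (⟨t, ⟨t, hx, rfl⟩, rfl⟩ : ι (t : S) ∈ K.map ι), rfl⟩
      · rintro ⟨c, hc, rfl⟩
        obtain ⟨_, ⟨t, ht, rfl⟩, he⟩ := (show (c : G) ∈ K.map ι from hc)
        refine ⟨QuotientGroup.mk' Z₀ t, ht, ?_⟩
        show QuotientGroup.mk' Z'' _ = QuotientGroup.mk' Z'' c
        exact congrArg _ (Subtype.ext he)
    have hnpcQ : Cfsg.HasNormalPComplement p (↥C ⧸ Z'') := by
      refine hK₀G (↥C ⧸ Z'') ι₀ hι₀ hQ fun y hy hyo => ?_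
      obtain ⟨x, rfl⟩ := QuotientGroup.mk'_surjective Z'' y
      set m := orderOf (QuotientGroup.mk' Z'' x) with hm
      obtain ⟨k, hk⟩ := ((P.2.to_le hT'P).to_le (map_mono hZT : Z' ≤ T'))
        ⟨((x ^ m : ↥C) : G), by
          have : x ^ m ∈ Z'' := by
            rw [← QuotientGroup.eq_one_iff, ← QuotientGroup.mk'_apply, map_pow, hm, pow_orderOf_eq_one]
          exact this⟩
      have hk' : ((x : G) ^ m) ^ p ^ k = 1 := congrArg Subtype.val hk
      -- replace `x` by a power of order prime to `p`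
      obtain ⟨a, ha⟩ := exists_pow_eq_self_of_coprime
        (show (p ^ k).Coprime (orderOf (QuotientGroup.mk' Z'' x)) from (hyo.pow_right k).symm)
      set x' := x ^ (p ^ k * a) with hx'
      have hx'eq : QuotientGroup.mk' Z'' x' = QuotientGroup.mk' Z'' x := by
        rw [hx', map_pow, pow_mul, ha]
      have hx'o : (orderOf (x' : G)).Coprime p := by
        refine Nat.Coprime.coprime_dvd_left (orderOf_dvd_of_pow_eq_one ?_) hyo
        rw [hx', Subgroup.coe_pow, ← pow_mul,
          show p ^ k * a * m = m * p ^ k * a by ring, pow_mul, pow_mul, hk', one_pow]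
      rw [← hx'eq] at hy ⊢
      have hx'N : (x' : G) ∈ normalizer ((K.map ι : Subgroup G) : Set G) := by
        rw [mem_normalizer_iff_map_conj_eq]
        refine Subgroup.eq_of_le_of_card_ge ?_ (card_map_of_injective (f := (MulAut.conj (x' : G)).toMonoidHom) (MulAut.conj (x' : G)).injective).ge
        rintro _ ⟨k', hk', rfl⟩
        have h1 : QuotientGroup.mk' Z'' (x' * ⟨k', hKC hk'⟩ * x'⁻¹) ∈ K₀.map ι₀ := by
          rw [map_mul, map_mul, map_inv]
          exact (mem_normalizer_iff.mp hy _).mp (by rw [hK₀map]; exact ⟨_, hk', rfl⟩)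
        rw [hK₀map] at h1
        obtain ⟨c, hc, hce⟩ := h1
        rw [QuotientGroup.mk'_eq_mk'] at hce
        obtain ⟨z, hz, hze⟩ := hce
        show (x' : G) * k' * (x' : G)⁻¹ ∈ K.map ι
        have : ((c * z : ↥C) : G) = (x' : G) * k' * (x' : G)⁻¹ := by rw [hze]; rfl
        rw [← this]
        exact mul_mem hc (map_mono hZK hz)
      have hx'C := hyp _ hx'N hx'o
      rw [mem_centralizer_iff, hK₀map]
      rintro _ ⟨c, hc, rfl⟩
      rw [← map_mul, ← map_mul]
      exact congrArg _ (Subtype.ext (mem_centralizer_iff.mp hx'C _ hc))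
    have hnpcC : Cfsg.HasNormalPComplement p ↥C :=
      npc_of_quotient_central Z'' hZ''c
        (((P.2.to_le hT'P).to_le (map_mono hZT : Z' ≤ T')).comap_of_injective C.subtype C.subtype_injective)
        hnpcQ
    -- from the centralizer to the normalizer
    set O := (Cfsg.pResidual p ↥C).map C.subtype with hOdef
    have hOo : (Nat.card ↥O).Coprime p := by
      rw [hOdef, card_map_of_injective C.subtype_injective]
      exact Transfer.hasNormalPComplement_iff_coprime.mp hnpcC
    have hOn : H ≤ normalizer (O : Set G) := by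
      intro h hh
      rw [mem_normalizer_iff_map_conj_eq]
      refine Subgroup.eq_of_le_of_card_ge ?_ (card_map_of_injective (f := (MulAut.conj h).toMonoidHom) (MulAut.conj h).injective).ge
      rw [hOdef, map_map]
      have : ∀ c : ↥C, h * c * h⁻¹ ∈ C := fun c => (mem_normalizer_iff.mp (hHC hh) _).mp c.2
      let f : ↥C →* ↥C := ((MulAut.conj h).toMonoidHom.comp C.subtype).codRestrict C this
      calc (Cfsg.pResidual p ↥C).map ((MulAut.conj h).toMonoidHom.comp C.subtype)
          = ((Cfsg.pResidual p ↥C).map f).map C.subtype := by rw [map_map]; rfl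
        _ ≤ _ := map_mono (Transfer.map_pResidual_le f)
    have hT'T : ∀ g ∈ H, g ∈ normalizer (T' : Set G) → (orderOf g).Coprime p → g ∈ O := by
      intro g hgH hgT hgo
      -- `g` normalizes `K`
      have hgK : g ∈ normalizer ((K.map ι : Subgroup G) : Set G) := by
        rw [mem_normalizer_iff_map_conj_eq]
        refine Subgroup.eq_of_le_of_card_ge ?_ (card_map_of_injective (f := (MulAut.conj g).toMonoidHom) (MulAut.conj g).injective).ge
        let ε : ↥T ≃* ↥T' := T.equivMapOfInjective ι hι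
        let c : ↥T' ≃* ↥T' :=
          { toFun := fun t => ⟨g * t * g⁻¹, (mem_normalizer_iff.mp hgT _).mp t.2⟩
            invFun := fun t => ⟨g⁻¹ * t * g, (mem_normalizer_iff.mp hgT _).mpr (by
              rw [show g * (g⁻¹ * (t : G) * g) * g⁻¹ = t by group]; exact t.2)⟩
            left_inv := fun t => Subtype.ext (by simp [mul_assoc])
            right_inv := fun t => Subtype.ext (by simp [mul_assoc])
            map_mul' := fun s t => Subtype.ext (by simp [mul_assoc]) }
        let ψ : ↥T ≃* ↥T := (ε.trans c).trans ε.symm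
        have hψι : ∀ t : ↥T, ι (ψ t : S) = g * ι (t : S) * g⁻¹ := fun t => by
          have := congrArg (fun s : ↥T' => (s : G)) (ε.apply_symm_apply (c (ε t)))
          exact this
        have hψ : Z₀.map ψ.toMonoidHom = Z₀ := by
          refine Subgroup.eq_of_le_of_card_ge ?_ (by rw [card_map_of_injective ψ.injective])
          rintro _ ⟨t, ht, rfl⟩
          show (ψ t : S) ∈ Z
          rw [← mem_map_iff_mem hι, hψι]
          exact (mem_normalizer_iff.mp hgH _).mp ⟨_, ht, rfl⟩
        rintro _ ⟨_, ⟨_, ⟨t, ht, rfl⟩, rfl⟩, rfl⟩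
        refine ⟨ψ t, ⟨ψ t, ?_, rfl⟩, hψι t⟩
        show QuotientGroup.mk' Z₀ (ψ t) ∈ K₀
        exact characteristic_iff_map_le.mp hK₀ (QuotientGroup.congr Z₀ Z₀ ψ hψ)
          ⟨QuotientGroup.mk' Z₀ t, ht, rfl⟩
      have hgc := hyp g hgK hgo
      -- `g` centralizes `T'`
      have hcT : T' ⊓ centralizer ((K.map ι : Subgroup G) : Set G) ≤
          centralizer (zpowers g : Set G) := by
        rintro _ ⟨⟨t, ht, rfl⟩, htc⟩
        have htK : ι t ∈ K.map ι := ⟨t, hKc (mem_centralizer_iff.mpr fun y hy => hι (by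
          rw [map_mul, map_mul]; exact mem_centralizer_iff.mp htc _ ⟨y, hy, rfl⟩)), rfl⟩
        rw [mem_centralizer_iff]
        rintro _ ⟨k, rfl⟩
        exact ((show Commute g (ι t) from (mem_centralizer_iff.mp hgc _ htK).symm).zpow_left k).eq
      have hQT := Coprime.le_centralizer_of_PxQ (P := K.map ι) (Q := zpowers g) (U := T')
        ((hS.to_subgroup K).map ι) (by rwa [Nat.card_zpowers]) ((hS.to_subgroup T).map ι)
        (by rw [le_centralizer_iff, zpowers_le]; exact hgc)
        ((map_mono hKT).trans le_normalizer) (by rw [zpowers_le]; exact hgT) hcT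
      have hgC : g ∈ C := centralizer_le (SetLike.coe_subset_coe.mpr (map_mono hZT)) (hQT (mem_zpowers g))
      exact ⟨⟨g, hgC⟩, Transfer.mem_pResidual_of_coprime (by rwa [← Subgroup.orderOf_coe]), rfl⟩
    rw [Transfer.hasNormalPComplement_iff_coprime]
    suffices hle : Cfsg.pResidual p ↥H ≤ O.subgroupOf H by
      refine Nat.Coprime.coprime_dvd_left ((card_dvd_of_le hle).trans ?_) hOo
      rw [Nat.card_congr (subgroupOfEquivOfLe (show O ≤ H from (map_subtype_le _).trans hCH)).toEquiv]
    refine (closure_le _).2 fun h hh => ?_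
    set T₀ := T' with hT₀
    obtain ⟨c, hc, hcn⟩ := FusionControl.exists_frattini hT'C (P.2.to_le hT'P) hT'i (hHC h.2)
    -- `C = O T'`
    have hCOT : C ≤ O ⊔ T' := by
      intro y hy
      have h1 := Transfer.sylow_sup_pResidual P₀
      have h2 : ((P₀ : Subgroup ↥C) ⊔ Cfsg.pResidual p ↥C).map C.subtype ≤ O ⊔ T' := by
        rw [Subgroup.map_sup]
        refine sup_le ?_ le_sup_left
        rintro _ ⟨s, hs, rfl⟩
        exact mem_sup_right (show (s : G) ∈ T' from hs)
      exact h2 ⟨⟨y, hy⟩, by rw [h1]; trivial, rfl⟩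
    have hT'O : T' ≤ normalizer (O : Set G) := (hT'P.trans hPH).trans hOn
    obtain ⟨o, ho, t, ht, hot⟩ := Coprime.exists_mul_of_mem_sup hT'O (hCOT (inv_mem hc))
    have hOH : O ≤ H := (map_subtype_le _).trans hCH
    have hn' : t * (c * h) ∈ normalizer (T' : Set G) := mul_mem (le_normalizer ht) hcn
    have hnH : t * (c * h) ∈ H := mul_mem (hPH (hT'P ht)) (mul_mem (hCH hc) h.2)
    have hheq : (h : G) = o * (t * (c * h)) := by
      rw [← mul_assoc o t, ← hot, inv_mul_cancel_left]
    -- split off the part of order prime to `p`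
    set n := t * (c * (h : G)) with hndef
    set N₀ := O.subgroupOf H with hN₀
    haveI : N₀.Normal := normal_subgroupOf_of_le_normalizer hOn
    have hnh : QuotientGroup.mk' N₀ h = QuotientGroup.mk' N₀ ⟨n, hnH⟩ := by
      rw [QuotientGroup.mk'_eq_mk']
      refine ⟨h⁻¹ * ⟨n, hnH⟩, ?_, mul_inv_cancel_left _ _⟩
      show (h : G)⁻¹ * n ∈ O
      rw [hheq, mul_inv_rev, mul_assoc]
      have := (mem_normalizer_iff.mp (hOn (inv_mem hnH)) o⁻¹).mp (inv_mem ho)
      simpa [mul_assoc] using this
    rw [SetLike.mem_coe, ← QuotientGroup.eq_one_iff, ← QuotientGroup.mk'_apply, hnh]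
    obtain ⟨e, m, hm, hem⟩ := Nat.exists_eq_pow_mul_and_not_dvd (orderOf_pos n).ne' p (Fact.out : p.Prime).ne_one
    have h3 : n ^ p ^ e ∈ O := hT'T _ (pow_mem hnH _) (pow_mem hn' _) (by
      rw [orderOf_pow' _ (pow_ne_zero _ (Fact.out : p.Prime).ne_zero), hem,
        Nat.gcd_eq_right (dvd_mul_right _ _), Nat.mul_div_cancel_left _ (pow_pos (Fact.out : p.Prime).pos _)]
      exact ((Fact.out : p.Prime).coprime_iff_not_dvd.mpr hm).symm)
    rw [← orderOf_eq_one_iff]
    refine Nat.eq_one_of_dvd_coprimes (hh.pow_right e) ?_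
      (orderOf_dvd_of_pow_eq_one ?_)
    · rw [← hnh]; exact orderOf_map_dvd _ _
    · rw [← map_pow, QuotientGroup.mk'_apply, QuotientGroup.eq_one_iff]
      exact h3

end Cfsg.Agent.Lib.LocalEven2
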