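import Cfsg.Agent.Lib.LocalEven2.Basic

/-!
Groups of characteristic `p` inside an ambient group.
-/

set_option autoImplicit false

namespace Cfsg.Agent.Lib.LocalEven2

variable {G : Type*} [Group G] {p : ℕ}

/-- `H` has characteristic `p`, in elementwise form. -/
def IsCharPIn (p : ℕ) (H : Subgroup G) : Prop :=
  ∀ c ∈ H, (∀ q ∈ Cfsg.pCoreOf p H, q * c = c * q) → c ∈ Cfsg.pCoreOf p H

theorem isCharPIn_iff (H : Subgroup G) :
    IsCharPIn p H ↔
      Subgroup.centralizer (Cfsg.pCore p ↥H : Set ↥H) ≤ Cfsg.pCore p ↥H := by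
  constructor
  · intro h c hc
    rw [← coe_mem_pCoreOf]
    refine h c c.2 fun q hq => ?_
    obtain ⟨hqH, hq'⟩ := mem_pCoreOf.mp hq
    exact congrArg Subtype.val (Subgroup.mem_centralizer_iff.mp hc _ hq')
  · intro h c hc hq
    refine coe_mem_pCoreOf (x := (⟨c, hc⟩ : ↥H)).mpr (h ?_)
    rw [Subgroup.mem_centralizer_iff]
    intro q hq'
    exact Subtype.ext (hq q (coe_mem_pCoreOf.mpr hq'))

theorem isCharPIn_top_iff :
    IsCharPIn p (⊤ : Subgroup G) ↔
      Subgroup.centralizer (Cfsg.pCore p G : Set G) ≤ Cfsg.pCore p G := by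
  unfold IsCharPIn
  rw [pCoreOf_top]
  constructor
  · exact fun h c hc => h c trivial (Subgroup.mem_centralizer_iff.mp hc)
  · exact fun h c _ hc => h (Subgroup.mem_centralizer_iff.mpr hc)

/-- Characteristic `p` is inherited by subgroups normalized by `O_p`. -/
theorem IsCharPIn.of_normalized [Fact p.Prime] [Finite G] {M L : Subgroup G}
    (hM : IsCharPIn p M) (hLM : L ≤ M)
    (hN : Cfsg.pCoreOf p M ≤ Subgroup.normalizer (L : Set G)) : IsCharPIn p L := by
  set P := Cfsg.pCoreOf p M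
  set E := Cfsg.pCoreOf p L
  set C := L ⊓ Subgroup.centralizer (E : Set G) with hC
  have hCp : IsPGroup p ↥C := by
    refine isPGroup_of_coprime_trivial fun x hx hxo => ?_
    have hPL : P ⊓ L ≤ E := by
      refine le_pCoreOf inf_le_right ((pCoreOf_isPGroup M).to_inf_left) fun g hg y hy => ?_
      exact ⟨conj_mem_pCoreOf (hLM hg) hy.1, L.mul_mem (L.mul_mem hg hy.2) (inv_mem hg)⟩
    have hxP : x ∈ Cfsg.pCoreOf p M := by
      refine hM x (hLM hx.1) fun w hw => ?_
      refine (commute_of_stabilizes (pCoreOf_isPGroup (p := p) M) hxo ?_ ?_).symm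
      · exact P.mul_mem (conj_mem_pCoreOf (hLM hx.1) hw) (inv_mem hw)
      · refine (Subgroup.mem_centralizer_iff.mp hx.2 _ (hPL ⟨?_, ?_⟩)).symm
        · exact P.mul_mem (conj_mem_pCoreOf (hLM hx.1) hw) (inv_mem hw)
        · have : w * x⁻¹ * w⁻¹ ∈ L :=
            (Subgroup.mem_normalizer_iff.mp (hN hw) x⁻¹).mp (inv_mem hx.1)
          have := L.mul_mem hx.1 this
          simpa [mul_assoc] using this
    exact eq_one_of_isPGroup (pCoreOf_isPGroup M) hxP hxo
  intro c hc hq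
  have hCn : C ≤ Cfsg.pCoreOf p L := by
    refine le_pCoreOf inf_le_left hCp fun g hg y hy => ⟨L.mul_mem (L.mul_mem hg hy.1) (inv_mem hg), ?_⟩
    refine Subgroup.mem_centralizer_iff.mpr ?_
    intro e he
    have h1 := Subgroup.mem_centralizer_iff.mp hy.2 _ (conj_mem_pCoreOf (inv_mem hg) he)
    rw [inv_inv] at h1
    calc e * (g * y * g⁻¹) = g * ((g⁻¹ * e * g) * y) * g⁻¹ := by group
      _ = g * (y * (g⁻¹ * e * g)) * g⁻¹ := by rw [h1]
      _ = g * y * g⁻¹ * e := by group
  exact hCn ⟨hc, Subgroup.mem_centralizer_iff.mpr hq⟩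

theorem IsCharPIn.of_isSubnormal [Fact p.Prime] [Finite G]
    (hG : IsCharPIn p (⊤ : Subgroup G)) {H : Subgroup G} (hH : H.IsSubnormal) :
    IsCharPIn p H := by
  induction hH with
  | top => exact hG
  | step H K hle _ hN ih =>
    exact ih.of_normalized hle ((pCoreOf_le K).trans
      ((Subgroup.normal_subgroupOf_iff_le_normalizer hle).mp hN))

/-- In a group of characteristic `p`, a normal subgroup `Q` of a Sylow subgroup with
`C_T(Q) ≤ Q` is self-centralizing. -/
theorem centralizer_le_of_sylow [Fact p.Prime] [Finite G]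
    (hG : IsCharPIn p (⊤ : Subgroup G)) (T : Sylow p G) {Q : Subgroup G}
    (hQn : (T : Subgroup G) ≤ Subgroup.normalizer (Q : Set G))
    (hC : (T : Subgroup G) ⊓ Subgroup.centralizer (Q : Set G) ≤ Q) :
    Subgroup.centralizer (Q : Set G) ≤ Q := by
  set C := Subgroup.centralizer (Q : Set G) with hCdef
  have hPT : Cfsg.pCore p G ≤ T :=
    haveI := pCore_normal p G
    (pCore_isPGroup p G).le_sylow_of_normal T
  have hTC : (T : Subgroup G) ≤ Subgroup.normalizer (C : Set G) := by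
    intro t ht
    rw [Subgroup.mem_normalizer_iff]
    have key : ∀ s ∈ (T : Subgroup G), ∀ c ∈ C, s * c * s⁻¹ ∈ C := by
      intro s hs c hc
      rw [hCdef, Subgroup.mem_centralizer_iff]
      intro q hq
      have h1 := Subgroup.mem_centralizer_iff.mp hc _
        ((Subgroup.mem_normalizer_iff''.mp (hQn hs) q).mp hq)
      calc q * (s * c * s⁻¹) = s * ((s⁻¹ * q * s) * c) * s⁻¹ := by group
        _ = s * (c * (s⁻¹ * q * s)) * s⁻¹ := by rw [h1]
        _ = s * c * s⁻¹ * q := by group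
    intro c
    refine ⟨key t ht c, fun h => ?_⟩
    have := key t⁻¹ (inv_mem ht) _ h
    simpa [mul_assoc] using this
  have hCp : IsPGroup p ↥C := by
    refine isPGroup_of_coprime_trivial fun x hx hxo => ?_
    have hx' : x ∈ Cfsg.pCoreOf p (⊤ : Subgroup G) := by
      refine hG x trivial fun w hw => ?_
      rw [pCoreOf_top] at hw
      have hcP : x * w * x⁻¹ * w⁻¹ ∈ Cfsg.pCore p G :=
        mul_mem ((pCore_normal p G).conj_mem _ hw x) (inv_mem hw)
      refine (commute_of_stabilizes (pCore_isPGroup p G) hxo hcP ?_).symm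
      refine (Subgroup.mem_centralizer_iff.mp hx _ (hC ⟨hPT hcP, ?_⟩)).symm
      have h1 : w * x⁻¹ * w⁻¹ ∈ C :=
        (Subgroup.mem_normalizer_iff.mp (hTC (hPT hw)) x⁻¹).mp (inv_mem hx)
      have := mul_mem hx h1
      simpa [mul_assoc, hCdef] using this
    exact eq_one_of_isPGroup (pCoreOf_isPGroup _) hx' hxo
  have hCT : C ≤ T := by
    have h := T.3 (IsPGroup.to_sup_of_normal_right' T.2 hCp hTC) le_sup_left
    exact le_trans le_sup_right h.le
  exact fun c hc => hC ⟨hCT hc, hc⟩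

/-- In a group of characteristic `p`, every subgroup containing a self-centralizing normal
subgroup of a Sylow subgroup has characteristic `p`. -/
theorem isCharPIn_of_le [Fact p.Prime] [Finite G]
    (hG : IsCharPIn p (⊤ : Subgroup G)) (T : Sylow p G) {Q L : Subgroup G}
    (hQT : Q ≤ T) (hQn : (T : Subgroup G) ≤ Subgroup.normalizer (Q : Set G))
    (hC : (T : Subgroup G) ⊓ Subgroup.centralizer (Q : Set G) ≤ Q) (hQL : Q ≤ L) :
    IsCharPIn p L := by
  have hCQ := centralizer_le_of_sylow hG T hQn hC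
  set P := Cfsg.pCore p G
  have hPp := pCore_isPGroup p G
  have hPn := pCore_normal p G
  have hPT : P ≤ T := haveI := hPn; hPp.le_sylow_of_normal T
  have hGc := isCharPIn_top_iff.mp hG
  set E := Cfsg.pCoreOf p L with hE
  set A := P ⊓ L with hA
  set D := P ⊓ Subgroup.centralizer (A : Set G) with hD
  have hAE : A ≤ E := le_pCoreOf inf_le_right hPp.to_inf_left fun g hg y hy =>
    ⟨hPn.conj_mem _ hy.1 g, L.mul_mem (L.mul_mem hg hy.2) (inv_mem hg)⟩
  have hAconj : ∀ g ∈ L, ∀ a ∈ A, g * a * g⁻¹ ∈ A := fun g hg y hy =>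
    ⟨hPn.conj_mem _ hy.1 g, L.mul_mem (L.mul_mem hg hy.2) (inv_mem hg)⟩
  have hCAconj : ∀ g ∈ L, ∀ y ∈ Subgroup.centralizer (A : Set G),
      g * y * g⁻¹ ∈ Subgroup.centralizer (A : Set G) := by
    intro g hg y hy
    rw [Subgroup.mem_centralizer_iff]
    intro a ha
    have h1 := Subgroup.mem_centralizer_iff.mp hy _ (hAconj g⁻¹ (inv_mem hg) a ha)
    rw [inv_inv] at h1
    calc a * (g * y * g⁻¹) = g * ((g⁻¹ * a * g) * y) * g⁻¹ := by group
      _ = g * (y * (g⁻¹ * a * g)) * g⁻¹ := by rw [h1]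
      _ = g * y * g⁻¹ * a := by group
  have hDconj : ∀ g ∈ L, ∀ d ∈ D, g * d * g⁻¹ ∈ D := fun g hg d hd =>
    ⟨hPn.conj_mem _ hd.1 g, hCAconj g hg d hd.2⟩
  have hcommAx : ∀ {x : G}, x ∈ Subgroup.centralizer (A : Set G) → ∀ a ∈ A, x * a = a * x :=
    fun hx a ha => (Subgroup.mem_centralizer_iff.mp hx a ha).symm
  -- the elements of `L` inducing on `D` commutators inside `A`
  let R : Subgroup G :=
    { carrier := {l | l ∈ L ∧ ∀ d ∈ D, l * d * l⁻¹ * d⁻¹ ∈ A}
      one_mem' := ⟨L.one_mem, fun d _ => by simp⟩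
      mul_mem' := by
        rintro l m ⟨hl, hl'⟩ ⟨hm, hm'⟩
        refine ⟨L.mul_mem hl hm, fun d hd => ?_⟩
        have := A.mul_mem (hAconj l hl _ (hm' d hd)) (hl' d hd)
        simpa [mul_assoc] using this
      inv_mem' := by
        rintro l ⟨hl, hl'⟩
        refine ⟨inv_mem hl, fun d hd => ?_⟩
        have := hAconj l⁻¹ (inv_mem hl) _ (inv_mem (hl' d hd))
        simpa [mul_assoc] using this }
  have hRconj : ∀ g ∈ L, ∀ r ∈ R, g * r * g⁻¹ ∈ R := by
    rintro g hg r ⟨hr, hr'⟩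
    refine ⟨L.mul_mem (L.mul_mem hg hr) (inv_mem hg), fun d hd => ?_⟩
    have := hAconj g hg _ (hr' _ (hDconj g⁻¹ (inv_mem hg) d hd))
    simpa [mul_assoc] using this
  set J := R ⊓ Subgroup.centralizer (A : Set G) with hJ
  have hJE : J ≤ E := by
    refine le_pCoreOf (fun j hj => hj.1.1) ?_ fun g hg j hj =>
      ⟨hRconj g hg j hj.1, hCAconj g hg j hj.2⟩
    refine isPGroup_of_coprime_trivial fun j hj hjo => ?_
    refine eq_one_of_isPGroup hPp (hGc (Subgroup.mem_centralizer_iff.mpr fun w hw => ?_)) hjo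
    refine (axb_centralizes hPp inf_le_left hjo (fun v hv => hPn.conj_mem v hv j)
      (hcommAx hj.2) (fun c hc hca => ?_) w hw).symm
    have hcA := hj.1.2 c ⟨hc, Subgroup.mem_centralizer_iff.mpr hca⟩
    exact commute_of_stabilizes hPp hjo hcA.1 (hcommAx hj.2 _ hcA)
  -- the centralizer of `E` in `L` has no `p'`-elements
  set C := L ⊓ Subgroup.centralizer (E : Set G)
  have hCp : IsPGroup p ↥C := by
    refine isPGroup_of_coprime_trivial fun k hk hko => ?_
    refine eq_one_of_isPGroup ((T.2).to_le hQT) (hCQ (Subgroup.mem_centralizer_iff.mpr fun q hq => ?_)) hko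
    have hkA : k ∈ Subgroup.centralizer (A : Set G) :=
      Subgroup.centralizer_le (fun a ha => hAE ha) hk.2
    have hqR : q ∈ R := by
      refine ⟨hQL hq, fun d hd => ⟨?_, ?_⟩⟩
      · exact P.mul_mem (hPn.conj_mem _ hd.1 q) (inv_mem hd.1)
      · have h1 : d * q⁻¹ * d⁻¹ ∈ Q :=
          (Subgroup.mem_normalizer_iff.mp (hQn (hPT hd.1)) _).mp (inv_mem hq)
        have := L.mul_mem (hQL hq) (hQL h1)
        simpa [mul_assoc] using this
    have hcJ : k * q * k⁻¹ * q⁻¹ ∈ J := by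
      refine ⟨R.mul_mem (hRconj k hk.1 q hqR) (R.inv_mem hqR), ?_⟩
      have h1 := hCAconj q (hQL hq) _ (inv_mem hkA)
      have := Subgroup.mul_mem _ hkA h1
      simpa [mul_assoc] using this
    exact (commute_of_stabilizes (pCoreOf_isPGroup (p := p) L) hko (hJE hcJ)
      (Subgroup.mem_centralizer_iff.mp hk.2 _ (hJE hcJ)).symm).symm
  intro c hc hq
  refine le_pCoreOf inf_le_left hCp (fun g hg y hy => ⟨L.mul_mem (L.mul_mem hg hy.1) (inv_mem hg), ?_⟩)
    ⟨hc, Subgroup.mem_centralizer_iff.mpr hq⟩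
  refine Subgroup.mem_centralizer_iff.mpr ?_
  intro e he
  have h1 := Subgroup.mem_centralizer_iff.mp hy.2 _ (conj_mem_pCoreOf (inv_mem hg) he)
  rw [inv_inv] at h1
  calc e * (g * y * g⁻¹) = g * ((g⁻¹ * e * g) * y) * g⁻¹ := by group
    _ = g * (y * (g⁻¹ * e * g)) * g⁻¹ := by rw [h1]
    _ = g * y * g⁻¹ * e := by group

end Cfsg.Agent.Lib.LocalEven2
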