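import Cfsg.Agent.Lib.LocalEven2.ClosedFunctor
import Cfsg.Agent.Lib.FusionControl.PStable
import Cfsg.Agent.Lib.FusionControl.NPC

/-!
The Glauberman–Thompson criterion for a strongly closed subgroup.
-/

set_option autoImplicit false
set_option linter.style.haveILetI false

universe u

namespace Cfsg.Agent.Lib.LocalEven2

open Cfsg.Agent.Lib.PLocal
open Cfsg.Agent.Lib.FusionControl
open Cfsg.Agent.Lib.Transfer (hasNormalPComplement_iff_coprime hasNormalPComplement_congr
  hasNormalPComplement_of_le hasNormalPComplement_of_surjective)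

variable {p : ℕ} [Fact p.Prime]

/-- Normalizing elements lift modulo a normal `p'`-subgroup. -/
theorem exists_lift_normalizer {G : Type u} [Group G] [Finite G] {Z O : Subgroup G} [O.Normal]
    (hZ : IsPGroup p Z) (hO : (Nat.card O).Coprime p) {x : G ⧸ O}
    (hx : x ∈ Subgroup.normalizer ((Z.map (QuotientGroup.mk' O) : Subgroup (G ⧸ O)) : Set (G ⧸ O))) :
    ∃ n ∈ Subgroup.normalizer (Z : Set G), QuotientGroup.mk' O n = x := by
  obtain ⟨n₀, rfl⟩ := QuotientGroup.mk'_surjective O x
  set f := QuotientGroup.mk' O with hf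
  have hn₀ : n₀ ∈ Subgroup.normalizer ((O ⊔ Z : Subgroup G) : Set G) := by
    have h2 : n₀ ∈ Subgroup.normalizer (((Z.map f).comap f : Subgroup G) : Set G) := by
      rw [Subgroup.mem_normalizer_iff]
      intro y
      show f y ∈ Z.map f ↔ f (n₀ * y * n₀⁻¹) ∈ Z.map f
      rw [map_mul, map_mul, map_inv]
      exact Subgroup.mem_normalizer_iff.1 hx (f y)
    rwa [Subgroup.comap_map_eq, QuotientGroup.ker_mk', sup_comm] at h2
  have hi : ¬ p ∣ Z.relIndex (O ⊔ Z) := by
    intro hd
    have hc := Coprime.card_sup_mul_card_inf (Subgroup.le_normalizer_of_normal : Z ≤ Subgroup.normalizer (O : Set G))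
    rw [← Coprime.relIndex_mul_card (le_sup_right : Z ≤ O ⊔ Z)] at hc
    refine (Fact.out : p.Prime).coprime_iff_not_dvd.1 hO.symm (hd.trans ?_)
    refine ⟨Nat.card ↥(O ⊓ Z : Subgroup G), Nat.eq_of_mul_eq_mul_right (Nat.card_pos (α := Z)) ?_⟩
    linarith
  obtain ⟨k, hk, hkn⟩ := exists_frattini (le_sup_right : Z ≤ O ⊔ Z) hZ hi hn₀
  obtain ⟨o, ho, w, hw, rfl⟩ := Subgroup.mem_sup_of_normal_left.1 hk
  refine ⟨w⁻¹ * o * w * n₀, ?_, ?_⟩
  · rw [show w⁻¹ * o * w * n₀ = w⁻¹ * (o * w * n₀) by group]
    exact mul_mem (Subgroup.le_normalizer (inv_mem hw)) hkn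
  · have : f o = 1 := (QuotientGroup.eq_one_iff o).2 ho
    simp [this]

/-- The normal `p`-complement criterion, by induction on the order. -/
theorem npc_of_closed (hp2 : p ≠ 2) {e : ℕ} (he : e = p ∨ e = 0) :
    ∀ (n : ℕ) (Y : Type u) [Group Y] [Finite Y], Nat.card Y = n → ∀ (S : Sylow p Y) (D : Subgroup Y),
      Cfsg.IsStronglyClosed D (S : Subgroup Y) →
      Cfsg.HasNormalPComplement p ↥(Subgroup.normalizer (zIn e D : Set Y)) →
      Cfsg.HasNormalPComplement p Y := by
  intro n
  induction n using Nat.strong_induction_on with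
  | _ n ih =>
    intro Y _ _ hn S D hD hN
    have hdone : Subgroup.normalizer (zIn e D : Set Y) = ⊤ → Cfsg.HasNormalPComplement p Y := by
      intro h
      rw [h] at hN
      exact (hasNormalPComplement_congr Subgroup.topEquiv).1 hN
    by_cases hDne : D = ⊥
    · refine hdone ?_
      rw [show zIn e D = ⊥ from le_bot_iff.1 (hDne ▸ zIn_le_self e D), Subgroup.normalizer_eq_top]
    have hmapN : ∀ (H : Subgroup Y) (D' : Subgroup Y), D' ≤ H →
        (Subgroup.normalizer (zIn e (D'.subgroupOf H) : Set H)).map H.subtype ≤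
          Subgroup.normalizer (zIn e D' : Set Y) := by
      intro H D' hle
      have hZ : (zIn e (D'.subgroupOf H)).map H.subtype = zIn e D' := by
        rw [map_zIn_of_injective H.subtype H.subtype_injective, Subgroup.subgroupOf_map_subtype,
          inf_eq_left.2 hle]
      rw [← hZ]
      exact Subgroup.le_normalizer_map H.subtype
    have hsub : ∀ H : Subgroup Y, H ≠ ⊤ → (S : Subgroup Y) ≤ H → Cfsg.HasNormalPComplement p H := by
      intro H hne hle
      refine ih _ (hn ▸ card_lt_of_ne_top hne) H rfl (S.subtype hle) (D.subgroupOf H) ?_ ?_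
      · rw [Sylow.coe_subtype]; exact closed_subgroupOf hD H
      · exact (hasNormalPComplement_congr (Subgroup.equivMapOfInjective _ H.subtype H.subtype_injective)).2
          (hasNormalPComplement_of_le (hmapN H D (hD.1.trans hle)) hN)
    have hquot : ∀ N : Subgroup Y, [N.Normal] → N ≠ ⊥ →
        Cfsg.IsStronglyClosed (D.map (QuotientGroup.mk' N)) ((S : Subgroup Y).map (QuotientGroup.mk' N)) →
        Cfsg.HasNormalPComplement p
          ↥(Subgroup.normalizer (zIn e (D.map (QuotientGroup.mk' N)) : Set (Y ⧸ N))) →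
        Cfsg.HasNormalPComplement p (Y ⧸ N) := by
      intro N _ hne hc h
      have hlt : Nat.card (Y ⧸ N) < n := by
        rw [← hn, Subgroup.card_eq_card_quotient_mul_card_subgroup N]
        exact lt_mul_of_one_lt_right Nat.card_pos (Subgroup.one_lt_card_iff_ne_bot N |>.2 hne)
      refine ih _ hlt (Y ⧸ N) rfl (S.mapSurjective (QuotientGroup.mk'_surjective N)) _ ?_ h
      rw [Sylow.coe_mapSurjective]; exact hc
    by_cases hQ : Cfsg.pCore p Y = ⊥
    · -- all local subgroups are proper
      have hprop : ∀ U : Subgroup Y, U ≤ (S : Subgroup Y) → U ≠ ⊥ → Subgroup.normalizer (U : Set Y) ≠ ⊤ := by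
        intro U hU hne h
        apply hne
        rw [eq_bot_iff, ← hQ]
        exact Cores.le_pCore (Subgroup.normalizer_eq_top_iff.1 h) (S.2.to_le hU)
      suffices main : ∀ (k : ℕ) (U : Subgroup Y), Nat.card (S : Subgroup Y) - Nat.card (nS (S : Subgroup Y) U) = k →
          U ≤ (S : Subgroup Y) → U ≠ ⊥ → Cfsg.HasNormalPComplement p ↥(Subgroup.normalizer (U : Set Y)) by
        refine Transfer.hasNormalPComplement_of_local fun U hU hne => ?_
        obtain ⟨g, -, hg⟩ := exists_cj_le_of_not_dvd le_top S.2 (sylow_relIndex_top S) (le_top : U ≤ ⊤) hU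
        have := main _ (cj g U) rfl hg (fun h => hne (by rw [← cj_inv_cj g U, h, cj, Subgroup.map_bot]))
        rw [← cj_normalizer] at this
        exact (hasNormalPComplement_congr ((Subgroup.normalizer (U : Set Y)).equivMapOfInjective _
          (MulAut.conj g).injective)).2 this
      intro k
      induction k using Nat.strong_induction_on with
      | _ k ih2 =>
        intro U hk hU hne
        obtain ⟨g, hg, hext⟩ := exists_extr_cj S hU
        set U0 := cj g U with hU0
        have hle := Subgroup.card_le_of_le (cj_nS_le hg)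
        rw [card_cj, ← hU0] at hle
        have hne0 : U0 ≠ ⊥ := fun h => hne (by rw [← cj_inv_cj g U, ← hU0, h, cj, Subgroup.map_bot])
        suffices h0 : Cfsg.HasNormalPComplement p ↥(Subgroup.normalizer (U0 : Set Y)) by
          rw [hU0, ← cj_normalizer] at h0
          exact (hasNormalPComplement_congr ((Subgroup.normalizer (U : Set Y)).equivMapOfInjective _
            (MulAut.conj g).injective)).2 h0
        set N := Subgroup.normalizer (U0 : Set Y) with hNdef
        set T := nS (S : Subgroup Y) U0 with hT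
        have hTN : T ≤ N := inf_le_right
        have hTp : IsPGroup p T := S.2.to_le inf_le_left
        let TN : Sylow p N := ((hTp.comap_of_injective N.subtype N.subtype_injective :
          IsPGroup p (T.subgroupOf N))).toSylow hext.2
        refine ih _ (hn ▸ card_lt_of_ne_top (hprop U0 hext.1 hne0)) N rfl TN ((D ⊓ T).subgroupOf N)
          (closed_subgroupOf (closed_inf hD inf_le_left) N) ?_
        refine (hasNormalPComplement_congr (Subgroup.equivMapOfInjective _ N.subtype N.subtype_injective)).2 ?_
        refine hasNormalPComplement_of_le (hmapN N (D ⊓ T) (inf_le_right.trans hTN)) ?_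
        by_cases hTS : T = (S : Subgroup Y)
        · rwa [hTS, inf_eq_left.2 hD.1]
        · have hDT : D ⊓ T ≠ ⊥ := closed_inf_nS_ne_bot S.2 hD hDne U0 hext.1
          have h1 : T < nS (S : Subgroup Y) T := lt_nS S.2 (lt_of_le_of_ne inf_le_left hTS)
          have h2 : nS (S : Subgroup Y) T ≤ nS (S : Subgroup Y) (zIn e (D ⊓ T)) := by
            refine le_inf inf_le_left fun s hs => normalizer_le_normalizer_zIn e _ ?_
            rw [mem_normalizer_iff_cj, cj_inf, mem_normalizer_iff_cj.1 (le_normalizer_of_closed hD hs.1),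
              mem_normalizer_iff_cj.1 hs.2]
          have h3 := lt_of_lt_of_le (card_lt_of_lt h1) (Subgroup.card_le_of_le h2)
          have h4 : Nat.card (nS (S : Subgroup Y) (zIn e (D ⊓ T))) ≤ Nat.card (S : Subgroup Y) :=
            Subgroup.card_le_of_le inf_le_left
          exact ih2 _ (by omega) _ rfl (((zIn_le_self e _).trans inf_le_right).trans inf_le_left)
            (zIn_ne_bot he (hTp.to_le inf_le_right) hDT)
    -- the core is nontrivial
    by_cases hO : Cfsg.pPrimeCore p Y = ⊥
    swap
    · set O := Cfsg.pPrimeCore p Y with hOdef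
      have hOc : (Nat.card O).Coprime p := Cores.pPrimeCore_coprime p Y
      have hnpc : Cfsg.HasNormalPComplement p (Y ⧸ O) := by
        refine hquot O hO (closed_map_of_coprime S hD O) ?_
        rw [← map_zIn_injOn (QuotientGroup.mk' O) e fun d hd h1 =>
          eq_one_of_mem_pPrimeCore S.2 (hD.1 hd) ((QuotientGroup.eq_one_iff d).1 h1)]
        set NZ := Subgroup.normalizer (zIn e D : Set Y)
        refine hasNormalPComplement_of_le (K := NZ.map (QuotientGroup.mk' O)) ?_
          (hasNormalPComplement_of_surjective _ ((QuotientGroup.mk' O).subgroupMap_surjective NZ) hN)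
        intro x hx
        obtain ⟨m, hm, rfl⟩ := exists_lift_normalizer (S.2.to_le ((zIn_le_self e D).trans hD.1)) hOc hx
        exact ⟨m, hm, rfl⟩
      rw [hasNormalPComplement_iff_coprime] at hnpc ⊢
      rw [← Transfer.pResidual_map_of_surjective _ (QuotientGroup.mk'_surjective O)] at hnpc
      have h1 : Cfsg.pResidual p Y ≤ ((Cfsg.pResidual p Y).map (QuotientGroup.mk' O)).comap (QuotientGroup.mk' O) :=
        Subgroup.le_comap_map _ _
      refine Nat.Coprime.coprime_dvd_left (Subgroup.card_dvd_of_le h1) ?_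
      rw [Cores.card_comap_mk']
      exact Nat.Coprime.mul_left (Cores.pPrimeCore_coprime p Y) hnpc
    set Q := Cfsg.pCore p Y with hQdef
    have hQS : Q ≤ (S : Subgroup Y) := pCore_le_S S
    by_cases hDQ : D ≤ Q
    · refine hdone ?_
      have hn' : D.Normal := ⟨fun d hd g => hD.2 d hd g
        (hQS ((Cfsg.pCore_normal p Y).conj_mem d (hDQ hd) g))⟩
      rw [eq_top_iff]
      refine le_trans ?_ (normalizer_le_normalizer_zIn e D)
      rw [Subgroup.normalizer_eq_top]
    have hSQ : Q ≠ (S : Subgroup Y) := fun h => hDQ (h ▸ hD.1)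
    set f := QuotientGroup.mk' Q with hf
    have hcomapS : ((S : Subgroup Y).map f).comap f = (S : Subgroup Y) := by
      rw [Subgroup.comap_map_eq, QuotientGroup.ker_mk', sup_eq_left.2 hQS]
    have hnpcQ : Cfsg.HasNormalPComplement p (Y ⧸ Q) := by
      have hcl := closed_map_of_le hD Q hQS
      refine hquot Q hQ hcl ?_
      set Z := zIn e (D.map f) with hZ
      have hZne : Z ≠ ⊥ := zIn_ne_bot he ((S.2.to_le hD.1).map f) fun h => hDQ (by
        rwa [Subgroup.map_eq_bot_iff, QuotientGroup.ker_mk'] at h)
      have hle : Z ≤ (S : Subgroup Y).map f := (zIn_le_self e _).trans hcl.1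
      set XW := Z.comap f with hXW
      have hXWS : XW ≤ (S : Subgroup Y) := by rw [← hcomapS]; exact Subgroup.comap_mono hle
      have hprop : Subgroup.normalizer (XW : Set Y) ≠ ⊤ := by
        refine normalizer_ne_top_of_pCore (S.2.to_le hXWS) fun hc => hZne ?_
        rw [eq_bot_iff]
        intro z hz
        obtain ⟨w, rfl⟩ := QuotientGroup.mk'_surjective Q z
        exact Subgroup.mem_bot.2 ((QuotientGroup.eq_one_iff w).2 (hc hz))
      have hnorm : ∀ y : Y, f y ∈ Subgroup.normalizer (Z : Set (Y ⧸ Q)) →
          y ∈ Subgroup.normalizer (XW : Set Y) := by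
        intro y hy
        rw [Subgroup.mem_normalizer_iff]
        intro z
        show f z ∈ Z ↔ f (y * z * y⁻¹) ∈ Z
        rw [map_mul, map_mul, map_inv]
        exact Subgroup.mem_normalizer_iff.1 hy (f z)
      have hSN : (S : Subgroup Y) ≤ Subgroup.normalizer (XW : Set Y) := fun s hs =>
        hnorm s (normalizer_le_normalizer_zIn e _ (le_normalizer_of_closed hcl ⟨s, hs, rfl⟩))
      refine hasNormalPComplement_of_le (K := (Subgroup.normalizer (XW : Set Y)).map f) ?_
        (hasNormalPComplement_of_surjective _ (f.subgroupMap_surjective _) (hsub _ hprop hSN))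
      intro x hx
      obtain ⟨m, rfl⟩ := QuotientGroup.mk'_surjective Q x
      exact ⟨m, hnorm m hx, rfl⟩
    -- the group has a self-centralizing core
    have hC : CharPType p Y := by
      set C := Subgroup.centralizer (Q : Set Y) with hCdef
      set M := (Cfsg.pResidual p (Y ⧸ Q)).comap f with hM
      have hcop := hasNormalPComplement_iff_coprime.1 hnpcQ
      set CM := C ⊓ M with hCM
      have hQn : Q.Normal := by rw [hQdef]; infer_instance
      have hCn : C.Normal := by rw [hCdef]; infer_instance
      have hMn : M.Normal := by rw [hM]; infer_instance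
      have hi : ¬ p ∣ ((S : Subgroup Y) ⊓ CM).relIndex CM :=
        not_dvd_relIndex_inf le_top S.2 (sylow_relIndex_top S) le_top (by rw [Subgroup.normalizer_eq_top])
      let P : Sylow p CM := ((S.2.to_le inf_le_left).comap_of_injective CM.subtype CM.subtype_injective :
        IsPGroup p (((S : Subgroup Y) ⊓ CM).subgroupOf CM)).toSylow hi
      have hPQ : ∀ z : CM, z ∈ (P : Subgroup CM) → (z : Y) ∈ Q := by
        intro z hz
        have hzS : (z : Y) ∈ (S : Subgroup Y) := (Subgroup.mem_inf.1 (Subgroup.mem_subgroupOf.1 hz)).1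
        have : f z = 1 := Cfsg.Agent.Lib.Transfer.eq_one_of_isPGroup_of_coprime (S.2.map f) ⟨_, hzS, rfl⟩
          (Cfsg.Agent.Lib.Transfer.coprime_orderOf_of_mem hcop (Subgroup.mem_inf.1 z.2).2)
        exact (QuotientGroup.eq_one_iff _).1 this
      have hcent : Subgroup.normalizer ((P : Subgroup CM) : Set CM) ≤ Subgroup.centralizer ((P : Subgroup CM) : Set CM) := by
        intro c _
        rw [Subgroup.mem_centralizer_iff]
        intro z hz
        exact Subtype.ext (Subgroup.mem_centralizer_iff.1 (Subgroup.mem_inf.1 c.2).1 _ (hPQ z hz))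
      have hnpc := Cfsg.Agent.Lib.Transfer.hasNormalPComplement_of_normalizer_le_centralizer P hcent
      rw [hasNormalPComplement_iff_coprime] at hnpc
      have hbot : Cfsg.pResidual p CM = ⊥ := by
        rw [← Subgroup.map_eq_bot_iff_of_injective _ CM.subtype_injective, eq_bot_iff, ← hO]
        refine Cfsg.Agent.Lib.Cores.le_pPrimeCore inferInstance ?_
        rwa [Subgroup.card_map_of_injective CM.subtype_injective]
      have htop := Cfsg.Agent.Lib.Transfer.sylow_sup_pResidual P
      rw [hbot, sup_bot_eq] at htop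
      have hCMQ : ∀ c ∈ C, c ∈ M → c ∈ Q := fun c h1 h2 =>
        hPQ ⟨c, Subgroup.mem_inf.2 ⟨h1, h2⟩⟩ (htop ▸ Subgroup.mem_top _)
      intro c hc
      have hCp : IsPGroup p C := by
        intro ⟨c, hc⟩
        obtain ⟨j, hj⟩ := Cfsg.Agent.Lib.Transfer.isPGroup_quotient_pResidual (G := Y ⧸ Q) (p := p) (QuotientGroup.mk (f c))
        rw [← QuotientGroup.mk_pow, QuotientGroup.eq_one_iff, ← map_pow] at hj
        have hq := hCMQ _ (pow_mem hc (p ^ j)) hj
        obtain ⟨i, hi⟩ := Cfsg.Agent.Lib.Cores.pCore_isPGroup p Y ⟨_, hq⟩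
        exact ⟨j + i, Subtype.ext (by have := congrArg Subtype.val hi; simpa [pow_add, pow_mul] using this)⟩
      exact Cfsg.Agent.Lib.Cores.le_pCore hCn hCp hc
    -- `S` is maximal
    have hco : IsCoatom (S : Subgroup Y) := by
      refine ⟨fun h => hSQ ?_, fun H hH => ?_⟩
      · refine le_antisymm hQS (Cfsg.Agent.Lib.Cores.le_pCore ?_ S.2)
        rw [h]; infer_instance
      · by_contra hne
        have hnpc := hsub H hne hH.le
        have hbot : Cfsg.pResidual p H = ⊥ := by
          have hcop := hasNormalPComplement_iff_coprime.1 hnpc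
          rw [eq_bot_iff]
          intro b hb
          have hb1 := Cfsg.Agent.Lib.Transfer.coprime_orderOf_of_mem hcop hb
          have hQH : Q ≤ H := hQS.trans hH.le
          have hc := Cfsg.Agent.Lib.Transfer.commute_of_hasNormalPComplement hnpc
            (Q := Q.subgroupOf H) ((Cfsg.Agent.Lib.Cores.pCore_isPGroup p Y).of_equiv (Subgroup.subgroupOfEquivOfLe hQH).symm) hb1
          have hbC : (b : Y) ∈ Subgroup.centralizer (Q : Set Y) := by
            rw [Subgroup.mem_centralizer_iff]
            intro q hq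
            exact congrArg Subtype.val (Subgroup.mem_centralizer_iff.1 hc ⟨q, hQH hq⟩ hq)
          refine Subgroup.mem_bot.2 (Subtype.ext ?_)
          exact Cfsg.Agent.Lib.Transfer.eq_one_of_isPGroup_of_coprime (Cfsg.Agent.Lib.Cores.pCore_isPGroup p Y) (hC hbC)
            (by rwa [Subgroup.orderOf_coe])
        have htop := Cfsg.Agent.Lib.Transfer.sylow_sup_pResidual (S.subtype hH.le)
        rw [hbot, sup_bot_eq, Sylow.coe_subtype, Subgroup.subgroupOf_eq_top] at htop
        exact not_le_of_gt hH htop
    refine hdone ?_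
    have hst := isNormalizerPStable_of_hasAbTop hp2 (hasAbTop_minimal hnpcQ S hco)
    have he' : Odd e ∨ e = 0 := he.imp (fun h => by rw [h]; exact (Fact.out : p.Prime).odd_of_ne_two hp2) id
    haveI := zIn_normal_closed hp2 hC (fun V _ hV => isPStableOn_of_normalizer hst V hV) he' S hD
    exact Subgroup.normalizer_eq_top _

end Cfsg.Agent.Lib.LocalEven2
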