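import Cfsg.Agent.Lib.LocalEven2.ClosedFunctor
import Cfsg.Agent.Lib.FusionControl.SectionInduction

/-!
Control by `Z(J(D))` in all sections from stability of the sections.
-/

set_option autoImplicit false
set_option linter.style.haveILetI false

universe u

namespace Cfsg.Agent.Lib.LocalEven2

open Cfsg.Agent.Lib.PLocal
open Cfsg.Agent.Lib.FusionControl

variable {p : ℕ} [Fact p.Prime] {X : Type u} [Group X] [Finite X]

/-- The induction step in the hard case. -/
theorem closedControl_hard {e : ℕ} (he : e = p ∨ e = 0) (S : Sylow p X) {D : Subgroup X}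
    (hD : Cfsg.IsStronglyClosed D (S : Subgroup X))
    (hO : Cfsg.pPrimeCore p X = ⊥) (hC : ¬ CharPType p X)
    (hDQ : ¬ D ≤ Cfsg.pCore p X)
    (hH : ∀ H : Subgroup X, H ≠ ⊤ → (S : Subgroup X) ≤ H →
      ∀ (A : Set X) (g : X), g ∈ H → A ⊆ (S : Subgroup X) → cs g A ⊆ (S : Subgroup X) → ZCtrl e D A g)
    (hquot : ClosedControl e ((S : Subgroup X).map (QuotientGroup.mk' (Cfsg.pCore p X)))
      (D.map (QuotientGroup.mk' (Cfsg.pCore p X)))) :
    ClosedControl e (S : Subgroup X) D := by
  set Q := Cfsg.pCore p X with hQdef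
  set C := Subgroup.centralizer (Q : Set X) with hCdef
  set CS := (S : Subgroup X) ⊓ C with hCSdef
  have hQn : Q.Normal := by rw [hQdef]; infer_instance
  have hCn : C.Normal := by rw [hCdef]; infer_instance
  have hCSQ : ¬ CS ≤ Q := inf_centralizer_pCore_not_le hO hC S
  have hQS : Q ≤ (S : Subgroup X) := pCore_le_S S
  have hNCS : Subgroup.normalizer (CS : Set X) ≠ ⊤ :=
    normalizer_ne_top_of_pCore (S.2.to_le inf_le_left) hCSQ
  have hSNCS : (S : Subgroup X) ≤ Subgroup.normalizer (CS : Set X) := by
    intro s hs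
    rw [mem_normalizer_iff_cj, hCSdef, cj_inf, mem_normalizer_iff_cj.1 (Subgroup.le_normalizer hs),
      mem_normalizer_iff_cj.1 (show s ∈ Subgroup.normalizer (C : Set X) by rw [Subgroup.normalizer_eq_top]; trivial)]
  by_cases hCS : (S : Subgroup X) ⊔ C = ⊤
  · -- `X = C S`
    have hpel : ∀ x : X, (orderOf x).Coprime p → x ∈ C := by
      intro x hx
      have hE : IsPGroup p (X ⧸ C) := by
        have hs : Function.Surjective ((QuotientGroup.mk' C).comp (S : Subgroup X).subtype) := by
          intro y
          obtain ⟨z, rfl⟩ := QuotientGroup.mk'_surjective C y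
          have : z ∈ (S : Subgroup X) ⊔ C := hCS ▸ Subgroup.mem_top z
          obtain ⟨s, hs, c, hc, rfl⟩ := Subgroup.mem_sup_of_normal_right.1 this
          refine ⟨⟨s, hs⟩, ?_⟩
          show QuotientGroup.mk' C s = QuotientGroup.mk' C (s * c)
          rw [mk'_eq_iff]; simpa using hc
        exact S.2.of_surjective _ hs
      have := Cfsg.Agent.Lib.Transfer.pResidual_le_ker hE (QuotientGroup.mk' C)
        (Cfsg.Agent.Lib.Transfer.mem_pResidual_of_coprime hx)
      rwa [QuotientGroup.ker_mk'] at this
    set f := QuotientGroup.mk' Q with hf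
    have hcomapS : ((S : Subgroup X).map f).comap f = (S : Subgroup X) := by
      rw [Subgroup.comap_map_eq, QuotientGroup.ker_mk', sup_eq_left.2 hQS]
    -- lifting modulo `Q`
    have hlift : ∀ (A : Set X) (g : X), A ⊆ ((S : Subgroup X) : Set X) → cs g A ⊆ ((S : Subgroup X) : Set X) →
        ∃ y, ZCtrl e D A y ∧ cs y A ⊆ ((S : Subgroup X) : Set X) ∧
          ∀ a ∈ A, f (y * a * y⁻¹) = f g * f a * (f g)⁻¹ := by
      intro A g hA hgA
      obtain ⟨x, hx, hxe⟩ := hquot (f '' A) (f g) (Set.image_mono hA) (by
        rintro _ ⟨_, ⟨a, ha, rfl⟩, rfl⟩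
        exact ⟨g * a * g⁻¹, hgA ⟨a, ha, rfl⟩, by simp⟩)
      obtain ⟨n, rfl⟩ := QuotientGroup.mk'_surjective Q x
      have hcl := closed_map_of_le hD Q hQS
      set Z := zIn e (D.map f) with hZ
      have hZne : Z ≠ ⊥ := zIn_ne_bot he ((S.2.to_le hD.1).map f) fun h => hDQ (by
        rwa [Subgroup.map_eq_bot_iff, QuotientGroup.ker_mk'] at h)
      have hle : Z ≤ (S : Subgroup X).map f := (zIn_le_self e _).trans hcl.1
      set XW := Z.comap f with hXW
      have hXWS : XW ≤ (S : Subgroup X) := by rw [← hcomapS]; exact Subgroup.comap_mono hle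
      have hprop : Subgroup.normalizer (XW : Set X) ≠ ⊤ := by
        refine normalizer_ne_top_of_pCore (S.2.to_le hXWS) fun hc => hZne ?_
        rw [eq_bot_iff]
        intro z hz
        obtain ⟨w, rfl⟩ := QuotientGroup.mk'_surjective Q z
        exact Subgroup.mem_bot.2 ((QuotientGroup.eq_one_iff w).2 (hc hz))
      have hnorm : ∀ y : X, f y ∈ Subgroup.normalizer (Z : Set (X ⧸ Q)) →
          y ∈ Subgroup.normalizer (XW : Set X) := by
        intro y hy
        rw [Subgroup.mem_normalizer_iff]
        intro z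
        show f z ∈ Z ↔ f (y * z * y⁻¹) ∈ Z
        rw [map_mul, map_mul, map_inv]
        exact Subgroup.mem_normalizer_iff.1 hy (f z)
      have hSN : (S : Subgroup X) ≤ Subgroup.normalizer (XW : Set X) := fun s hs =>
        hnorm s (normalizer_le_normalizer_zIn e _ (le_normalizer_of_closed hcl ⟨s, hs, rfl⟩))
      have hfn : ∀ a ∈ A, f (n * a * n⁻¹) = f g * f a * (f g)⁻¹ := fun a ha => by
        rw [map_mul, map_mul, map_inv]; exact hxe _ ⟨a, ha, rfl⟩
      have hnA : cs n A ⊆ ((S : Subgroup X) : Set X) := by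
        rintro _ ⟨a, ha, rfl⟩
        show n * a * n⁻¹ ∈ (S : Subgroup X)
        rw [← hcomapS]
        refine ⟨g * a * g⁻¹, hgA ⟨a, ha, rfl⟩, ?_⟩
        rw [hfn a ha]; simp
      exact ⟨n, hH _ hprop hSN A n (hnorm n hx) hA hnA, hnA, hfn⟩
    have main : ∀ (k : ℕ) (R : Subgroup X), Nat.card (S : Subgroup X) - Nat.card R = k →
        Q ≤ R → R ≤ (S : Subgroup X) → ∀ h : X, cj h R ≤ (S : Subgroup X) →
        ZCtrl e D (R : Set X) h := by
      intro k
      induction k using Nat.strong_induction_on with
      | _ k ih =>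
        intro R hk hQR hRS h hhR
        have hA' : f '' (R : Set X) ⊆ (((S : Subgroup X).map f : Subgroup _) : Set (X ⧸ Q)) := Set.image_mono hRS
        have hgA' : cs (f h) (f '' (R : Set X)) ⊆ (((S : Subgroup X).map f : Subgroup _) : Set (X ⧸ Q)) := by
          rintro _ ⟨_, ⟨a, ha, rfl⟩, rfl⟩
          exact ⟨h * a * h⁻¹, hhR (conj_mem_cj ha), by simp⟩
        obtain ⟨d, hd, hdS, hde⟩ := hlift (R : Set X) h hRS (fun x ⟨a, ha, hax⟩ => hax ▸ hhR (conj_mem_cj ha))
        set R' := cj d R with hR'
        have hR'S : R' ≤ (S : Subgroup X) := hdS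
        have hQR' : Q ≤ R' := by
          have e : cj d Q = Q := mem_normalizer_iff_cj.1 (by rw [Subgroup.normalizer_eq_top]; trivial)
          rw [← e]; exact cj_le_cj hQR
        set t := h * d⁻¹ with ht
        have htriv : ∀ r ∈ R', f (t * r * t⁻¹) = f r := by
          rintro _ ⟨a, ha, rfl⟩
          show f (t * (d * a * d⁻¹) * t⁻¹) = f (d * a * d⁻¹)
          rw [hde a ha, ht, show h * d⁻¹ * (d * a * d⁻¹) * (h * d⁻¹)⁻¹ = h * a * h⁻¹ by group]
          simp
        suffices hR't : ZCtrl e D (R' : Set X) t by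
          have := ZCtrl.comp hd hR't
          rwa [ht, inv_mul_cancel_right] at this
        have htN : t ∈ Subgroup.normalizer (R' : Set X) := by
          refine mem_normalizer_of_cj_le ?_
          rintro _ ⟨r, hr, rfl⟩
          have : (t * r * t⁻¹)⁻¹ * r ∈ Q := mk'_eq_iff.1 (htriv r hr)
          have h2 := mul_mem hr (inv_mem (hQR' this))
          simpa [mul_assoc] using h2
        have hcR : Nat.card R' = Nat.card R := card_cj d R
        by_cases hR'eq : R' = (S : Subgroup X)
        · have hprop : Subgroup.normalizer ((S : Subgroup X) : Set X) ≠ ⊤ :=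
            normalizer_ne_top_of_pCore S.2 fun hc => hCSQ (inf_le_left.trans hc)
          rw [hR'eq] at htN ⊢
          exact hH _ hprop Subgroup.le_normalizer _ t htN subset_rfl (by rw [cs_subgroup, mem_normalizer_iff_cj.1 htN])
        have hlt := card_lt_nS S.2 (lt_of_le_of_ne hR'S hR'eq)
        have hRle : Nat.card R ≤ Nat.card (S : Subgroup X) := Subgroup.card_le_of_le hRS
        have hnle : Nat.card (nS (S : Subgroup X) R') ≤ Nat.card (S : Subgroup X) := Subgroup.card_le_of_le inf_le_left
        obtain ⟨k0, hk0, hext⟩ := exists_extr_cj S hR'S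
        have c1 : ZCtrl e D (nS (S : Subgroup X) R' : Set X) k0 :=
          ih _ (by omega) _ rfl (hQR'.trans (le_nS hR'S)) inf_le_left k0 hk0
        have c3 : ZCtrl e D (cj k0 (nS (S : Subgroup X) R') : Set X) k0⁻¹ := by
          refine ih _ ?_ _ rfl ?_ hk0 k0⁻¹ (by rw [cj_inv_cj]; exact inf_le_left)
          · rw [card_cj]; omega
          · have e : cj k0 Q = Q := mem_normalizer_iff_cj.1 (by rw [Subgroup.normalizer_eq_top]; trivial)
            rw [← e]; exact cj_le_cj (hQR'.trans (le_nS hR'S))
        set R0 := cj k0 R' with hR0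
        set t0 := k0 * t * k0⁻¹ with ht0
        have ht0N : t0 ∈ Subgroup.normalizer (R0 : Set X) := by
          rw [hR0, ← cj_normalizer]; exact conj_mem_cj htN
        have hQR0 : Q ≤ R0 := by
          have e : cj k0 Q = Q := mem_normalizer_iff_cj.1 (by rw [Subgroup.normalizer_eq_top]; trivial)
          rw [← e]; exact cj_le_cj hQR'
        set N := Subgroup.normalizer (R0 : Set X) with hN
        set K := N ⊓ (Subgroup.centralizer ((R0.map f : Subgroup (X ⧸ Q)) : Set (X ⧸ Q))).comap f with hK
        have ht0K : t0 ∈ K := by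
          refine Subgroup.mem_inf.2 ⟨ht0N, ?_⟩
          rw [Subgroup.mem_comap, Subgroup.mem_centralizer_iff]
          rintro _ ⟨_, ⟨r, hr, rfl⟩, rfl⟩
          show f (k0 * r * k0⁻¹) * f t0 = f t0 * f (k0 * r * k0⁻¹)
          have := htriv r hr
          rw [map_mul, map_mul, map_inv, mul_inv_eq_iff_eq_mul] at this
          simp only [ht0, map_mul, map_inv]
          calc f k0 * f r * (f k0)⁻¹ * (f k0 * f t * (f k0)⁻¹) = f k0 * (f r * f t) * (f k0)⁻¹ := by group
            _ = f k0 * (f t * f r) * (f k0)⁻¹ := by rw [this]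
            _ = _ := by group
        have hNK : N ≤ Subgroup.normalizer (K : Set X) := by
          intro x hx
          refine mem_normalizer_of_cj_le ?_
          rintro _ ⟨y, hy, rfl⟩
          obtain ⟨hy1, hy2⟩ := Subgroup.mem_inf.1 hy
          show x * y * x⁻¹ ∈ K
          refine Subgroup.mem_inf.2 ⟨mul_mem (mul_mem hx hy1) (inv_mem hx), ?_⟩
          rw [Subgroup.mem_comap, Subgroup.mem_centralizer_iff] at hy2 ⊢
          rintro _ ⟨r, hr, rfl⟩
          have hr' : x⁻¹ * r * x ∈ R0 := by
            have := (Subgroup.mem_normalizer_iff.1 (inv_mem hx) r).1 hr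
            simpa using this
          have h2 := hy2 (f (x⁻¹ * r * x)) ⟨_, hr', rfl⟩
          simp only [map_mul, map_inv] at h2 ⊢
          calc f r * (f x * f y * (f x)⁻¹) = f x * ((f x)⁻¹ * f r * f x * f y) * (f x)⁻¹ := by group
            _ = f x * (f y * ((f x)⁻¹ * f r * f x)) * (f x)⁻¹ := by rw [h2]
            _ = _ := by group
        set CK := K ⊓ Subgroup.centralizer (R0 : Set X) with hCK
        have hKCK : K ≤ Subgroup.normalizer (CK : Set X) := by
          intro x hx
          rw [mem_normalizer_iff_cj, hCK, cj_inf, mem_normalizer_iff_cj.1 (Subgroup.le_normalizer hx),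
            mem_normalizer_iff_cj.1 (normalizer_le_normalizer_centralizer R0 (Subgroup.mem_inf.1 hx).1)]
        have hres : ∀ b ∈ K, (orderOf b).Coprime p → b ∈ Subgroup.centralizer (R0 : Set X) := by
          intro b hb hbp
          have hbC := hpel b hbp
          obtain ⟨hb1, hb2⟩ := Subgroup.mem_inf.1 hb
          rw [Subgroup.mem_centralizer_iff]
          intro r hr
          rw [Subgroup.mem_comap, Subgroup.mem_centralizer_iff] at hb2
          have h2 := hb2 (f r) ⟨r, hr, rfl⟩
          set q := r⁻¹ * (b * r * b⁻¹) with hq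
          have hqQ : q ∈ Q := by
            rw [hq, ← mk'_eq_iff, ← hf, map_mul, map_mul, map_inv, ← h2, mul_inv_cancel_right]
          have hqb : Commute q b := Subgroup.mem_centralizer_iff.1 hbC q hqQ
          have key : ∀ i : ℕ, b ^ i * r * (b ^ i)⁻¹ = r * q ^ i := by
            intro i
            induction i with
            | zero => simp
            | succ i ihh =>
              calc b ^ (i + 1) * r * (b ^ (i + 1))⁻¹ = b ^ i * (b * r * b⁻¹) * (b ^ i)⁻¹ := by rw [pow_succ]; group
                _ = b ^ i * (r * q) * (b ^ i)⁻¹ := by rw [hq]; group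
                _ = (b ^ i * r * (b ^ i)⁻¹) * (b ^ i * q * (b ^ i)⁻¹) := by group
                _ = r * q ^ i * q := by
                  rw [ihh]
                  congr 1
                  rw [← (hqb.pow_right i).eq, mul_inv_cancel_right]
                _ = _ := by rw [pow_succ, mul_assoc]
          have h3 := key (orderOf b)
          rw [pow_orderOf_eq_one, one_mul, inv_one, mul_one] at h3
          have h4 : q ^ orderOf b = 1 := by
            have : r * q ^ orderOf b = r * 1 := by rw [← h3, mul_one]
            exact mul_left_cancel this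
          have h5 : q = 1 := by
            have hqS := hQS hqQ
            refine Cfsg.Agent.Lib.Transfer.eq_one_of_isPGroup_of_coprime S.2 hqS ?_
            exact Nat.Coprime.coprime_dvd_left (orderOf_dvd_of_pow_eq_one h4) hbp
          rw [hq, inv_mul_eq_one] at h5
          exact mul_inv_eq_iff_eq_mul.1 h5.symm |>.symm
        have hKsup : K ≤ (nS (S : Subgroup X) R0 ⊓ K) ⊔ CK := by
          have hi := not_dvd_relIndex_inf inf_le_right (S.2.to_le inf_le_left) hext.2 inf_le_left hNK
          have hn : (CK.subgroupOf K).Normal :=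
            (Subgroup.normal_subgroupOf_iff_le_normalizer inf_le_left).2 hKCK
          have hE : IsPGroup p (↥K ⧸ CK.subgroupOf K) := by
            intro x
            induction x using QuotientGroup.induction_on with
            | H g =>
              obtain ⟨a, b, -, -, ha, ⟨j, hj⟩, rfl⟩ := Cfsg.Agent.Lib.Transfer.exists_pPart_decomp (p := p) g
              refine ⟨j, ?_⟩
              have : a ∈ CK.subgroupOf K := Subgroup.mem_inf.2 ⟨a.2, hres _ a.2 (by rw [orderOf_injective K.subtype K.subtype_injective]; exact ha)⟩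
              rw [QuotientGroup.mk_mul, (QuotientGroup.eq_one_iff a).mpr this, one_mul,
                ← QuotientGroup.mk_pow, ← hj, pow_orderOf_eq_one, QuotientGroup.mk_one]
          obtain ⟨e, he⟩ := IsPGroup.iff_card.mp hE
          set M' := (nS (S : Subgroup X) R0 ⊓ K) ⊔ CK with hM'
          have h2 : M'.relIndex K ∣ p ^ e := he ▸ Subgroup.relIndex_dvd_of_le_left _ le_sup_right
          obtain ⟨b, _, hb⟩ := (Nat.dvd_prime_pow Fact.out).1 h2
          have h3 : ¬ p ∣ M'.relIndex K := fun h => hi (h.trans (Subgroup.relIndex_dvd_of_le_left _ le_sup_left))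
          rw [hb] at h3
          have hb0 : b = 0 := by
            by_contra hb0
            exact h3 (dvd_pow_self p hb0)
          rw [hb0, pow_zero] at hb
          exact Subgroup.relIndex_eq_one.1 hb
        have hsup := hKsup ht0K
        rw [sup_comm] at hsup
        obtain ⟨c, hc, s, hs, hcs⟩ := Cfsg.Agent.Lib.Coprime.exists_mul_of_mem_sup (inf_le_right.trans hKCK) hsup
        have hcN : c ∈ Subgroup.centralizer (R0 : Set X) := (Subgroup.mem_inf.1 hc).2
        have hs' := (Subgroup.mem_inf.1 (Subgroup.mem_inf.1 hs).1)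
        have c2 : ZCtrl e D (R0 : Set X) t0 := by
          have hsR : cs s (R0 : Set X) ⊆ ((S : Subgroup X) : Set X) := by
            rw [cs_subgroup, mem_normalizer_iff_cj.1 hs'.2]; exact hext.1
          by_cases hStop : (S : Subgroup X) = ⊤
          · exact absurd (show CS ≤ Q from inf_le_left.trans
              (Cfsg.Agent.Lib.Cores.le_pCore (by rw [hStop]; infer_instance) S.2)) hCSQ
          refine (hH _ hStop le_rfl (R0 : Set X) s hs'.1 hext.1 hsR).congr fun r hr => ?_
          have hsr : s * r * s⁻¹ ∈ R0 := (Subgroup.mem_normalizer_iff.1 hs'.2 r).1 hr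
          have := Subgroup.mem_centralizer_iff.1 hcN _ hsr
          rw [hcs, show c * s * r * (c * s)⁻¹ = c * (s * r * s⁻¹) * c⁻¹ by group, ← this, mul_inv_cancel_right]
        have c12 := ZCtrl.comp (c1.mono (le_nS hR'S)) c2
        have h3 := c3.mono (show cs (t0 * k0) (R' : Set X) ⊆ (cj k0 (nS (S : Subgroup X) R') : Set X) from by
          rw [← cs_cs, cs_subgroup, cs_subgroup, mem_normalizer_iff_cj.1 ht0N]
          exact cj_le_cj (le_nS hR'S))
        have := ZCtrl.comp c12 h3
        rwa [ht0, show k0⁻¹ * (k0 * t * k0⁻¹ * k0) = t by group] at this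
    intro A g hA hgA
    set R := Subgroup.closure A ⊔ Q with hR
    have hRS : R ≤ (S : Subgroup X) := sup_le ((Subgroup.closure_le _).2 hA) hQS
    refine (main _ R rfl le_sup_right hRS g ?_).mono (fun a ha => Subgroup.mem_sup_left (Subgroup.subset_closure ha))
    rw [hR, cj, Subgroup.map_sup, MonoidHom.map_closure]
    exact sup_le ((Subgroup.closure_le _).2 hgA)
      ((mem_normalizer_iff_cj.1 (show g ∈ Subgroup.normalizer (Q : Set X) by rw [Subgroup.normalizer_eq_top]; trivial)).le.trans hQS)
  · -- `C S` is proper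
    intro A g hA hgA
    set R := Subgroup.closure A ⊔ CS with hR
    have hRS : R ≤ (S : Subgroup X) := sup_le ((Subgroup.closure_le _).2 hA) inf_le_left
    have hgR : cj g R ≤ (S : Subgroup X) ⊔ C := by
      rw [hR, cj, Subgroup.map_sup, MonoidHom.map_closure]
      refine sup_le ((Subgroup.closure_le _).2 fun x hx => Subgroup.mem_sup_left (hgA hx)) ?_
      exact ((cj_le_cj inf_le_right).trans
        (mem_normalizer_iff_cj.1 (show g ∈ Subgroup.normalizer (C : Set X) by rw [Subgroup.normalizer_eq_top]; trivial)).le).trans le_sup_right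
    obtain ⟨c, hc, hle⟩ := exists_cj_le_of_not_dvd le_sup_left S.2
      (not_dvd_relIndex_of_le S le_sup_left) hgR (isPGroup_cj (S.2.to_le hRS))
    rw [cj_cj] at hle
    have hm : c * g ∈ Subgroup.normalizer (CS : Set X) := by
      refine mem_normalizer_of_cj_le (le_inf ((cj_le_cj le_sup_right).trans hle) ?_)
      exact (cj_le_cj inf_le_right).trans
        (mem_normalizer_iff_cj.1 (show c * g ∈ Subgroup.normalizer (C : Set X) by rw [Subgroup.normalizer_eq_top]; trivial)).le
    have hmA : cs (c * g) A ⊆ ((S : Subgroup X) : Set X) := by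
      rintro _ ⟨a, ha, rfl⟩
      exact hle (conj_mem_cj (Subgroup.mem_sup_left (Subgroup.subset_closure ha)))
    have h1 := hH _ hNCS hSNCS A (c * g) hm hA hmA
    have h2 := hH _ hCS le_sup_left (cs (c * g) A) c⁻¹ (inv_mem hc) hmA (by
      rw [cs_cs, inv_mul_cancel_left]; exact hgA)
    simpa using ZCtrl.comp h1 h2

/-- Stable sections give control in all sections. -/
theorem closedControl_of_sections (hp2 : p ≠ 2) {e : ℕ} (he : e = p ∨ e = 0) {G : Type u} [Group G]
    (hst : ∀ (Y : Type u) [Group Y] [Finite Y], Cfsg.Involves Y G → Cfsg.IsNormalizerPStable p Y) :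
    ∀ (n : ℕ) (Y : Type u) [Group Y] [Finite Y], Nat.card Y = n → Cfsg.Involves Y G →
      ∀ (S : Sylow p Y) (D : Subgroup Y), Cfsg.IsStronglyClosed D (S : Subgroup Y) →
        ClosedControl e (S : Subgroup Y) D := by
  intro n
  induction n using Nat.strong_induction_on with
  | _ n ih =>
    intro Y _ _ hn hY S D hD
    by_cases hC : CharPType p Y
    · exact closedControl_of_charPType hp2 he hC
        (fun V _ hV => isPStableOn_of_normalizer (hst Y hY) V hV) S hD
    have hsub : ∀ (H T D' : Subgroup Y), H ≠ ⊤ → T ≤ H → IsPGroup p T → ¬ p ∣ T.relIndex H →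
        Cfsg.IsStronglyClosed D' T → ClosedControl e (T.subgroupOf H) (D'.subgroupOf H) :=
      fun H T D' hne hTH hT hTi hD' =>
        ih _ (hn ▸ card_lt_of_ne_top hne) H rfl (involves_subgroup hY H)
          ((hT.comap_of_injective H.subtype H.subtype_injective : IsPGroup p (T.subgroupOf H)).toSylow hTi)
          (D'.subgroupOf H) (closed_subgroupOf hD' H)
    by_cases hDQ : D ≤ Cfsg.pCore p Y
    · intro A g _ _
      refine ⟨g, ?_, fun _ _ => rfl⟩
      have hn' : D.Normal := ⟨fun d hd x => hD.2 d hd x
        (pCore_le_S S ((Cfsg.pCore_normal p Y).conj_mem d (hDQ hd) x))⟩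
      exact normalizer_le_normalizer_zIn e D (by rw [Subgroup.normalizer_eq_top]; trivial)
    have hDne : D ≠ ⊥ := fun h => hDQ (h ▸ bot_le)
    by_cases hQ : Cfsg.pCore p Y = ⊥
    · refine closedControl_of_local he S hD hDne fun U hext hne => hsub _ _ _ ?_ inf_le_right
        (S.2.to_le inf_le_left) hext.2 (closed_inf hD inf_le_left)
      intro htop
      apply hne
      rw [eq_bot_iff, ← hQ]
      exact Cores.le_pCore (Subgroup.normalizer_eq_top_iff.1 htop) (S.2.to_le hext.1)
    have hquot : ∀ N : Subgroup Y, [N.Normal] → N ≠ ⊥ →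
        Cfsg.IsStronglyClosed (D.map (QuotientGroup.mk' N)) ((S : Subgroup Y).map (QuotientGroup.mk' N)) →
        ClosedControl e ((S : Subgroup Y).map (QuotientGroup.mk' N)) (D.map (QuotientGroup.mk' N)) := by
      intro N _ hne hc
      have hlt : Nat.card (Y ⧸ N) < n := by
        rw [← hn, Subgroup.card_eq_card_quotient_mul_card_subgroup N]
        exact lt_mul_of_one_lt_right Nat.card_pos (Subgroup.one_lt_card_iff_ne_bot N |>.2 hne)
      have := ih _ hlt (Y ⧸ N) rfl (involves_surjective hY _ (QuotientGroup.mk'_surjective N))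
        (S.mapSurjective (QuotientGroup.mk'_surjective N)) (D.map (QuotientGroup.mk' N))
      rw [Sylow.coe_mapSurjective] at this
      exact this hc
    by_cases hO : Cfsg.pPrimeCore p Y = ⊥
    · refine closedControl_hard he S hD hO hC hDQ (fun H hne hle A g hg hA hgA => ?_)
        (hquot _ hQ (closed_map_of_le hD _ (pCore_le_S S)))
      obtain ⟨y, hy, hye⟩ := exists_of_closedControl hle hD.1
        (hsub H S D hne hle S.2 (not_dvd_relIndex_of_le S hle) hD) hg hA hgA
      exact ⟨y, hy.2, hye⟩
    · exact closedControl_lift S hD _ (Cores.pPrimeCore_coprime p Y)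
        (hquot _ hO (closed_map_of_coprime S hD _))

end Cfsg.Agent.Lib.LocalEven2
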