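import Cfsg.Agent.Lib.Components.Signalizer
import Cfsg.Agent.Lib.Components.GenFitting
import Cfsg.Agent.Lib.Components.Local
import Cfsg.Agent.Lib.Cores.PCore
import Cfsg.Prelude.Def_CaseTheorems

/-!
# Cores of involution centralizers when one centralizer is constrained
-/

set_option autoImplicit false
set_option linter.unusedSectionVars false
set_option linter.style.haveILetI false

namespace Cfsg.Agent.Lib.LocalEven2.CoreBalance

open Subgroup
open scoped commutatorElement

variable {G : Type*} [Group G] [Finite G]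

/-- The core of the centralizer of an element. -/
def theta (x : G) : Subgroup G :=
  (Cfsg.oddCore ↥(centralizer ({x} : Set G))).map (centralizer ({x} : Set G)).subtype

theorem theta_le (x : G) : theta x ≤ centralizer ({x} : Set G) := map_subtype_le _

theorem card_theta_odd (x : G) : Odd (Nat.card ↥(theta x)) := by
  rw [theta, card_map_of_injective (centralizer ({x} : Set G)).subtype_injective]
  exact Cores.odd_card_oddCore _

theorem le_normalizer_theta (x : G) :
    centralizer ({x} : Set G) ≤ normalizer (theta x : Set G) := by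
  have hn : (Cfsg.oddCore ↥(centralizer ({x} : Set G))).Normal := inferInstance
  intro c hc
  refine Subgroup.le_normalizer_map (centralizer ({x} : Set G)).subtype ⟨⟨c, hc⟩, ?_, rfl⟩
  rw [normalizer_eq_top]
  trivial

theorem le_theta {x : G} {N : Subgroup G} (hN : N ≤ centralizer ({x} : Set G))
    (hn : centralizer ({x} : Set G) ≤ normalizer (N : Set G)) (ho : Odd (Nat.card ↥N)) :
    N ≤ theta x := by
  have h := Cores.le_oddCore (normal_subgroupOf_of_le_normalizer hn)
    (by rwa [Nat.card_congr (subgroupOfEquivOfLe hN).toEquiv])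
  intro y hy
  exact ⟨⟨y, hN hy⟩, h hy, rfl⟩

theorem odd_orderOf_of_mem {x u : G} (h : u ∈ theta x) : Odd (orderOf u) :=
  (card_theta_odd x).of_dvd_nat (orderOf_dvd_natCard _ h)

/-- An odd normal subgroup of the centralizer of a 2-element centralizes the 2-core. -/
theorem le_centralizer_pCore_two {X : Type*} [Group X] [Finite X] {U : Subgroup X} {a : X}
    (ha : IsPGroup 2 ↥(zpowers a)) (hU : U ≤ centralizer ({a} : Set X))
    (hUn : centralizer ({a} : Set X) ≤ normalizer (U : Set X)) (ho : Odd (Nat.card ↥U)) :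
    U ≤ centralizer (Cfsg.pCore 2 X : Set X) := by
  haveI : Fact (Nat.Prime 2) := ⟨Nat.prime_two⟩
  intro u hu
  have huo : Odd (orderOf u) := ho.of_dvd_nat (orderOf_dvd_natCard _ hu)
  refine Components.mem_centralizer_pCore_of_PxQ ha (Nat.coprime_two_right.mpr huo) ?_ ?_
  · rw [mem_centralizer_iff]
    rintro _ ⟨k, rfl⟩
    exact (Commute.zpow_left (mem_centralizer_singleton_iff.mp (hU hu)).symm k).eq
  · rw [mem_centralizer_iff]
    intro r hr
    have hra : r ∈ centralizer ({a} : Set X) := centralizer_le (by simp) hr.2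
    have h1 : ⁅r, u⁆ ∈ U := by
      rw [commutatorElement_def]
      exact mul_mem ((mem_normalizer_iff.mp (hUn hra) u).mp hu) (inv_mem hu)
    have h2 : ⁅r, u⁆ ∈ Cfsg.pCore 2 X := by
      rw [commutatorElement_def, mul_assoc r, mul_assoc r]
      exact mul_mem hr.1 (((inferInstance : (Cfsg.pCore 2 X).Normal)).conj_mem _ (inv_mem hr.1) u)
    obtain ⟨k, hk⟩ := (Components.pCore_isPGroup (G := X) 2) ⟨_, h2⟩
    have h3 : ⁅r, u⁆ ^ 2 ^ k = 1 := congrArg Subtype.val hk
    have h4 : ⁅r, u⁆ = 1 := by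
      rw [← orderOf_eq_one_iff]
      exact Nat.eq_one_of_dvd_coprimes
        ((Nat.coprime_two_right.mpr (ho.of_dvd_nat (orderOf_dvd_natCard _ h1))).pow_right k)
        dvd_rfl (orderOf_dvd_of_pow_eq_one h3)
    exact commutatorElement_eq_one_iff_mul_comm.mp h4

theorem fitting_le_sup {X : Type*} [Group X] [Finite X] :
    Cfsg.fittingSubgroup X ≤ Cfsg.pCore 2 X ⊔ Cfsg.oddCore X := by
  refine Components.fittingSubgroup_le_iSup_pCore.trans (iSup_le fun q => ?_)
  rcases eq_or_ne (q : ℕ) 2 with h | h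
  · exact h ▸ le_sup_left
  · refine le_sup_of_le_right (Components.le_pPrimeCore inferInstance ?_)
    have : Fact (q : ℕ).Prime := ⟨q.2⟩
    obtain ⟨n, hn⟩ := IsPGroup.iff_card.mp (Components.pCore_isPGroup (G := X) (q : ℕ))
    rw [hn]
    exact ((Nat.coprime_primes q.2 Nat.prime_two).mpr h).pow_left n

section

variable {Y : Subgroup G} (hY : Cfsg.IsElementaryAbelian 2 Y)
  {z : G} (hzY : z ∈ Y)
  (hF : Cfsg.generalizedFittingSubgroup ↥(centralizer ({z} : Set G)) =
    Cfsg.pCore 2 ↥(centralizer ({z} : Set G)))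

include hY hzY hF

theorem eq_one_of_fixed {a u : G} (ha : a ∈ Y) (hu : u ∈ theta a)
    (huz : z * u = u * z) : u = 1 := by
  haveI : Fact (Nat.Prime 2) := ⟨Nat.prime_two⟩
  set C := centralizer ({z} : Set G) with hC
  have haC : a ∈ C := mem_centralizer_singleton_iff.mpr (Components.elemAb_commute hY ha hzY)
  have huC : u ∈ C := mem_centralizer_singleton_iff.mpr huz.symm
  set U := (theta a).subgroupOf C with hUdef
  set a' : ↥C := ⟨a, haC⟩ with ha'
  have hUo : Odd (Nat.card ↥U) := by
    have : Nat.card ↥U ∣ Nat.card ↥(theta a) := by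
      rw [← card_map_of_injective C.subtype_injective, hUdef, subgroupOf_map_subtype]
      exact card_dvd_of_le inf_le_left
    exact (card_theta_odd a).of_dvd_nat this
  have hUc : U ≤ centralizer ({a'} : Set ↥C) := fun w hw =>
    mem_centralizer_singleton_iff.mpr (Subtype.ext (mem_centralizer_singleton_iff.mp (theta_le a hw)))
  have hUn : centralizer ({a'} : Set ↥C) ≤ normalizer (U : Set ↥C) := by
    intro w hw
    have hwa : (w : G) ∈ centralizer ({a} : Set G) :=
      mem_centralizer_singleton_iff.mpr (congrArg Subtype.val (mem_centralizer_singleton_iff.mp hw))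
    rw [mem_normalizer_iff]
    intro v
    exact mem_normalizer_iff.mp (le_normalizer_theta a hwa) v
  have hap : IsPGroup 2 ↥(zpowers a') := by
    rintro ⟨_, m, rfl⟩
    refine ⟨1, Subtype.ext (Subtype.ext ?_)⟩
    show ((a : G) ^ m) ^ 2 ^ 1 = 1
    exact hY.2 _ (zpow_mem ha m)
  have h1 := le_centralizer_pCore_two hap hUc hUn hUo
  have hu' : (⟨u, huC⟩ : ↥C) ∈ U := hu
  have h2 : (⟨u, huC⟩ : ↥C) ∈ Cfsg.pCore 2 ↥C := by
    rw [← hF]
    refine Components.centralizer_genFitting_le ?_
    rw [hF]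
    exact h1 hu'
  obtain ⟨k, hk⟩ := (Components.pCore_isPGroup (G := ↥C) 2) ⟨_, h2⟩
  have h3 : u ^ 2 ^ k = 1 := congrArg (fun t : ↥(Cfsg.pCore 2 ↥C) => ((t : ↥C) : G)) hk
  rw [← orderOf_eq_one_iff]
  exact Nat.eq_one_of_dvd_coprimes
    ((Nat.coprime_two_right.mpr (odd_orderOf_of_mem hu)).pow_right k)
    dvd_rfl (orderOf_dvd_of_pow_eq_one h3)

theorem inverted {a u : G} (ha : a ∈ Y) (hu : u ∈ theta a) :
    z * u * z⁻¹ = u⁻¹ := by
  have hzN : z ∈ normalizer (theta a : Set G) :=
    le_normalizer_theta a (mem_centralizer_singleton_iff.mpr (Components.elemAb_commute hY hzY ha))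
  have hzz : z * z = 1 := by rw [← pow_two]; exact hY.2 z hzY
  let σ : ↥(theta a) →* ↥(theta a) :=
    { toFun := fun v => ⟨z * v * z⁻¹, (mem_normalizer_iff.mp hzN v).mp v.2⟩
      map_one' := Subtype.ext (by simp)
      map_mul' := fun v w => Subtype.ext (by simp [mul_assoc]) }
  have hfix : MonoidHom.FixedPointFree σ := fun v hv => Subtype.ext
    (eq_one_of_fixed hY hzY hF ha v.2 (by
      have h : z * (v : G) * z⁻¹ = v := congrArg Subtype.val hv
      exact mul_inv_eq_iff_eq_mul.mp h))
  have hinv : Function.Involutive σ := fun v => Subtype.ext (by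
    show z * (z * v * z⁻¹) * z⁻¹ = v
    calc z * (z * (v : G) * z⁻¹) * z⁻¹ = z * z * v * (z * z)⁻¹ := by group
      _ = _ := by rw [hzz]; simp)
  exact congrArg Subtype.val (congrFun (hfix.coe_eq_inv_of_involutive hinv) ⟨u, hu⟩)

theorem commute_theta {a u v : G} (ha : a ∈ Y) (hu : u ∈ theta a) (hv : v ∈ theta a) :
    u * v = v * u := by
  have h := inverted hY hzY hF ha (mul_mem hu hv)
  rw [show z * (u * v) * z⁻¹ = (z * u * z⁻¹) * (z * v * z⁻¹) by group, inverted hY hzY hF ha hu,
    inverted hY hzY hF ha hv, ← mul_inv_rev] at h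
  exact (inv_inj.mp h).symm

theorem balance {a b : G} (ha : a ∈ Y) (hb : b ∈ Y)
    (hE : Cfsg.layer ↥(centralizer ({b} : Set G)) = ⊥) :
    theta a ⊓ centralizer ({b} : Set G) ≤ theta b := by
  haveI : Fact (Nat.Prime 2) := ⟨Nat.prime_two⟩
  set C := centralizer ({b} : Set G) with hC
  have haC : a ∈ C := mem_centralizer_singleton_iff.mpr (Components.elemAb_commute hY ha hb)
  set U := (theta a).subgroupOf C with hUdef
  set a' : ↥C := ⟨a, haC⟩ with ha'
  have hUo : Odd (Nat.card ↥U) := by
    have : Nat.card ↥U ∣ Nat.card ↥(theta a) := by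
      rw [← card_map_of_injective C.subtype_injective, hUdef, subgroupOf_map_subtype]
      exact card_dvd_of_le inf_le_left
    exact (card_theta_odd a).of_dvd_nat this
  have hUc : U ≤ centralizer ({a'} : Set ↥C) := fun w hw =>
    mem_centralizer_singleton_iff.mpr (Subtype.ext (mem_centralizer_singleton_iff.mp (theta_le a hw)))
  have hUn : centralizer ({a'} : Set ↥C) ≤ normalizer (U : Set ↥C) := by
    intro w hw
    have hwa : (w : G) ∈ centralizer ({a} : Set G) :=
      mem_centralizer_singleton_iff.mpr (congrArg Subtype.val (mem_centralizer_singleton_iff.mp hw))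
    rw [mem_normalizer_iff]
    intro v
    exact mem_normalizer_iff.mp (le_normalizer_theta a hwa) v
  have hap : IsPGroup 2 ↥(zpowers a') := by
    rintro ⟨_, m, rfl⟩
    refine ⟨1, Subtype.ext (Subtype.ext ?_)⟩
    show ((a : G) ^ m) ^ 2 ^ 1 = 1
    exact hY.2 _ (zpow_mem ha m)
  have h1 := le_centralizer_pCore_two hap hUc hUn hUo
  have hUO : U ≤ centralizer (Cfsg.oddCore ↥C : Set ↥C) := by
    intro u hu
    rw [mem_centralizer_iff]
    intro w hw
    have hu1 := inverted hY hzY hF ha (show (u : G) ∈ theta a from hu)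
    have hw1 : z * (w : G) * z⁻¹ = (w : G)⁻¹ := inverted hY hzY hF hb ⟨w, hw, rfl⟩
    have hc : (u : G) * w * (u : G)⁻¹ ∈ theta b := (mem_normalizer_iff.mp (le_normalizer_theta b u.2) _).mp ⟨w, hw, rfl⟩
    have h2 := inverted hY hzY hF hb hc
    rw [show z * ((u : G) * w * (u : G)⁻¹) * z⁻¹ = (z * u * z⁻¹) * (z * w * z⁻¹) * (z * u * z⁻¹)⁻¹
      by group, hu1, hw1] at h2
    have h3 : (u : G) ^ 2 * w = w * (u : G) ^ 2 := by
      have h4 := congrArg (fun t : G => (u : G) * t⁻¹ * (u : G)) h2
      simp only [mul_inv_rev, inv_inv, mul_assoc, inv_mul_cancel, mul_one, mul_inv_cancel_left,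
        inv_mul_cancel_left] at h4
      rw [pow_two, mul_assoc]
      exact h4.symm
    obtain ⟨k, hk⟩ := odd_orderOf_of_mem (show (u : G) ∈ theta a from hu)
    have hu2 : (u : G) = ((u : G) ^ 2) ^ (k + 1) := by
      rw [← pow_mul, show 2 * (k + 1) = (2 * k + 1) + 1 by ring, ← hk, pow_succ,
        pow_orderOf_eq_one, one_mul]
    refine Subtype.ext ?_
    show (w : G) * u = u * w
    rw [hu2]
    exact ((show Commute ((u : G) ^ 2) w from h3).pow_left (k + 1)).eq.symm
  have hgf : Cfsg.generalizedFittingSubgroup ↥C = Cfsg.fittingSubgroup ↥C := by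
    rw [Cfsg.generalizedFittingSubgroup, hE, bot_sup_eq]
  have hUF : U ≤ Cfsg.fittingSubgroup ↥C := by
    refine le_trans ?_ Components.centralizer_genFitting_le_fittingSubgroup
    rw [hgf]
    refine le_trans ?_ (centralizer_le (fitting_le_sup (X := ↥C)))
    intro u hu
    rw [mem_centralizer_iff]
    intro w hw
    obtain ⟨r, hr, s, hs, rfl⟩ := mem_sup_of_normal_left.mp hw
    have e1 : Commute r u := mem_centralizer_iff.mp (h1 hu) r hr
    have e2 : Commute s u := mem_centralizer_iff.mp (hUO hu) s hs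
    exact (e1.mul_left e2).eq
  rintro u ⟨hu, huC⟩
  have hu' : (⟨u, huC⟩ : ↥C) ∈ U := hu
  obtain ⟨r, hr, s, hs, hrs⟩ := mem_sup_of_normal_left.mp (fitting_le_sup (hUF hu'))
  refine ⟨⟨u, huC⟩, ?_, rfl⟩
  have h2 : QuotientGroup.mk' (Cfsg.oddCore ↥C) (⟨u, huC⟩ : ↥C) = 1 := by
    obtain ⟨k, hk⟩ := (Components.pCore_isPGroup (G := ↥C) 2) ⟨r, hr⟩
    have h3 : r ^ 2 ^ k = 1 := congrArg Subtype.val hk
    have h4 : QuotientGroup.mk' (Cfsg.oddCore ↥C) (⟨u, huC⟩ : ↥C) =
        QuotientGroup.mk' (Cfsg.oddCore ↥C) r := by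
      rw [← hrs, map_mul, show QuotientGroup.mk' (Cfsg.oddCore ↥C) s = 1 from
        (QuotientGroup.eq_one_iff s).mpr hs, mul_one]
    rw [← orderOf_eq_one_iff]
    refine Nat.eq_one_of_dvd_coprimes
      ((Nat.coprime_two_right.mpr (odd_orderOf_of_mem hu)).pow_right k) ?_ ?_
    · exact (orderOf_map_dvd _ _).trans (orderOf_injective C.subtype C.subtype_injective ⟨u, huC⟩ ▸ dvd_rfl)
    · exact orderOf_dvd_of_pow_eq_one (by rw [h4, ← map_pow, h3, map_one])
  exact (QuotientGroup.eq_one_iff _).mp h2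

theorem main (h8 : 8 ≤ Nat.card ↥Y)
    (hE : ∀ x ∈ Y, x ≠ 1 → Cfsg.layer ↥(centralizer ({x} : Set G)) = ⊥) :
    Odd (Nat.card ↥(⨆ y : {y : G // y ∈ Y ∧ y ≠ 1}, theta (y : G))) ∧
      normalizer (Y : Set G) ≤
        normalizer ((⨆ y : {y : G // y ∈ Y ∧ y ≠ 1}, theta (y : G) : Subgroup G) : Set G) := by
  haveI : Fact (Nat.Prime 2) := ⟨Nat.prime_two⟩
  set W := ⨆ y : {y : G // y ∈ Y ∧ y ≠ 1}, theta (y : G) with hW
  let S : Set G := {u | ∃ a ∈ Y, a ≠ 1 ∧ ∃ B : Subgroup G, B ≤ Y ∧ B.relIndex Y ≤ 2 ∧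
    u ∈ theta a ∧ u ∈ centralizer (B : Set G)}
  have hcomm : ∀ u ∈ S, ∀ v ∈ S, u * v = v * u := by
    rintro u ⟨a, ha, -, B, hB, hBi, hu, huB⟩ v ⟨a', ha', -, B', hB', hBi', hv, hvB⟩
    obtain ⟨h, ⟨hhB, hhB'⟩, hh1⟩ := Components.exists_ne_one_mem_inf hY (by norm_num; exact h8)
      hB hB' hBi hBi'
    have hhY := hB hhB
    exact commute_theta hY hzY hF hhY
      (balance hY hzY hF ha hhY (hE h hhY hh1)
        ⟨hu, Components.centralizer_singleton_of_le hhB huB⟩)
      (balance hY hzY hF ha' hhY (hE h hhY hh1)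
        ⟨hv, Components.centralizer_singleton_of_le hhB' hvB⟩)
  have hle : W ≤ closure S := by
    refine iSup_le fun y => ?_
    have hodd := card_theta_odd (y : G)
    refine (Components.eq_iSup_hyperplane hY (K := theta (y : G))
      (fun h => Nat.not_even_iff_odd.mpr hodd (even_iff_two_dvd.mpr h))
      (fun w hw => le_normalizer_theta _
        (mem_centralizer_singleton_iff.mpr (Components.elemAb_commute hY hw y.2.1)))).trans_le ?_
    refine iSup_le fun B => ?_
    rintro u ⟨hu, huB⟩
    exact subset_closure ⟨y, y.2.1, y.2.2, B, B.2.1, B.2.2, hu, huB⟩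
  refine ⟨?_, ?_⟩
  · have hodd : ∀ u ∈ closure S, Odd (orderOf u) := by
      intro u hu
      have hCc : IsMulCommutative ↥(closure S) := by
        rw [← commutator_self_eq_bot_iff, commutator_eq_bot_iff_le_centralizer]
        rw [closure_le]
        intro x hx
        rw [SetLike.mem_coe, mem_centralizer_iff]
        intro y hy
        refine Subgroup.closure_induction (p := fun y _ => y * x = x * y) (fun y hy => hcomm y hy x hx)
          (by simp) (fun a b _ _ e1 e2 => (Commute.mul_left e1 e2).eq)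
          (fun a _ e => (Commute.inv_left e).eq) hy
      induction hu using Subgroup.closure_induction with
      | mem u hu => obtain ⟨a, -, -, B, -, -, hu, -⟩ := hu; exact odd_orderOf_of_mem hu
      | one => simp
      | mul a b ha hb e1 e2 =>
        have hab : Commute a b := congrArg Subtype.val (hCc.is_comm.comm ⟨a, ha⟩ ⟨b, hb⟩)
        exact (e1.mul e2).of_dvd_nat (hab.orderOf_mul_dvd_mul_orderOf)
      | inv a _ e => rwa [orderOf_inv]
    rw [← Nat.not_even_iff_odd, even_iff_two_dvd]
    intro h2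
    obtain ⟨u, hu⟩ := exists_prime_orderOf_dvd_card' 2 h2
    have := hodd u (hle u.2)
    rw [Subgroup.orderOf_coe, hu] at this
    exact absurd this (by decide)
  · intro n hn
    have key : ∀ n ∈ normalizer (Y : Set G), ∀ x ∈ W, n * x * n⁻¹ ∈ W := by
      intro n hn
      suffices W ≤ W.comap (MulAut.conj n).toMonoidHom from fun x hx => this hx
      refine iSup_le fun y => ?_
      rw [← map_le_iff_le_comap]
      set y' : {y : G // y ∈ Y ∧ y ≠ 1} := ⟨n * y * n⁻¹, (mem_normalizer_iff.mp hn _).mp y.2.1,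
        fun h => y.2.2 (by simpa using h)⟩
      refine le_trans ?_ (le_iSup (fun y : {y : G // y ∈ Y ∧ y ≠ 1} => theta (y : G)) y')
      have hcent : (centralizer ({(y : G)} : Set G)).map (MulAut.conj n).toMonoidHom =
          centralizer ({n * (y : G) * n⁻¹} : Set G) := by
        ext w
        rw [mem_map_equiv, mem_centralizer_singleton_iff, mem_centralizer_singleton_iff,
          MulAut.conj_symm_apply]
        constructor <;> intro h
        · calc w * (n * y * n⁻¹) = n * (n⁻¹ * w * n * y) * n⁻¹ := by group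
            _ = n * (y * (n⁻¹ * w * n)) * n⁻¹ := by rw [h]
            _ = _ := by group
        · calc n⁻¹ * w * n * y = n⁻¹ * (w * (n * y * n⁻¹)) * n := by group
            _ = n⁻¹ * ((n * y * n⁻¹) * w) * n := by rw [h]
            _ = _ := by group
      refine le_theta ?_ ?_ ?_
      · rw [← hcent]; exact map_mono (theta_le _)
      · rw [← hcent]
        exact (map_mono (le_normalizer_theta _)).trans (le_normalizer_map _)
      · rw [card_map_of_injective (MulAut.conj n).injective]
        exact card_theta_odd _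
    rw [mem_normalizer_iff]
    intro x
    refine ⟨key n hn x, fun hx => ?_⟩
    have := key n⁻¹ (inv_mem hn) _ hx
    simpa [mul_assoc] using this

end

end Cfsg.Agent.Lib.LocalEven2.CoreBalance
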