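import Cfsg.Agent.Lib.LocalEven2.Basic
import Mathlib.FieldTheory.Finite.Basic

/-!
Coprime elements normalizing cyclic `p`-groups.
-/

set_option autoImplicit false

namespace Cfsg.Agent.Lib.LocalEven2

variable {G : Type*} [Group G] {p : ℕ} [Fact p.Prime]

theorem zpow_conj {g v : G} (a : ℤ) : g * v ^ a * g⁻¹ = (g * v * g⁻¹) ^ a := by
  rw [← MulAut.conj_apply, map_zpow, MulAut.conj_apply]

/-- Iterating a power map. -/
theorem conj_pow_of_zpow {g v : G} {a : ℤ} (h : g * v * g⁻¹ = v ^ a) (i : ℕ) :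
    g ^ i * v * (g ^ i)⁻¹ = v ^ (a ^ i) := by
  induction i with
  | zero => simp
  | succ i ih =>
    calc g ^ (i + 1) * v * (g ^ (i + 1))⁻¹ = g * (g ^ i * v * (g ^ i)⁻¹) * g⁻¹ := by
          rw [pow_succ']; group
      _ = (v ^ a) ^ (a ^ i) := by rw [ih, zpow_conj, h]
      _ = v ^ (a ^ (i + 1)) := by rw [← zpow_mul, pow_succ']

/-- Powers of an element of order `p` are determined modulo `p`. -/
theorem zpow_eq_zpow_iff_cast {z : G} (hz : orderOf z = p) (a b : ℤ) :
    z ^ a = z ^ b ↔ (a : ZMod p) = (b : ZMod p) := by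
  rw [zpow_eq_zpow_iff_modEq, hz, ZMod.intCast_eq_intCast_iff]

/-- An element inducing a power map on a group of order `p` fixes it when some power coprime to
`p - 1` does. -/
theorem commute_orderP {g z : G} {m : ℕ} (hz : z ^ p = 1)
    (hgz : g * z * g⁻¹ ∈ Subgroup.zpowers z) (hm : m.Coprime (p - 1))
    (hgm : g ^ m * z = z * g ^ m) : g * z = z * g := by
  by_cases hz1 : z = 1
  · simp [hz1]
  have ho : orderOf z = p := orderOf_eq_prime hz hz1
  obtain ⟨a, ha⟩ := Subgroup.mem_zpowers_iff.mp hgz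
  have h1 := conj_pow_of_zpow ha.symm m
  rw [hgm, mul_inv_cancel_right] at h1
  have h2 : ((a : ZMod p)) ^ m = 1 := by
    have h3 := (zpow_eq_zpow_iff_cast ho (a ^ m) 1).mp (by rw [← h1, zpow_one])
    simpa using h3
  have hp1 : 1 < p := (Fact.out : p.Prime).one_lt
  have ha0 : (a : ZMod p) ≠ 0 := by
    intro h
    have h3 := (zpow_eq_zpow_iff_cast ho a 0).mpr (by simpa using h)
    rw [ha, zpow_zero, conj_eq_one_iff] at h3
    exact hz1 h3
  have h4 : (a : ZMod p) = 1 := by
    have h5 := (pow_gcd_eq_one (a := (a : ZMod p))).mpr ⟨h2, ZMod.pow_card_sub_one_eq_one ha0⟩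
    rwa [hm.gcd_eq_one, pow_one] at h5
  have h6 := (zpow_eq_zpow_iff_cast ho a 1).mpr (by simpa using h4)
  rw [ha, zpow_one] at h6
  exact mul_inv_eq_iff_eq_mul.mp h6

/-- `(p - 1)`-st powers fix a normalized group of order `p`. -/
theorem commute_pow_orderP {h z : G} (hz : z ^ p = 1)
    (hhz : h * z * h⁻¹ ∈ Subgroup.zpowers z) : h ^ (p - 1) * z = z * h ^ (p - 1) := by
  by_cases hz1 : z = 1
  · simp [hz1]
  have ho : orderOf z = p := orderOf_eq_prime hz hz1
  obtain ⟨a, ha⟩ := Subgroup.mem_zpowers_iff.mp hhz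
  have h1 := conj_pow_of_zpow ha.symm (p - 1)
  have ha0 : (a : ZMod p) ≠ 0 := by
    intro h'
    have h3 := (zpow_eq_zpow_iff_cast ho a 0).mpr (by simpa using h')
    rw [ha, zpow_zero, conj_eq_one_iff] at h3
    exact hz1 h3
  have h2 : z ^ (a ^ (p - 1)) = z ^ (1 : ℤ) := by
    rw [zpow_eq_zpow_iff_cast ho]
    simpa using ZMod.pow_card_sub_one_eq_one ha0
  rw [h2, zpow_one] at h1
  exact mul_inv_eq_iff_eq_mul.mp h1

/-- A `p'`-element normalizing a cyclic `p`-group and fixing its subgroup of order `p` centralizes it. -/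
theorem commute_of_fix_socle [Finite G] {g v : G} (hg : (orderOf g).Coprime p) {k : ℕ}
    (hv : orderOf v = p ^ k) (hgv : g * v * g⁻¹ ∈ Subgroup.zpowers v)
    (hgz : g * v ^ (p ^ (k - 1)) = v ^ (p ^ (k - 1)) * g) : g * v = v * g := by
  rcases Nat.eq_zero_or_pos k with hk | hk
  · subst hk
    rw [pow_zero, orderOf_eq_one_iff] at hv
    simp [hv]
  obtain ⟨a, ha⟩ := Subgroup.mem_zpowers_iff.mp hgv
  have hp : p.Prime := Fact.out
  set z := v ^ (p ^ (k - 1)) with hz
  have hoz : orderOf z = p := by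
    rw [hz, orderOf_pow' v (pow_ne_zero _ hp.ne_zero), hv,
      Nat.gcd_eq_right (pow_dvd_pow p (by omega)), Nat.pow_div (by omega) hp.pos,
      show k - (k - 1) = 1 by omega, pow_one]
  have h1 : (a : ZMod p) = 1 := by
    have h2 : z ^ a = z ^ (1 : ℤ) := by
      rw [zpow_one]
      calc z ^ a = (v ^ a) ^ (p ^ (k - 1)) := by
            rw [hz, ← zpow_natCast, ← zpow_natCast, ← zpow_mul, ← zpow_mul, mul_comm]
        _ = g * z * g⁻¹ := by rw [ha, conj_pow]
        _ = z := by rw [hgz, mul_inv_cancel_right]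
    simpa using (zpow_eq_zpow_iff_cast hoz a 1).mp h2
  obtain ⟨t, ht⟩ : (p : ℤ) ∣ a - 1 := by
    rw [← ZMod.intCast_zmod_eq_zero_iff_dvd, Int.cast_sub, Int.cast_one, h1, sub_self]
  have hvp : IsPGroup p ↥(Subgroup.zpowers v) := IsPGroup.of_card (n := k) (by rw [Nat.card_zpowers, hv])
  have key : ∀ i : ℕ, i ≤ k → g * v ^ (p ^ (k - i)) = v ^ (p ^ (k - i)) * g := by
    intro i
    induction i with
    | zero =>
      intro _
      rw [Nat.sub_zero, ← hv, pow_orderOf_eq_one]
      simp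
    | succ i ih =>
      intro hi
      set m := p ^ (k - (i + 1))
      have hm : p ^ (k - i) = m * p := by
        rw [← pow_succ]; congr 1; omega
      have e : g * v ^ m * g⁻¹ * (v ^ m)⁻¹ = (v ^ (p ^ (k - i))) ^ t := by
        have e2 : g * v ^ m * g⁻¹ = (v ^ a) ^ m := by rw [← conj_pow, ha]
        rw [e2, hm]
        simp only [← zpow_natCast, ← zpow_mul, ← zpow_neg, ← zpow_add]
        congr 1
        push_cast
        linear_combination (m : ℤ) * ht
      refine commute_of_stabilizes hvp hg ?_ ?_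
      · rw [e]
        exact zpow_mem (pow_mem (Subgroup.mem_zpowers v) _) t
      · rw [e]
        exact (show Commute g (v ^ (p ^ (k - i))) from ih (by omega)).zpow_right t
  simpa using key k le_rfl

end Cfsg.Agent.Lib.LocalEven2
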