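import Cfsg.Prelude.Def_DStar
import Cfsg.Agent.Lib.LocalEven2.CD
import Mathlib.GroupTheory.PGroup

/-!
# `D*(S)` and abelian replacement
-/

set_option autoImplicit false
set_option linter.unusedSectionVars false
open scoped Pointwise commutatorElement
open Cfsg

namespace Cfsg.Agent.Lib.LocalEven2.DStar

variable {G : Type*} [Group G]

theorem commute_of_abelian {A : Subgroup G} (hA : IsMulCommutative ↥A) {a a' : G} (ha : a ∈ A)
    (ha' : a' ∈ A) : a * a' = a' * a :=
  congrArg Subtype.val (mul_comm' (⟨a, ha⟩ : ↥A) ⟨a', ha'⟩)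

/-- Two mutually normalizing abelian subgroups generate a group of class at most two. -/
theorem class_two {X Y H : Subgroup G} (hX : IsMulCommutative ↥X) (hY : IsMulCommutative ↥Y)
    (hXY : X ≤ Subgroup.normalizer (Y : Set G)) (hYX : Y ≤ Subgroup.normalizer (X : Set G))
    (hH : H ≤ X ⊔ Y) : ⁅⁅H, H⁆, H⁆ = ⊥ := by
  have hI : ∀ i ∈ X ⊓ Y, ∀ t ∈ X ⊔ Y, t * i = i * t := by
    intro i hi t ht
    have : X ⊔ Y ≤ Subgroup.centralizer ({i} : Set G) := sup_le
      (fun a ha => Subgroup.mem_centralizer_singleton_iff.mpr (commute_of_abelian hX ha hi.1))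
      (fun a ha => Subgroup.mem_centralizer_singleton_iff.mpr (commute_of_abelian hY ha hi.2))
    exact Subgroup.mem_centralizer_singleton_iff.mp (this ht)
  have hcom : ∀ a ∈ X, ∀ b ∈ Y, ⁅a, b⁆ ∈ X ⊓ Y := by
    intro a ha b hb
    rw [commutatorElement_def]
    constructor
    · have h := X.mul_mem ha ((Subgroup.mem_normalizer_iff.mp (hYX hb) a⁻¹).mp (X.inv_mem ha))
      simpa [mul_assoc] using h
    · exact Y.mul_mem ((Subgroup.mem_normalizer_iff.mp (hXY ha) b).mp hb) (Y.inv_mem hb)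
  have hdec : ∀ t ∈ X ⊔ Y, ∃ a ∈ X, ∃ b ∈ Y, t = a * b := by
    intro t ht
    rw [← SetLike.mem_coe, Subgroup.coe_mul_of_left_le_normalizer_right _ _ hXY] at ht
    obtain ⟨a, ha, b, hb, rfl⟩ := ht
    exact ⟨a, ha, b, hb, rfl⟩
  have hD : ⁅H, H⁆ ≤ X ⊓ Y := by
    rw [Subgroup.commutator_le]
    intro s hs t ht
    obtain ⟨a, ha, b, hb, rfl⟩ := hdec s (hH hs)
    obtain ⟨a', ha', b', hb', rfl⟩ := hdec t (hH ht)
    have hi1 : ⁅b, a'⁆ ∈ X ⊓ Y := by
      rw [← commutatorElement_inv]; exact Subgroup.inv_mem _ (hcom a' ha' b hb)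
    have hi2 := hcom a ha b' hb'
    have : ⁅a * b, a' * b'⁆ = ⁅b, a'⁆ * ⁅a, b'⁆ := by
      calc ⁅a * b, a' * b'⁆
          = (a * ⁅b, a'⁆) * a' * (b * b') * b⁻¹ * a⁻¹ * b'⁻¹ * a'⁻¹ := by
            simp only [commutatorElement_def, mul_inv_rev, mul_assoc, inv_mul_cancel_left]
        _ = (⁅b, a'⁆ * a) * a' * (b' * b) * b⁻¹ * a⁻¹ * b'⁻¹ * a'⁻¹ := by
            rw [hI _ hi1 a (Subgroup.mem_sup_left ha), commute_of_abelian hY hb hb']
        _ = ⁅b, a'⁆ * (a * a') * b' * a⁻¹ * b'⁻¹ * a'⁻¹ := by group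
        _ = ⁅b, a'⁆ * (a' * a) * b' * a⁻¹ * b'⁻¹ * a'⁻¹ := by rw [commute_of_abelian hX ha ha']
        _ = ⁅b, a'⁆ * (a' * ⁅a, b'⁆) * a'⁻¹ := by
            simp only [commutatorElement_def, mul_assoc]
        _ = ⁅b, a'⁆ * (⁅a, b'⁆ * a') * a'⁻¹ := by rw [hI _ hi2 a' (Subgroup.mem_sup_left ha')]
        _ = _ := by group
    rw [this]
    exact Subgroup.mul_mem _ hi1 hi2
  rw [eq_bot_iff, Subgroup.commutator_le]
  intro i hi t ht
  rw [Subgroup.mem_bot, commutatorElement_def, ← hI i (hD hi) t (hH ht)]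
  group

variable {S : Type*} [Group S]

theorem conj_mem_family {A : Subgroup S} (hA : A ∈ dStarFamily S) (e : S ≃* S) :
    A.map e.toMonoidHom ∈ dStarFamily S := by
  refine ⟨⟨⟨?_⟩⟩, ?_⟩
  · rintro ⟨_, a, ha, rfl⟩ ⟨_, b, hb, rfl⟩
    refine Subtype.ext ?_
    show e a * e b = e b * e a
    rw [← map_mul, commute_of_abelian hA.1 ha hb, map_mul]
  · rintro x hx _ ⟨a, ha, rfl⟩
    obtain ⟨y, rfl⟩ := e.surjective x
    have hH : A.map e.toMonoidHom ⊔ Subgroup.zpowers (e y) =
        (A ⊔ Subgroup.zpowers y).map e.toMonoidHom := by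
      rw [Subgroup.map_sup, MonoidHom.map_zpowers]
      rfl
    rw [hH, ← Subgroup.map_commutator, ← Subgroup.map_commutator,
      Subgroup.map_eq_bot_iff_of_injective _ e.injective] at hx
    show e a * e y = e y * e a
    rw [← map_mul, hA.2 y hx a ha, map_mul]

variable [Finite S]

theorem sSup_mem_family (F : Set (Subgroup S)) (hF : ∀ A ∈ F, A ∈ dStarFamily S)
    (hc : ∀ A ∈ F, ∀ B ∈ F, A ≤ Subgroup.centralizer (B : Set S)) :
    sSup F ∈ dStarFamily S := by
  refine ⟨CD.isMulCommutative_iff_le_centralizer.mpr (sSup_le fun A hA =>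
    Subgroup.le_centralizer_iff.mp (sSup_le fun B hB => hc B hB A hA)), fun x hx a ha => ?_⟩
  have h : sSup F ≤ Subgroup.centralizer ({x} : Set S) := by
    refine sSup_le fun A hA b hb => Subgroup.mem_centralizer_singleton_iff.mpr ?_
    refine (hF A hA).2 x (eq_bot_iff.mpr (le_trans ?_ hx.le)) b hb
    have hle : A ⊔ Subgroup.zpowers x ≤ sSup F ⊔ Subgroup.zpowers x :=
      sup_le_sup_right (le_sSup hA) _
    exact Subgroup.commutator_mono (Subgroup.commutator_mono hle hle) hle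
  exact Subgroup.mem_centralizer_singleton_iff.mp (h ha)

/-- Members of the family commute pairwise. -/
theorem family_commute [Group.IsNilpotent S] :
    ∀ A ∈ dStarFamily S, ∀ B ∈ dStarFamily S, A ≤ Subgroup.centralizer (B : Set S) := by
  suffices h : ∀ n, ∀ A ∈ dStarFamily S, ∀ B ∈ dStarFamily S, Nat.card ↥(A ⊔ B) ≤ n →
      A ≤ Subgroup.centralizer (B : Set S) from
    fun A hA B hB => h _ A hA B hB le_rfl
  intro n
  induction n using Nat.strong_induction_on with
  | _ n ih =>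
    intro A hA B hB hn
    set T := A ⊔ B with hT
    by_cases hAT : A = T
    · exact (CD.isMulCommutative_iff_le_centralizer.mp hA.1).trans
        (Subgroup.centralizer_le (le_of_le_of_eq le_sup_right hAT.symm : B ≤ A))
    by_cases hBT : B = T
    · exact (le_of_le_of_eq le_sup_left hBT.symm).trans
        (CD.isMulCommutative_iff_le_centralizer.mp hB.1)
    have key : ∀ A ∈ dStarFamily S, A ≤ T → A ≠ T →
        ∃ Ā ∈ dStarFamily S, A ≤ Ā ∧ Ā ≤ T ∧ T ≤ Subgroup.normalizer (Ā : Set S) := by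
      intro A hA hle hne
      have hne' : A.subgroupOf T ≠ ⊤ := fun h => hne (le_antisymm hle (Subgroup.subgroupOf_eq_top.mp h))
      obtain ⟨M, hM, hAM⟩ := (eq_top_or_exists_le_coatom (A.subgroupOf T)).resolve_left hne'
      haveI : M.Normal := Subgroup.NormalizerCondition.normal_of_coatom M
        Group.normalizerCondition_of_isNilpotent hM
      have hMlt : Nat.card ↥(M.map T.subtype) < n := by
        refine lt_of_lt_of_le ?_ hn
        rw [← Nat.card_congr (M.equivMapOfInjective _ T.subtype_injective).toEquiv]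
        exact lt_of_le_of_ne (Subgroup.card_le_card_group M)
          fun h => hM.1 (Subgroup.eq_top_of_card_eq M h)
      set F : Set (Subgroup S) := {C | ∃ t ∈ T, C = A.map (MulAut.conj t).toMonoidHom} with hF
      have hAF : A ∈ F := by
        refine ⟨1, T.one_mem, ?_⟩
        ext y; simp
      have hFM : ∀ C ∈ F, C ≤ M.map T.subtype := by
        rintro C ⟨t, ht, rfl⟩ _ ⟨a, ha, rfl⟩
        exact ⟨⟨t, ht⟩ * ⟨a, hle ha⟩ * ⟨t, ht⟩⁻¹,
          Subgroup.Normal.conj_mem inferInstance _ (hAM ha) ⟨t, ht⟩, rfl⟩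
      have hFfam : ∀ C ∈ F, C ∈ dStarFamily S := by
        rintro C ⟨t, _, rfl⟩; exact conj_mem_family hA _
      refine ⟨sSup F, sSup_mem_family F hFfam fun C hC D hD => ?_, le_sSup hAF,
        sSup_le fun C hC => (hFM C hC).trans (Subgroup.map_subtype_le M), fun t ht => ?_⟩
      · exact ih _ hMlt C (hFfam C hC) D (hFfam D hD)
          (Subgroup.card_le_of_le (sup_le (hFM C hC) (hFM D hD)))
      · have hstep : ∀ u ∈ T, (sSup F).map (MulAut.conj u).toMonoidHom ≤ sSup F := by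
          intro u hu
          rw [Subgroup.map_le_iff_le_comap]
          refine sSup_le fun C hC => ?_
          rw [← Subgroup.map_le_iff_le_comap]
          obtain ⟨v, hv, rfl⟩ := hC
          refine le_sSup ⟨u * v, T.mul_mem hu hv, ?_⟩
          rw [Subgroup.map_map]
          congr 1
          ext y; simp [mul_assoc]
        rw [Subgroup.mem_normalizer_iff]
        intro y
        refine ⟨fun hy => hstep t ht ⟨y, hy, rfl⟩, fun hy => ?_⟩
        have := hstep t⁻¹ (T.inv_mem ht) ⟨_, hy, rfl⟩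
        simpa [mul_assoc] using this
    obtain ⟨Ā, hĀ, hAĀ, hĀT, hnA⟩ := key A hA le_sup_left hAT
    obtain ⟨B', hB', hBB', hB'T, hnB⟩ := key B hB le_sup_right hBT
    intro a ha
    refine Subgroup.mem_centralizer_iff.mpr fun b hb => ?_
    refine (hA.2 b ?_ a ha).symm
    exact class_two hĀ.1 hB'.1 (hĀT.trans hnB) (hB'T.trans hnA)
      (sup_le (hAĀ.trans le_sup_left) (Subgroup.zpowers_le.mpr (Subgroup.mem_sup_right (hBB' hb))))

theorem dStar_mem_family [Group.IsNilpotent S] : dStar S ∈ dStarFamily S :=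
  sSup_mem_family _ (fun _ h => h) family_commute

theorem dStar_normal : (dStar S).Normal := by
  constructor
  intro a ha g
  have : (dStar S).map (MulAut.conj g).toMonoidHom ≤ dStar S := by
    rw [Subgroup.map_le_iff_le_comap]
    refine sSup_le fun C hC => ?_
    rw [← Subgroup.map_le_iff_le_comap]
    exact le_sSup (conj_mem_family hC _)
  exact this ⟨a, ha, rfl⟩

theorem center_le_dStar : Subgroup.center S ≤ dStar S :=
  le_sSup ⟨inferInstance, fun x _ _ ha => (Subgroup.mem_center_iff.mp ha x).symm⟩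

/-- `D*(S)` centralizes every abelian subgroup of largest order. -/
theorem dStar_le_centralizer [Group.IsNilpotent S] :
    ∀ A ∈ maxAbelianSubgroups S, dStar S ≤ Subgroup.centralizer (A : Set S) := by
  classical
  set D := dStar S with hDdef
  have hD : D ∈ dStarFamily S := dStar_mem_family
  haveI hDn : D.Normal := dStar_normal
  suffices h : ∀ n, ∀ A ∈ maxAbelianSubgroups S, Nat.card S ≤ Nat.card ↥(A ⊓ D) + n →
      D ≤ Subgroup.centralizer (A : Set S) from
    fun A hA => h _ A hA (Nat.le_add_left _ _)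
  intro n
  induction n using Nat.strong_induction_on with
  | _ n ih =>
    intro A hA hn
    have hAD : A ≤ Subgroup.normalizer (D : Set S) := by
      rw [Subgroup.normalizer_eq_top]; exact le_top
    suffices hnorm : D ≤ Subgroup.normalizer (A : Set S) by
      intro d hd
      refine Subgroup.mem_centralizer_iff.mpr fun a ha => ?_
      exact (hD.2 a (class_two hA.1 hD.1 hAD hnorm
        (sup_le le_sup_right (Subgroup.zpowers_le.mpr (Subgroup.mem_sup_left ha)))) d hd).symm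
    by_contra hnorm
    set N := D ⊓ Subgroup.normalizer (A : Set S) with hN
    -- an element `x ∈ D ∖ N` with `⁅x, A⁆ ⊆ N`
    have hdec : ∀ {H : Subgroup S}, H ≤ D → A ≤ Subgroup.normalizer (H : Set S) →
        ∀ t ∈ H ⊔ A, ∃ d ∈ H, ∃ a ∈ A, t = d * a := by
      intro H _ hn t ht
      rw [sup_comm, ← SetLike.mem_coe, Subgroup.coe_mul_of_left_le_normalizer_right _ _ hn] at ht
      obtain ⟨a, ha, d, hd, rfl⟩ := ht
      exact ⟨a * d * a⁻¹, (Subgroup.mem_normalizer_iff.mp (hn ha) d).mp hd, a, ha, by group⟩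
    have hAN : A ≤ Subgroup.normalizer (N : Set S) :=
      (le_inf hAD (Subgroup.le_normalizer.trans Subgroup.le_normalizer)).trans
        Subgroup.inf_normalizer_le_normalizer_inf
    have hlt : (N ⊔ A).subgroupOf (D ⊔ A) < ⊤ := by
      refine lt_top_iff_ne_top.mpr fun h => hnorm fun d hd => ?_
      obtain ⟨d', hd', a, ha, rfl⟩ :=
        hdec inf_le_left hAN d (Subgroup.subgroupOf_eq_top.mp h (Subgroup.mem_sup_left hd))
      exact Subgroup.mul_mem _ hd'.2 (Subgroup.le_normalizer ha)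
    obtain ⟨t, htn, htN⟩ := SetLike.exists_of_lt
      (Group.normalizerCondition_of_isNilpotent (G := ↥(D ⊔ A)) _ hlt)
    obtain ⟨x, hxD, a₀, ha₀, hta⟩ := hdec le_rfl hAD t t.2
    have hxn : x ∉ Subgroup.normalizer (A : Set S) := fun h => htN (by
      show (t : S) ∈ N ⊔ A
      rw [hta]
      exact Subgroup.mul_mem_sup ⟨hxD, h⟩ ha₀)
    have hxA : ∀ a ∈ A, ⁅x, a⁆ ∈ N := by
      intro a ha
      have h1 : (t : S) * (a₀⁻¹ * a * a₀) * (t : S)⁻¹ ∈ N ⊔ A :=
        (Subgroup.mem_normalizer_iff.mp htn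
          ⟨a₀⁻¹ * a * a₀, Subgroup.mem_sup_right (A.mul_mem (A.mul_mem (A.inv_mem ha₀) ha) ha₀)⟩).mp
          (Subgroup.mem_sup_right (A.mul_mem (A.mul_mem (A.inv_mem ha₀) ha) ha₀))
      rw [show (t : S) * (a₀⁻¹ * a * a₀) * (t : S)⁻¹ = ⁅x, a⁆ * a by
        rw [hta, commutatorElement_def]; group] at h1
      have h2 : ⁅x, a⁆ ∈ N ⊔ A := by
        simpa using Subgroup.mul_mem _ h1 (Subgroup.inv_mem _ (Subgroup.mem_sup_right ha))
      obtain ⟨d, hd, b, hb, hdb⟩ := hdec inf_le_left hAN _ h2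
      have hc : ⁅x, a⁆ ∈ D := by
        rw [commutatorElement_def, show x * a * x⁻¹ * a⁻¹ = x * (a * x⁻¹ * a⁻¹) by group]
        exact D.mul_mem hxD (hDn.conj_mem _ (D.inv_mem hxD) a)
      refine ⟨hc, ?_⟩
      rw [hdb]
      exact Subgroup.mul_mem _ hd.2 (Subgroup.le_normalizer hb)
    have hDc : ∀ d ∈ D, ∀ d' ∈ D, d * d' = d' * d := fun d hd d' hd' =>
      commute_of_abelian hD.1 hd hd'
    let R₀ : Subgroup S :=
      { carrier := {a | a ∈ A ∧ x * a * x⁻¹ ∈ A}
        one_mem' := ⟨A.one_mem, by simp⟩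
        mul_mem' := fun {a b} ha hb => ⟨A.mul_mem ha.1 hb.1, by
          have := A.mul_mem ha.2 hb.2
          simpa [mul_assoc] using this⟩
        inv_mem' := fun {a} ha => ⟨A.inv_mem ha.1, by
          simpa [mul_assoc] using A.inv_mem ha.2⟩ }
    set M := Subgroup.closure ((fun a => ⁅x, a⁆) '' (A : Set S))
    set A₁ := R₀ ⊔ M
    have hR₀A : R₀ ≤ A := fun a ha => ha.1
    have hMN : M ≤ N := by
      rw [Subgroup.closure_le]; rintro _ ⟨a, ha, rfl⟩; exact hxA a ha
    have hRM : ∀ c ∈ R₀, ∀ b ∈ A, c * ⁅x, b⁆ = ⁅x, b⁆ * c := by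
      rintro c ⟨hc, hc'⟩ b hb
      have hcx : ⁅x, c⁆ ∈ A := by rw [commutatorElement_def]; exact A.mul_mem hc' (A.inv_mem hc)
      have hprod : ∀ a a' : S, ⁅x, a * a'⁆ = ⁅x, a⁆ * (a * ⁅x, a'⁆ * a⁻¹) := fun a a' => by
        simp only [commutatorElement_def, mul_inv_rev, mul_assoc, inv_mul_cancel_left]
      have h1 : ⁅x, c⁆ * (c * ⁅x, b⁆ * c⁻¹) = ⁅x, b⁆ * ⁅x, c⁆ := by
        rw [← hprod, commute_of_abelian hA.1 hc hb, hprod, commute_of_abelian hA.1 hb hcx]
        group
      rw [hDc _ (hxA b hb).1 _ (hxA c hc).1] at h1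
      have h2 := mul_left_cancel h1
      calc c * ⁅x, b⁆ = c * ⁅x, b⁆ * c⁻¹ * c := by group
        _ = _ := by rw [h2]
    have hA₁ab : A₁ ≤ Subgroup.centralizer (A₁ : Set S) := by
      refine CD.sup_abelian
        (hR₀A.trans ((CD.isMulCommutative_iff_le_centralizer.mp hA.1).trans
          (Subgroup.centralizer_le hR₀A)))
        ((hMN.trans inf_le_left).trans ((CD.isMulCommutative_iff_le_centralizer.mp hD.1).trans
          (Subgroup.centralizer_le (hMN.trans inf_le_left)))) ?_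
      rw [Subgroup.closure_le]
      rintro _ ⟨a, ha, rfl⟩
      exact Subgroup.mem_centralizer_iff.mpr fun c hc => hRM c hc a ha
    -- counting
    have hcard : Nat.card ↥A ≤ Nat.card ↥A₁ := by
      let t : ↥A → ↥A := fun y => Quotient.out (QuotientGroup.mk y : ↥A ⧸ R₀.subgroupOf A)
      have ht : ∀ y, ((t y : S))⁻¹ * (y : S) ∈ R₀ := fun y => by
        have h := QuotientGroup.eq.mp
          (QuotientGroup.out_eq' (QuotientGroup.mk y : ↥A ⧸ R₀.subgroupOf A))
        simpa [Subgroup.mem_subgroupOf] using h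
      refine Nat.card_le_card_of_injective
        (fun y => (⟨⁅x, (t y : S)⁆ * ((t y : S)⁻¹ * (y : S)),
          Subgroup.mul_mem _ (Subgroup.mem_sup_right (Subgroup.subset_closure ⟨_, (t y).2, rfl⟩))
            (Subgroup.mem_sup_left (ht y))⟩ : ↥A₁)) ?_
      intro y z h
      have h1 : ⁅x, (t y : S)⁆ * ((t y : S)⁻¹ * (y : S)) =
          ⁅x, (t z : S)⁆ * ((t z : S)⁻¹ * (z : S)) := congrArg (fun w : ↥A₁ => (w : S)) h
      set p := (t y : S) with hp
      set q := (t z : S) with hq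
      have h2 : x * (p⁻¹ * q) * x⁻¹ = p⁻¹ * ((p⁻¹ * (y : S)) * ((q⁻¹ * (z : S))⁻¹)) * q := by
        calc x * (p⁻¹ * q) * x⁻¹
            = p⁻¹ * (⁅x, p⁆⁻¹ * (⁅x, q⁆ * (q⁻¹ * (z : S))) * (q⁻¹ * (z : S))⁻¹) * q := by
              rw [commutatorElement_def, commutatorElement_def]; group
          _ = p⁻¹ * (⁅x, p⁆⁻¹ * (⁅x, p⁆ * (p⁻¹ * (y : S))) * (q⁻¹ * (z : S))⁻¹) * q := by rw [h1]
          _ = _ := by group
      have h3 : p⁻¹ * q ∈ R₀ := by
        refine ⟨A.mul_mem (A.inv_mem (t y).2) (t z).2, ?_⟩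
        rw [h2]
        exact A.mul_mem (A.mul_mem (A.inv_mem (t y).2)
          (A.mul_mem (hR₀A (ht y)) (A.inv_mem (hR₀A (ht z))))) (t z).2
      have h4 : t y = t z := by
        have h5 : (QuotientGroup.mk (t y) : ↥A ⧸ R₀.subgroupOf A) = QuotientGroup.mk (t z) :=
          QuotientGroup.eq.mpr (by simpa [Subgroup.mem_subgroupOf] using h3)
        rw [QuotientGroup.out_eq', QuotientGroup.out_eq'] at h5
        exact congrArg Quotient.out h5
      have h6 : p = q := congrArg Subtype.val h4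
      rw [h6] at h1
      exact Subtype.ext (mul_left_cancel (mul_left_cancel h1))
    have hA₁ : A₁ ∈ maxAbelianSubgroups S :=
      ⟨CD.isMulCommutative_iff_le_centralizer.mpr hA₁ab, fun B hB => (hA.2 B hB).trans hcard⟩
    have hR : A ⊓ D ≤ R₀ := fun a ha => ⟨ha.1, by
      rw [hDc x hxD a ha.2, mul_inv_cancel_right]; exact ha.1⟩
    obtain ⟨a, ha, haA⟩ : ∃ a ∈ A, ⁅x, a⁆ ∉ A := by
      by_contra h
      simp only [not_exists, not_and, not_not] at h
      have heq : A.map (MulAut.conj x).toMonoidHom = A := by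
        refine Subgroup.eq_of_le_of_card_ge ?_
          (Nat.card_congr (A.equivMapOfInjective _ (MulAut.conj x).injective).toEquiv).le
        rintro _ ⟨a, ha, rfl⟩
        show x * a * x⁻¹ ∈ A
        simpa [commutatorElement_def] using A.mul_mem (h a ha) ha
      apply hxn
      rw [Subgroup.mem_normalizer_iff]
      intro y
      refine ⟨fun hy => heq ▸ ⟨y, hy, rfl⟩, fun hy => ?_⟩
      rw [← heq] at hy
      obtain ⟨q, hq, hqy⟩ := hy
      have : q = y := by simpa using hqy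
      rwa [← this]
    have hsub : A ⊓ D < A₁ ⊓ D := by
      refine lt_of_le_of_ne (le_inf (hR.trans le_sup_left) inf_le_right) fun h => haA ?_
      have : ⁅x, a⁆ ∈ A₁ ⊓ D :=
        ⟨Subgroup.mem_sup_right (Subgroup.subset_closure ⟨a, ha, rfl⟩), (hxA a ha).1⟩
      rw [← h] at this
      exact this.1
    have hcl : Nat.card ↥(A ⊓ D) < Nat.card ↥(A₁ ⊓ D) :=
      lt_of_le_of_ne (Subgroup.card_le_of_le hsub.le) fun h =>
        hsub.ne (Subgroup.eq_of_le_of_card_ge hsub.le h.ge)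
    have hb := Subgroup.card_le_card_group (A₁ ⊓ D)
    have hx1 := ih (n - 1) (by omega) A₁ hA₁ (by omega) hxD
    rw [CD.centralizer_maxAbelian hA₁] at hx1
    exact hxn (sup_le (hR₀A.trans Subgroup.le_normalizer) (hMN.trans inf_le_right) hx1)

end Cfsg.Agent.Lib.LocalEven2.DStar
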