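import Cfsg.Agent.Lib.LocalEven2.LinePoints
import Cfsg.Agent.Lib.LocalEven2.Sylow
import Cfsg.Prelude.Def_Transfer

/-!
# Fusion in an extraspecial Sylow subgroup of order `p³` and exponent `p`
-/

set_option autoImplicit false

namespace Cfsg.Agent.Lib.LocalEven2.ExtraFusion

open scoped commutatorElement TensorProduct

variable {G : Type*} [Group G] [Finite G] {p : ℕ} [hpf : Fact p.Prime]

/-- The standing hypothesis, with a chosen generator of the centre. -/
structure Ctx (P : Sylow p G) (z : ↥P) : Prop where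
  extra : Cfsg.IsExtraspecial p ↥P
  card : Nat.card P = p ^ 3
  exp : Monoid.exponent ↥P = p
  z_ne : z ≠ 1
  z_mem : z ∈ Subgroup.center ↥P

theorem exists_ctx (P : Sylow p G) (hE : Cfsg.IsExtraspecial p ↥P) (hcard : Nat.card P = p ^ 3)
    (hexp : Monoid.exponent ↥P = p) : ∃ z, Ctx P z := by
  have h1 : 1 < Nat.card (Subgroup.center ↥P) := by rw [hE.2]; exact hpf.out.one_lt
  obtain ⟨z, hz, hz1⟩ := (Subgroup.bot_or_exists_ne_one (Subgroup.center ↥P)).resolve_left
    ((Subgroup.one_lt_card_iff_ne_bot _).mp h1)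
  exact ⟨z, hE, hcard, hexp, hz1, hz⟩

theorem pow_congr {M : Type*} [Monoid M] {x : M} (hx : x ^ p = 1) {m n : ℕ}
    (h : (m : ZMod p) = n) : x ^ m = x ^ n := by
  rw [← pow_mod_orderOf x m, ← pow_mod_orderOf x n]
  rcases hpf.out.eq_one_or_self_of_dvd _ (orderOf_dvd_of_pow_eq_one hx) with h1 | h1 <;> rw [h1]
  · simp [Nat.mod_one]
  · rw [(ZMod.natCast_eq_natCast_iff' m n p).mp h]

variable {P : Sylow p G} {z : ↥P}

theorem Ctx.pow_p (c : Ctx P z) (x : ↥P) : x ^ p = 1 := by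
  have h := Monoid.pow_exponent_eq_one x
  rwa [c.exp] at h

theorem Ctx.order_z (c : Ctx P z) : orderOf z = p :=
  orderOf_eq_prime (c.pow_p z) c.z_ne

theorem Ctx.mem_center_iff (c : Ctx P z) {x : ↥P} :
    x ∈ Subgroup.center ↥P ↔ ∃ i : ℕ, z ^ i = x := by
  refine ⟨fun hx => ?_, fun ⟨i, hi⟩ => hi ▸ pow_mem c.z_mem i⟩
  have heq : Subgroup.zpowers z = Subgroup.center ↥P :=
    Subgroup.eq_of_le_of_card_ge (Subgroup.zpowers_le.mpr c.z_mem)
      (by rw [Nat.card_zpowers, c.order_z, c.extra.2])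
  rw [← heq] at hx
  exact mem_powers_iff_mem_zpowers.mpr hx

theorem Ctx.comm_center (c : Ctx P z) (x y : ↥P) : ⁅x, y⁆ ∈ Subgroup.center ↥P := by
  rw [← c.extra.1.2.2, commutator_def]
  exact Subgroup.commutator_mem_commutator (Subgroup.mem_top _) (Subgroup.mem_top _)

theorem Ctx.comm_mul_left (c : Ctx P z) (x x' y : ↥P) : ⁅x * x', y⁆ = ⁅x, y⁆ * ⁅x', y⁆ := by
  have h := Subgroup.mem_center_iff.mp (c.comm_center x' y) x
  calc ⁅x * x', y⁆ = x * ⁅x', y⁆ * x⁻¹ * ⁅x, y⁆ := by simp only [commutatorElement_def]; group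
    _ = ⁅x', y⁆ * ⁅x, y⁆ := by rw [h]; group
    _ = ⁅x, y⁆ * ⁅x', y⁆ := (Subgroup.mem_center_iff.mp (c.comm_center x' y) _).symm

theorem Ctx.comm_pow_left (c : Ctx P z) (x y : ↥P) (n : ℕ) : ⁅x ^ n, y⁆ = ⁅x, y⁆ ^ n := by
  induction n with
  | zero => simp
  | succ n ih => rw [pow_succ, c.comm_mul_left, ih, pow_succ]

theorem Ctx.comm_pow_right (c : Ctx P z) (x y : ↥P) (n : ℕ) : ⁅x, y ^ n⁆ = ⁅x, y⁆ ^ n := by
  rw [← commutatorElement_inv, c.comm_pow_left, ← inv_pow, commutatorElement_inv]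

theorem Ctx.comm_central_left (c : Ctx P z) {w : ↥P} (hw : w ∈ Subgroup.center ↥P) (x y : ↥P) :
    ⁅x * w, y⁆ = ⁅x, y⁆ := by
  rw [c.comm_mul_left, commutatorElement_eq_one_iff_mul_comm.mpr
    (Subgroup.mem_center_iff.mp hw y).symm, mul_one]

theorem Ctx.comm_central_right (c : Ctx P z) {w : ↥P} (hw : w ∈ Subgroup.center ↥P) (x y : ↥P) :
    ⁅x, y * w⁆ = ⁅x, y⁆ := by
  rw [← commutatorElement_inv, c.comm_central_left hw, commutatorElement_inv]

/-- Every power of `z` is a commutator with a given noncentral element. -/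
theorem Ctx.exists_comm (c : Ctx P z) {a : ↥P} (ha : a ∉ Subgroup.center ↥P) (i : ℕ) :
    ∃ y : ↥P, y * a * y⁻¹ = a * z ^ i := by
  obtain ⟨y, hy⟩ : ∃ y : ↥P, ⁅y, a⁆ ≠ 1 := by
    by_contra hc
    push Not at hc
    exact ha (Subgroup.mem_center_iff.mpr fun y => commutatorElement_eq_one_iff_mul_comm.mp (hc y))
  have hord : orderOf ⁅y, a⁆ = p := orderOf_eq_prime (c.pow_p _) hy
  have hz : z ^ i ∈ Subgroup.zpowers ⁅y, a⁆ := by
    rw [show Subgroup.zpowers ⁅y, a⁆ = Subgroup.center ↥P from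
      Subgroup.eq_of_le_of_card_ge (Subgroup.zpowers_le.mpr (c.comm_center y a))
        (by rw [Nat.card_zpowers, hord, c.extra.2])]
    exact pow_mem c.z_mem i
  obtain ⟨k, hk⟩ := mem_powers_iff_mem_zpowers.mpr hz
  refine ⟨y ^ k, ?_⟩
  have h := c.comm_pow_left y a k
  have h' : y ^ k * a * (y ^ k)⁻¹ * a⁻¹ = z ^ i := h.trans hk
  calc y ^ k * a * (y ^ k)⁻¹ = (y ^ k * a * (y ^ k)⁻¹ * a⁻¹) * a := by group
    _ = a * z ^ i := by rw [h', (Subgroup.mem_center_iff.mp (pow_mem c.z_mem i) a)]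

/-- The transvections centred at `a` are realised in `G`. -/
def Shear (z a : ↥P) : Prop :=
  ∀ s : ℕ, ∃ g : G, g * a * g⁻¹ = a ∧ g * z * g⁻¹ = z * (a : G) ^ s

theorem shear_of_conj (c : Ctx P z) {a : ↥P} (ha : a ∉ Subgroup.center ↥P)
    (hg : ∃ g : G, g * z * g⁻¹ = a) : Shear z a := by
  obtain ⟨g₀, hg₀⟩ := hg
  have hza : z * a = a * z := (Subgroup.mem_center_iff.mp c.z_mem a).symm
  set C := Subgroup.centralizer ({(a : G)} : Set G) with hC
  set A : Subgroup G := Subgroup.closure {(z : G), (a : G)} with hA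
  have hAP : A ≤ (P : Subgroup G) := (Subgroup.closure_le _).mpr (by
    rintro x (rfl | rfl) <;> exact SetLike.coe_mem _)
  have hAC : A ≤ C := (Subgroup.closure_le _).mpr (by
    rintro x (rfl | rfl)
    · exact Subgroup.mem_centralizer_singleton_iff.mpr (congrArg Subtype.val hza)
    · exact Subgroup.mem_centralizer_singleton_iff.mpr rfl)
  have hTC : ((g₀ • P : Sylow p G) : Subgroup G) ≤ C := by
    intro x hx
    rw [mem_smul_sylow] at hx
    have h := congrArg Subtype.val (Subgroup.mem_center_iff.mp c.z_mem ⟨_, hx⟩)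
    simp only [MulMemClass.coe_mul] at h
    rw [hC, Subgroup.mem_centralizer_singleton_iff, ← hg₀]
    calc x * (g₀ * z * g₀⁻¹) = g₀ * (g₀⁻¹ * x * g₀ * z) * g₀⁻¹ := by group
      _ = g₀ * z * g₀⁻¹ * x := by rw [h]; group
  obtain ⟨h, hh, hAh⟩ := exists_conj_le (g₀ • P) hTC (P.isPGroup'.to_le hAP) hAC
  set g := h * g₀ with hgdef
  have hga : g * z * g⁻¹ = a := by
    have hha := Subgroup.mem_centralizer_singleton_iff.mp hh
    calc g * z * g⁻¹ = h * (g₀ * z * g₀⁻¹) * h⁻¹ := by rw [hgdef]; group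
      _ = a := by rw [hg₀, hha]; group
  have hzm : g⁻¹ * z * g ∈ (P : Subgroup G) := by
    have h1 := hAh (Subgroup.subset_closure (Set.mem_insert (z : G) _))
    rw [mem_smul_sylow, mem_smul_sylow] at h1
    rw [show g⁻¹ * z * g = g₀⁻¹ * (h⁻¹ * z * h) * g₀ by rw [hgdef]; group]
    exact h1
  set z' : ↥P := ⟨_, hzm⟩ with hz'
  have hz'c : z' ∉ Subgroup.center ↥P := by
    intro hc
    obtain ⟨i, hi⟩ := c.mem_center_iff.mp hc
    have hi' : (z : G) ^ i = g⁻¹ * z * g := by
      have := congrArg Subtype.val hi; simpa using this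
    have h1 : (a : G) ^ i = z := by
      rw [← hga, conj_pow, hi']; group
    refine ha ?_
    have h2 : a ^ i = z := Subtype.ext (by simpa using h1)
    by_cases hi0 : (i : ZMod p) = 0
    · exact absurd (h2.symm.trans ((pow_congr (c.pow_p a) (n := 0) (by simpa using hi0)).trans
        (pow_zero a))) c.z_ne
    · have h3 : a = z ^ ((i : ZMod p)⁻¹).val := by
        rw [← h2, ← pow_mul]
        conv_lhs => rw [← pow_one a]
        refine pow_congr (c.pow_p a) ?_
        rw [Nat.cast_mul, ZMod.natCast_zmod_val, Nat.cast_one, mul_inv_cancel₀ hi0]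
      exact h3 ▸ pow_mem c.z_mem _
  intro s
  obtain ⟨y, hy⟩ := c.exists_comm hz'c s
  have hy' : (y : G) * (g⁻¹ * z * g) * (y : G)⁻¹ = g⁻¹ * z * g * (z : G) ^ s := by
    have := congrArg Subtype.val hy
    simpa [hz'] using this
  refine ⟨g * y * g⁻¹, ?_, ?_⟩
  · have hyz : (y : G) * z = z * y := congrArg Subtype.val (Subgroup.mem_center_iff.mp c.z_mem y)
    rw [← hga]
    calc g * y * g⁻¹ * (g * z * g⁻¹) * (g * y * g⁻¹)⁻¹ = g * (y * z * (y : G)⁻¹) * g⁻¹ := by group
      _ = g * z * g⁻¹ := by rw [hyz]; group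
  · rw [← hga, conj_pow]
    calc g * y * g⁻¹ * z * (g * y * g⁻¹)⁻¹
        = g * (y * (g⁻¹ * z * g) * (y : G)⁻¹) * g⁻¹ := by group
      _ = z * (g * (z : G) ^ s * g⁻¹) := by rw [hy']; group

/-- The torus: an element of `N(P)` acting as `u` on the centre and `u⁻¹` on `a` modulo it. -/
theorem exists_torus (c : Ctx P z) {a : ↥P} (ha : a ∉ Subgroup.center ↥P) (hl : Shear z a)
    (u : (ZMod p)ˣ) : ∃ g : G, ∃ _ : g ∈ Subgroup.normalizer ((P : Subgroup G) : Set G),
      g * z * g⁻¹ = (z : G) ^ (u : ZMod p).val ∧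
      ∃ j : ℕ, g * a * g⁻¹ = (a : G) ^ ((u⁻¹ : (ZMod p)ˣ) : ZMod p).val * (z : G) ^ j := by
  have hza : (z : G) * a = a * z := (congrArg Subtype.val (Subgroup.mem_center_iff.mp c.z_mem a)).symm
  have hzp : (z : G) ^ p = 1 := by have := congrArg Subtype.val (c.pow_p z); simpa using this
  have hap : (a : G) ^ p = 1 := by have := congrArg Subtype.val (c.pow_p a); simpa using this
  have hcomm : ∀ i j : ℕ, (z : G) ^ i * (a : G) ^ j = (a : G) ^ j * (z : G) ^ i := fun i j =>
    ((show Commute (z : G) a from hza).pow_pow i j).eq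
  have hw : ∀ s r : ℕ, (s : ZMod p) * r = -1 → ∃ g : G, g * z * g⁻¹ = (a : G) ^ r ∧
      g * a * g⁻¹ = (z : G) ^ s := by
    intro s r hsr
    obtain ⟨g₁, hg₁⟩ := c.exists_comm ha s
    obtain ⟨g₂, h2a, h2z⟩ := hl r
    have h1a : (g₁ : G) * a * (g₁ : G)⁻¹ = a * (z : G) ^ s := by
      have := congrArg Subtype.val hg₁; simpa using this
    have h1z : (g₁ : G) * z * (g₁ : G)⁻¹ = z := by
      have := congrArg Subtype.val (Subgroup.mem_center_iff.mp c.z_mem g₁)
      simp only [MulMemClass.coe_mul] at this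
      rw [this]; group
    refine ⟨g₁ * g₂ * g₁, ?_, ?_⟩
    · calc g₁ * g₂ * g₁ * z * ((g₁ : G) * g₂ * g₁)⁻¹
          = g₁ * (g₂ * (g₁ * z * (g₁ : G)⁻¹) * g₂⁻¹) * (g₁ : G)⁻¹ := by group
        _ = (g₁ * z * (g₁ : G)⁻¹) * (g₁ * a * (g₁ : G)⁻¹) ^ r := by
            rw [h1z, h2z, ← conj_mul, conj_pow, h1z]
        _ = (a : G) ^ r * ((z : G) ^ (1 + s * r)) := by
            rw [h1z, h1a, ((show Commute (a : G) z from hza.symm).pow_right s).mul_pow, ← pow_mul,
              ← mul_assoc, show (z : G) * (a : G) ^ r = (a : G) ^ r * z from by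
                simpa using hcomm 1 r, mul_assoc, pow_add, pow_one]
        _ = (a : G) ^ r := by
            rw [pow_congr hzp (m := 1 + s * r) (n := 0) (by push_cast; rw [hsr]; ring), pow_zero,
              mul_one]
    · calc g₁ * g₂ * g₁ * a * ((g₁ : G) * g₂ * g₁)⁻¹
          = g₁ * (g₂ * (g₁ * a * (g₁ : G)⁻¹) * g₂⁻¹) * (g₁ : G)⁻¹ := by group
        _ = g₁ * ((g₂ * a * g₂⁻¹) * (g₂ * z * g₂⁻¹) ^ s) * (g₁ : G)⁻¹ := by
            rw [h1a, conj_pow]; group
        _ = g₁ * ((z : G) ^ s * (a : G) ^ (1 + r * s)) * (g₁ : G)⁻¹ := by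
            rw [h2a, h2z, ((show Commute (z : G) a from hza).pow_right r).mul_pow, ← pow_mul]
            congr 2
            rw [pow_add, pow_one, ← mul_assoc, show (a : G) * (z : G) ^ s = (z : G) ^ s * a from by
              simpa using (hcomm s 1).symm, mul_assoc]
        _ = (z : G) ^ s := by
            rw [pow_congr hap (m := 1 + r * s) (n := 0)
              (by push_cast; rw [mul_comm, hsr]; ring), pow_zero, mul_one, ← conj_pow, h1z]
  obtain ⟨g₁, h1z, h1a⟩ := hw (u : ZMod p).val ((-(u⁻¹ : (ZMod p)ˣ) : ZMod p)).val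
    (by rw [ZMod.natCast_zmod_val, ZMod.natCast_zmod_val, mul_neg, Units.mul_inv])
  obtain ⟨g₂, h2z, h2a⟩ := hw ((-1 : ZMod p)).val 1
    (by rw [ZMod.natCast_zmod_val, Nat.cast_one, mul_one])
  set m := (u : ZMod p).val with hm
  set l := ((u⁻¹ : (ZMod p)ˣ) : ZMod p).val with hldef
  set g := g₁ * g₂ with hgdef
  have hgz : g * z * g⁻¹ = (z : G) ^ m := by
    calc g * z * g⁻¹ = g₁ * (g₂ * z * g₂⁻¹) * g₁⁻¹ := by rw [hgdef]; group
      _ = (z : G) ^ m := by rw [h2z, pow_one, h1a]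
  have hga : g * a * g⁻¹ = (a : G) ^ l := by
    calc g * a * g⁻¹ = g₁ * (g₂ * a * g₂⁻¹) * g₁⁻¹ := by rw [hgdef]; group
      _ = (a : G) ^ l := by
        rw [h2a, ← conj_pow, h1z, ← pow_mul]
        exact pow_congr hap (by rw [Nat.cast_mul, ZMod.natCast_zmod_val, ZMod.natCast_zmod_val, hldef,
          ZMod.natCast_zmod_val, neg_mul_neg, mul_one])
  have hml : ((l * m : ℕ) : ZMod p) = 1 := by
    rw [Nat.cast_mul, hldef, hm, ZMod.natCast_zmod_val, ZMod.natCast_zmod_val, Units.inv_mul]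
  -- the elements fixing `z` and the coset of `a`
  let W : Subgroup G :=
    { carrier := {x | x * z = z * x ∧ ∃ i : ℤ, x * a * x⁻¹ = a * (z : G) ^ i}
      one_mem' := ⟨by simp, 0, by simp⟩
      mul_mem' := by
        rintro x y ⟨hx, i, hi⟩ ⟨hy, j, hj⟩
        refine ⟨?_, i + j, ?_⟩
        · rw [mul_assoc, hy, ← mul_assoc, hx, mul_assoc]
        · have hxj : x * (z : G) ^ j * x⁻¹ = (z : G) ^ j := by
            rw [((show Commute x (z : G) from hx).zpow_right j).eq]; group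
          calc x * y * a * (x * y)⁻¹ = (x * a * x⁻¹) * (x * (z : G) ^ j * x⁻¹) := by
                rw [show x * y * a * (x * y)⁻¹ = x * (y * a * y⁻¹) * x⁻¹ by group, hj]; group
            _ = a * (z : G) ^ (i + j) := by rw [hxj, hi, zpow_add, mul_assoc]
      inv_mem' := by
        rintro x ⟨hx, i, hi⟩
        refine ⟨(show Commute x (z : G) from hx).inv_left.eq, -i, ?_⟩
        have hxi : x⁻¹ * (z : G) ^ i * x = (z : G) ^ i := by
          rw [(((show Commute x (z : G) from hx).inv_left).zpow_right i).eq]; group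
        calc x⁻¹ * a * x⁻¹⁻¹ = x⁻¹ * (x * a * x⁻¹) * x * (x⁻¹ * (z : G) ^ i * x)⁻¹ := by
              rw [hi]; group
          _ = a * (z : G) ^ (-i) := by rw [hxi]; group }
  have hPW : (P : Subgroup G) ≤ W := by
    intro y hy
    refine ⟨congrArg Subtype.val (Subgroup.mem_center_iff.mp c.z_mem ⟨y, hy⟩), ?_⟩
    obtain ⟨i, hi⟩ := c.mem_center_iff.mp (c.comm_center ⟨y, hy⟩ a)
    refine ⟨i, ?_⟩
    have h : (z : G) ^ i = y * a * y⁻¹ * (a : G)⁻¹ := congrArg Subtype.val hi
    rw [zpow_natCast]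
    calc y * a * y⁻¹ = y * a * y⁻¹ * (a : G)⁻¹ * a := by group
      _ = (z : G) ^ i * a := by rw [← h]
      _ = a * (z : G) ^ i := by simpa using hcomm i 1
  have hcard : ∀ x : G, Nat.card ↥((P : Subgroup G).map (MulAut.conj x).toMonoidHom) =
      Nat.card ↥(P : Subgroup G) := fun x =>
    Subgroup.card_map_of_injective (MulAut.conj x).injective
  have hRW : (P : Subgroup G).map (MulAut.conj g).toMonoidHom ≤ W := by
    rintro _ ⟨y, hy, rfl⟩
    obtain ⟨hyz, i, hi⟩ := hPW hy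
    show (g * y * g⁻¹) * z = z * (g * y * g⁻¹) ∧
      ∃ i : ℤ, g * y * g⁻¹ * a * (g * y * g⁻¹)⁻¹ = a * (z : G) ^ i
    have hz' : g * (z : G) ^ l * g⁻¹ = z := by
      rw [← conj_pow, hgz, ← pow_mul, pow_congr hzp (n := 1) (by rw [mul_comm, hml, Nat.cast_one]),
        pow_one]
    have ha' : g * (a : G) ^ m * g⁻¹ = a := by
      rw [← conj_pow, hga, ← pow_mul, pow_congr hap (n := 1) (by rw [hml, Nat.cast_one]), pow_one]
    refine ⟨?_, i * m * m, ?_⟩
    · have hyl : y * (z : G) ^ l * y⁻¹ = (z : G) ^ l := by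
        rw [((show Commute y (z : G) from hyz).pow_right l).eq]; group
      have : g * y * g⁻¹ * z * (g * y * g⁻¹)⁻¹ = z := by
        conv_lhs => rw [← hz']
        rw [show g * y * g⁻¹ * (g * (z : G) ^ l * g⁻¹) * (g * y * g⁻¹)⁻¹ =
          g * (y * (z : G) ^ l * y⁻¹) * g⁻¹ by group, hyl, hz']
      exact mul_inv_eq_iff_eq_mul.mp this
    · conv_lhs => rw [← ha']
      rw [show g * y * g⁻¹ * (g * (a : G) ^ m * g⁻¹) * (g * y * g⁻¹)⁻¹ =
        g * (y * (a : G) ^ m * y⁻¹) * g⁻¹ by group, ← conj_pow, hi,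
        ((show Commute (a : G) z from hza.symm).zpow_right i).mul_pow, ← conj_mul, ha']
      congr 1
      rw [← zpow_natCast ((z : G) ^ i), ← zpow_mul, ← conj_zpow, hgz, ← zpow_natCast (z : G) m,
        ← zpow_mul]
      ring_nf
  obtain ⟨h, hh, hle⟩ := exists_conj_le P hPW (P.isPGroup'.map _) hRW
  have heq : (P : Subgroup G).map (MulAut.conj g).toMonoidHom =
      (P : Subgroup G).map (MulAut.conj h).toMonoidHom := by
    rw [smul_sylow_eq_map] at hle
    exact Subgroup.eq_of_le_of_card_ge hle (by rw [hcard, hcard])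
  obtain ⟨hhz, i, hi⟩ := inv_mem hh
  refine ⟨h⁻¹ * g, ?_, ?_, ?_⟩
  · rw [Subgroup.mem_normalizer_iff_map_conj_eq]
    show (P : Subgroup G).map (MulAut.conj (h⁻¹ * g)).toMonoidHom = P
    have := congrArg (Subgroup.map (MulAut.conj h⁻¹).toMonoidHom) heq
    rw [Subgroup.map_map, Subgroup.map_map] at this
    convert this using 1
    · congr 1; ext x; simp [mul_assoc]
    · rw [show (MulAut.conj h⁻¹).toMonoidHom.comp (MulAut.conj h).toMonoidHom = MonoidHom.id G from
        MonoidHom.ext fun x => by simp [mul_assoc], Subgroup.map_id]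
  · calc h⁻¹ * g * z * (h⁻¹ * g)⁻¹ = h⁻¹ * (g * z * g⁻¹) * h⁻¹⁻¹ := by group
      _ = (z : G) ^ m := by rw [hgz, ((show Commute h⁻¹ (z : G) from hhz).pow_right m).eq]; group
  · refine ⟨(i * l % (p : ℤ)).toNat, ?_⟩
    calc h⁻¹ * g * a * (h⁻¹ * g)⁻¹ = h⁻¹ * (g * a * g⁻¹) * h⁻¹⁻¹ := by group
      _ = (a : G) ^ l * (z : G) ^ (i * l % (p : ℤ)).toNat := by
        rw [hga, ← conj_pow, hi, ((show Commute (a : G) z from hza.symm).zpow_right i).mul_pow,
          ← zpow_natCast ((z : G) ^ i), ← zpow_mul]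
        congr 1
        rw [← zpow_natCast, Int.toNat_of_nonneg
          (Int.emod_nonneg _ (by exact_mod_cast hpf.out.ne_zero))]
        conv_lhs => rw [← Int.mul_ediv_add_emod (i * l) p]
        rw [zpow_add, zpow_mul, zpow_natCast, hzp, one_zpow, one_mul]

theorem exists_zmodModule {p : ℕ} {Q : Type*} [CommGroup Q] (hexp : ∀ x : Q, x ^ p = 1) :
    Nonempty (Module (ZMod p) (Additive Q)) :=
  ⟨AddCommGroup.zmodModule (n := p) (G := Additive Q) (fun x => by
    rw [← ofMul_toMul x, ← ofMul_pow, hexp, ofMul_one])⟩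

/-- An automorphism of an exponent `p` group as a linear map. -/
noncomputable def autToEnd (p : ℕ) (Q : Type*) [CommGroup Q] [Module (ZMod p) (Additive Q)] :
    MulAut Q →* Module.End (ZMod p) (Additive Q) where
  toFun φ :=
    { toFun := fun v => Additive.ofMul (φ v.toMul)
      map_add' := fun v w => congrArg Additive.ofMul (map_mul φ v.toMul w.toMul)
      map_smul' := fun r v => by
        rw [RingHom.id_apply]
        exact ZMod.map_smul (MulEquiv.toAdditive φ : Additive Q ≃+ Additive Q) r v }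
  map_one' := LinearMap.ext fun v => rfl
  map_mul' φ ψ := by ext v; simp [MulAut.mul_apply]

theorem autToEnd_apply (p : ℕ) (Q : Type*) [CommGroup Q] [Module (ZMod p) (Additive Q)]
    (φ : MulAut Q) (x : Q) :
    autToEnd p Q φ (Additive.ofMul x) = Additive.ofMul (φ x) := rfl

/-- The linear part: lines of a plane with a large stabiliser are few. -/
theorem plane_lines {Q : Type*} [CommGroup Q] [Finite Q] (hexp : ∀ x : Q, x ^ p = 1)
    (hcard : Nat.card Q = p ^ 2) (H : Subgroup (MulAut Q)) (hH : ¬ p ∣ Nat.card H) {n : ℕ}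
    (hn : 2 ≤ n) (s : Finset Q) (hne : ∀ a ∈ s, ∀ b ∈ s, a ≠ b → ∀ k : ℕ, b ≠ a ^ k)
    (hs : ∀ a ∈ s, a ≠ 1 ∧ ∃ φ ∈ H, ∃ l : ℕ, (l : ZMod p) ≠ 0 ∧ φ a = a ^ l ∧
      ∀ k, 0 < k → k < n → ¬ ∀ x : Q, (φ ^ k) x = x ^ (l ^ k)) :
    (6 ≤ n → s.card ≤ 2) ∧ (4 ≤ n → s.card ≤ 12) := by
  classical
  obtain ⟨_⟩ := exists_zmodModule hexp
  haveI : Module.Finite (ZMod p) (Additive Q) := Module.Finite.of_finite
  let K := AlgebraicClosure (ZMod p)
  haveI : CharP K p := charP_of_injective_algebraMap (algebraMap (ZMod p) K).injective p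
  let lin := autToEnd p Q
  let ρ : ↥H →* Module.End K (K ⊗[ZMod p] Additive Q) :=
    ((Module.End.baseChangeHom (ZMod p) K (Additive Q)).toMonoidHom.comp lin).comp H.subtype
  have hfr : Module.finrank (ZMod p) (Additive Q) = 2 := by
    have h := Module.natCard_eq_pow_finrank (K := ZMod p) (V := Additive Q)
    rw [Nat.card_zmod, show Nat.card (Additive Q) = p ^ 2 from hcard] at h
    exact (Nat.pow_right_injective hpf.out.two_le h).symm
  have hK2 : Module.finrank K (K ⊗[ZMod p] Additive Q) = 2 := by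
    rw [Module.finrank_baseChange, hfr]
  have hHK : (Nat.card H : K) ≠ 0 := fun e => hH ((CharP.cast_eq_zero_iff K p _).mp e)
  let B := Module.finBasis (ZMod p) (Additive Q)
  let E : Q → K ⊗[ZMod p] Additive Q := fun a => (1 : K) ⊗ₜ[ZMod p] Additive.ofMul a
  have hrepr : ∀ a i, (B.baseChange K).repr (E a) i =
      algebraMap (ZMod p) K (B.repr (Additive.ofMul a) i) := fun a i => by
    rw [Module.Basis.baseChange_repr_tmul, Algebra.smul_def, mul_one]
  have hEinj : ∀ {a b : Q}, E a = E b → a = b := by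
    intro a b h
    have : B.repr (Additive.ofMul a) = B.repr (Additive.ofMul b) := by
      ext i
      apply (algebraMap (ZMod p) K).injective
      rw [← hrepr, ← hrepr, h]
    exact Additive.ofMul.injective (B.repr.injective this)
  have hEpow : ∀ (x : Q) (k : ℕ), E (x ^ k) = (k : K) • E x := fun x k => by
    show (1 : K) ⊗ₜ[ZMod p] Additive.ofMul (x ^ k) = _
    rw [ofMul_pow, TensorProduct.tmul_smul, Nat.cast_smul_eq_nsmul]
  have hE0 : ∀ {a : Q}, a ≠ 1 → E a ≠ 0 := by
    intro a ha h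
    exact ha (hEinj (h.trans (by
      show (0 : K ⊗[ZMod p] Additive Q) = (1 : K) ⊗ₜ[ZMod p] Additive.ofMul (1 : Q)
      rw [ofMul_one, TensorProduct.tmul_zero])))
  have hline : ∀ {a b : Q}, a ≠ 1 → Submodule.span K {E a} = Submodule.span K {E b} →
      ∃ k : ℕ, b = a ^ k := by
    intro a b ha h
    obtain ⟨t, ht⟩ := Submodule.mem_span_singleton.mp
      (h ▸ Submodule.mem_span_singleton_self (E b) : E b ∈ Submodule.span K {E a})
    obtain ⟨i, hi⟩ : ∃ i, B.repr (Additive.ofMul a) i ≠ 0 := by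
      by_contra hc
      push Not at hc
      apply hE0 ha
      refine (B.baseChange K).repr.injective ?_
      ext i
      rw [hrepr, hc i, map_zero, map_zero, Finsupp.zero_apply]
    set c₀ : ZMod p := B.repr (Additive.ofMul b) i / B.repr (Additive.ofMul a) i with hc₀
    have ht0 : t = algebraMap (ZMod p) K c₀ := by
      have h1 := congrArg (fun v => (B.baseChange K).repr v i) ht
      simp only [map_smul, Finsupp.smul_apply, smul_eq_mul, hrepr] at h1
      rw [hc₀, map_div₀, eq_div_iff (fun e => hi ((algebraMap (ZMod p) K).injective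
        (by rw [e, map_zero]))), h1]
    refine ⟨c₀.val, hEinj ?_⟩
    rw [hEpow, ← ht, ht0, ← map_natCast (algebraMap (ZMod p) K), ZMod.natCast_zmod_val]
  obtain ⟨h6, h4⟩ := LinePoints.bounds hK2 ρ hHK hn (s.image fun a => Submodule.span K {E a}) (by
    intro L hL
    obtain ⟨a, haS, rfl⟩ := Finset.mem_image.mp hL
    obtain ⟨ha1, φ, hφ, l, hl, hla, hns⟩ := hs a haS
    refine ⟨⟨E a, hE0 ha1, rfl⟩, ⟨φ, hφ⟩, ?_⟩
    have hact : ∀ (k : ℕ) (x : Q), ρ ((⟨φ, hφ⟩ : ↥H) ^ k) (E x) = E ((φ ^ k) x) := fun k x => by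
      show (lin (φ ^ k)).baseChange K (E x) = _
      rw [LinearMap.baseChange_tmul, autToEnd_apply]
    have hl0 : ((l : ℕ) : K) ≠ 0 := by
      rw [← map_natCast (algebraMap (ZMod p) K)]
      exact (map_ne_zero _).mpr hl
    have hE1 : ρ ⟨φ, hφ⟩ (E a) = ((l : ℕ) : K) • E a := by
      have := hact 1 a
      rwa [pow_one, pow_one, hla, hEpow] at this
    refine ⟨?_, fun k hk0 hkn hsc => hns k hk0 hkn ?_⟩
    · rw [Submodule.map_span, Set.image_singleton, hE1,
        Submodule.span_singleton_smul_eq hl0.isUnit]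
    · obtain ⟨cc, hcc⟩ := hsc
      have hEk : ∀ k : ℕ, ρ ((⟨φ, hφ⟩ : ↥H) ^ k) (E a) = (((l : ℕ) : K) ^ k) • E a := by
        intro k
        induction k with
        | zero => simp
        | succ k ih =>
          rw [pow_succ, map_mul, Module.End.mul_apply, hE1, map_smul, ih, smul_smul, pow_succ']
      have hceq : cc = ((l ^ k : ℕ) : K) := by
        have := (hcc (E a)).symm.trans (hEk k)
        rw [Nat.cast_pow]
        exact smul_left_injective K (hE0 ha1) this
      intro x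
      refine hEinj ?_
      rw [← hact k x, hcc (E x), hceq, hEpow])
  have hinj : Set.InjOn (fun a => Submodule.span K {E a}) (s : Set Q) := by
    intro a ha b hb h
    by_contra hab
    obtain ⟨k, hk⟩ := hline (hs a ha).1 h
    exact hne a ha b hb hab k hk
  rw [Finset.card_image_of_injOn hinj] at h6 h4
  exact ⟨h6, h4⟩

/-- Pairwise noncommuting elements with the torus at each of them are few. -/
theorem few_lines (c : Ctx P z) (s : Finset ↥P) (hs : ∀ a ∈ s, a ∉ Subgroup.center ↥P)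
    (hne : ∀ a ∈ s, ∀ b ∈ s, a ≠ b → ⁅a, b⁆ ≠ 1) (hsh : ∀ a ∈ s, Shear z a) {n : ℕ} (hn : 2 ≤ n)
    (hk : ∀ k, 0 < k → k < n → ¬ (p - 1) ∣ 3 * k) :
    (6 ≤ n → s.card ≤ 2) ∧ (4 ≤ n → s.card ≤ 12) := by
  classical
  set C := Subgroup.center ↥P with hC
  set N := Subgroup.normalizer ((P : Subgroup G) : Set G) with hN
  have hcomm : ∀ x y : ↥P ⧸ C, x * y = y * x := by
    intro x y
    induction x using QuotientGroup.induction_on
    induction y using QuotientGroup.induction_on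
    rename_i x y
    rw [← QuotientGroup.mk_mul, ← QuotientGroup.mk_mul, QuotientGroup.eq,
      show (x * y)⁻¹ * (y * x) = ⁅y⁻¹, x⁻¹⁆ by simp only [commutatorElement_def]; group]
    exact c.comm_center _ _
  have hmap : ∀ φ : MulAut ↥P, C.map (φ : ↥P →* ↥P) = C := fun φ =>
    Subgroup.characteristic_iff_map_eq.mp inferInstance φ
  let qh : MulAut ↥P →* MulAut (↥P ⧸ C) :=
    { toFun := fun φ => QuotientGroup.congr C C φ (hmap φ)
      map_one' := MulEquiv.ext fun x => by induction x using QuotientGroup.induction_on; rfl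
      map_mul' := fun φ ψ => MulEquiv.ext fun x => by
        induction x using QuotientGroup.induction_on; rfl }
  let f : ↥N →* MulAut (↥P ⧸ C) := qh.comp (P : Subgroup G).normalizerMonoidHom
  have hf : ∀ (g : ↥N) (x : ↥P), f g (x : ↥P ⧸ C) =
      (((P : Subgroup G).normalizerMonoidHom g x : ↥P) : ↥P ⧸ C) := fun g x => rfl
  have hnm : ∀ (g : ↥N) (x : ↥P), (((P : Subgroup G).normalizerMonoidHom g x : ↥P) : G) =
      (g : G) * x * (g : G)⁻¹ := fun g x => rfl
  have hHp : ¬ p ∣ Nat.card f.range := by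
    have hle : (P : Subgroup G).subgroupOf N ≤ f.ker := by
      intro g hg
      refine MulEquiv.ext fun x => ?_
      induction x using QuotientGroup.induction_on with
      | H x =>
        rw [hf, show ((1 : MulAut (↥P ⧸ C)) (x : ↥P ⧸ C)) = (x : ↥P ⧸ C) from rfl,
          QuotientGroup.eq]
        set g' : ↥P := ⟨(g : G), hg⟩
        have e : (P : Subgroup G).normalizerMonoidHom g x = g' * x * g'⁻¹ := Subtype.ext rfl
        rw [e, show (g' * x * g'⁻¹)⁻¹ * x = ⁅g', x⁻¹⁆ by simp only [commutatorElement_def]; group]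
        exact c.comm_center _ _
    intro hdvd
    rw [← Subgroup.index_ker] at hdvd
    exact P.not_dvd_index ((hdvd.trans (Subgroup.index_dvd_of_le hle)).trans
      (Subgroup.relIndex_dvd_index_of_le Subgroup.le_normalizer))
  have hcardQ : Nat.card (↥P ⧸ C) = p ^ 2 := by
    have h : Nat.card ↥P = Nat.card (↥P ⧸ C) * Nat.card C :=
      Subgroup.card_eq_card_quotient_mul_card_subgroup C
    rw [show Nat.card ↥P = p ^ 3 from c.card, show Nat.card C = p from c.extra.2, pow_succ] at h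
    exact (Nat.eq_of_mul_eq_mul_right hpf.out.pos h).symm
  have hexpQ : ∀ x : ↥P ⧸ C, x ^ p = 1 := fun x => by
    induction x using QuotientGroup.induction_on with
    | H x => rw [← QuotientGroup.mk_pow, c.pow_p, QuotientGroup.mk_one]
  have hlin : ∀ a ∈ s, ∀ b ∈ s, a ≠ b → ∀ k : ℕ, (b : ↥P ⧸ C) ≠ (a : ↥P ⧸ C) ^ k := by
    intro a ha b hb hab k e
    rw [← QuotientGroup.mk_pow, QuotientGroup.eq] at e
    apply hne a ha b hb hab
    rw [← c.comm_central_right e a b, mul_inv_cancel_left, c.comm_pow_right,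
      commutatorElement_self, one_pow]
  obtain ⟨u, hu⟩ := IsCyclic.exists_generator (α := (ZMod p)ˣ)
  have huo : orderOf u = p - 1 := by
    rw [orderOf_eq_card_of_forall_mem_zpowers hu, Nat.card_eq_fintype_card, ZMod.card_units]
  set l := ((u⁻¹ : (ZMod p)ˣ) : ZMod p).val with hldef
  obtain ⟨h6, h4⟩ := @plane_lines p hpf (↥P ⧸ C)
    { (inferInstance : Group (↥P ⧸ C)) with mul_comm := hcomm } inferInstance hexpQ hcardQ f.range
    hHp n hn (s.image fun a : ↥P => (a : ↥P ⧸ C)) (by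
      intro A hA B hB hAB k
      obtain ⟨a, ha, rfl⟩ := Finset.mem_image.mp hA
      obtain ⟨b, hb, rfl⟩ := Finset.mem_image.mp hB
      exact hlin a ha b hb (fun e => hAB (by rw [e])) k) (by
    intro A hA
    obtain ⟨a, haS, rfl⟩ := Finset.mem_image.mp hA
    have haC := hs a haS
    refine ⟨fun e => haC ((QuotientGroup.eq_one_iff a).mp e), ?_⟩
    obtain ⟨g, hg, hgz, j, hga⟩ := exists_torus c haC (hsh a haS) u
    set nh := (P : Subgroup G).normalizerMonoidHom ⟨g, hg⟩ with hnh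
    refine ⟨f ⟨g, hg⟩, ⟨_, rfl⟩, l, ?_, ?_, fun k hk0 hkn hall => hk k hk0 hkn ?_⟩
    · rw [hldef, ZMod.natCast_zmod_val]
      exact Units.ne_zero _
    · have e : nh a = a ^ l * z ^ j := Subtype.ext (by
        rw [hnm]; exact hga)
      rw [hf, ← hnh, e, QuotientGroup.mk_mul, (QuotientGroup.eq_one_iff _).mpr (pow_mem c.z_mem j),
        mul_one]
      rfl
    · have hpowz : ∀ k : ℕ, (nh ^ k) z = z ^ ((u : ZMod p).val ^ k) := by
        have h1 : nh z = z ^ (u : ZMod p).val := Subtype.ext (by rw [hnm]; exact hgz)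
        intro k
        induction k with
        | zero => simp
        | succ k ih => rw [pow_succ, MulAut.mul_apply, h1, map_pow, ih, ← pow_mul, ← pow_succ]
      have hall' : ∀ x : ↥P, ∃ w ∈ C, (nh ^ k) x = x ^ (l ^ k) * w := by
        intro x
        have h1 : (((nh ^ k) x : ↥P) : ↥P ⧸ C) = ((x ^ (l ^ k) : ↥P) : ↥P ⧸ C) := by
          have h2 := hall (x : ↥P ⧸ C)
          rw [← map_pow, hf, map_pow, ← hnh] at h2
          exact h2.trans (QuotientGroup.mk_pow C x _).symm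
        exact ⟨_, QuotientGroup.eq.mp h1.symm, (mul_inv_cancel_left _ _).symm⟩
      obtain ⟨y, hy⟩ := c.exists_comm haC 1
      have hcom : ⁅y, a⁆ = z := by
        rw [commutatorElement_def, hy, pow_one, (Subgroup.mem_center_iff.mp c.z_mem a)]
        group
      obtain ⟨w, hw, hyw⟩ := hall' y
      obtain ⟨w', hw', haw⟩ := hall' a
      have h1 : z ^ ((u : ZMod p).val ^ k) = z ^ (l ^ k * l ^ k) := by
        rw [← hpowz k]
        conv_lhs => rw [← hcom]
        rw [map_commutatorElement, hyw, haw, c.comm_central_left hw, c.comm_central_right hw',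
          c.comm_pow_left, c.comm_pow_right, hcom, ← pow_mul]
      have h2 : (((u : ZMod p).val ^ k : ℕ) : ZMod p) = ((l ^ k * l ^ k : ℕ) : ZMod p) := by
        rw [pow_eq_pow_iff_modEq, c.order_z] at h1
        exact (ZMod.natCast_eq_natCast_iff' _ _ p).mpr h1
      push_cast at h2
      rw [hldef, ZMod.natCast_zmod_val, ZMod.natCast_zmod_val, ← Units.val_pow_eq_pow_val,
        ← Units.val_pow_eq_pow_val, ← Units.val_mul, Units.val_inj] at h2
      rw [← huo]
      refine orderOf_dvd_of_pow_eq_one ?_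
      calc u ^ (3 * k) = u ^ k * (u ^ k * u ^ k) := by rw [← pow_add, ← pow_add]; congr 1; ring
        _ = (u⁻¹ ^ k * u⁻¹ ^ k) * (u ^ k * u ^ k) := by rw [← h2]
        _ = 1 := by rw [inv_pow]; group)
  have hinj : Set.InjOn (fun a : ↥P => (a : ↥P ⧸ C)) (s : Set ↥P) := by
    intro a ha b hb h
    by_contra hab
    exact hlin a ha b hb hab 1 (by rw [pow_one]; exact h.symm)
  rw [Finset.card_image_of_injOn hinj] at h6 h4
  exact ⟨h6, h4⟩

end Cfsg.Agent.Lib.LocalEven2.ExtraFusion
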