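import Cfsg.Agent.Lib.LocalEven2.Thompson
import Cfsg.Agent.Lib.Coprime.Basic

/-!
An element of order 3 inverted by a member of a largest elementary abelian subgroup whose
hyperplane commutes with it moves at most a four-group.
-/

set_option autoImplicit false
set_option linter.unusedSectionVars false

namespace Cfsg.Agent.Lib.LocalEven2

variable {G : Type*} [Group G] [Finite G]

/-- `[Z, k]` for an abelian `Z` normalized by `k`, as the set of commutators. -/
def moveBy (k : G) (Z : Subgroup G) : Set G := (fun z => k * z * k⁻¹ * z⁻¹) '' (Z : Set G)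

theorem moveBy_card_le_four {T A B Z : Subgroup G} (hA : IsMaxEA 2 T A)
    {a k : G} (haA : a ∈ A) (hBA : B ≤ A) (hplane : ∀ c ∈ A, c ∈ B ∨ a * c ∈ B)
    (hZT : Z ≤ T) (hZc : ∀ x ∈ Z, ∀ y ∈ Z, x * y = y * x) (hZ2 : ∀ x ∈ Z, x * x = 1)
    (hkZ : ∀ z ∈ Z, k * z * k⁻¹ ∈ Z) (hAZ : ∀ b ∈ A, ∀ z ∈ Z, b * z * b⁻¹ ∈ Z)
    (hk3 : k ^ 3 = 1)
    (hak : ∀ z ∈ Z, a * (k * z * k⁻¹) * a⁻¹ = k⁻¹ * (a * z * a⁻¹) * k)
    (hbk : ∀ b ∈ B, ∀ z ∈ Z, b * (k * z * k⁻¹) * b⁻¹ = k * (b * z * b⁻¹) * k⁻¹) :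
    (moveBy k Z).ncard ≤ 4 := by
  classical
  obtain ⟨hAc, hAe⟩ := isElementaryAbelian_iff.mp hA.2.1
  have hinv : ∀ z ∈ Z, z⁻¹ = z := fun z hz => inv_eq_of_mul_eq_one_right (hZ2 z hz)
  have hcanc : ∀ p ∈ Z, ∀ q : G, p * (p * q) = q := fun p hp q => by
    rw [← mul_assoc, hZ2 p hp, one_mul]
  -- the endomorphisms
  let κ : ↥Z →* ↥Z :=
    { toFun := fun z => ⟨k * z * k⁻¹, hkZ z z.2⟩
      map_one' := Subtype.ext (show k * 1 * k⁻¹ = 1 by group)
      map_mul' := fun x y => Subtype.ext (show k * (x * y : G) * k⁻¹ = k * x * k⁻¹ * (k * y * k⁻¹) by group) }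
  let act : G → ↥Z → ↥Z := fun b z => if h : b ∈ A then ⟨b * z * b⁻¹, hAZ b h z z.2⟩ else z
  have hact : ∀ {b : G}, b ∈ A → ∀ z : ↥Z, (act b z : G) = b * z * b⁻¹ := fun hb z => by
    simp only [act, dif_pos hb]
  letI : CommGroup ↥Z := { (inferInstance : Group ↥Z) with
    mul_comm := fun x y => Subtype.ext (hZc x x.2 y y.2) }
  have hex : ∀ x : ↥Z, x * x = 1 := fun x => Subtype.ext (hZ2 x x.2)
  have hcancel : ∀ x y : ↥Z, x * y * y = x := fun x y => by rw [mul_assoc, hex, mul_one]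
  have hsinv : ∀ x : ↥Z, x⁻¹ = x := fun x => inv_eq_of_mul_eq_one_right (hex x)
  have hmul : ∀ {b : G}, b ∈ A → ∀ x y : ↥Z, act b (x * y) = act b x * act b y := fun hb x y =>
    Subtype.ext (by rw [Subgroup.coe_mul, hact hb, hact hb, hact hb, Subgroup.coe_mul]; group)
  have hone : ∀ {b : G}, b ∈ A → act b 1 = 1 := fun hb => Subtype.ext (by
    rw [hact hb, Subgroup.coe_one]; group)
  have hcomp : ∀ {b c : G}, b ∈ A → c ∈ A → ∀ x : ↥Z, act (b * c) x = act b (act c x) := fun hb hc x =>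
    Subtype.ext (by rw [hact (mul_mem hb hc), hact hb, hact hc]; group)
  have haA2 : ∀ {b : G}, b ∈ A → ∀ x : ↥Z, act b (act b x) = x := fun hb x => by
    rw [← hcomp hb hb]
    exact Subtype.ext (by rw [hact (mul_mem hb hb), ← pow_two, hAe _ hb]; group)
  have hk3' : ∀ x : ↥Z, κ (κ (κ x)) = x := fun x => Subtype.ext (by
    show k * (k * (k * (x : G) * k⁻¹) * k⁻¹) * k⁻¹ = x
    calc k * (k * (k * (x : G) * k⁻¹) * k⁻¹) * k⁻¹ = k ^ 3 * x * (k ^ 3)⁻¹ := by
          simp only [pow_succ, pow_zero, one_mul]; group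
      _ = x := by rw [hk3]; group)
  have hαk : ∀ x : ↥Z, act a (κ x) = κ (κ (act a x)) := fun x => Subtype.ext (by
    have hki : k⁻¹ = k * k := inv_eq_of_mul_eq_one_right (by
      have e := hk3
      simp only [pow_succ, pow_zero, one_mul, mul_assoc] at e
      exact e)
    rw [hact haA]
    show a * (k * (x : G) * k⁻¹) * a⁻¹ = k * (k * (act a x : G) * k⁻¹) * k⁻¹
    rw [hak x x.2, hact haA]
    calc k⁻¹ * (a * x * a⁻¹) * k = k⁻¹ * (a * x * a⁻¹) * (k⁻¹)⁻¹ := by group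
      _ = (k * k) * (a * x * a⁻¹) * (k * k)⁻¹ := by rw [hki]
      _ = _ := by group)
  have hbκ : ∀ b ∈ B, ∀ x : ↥Z, act b (κ x) = κ (act b x) := fun b hb x => Subtype.ext (by
    rw [hact (hBA hb)]
    show b * (k * (x : G) * k⁻¹) * b⁻¹ = k * (act b x : G) * k⁻¹
    rw [hbk b hb x x.2, hact (hBA hb)])
  -- `X = [Z, k]` and `U = C_X(a)`
  let mv : ↥Z →* ↥Z :=
    { toFun := fun z => κ z * z
      map_one' := by simp
      map_mul' := fun x y => by rw [map_mul]; exact mul_mul_mul_comm _ _ _ _ }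
  set X := mv.range with hX
  have hXset : moveBy k Z = Subtype.val '' (X : Set ↥Z) := by
    ext g
    constructor
    · rintro ⟨z, hz, rfl⟩
      exact ⟨mv ⟨z, hz⟩, ⟨_, rfl⟩, by
        show k * z * k⁻¹ * z = k * z * k⁻¹ * z⁻¹
        rw [hinv z hz]⟩
    · rintro ⟨_, ⟨z, rfl⟩, rfl⟩
      exact ⟨z, z.2, by
        show k * (z : G) * k⁻¹ * (z : G)⁻¹ = k * z * k⁻¹ * z
        rw [hinv z z.2]⟩
  have hXk : ∀ x ∈ X, κ (κ x) = x * κ x := by
    rintro _ ⟨z, rfl⟩
    show κ (κ (κ z * z)) = κ z * z * κ (κ z * z)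
    rw [map_mul, map_mul, hk3']
    calc z * κ (κ z) = z * κ (κ z) * (κ z * κ z) := by rw [hex, mul_one]
      _ = _ := by ac_rfl
  have hXκ : ∀ x ∈ X, κ x ∈ X := by
    rintro _ ⟨z, rfl⟩
    exact ⟨κ z, by show κ (κ z) * κ z = κ (κ z * z); rw [map_mul]⟩
  have hXα : ∀ x ∈ X, act a x ∈ X := by
    rintro _ ⟨z, rfl⟩
    refine ⟨κ (κ (act a z)), ?_⟩
    show κ (κ (κ (act a z))) * κ (κ (act a z)) = act a (κ z * z)
    rw [hk3', hmul haA, hαk, mul_comm]
  have hXβ : ∀ b ∈ B, ∀ x ∈ X, act b x ∈ X := by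
    rintro b hb _ ⟨z, rfl⟩
    refine ⟨act b z, ?_⟩
    show κ (act b z) * act b z = act b (κ z * z)
    rw [hmul (hBA hb), hbκ b hb]
  let U : Subgroup ↥Z :=
    { carrier := {x | x ∈ X ∧ act a x = x}
      one_mem' := ⟨one_mem _, hone haA⟩
      mul_mem' := fun {x y} hx hy => ⟨mul_mem hx.1 hy.1, by rw [hmul haA, hx.2, hy.2]⟩
      inv_mem' := fun {x} hx => by rwa [hsinv x] }
  let C : Subgroup ↥Z :=
    { carrier := {x | x ∈ U ∧ ∀ b ∈ B, act b x = x}
      one_mem' := ⟨one_mem _, fun b hb => hone (hBA hb)⟩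
      mul_mem' := fun {x y} hx hy => ⟨mul_mem hx.1 hy.1, fun b hb => by
        rw [hmul (hBA hb), hx.2 b hb, hy.2 b hb]⟩
      inv_mem' := fun {x} hx => by rwa [hsinv x] }
  have hpair : ∀ u₁ ∈ U, ∀ u₂ ∈ U, u₁ * κ u₂ = 1 → u₁ = 1 ∧ u₂ = 1 := by
    intro u₁ h1 u₂ h2 h
    have h' := congrArg (act a) h
    rw [hone haA, hmul haA, hαk, h1.2, h2.2, hXk u₂ h2.1] at h'
    have e : u₂ = 1 := by
      calc u₂ = (u₁ * κ u₂) * (u₁ * (u₂ * κ u₂)) := by
            rw [show u₁ * κ u₂ * (u₁ * (u₂ * κ u₂)) = (u₁ * u₁) * (κ u₂ * κ u₂) * u₂ by ac_rfl,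
              hex, hex, one_mul, one_mul]
        _ = 1 := by rw [h, h', one_mul]
    rw [e, map_one, mul_one] at h
    exact ⟨h, e⟩
  have hUκ : ∀ x ∈ X, ∃ u₁ ∈ U, ∃ u₂ ∈ U, x = u₁ * κ u₂ := by
    intro x hx
    set p := act a x * x with hp
    have hpU : p ∈ U := ⟨mul_mem (hXα x hx) hx, by rw [hp, hmul haA, haA2 haA, mul_comm]⟩
    refine ⟨x * κ p, ⟨mul_mem hx (hXκ p hpU.1), ?_⟩, p, hpU, (hcancel x (κ p)).symm⟩
    rw [hmul haA, hαk, hpU.2, hXk p hpU.1, ← mul_assoc, hp,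
      show act a x * (act a x * x) = x * (act a x * act a x) by ac_rfl, hex, mul_one]
  -- elements of `A` in `X` lie in `C`
  have hAX : ∀ x : ↥Z, x ∈ X → (x : G) ∈ A → x ∈ C := by
    intro x hx hxA
    have hfix : ∀ b ∈ A, act b x = x := fun b hb => Subtype.ext (by
      rw [hact hb, hAc b hb x hxA]; group)
    exact ⟨⟨hx, hfix a haA⟩, fun b hb => hfix b (hBA hb)⟩
  have hAcard : Nat.card ↥A ≤ 2 * Nat.card ↥B := by
    have hsub : (A : Set G) ⊆ (B : Set G) ∪ (fun c => a * c) '' (B : Set G) := by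
      intro c hc
      rcases hplane c hc with h | h
      · exact Or.inl h
      · exact Or.inr ⟨_, h, by simp only [← mul_assoc, ← pow_two, hAe a haA, one_mul]⟩
    have h1 := (Set.ncard_le_ncard hsub).trans (Set.ncard_union_le _ _)
    have h2 := Set.ncard_image_le (f := fun c => a * c) (s := (B : Set G)) (Set.toFinite _)
    have e1 : (A : Set G).ncard = Nat.card ↥A := (Nat.card_coe_set_eq _).symm
    have e2 : (B : Set G).ncard = Nat.card ↥B := (Nat.card_coe_set_eq _).symm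
    omega
  -- the competitor
  have main : ∀ (B₀ : Subgroup G) (Y : Subgroup ↥Z), B₀ ≤ B → (∀ y ∈ Y, y ∈ X) →
      (∀ b ∈ B₀, ∀ y ∈ Y, act b y = y) →
      Nat.card ↥B₀ * Nat.card ↥Y ≤ Nat.card ↥A * Nat.card ↥C := by
    intro B₀ Y hB₀ hYX hfix
    set Y' := Y.map Z.subtype with hY'
    have hea : Cfsg.IsElementaryAbelian 2 (B₀ ⊔ Y' : Subgroup G) := by
      rw [Subgroup.sup_eq_closure]
      have hcy : ∀ b ∈ B₀, ∀ y ∈ Y', b * y = y * b := by
        rintro b hb _ ⟨y, hy, rfl⟩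
        have := congrArg Subtype.val (hfix b hb y hy)
        rw [hact (hBA (hB₀ hb))] at this
        calc b * (y : G) = (b * y * b⁻¹) * b := by group
          _ = y * b := by rw [this]
      refine isElementaryAbelian_iff.mpr ?_
      have hgen : ∀ x ∈ ((B₀ : Set G) ∪ Y'), ∀ z ∈ ((B₀ : Set G) ∪ Y'), x * z = z * x := by
        rintro x (hx | hx) z (hz | hz)
        · exact hAc x (hBA (hB₀ hx)) z (hBA (hB₀ hz))
        · exact hcy x hx z hz
        · exact (hcy z hz x hx).symm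
        · exact hZc x (Subgroup.map_subtype_le _ hx) z (Subgroup.map_subtype_le _ hz)
      have hexp : ∀ x ∈ ((B₀ : Set G) ∪ Y'), x ^ 2 = 1 := by
        rintro x (hx | hx)
        · exact hAe x (hBA (hB₀ hx))
        · rw [pow_two]; exact hZ2 x (Subgroup.map_subtype_le _ hx)
      have hcomm : ∀ x ∈ Subgroup.closure ((B₀ : Set G) ∪ Y'),
          ∀ z ∈ Subgroup.closure ((B₀ : Set G) ∪ Y'), x * z = z * x := by
        intro x hx z hz
        have h1 : Subgroup.closure ((B₀ : Set G) ∪ Y') ≤ Subgroup.centralizer ((B₀ : Set G) ∪ Y') :=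
          (Subgroup.closure_le _).mpr fun x hx => Subgroup.mem_centralizer_iff.mpr fun y hy =>
            hgen y hy x hx
        have h2 : Subgroup.closure ((B₀ : Set G) ∪ Y') ≤
            Subgroup.centralizer (Subgroup.closure ((B₀ : Set G) ∪ Y') : Set G) :=
          (Subgroup.closure_le _).mpr fun y hy => Subgroup.mem_centralizer_iff.mpr fun w hw =>
            (Subgroup.mem_centralizer_iff.mp (h1 hw) y hy).symm
        exact Subgroup.mem_centralizer_iff.mp (h2 hz) x hx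
      refine ⟨hcomm, fun x hx => ?_⟩
      induction hx using Subgroup.closure_induction with
      | mem y hy => exact hexp y hy
      | one => exact one_pow 2
      | mul y z hy hz e1 e2 =>
        rw [(show Commute y z from hcomm y hy z hz).mul_pow, e1, e2, one_mul]
      | inv y _ e => rw [inv_pow, e, inv_one]
    have hle : B₀ ⊔ Y' ≤ T :=
      sup_le ((hB₀.trans hBA).trans hA.1) ((Subgroup.map_subtype_le _).trans hZT)
    have hmax := hA.2.2 _ hle hea
    have hnorm : B₀ ≤ Subgroup.normalizer (Y' : Set G) := fun b hb => by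
      rw [Subgroup.mem_normalizer_iff]
      intro h
      have key : ∀ {g : G}, g ∈ B₀ → ∀ y ∈ Y', g * y * g⁻¹ = y := by
        rintro g hg _ ⟨y, hy, rfl⟩
        have := congrArg Subtype.val (hfix g hg y hy)
        rwa [hact (hBA (hB₀ hg))] at this
      constructor
      · intro hh; rw [key hb h hh]; exact hh
      · intro hh
        have := key (inv_mem hb) _ hh
        rw [show b⁻¹ * (b * h * b⁻¹) * b⁻¹⁻¹ = h by group] at this
        rwa [this]
    have hcard := Cfsg.Agent.Lib.Coprime.card_sup_mul_card_inf (N := Y') (H := B₀) hnorm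
    rw [sup_comm] at hcard
    have hY : Nat.card ↥Y' = Nat.card ↥Y :=
      Subgroup.card_map_of_injective Z.subtype_injective
    have hint : Nat.card ↥(Y' ⊓ B₀ : Subgroup G) ≤ Nat.card ↥C := by
      rw [← Subgroup.card_map_of_injective (f := Z.subtype) Z.subtype_injective (K := C)]
      refine Subgroup.card_le_of_le fun g hg => ?_
      obtain ⟨⟨y, hy, rfl⟩, hgB⟩ := hg
      exact ⟨y, hAX y (hYX y hy) (hBA (hB₀ hgB)), rfl⟩
    have hint' : Nat.card ↥(B₀ ⊓ Y' : Subgroup G) ≤ Nat.card ↥C := by rwa [inf_comm]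
    have key : Nat.card ↥(B₀ ⊔ Y' : Subgroup G) * Nat.card ↥C ≤ Nat.card ↥A * Nat.card ↥C :=
      Nat.mul_le_mul_right _ hmax
    calc Nat.card ↥B₀ * Nat.card ↥Y = Nat.card ↥Y' * Nat.card ↥B₀ := by rw [hY, mul_comm]
      _ ≤ Nat.card ↥(B₀ ⊔ Y' : Subgroup G) * Nat.card ↥C := by
          first
            | (rw [← hcard, sup_comm]; exact Nat.mul_le_mul_left _ hint)
            | (rw [← hcard, sup_comm]; exact Nat.mul_le_mul_left _ hint')
            | (rw [← hcard]; exact Nat.mul_le_mul_left _ hint')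
            | (rw [← hcard]; exact Nat.mul_le_mul_left _ hint)
            | (rw [mul_comm (Nat.card ↥Y'), ← hcard]; exact Nat.mul_le_mul_left _ hint')
      _ ≤ _ := key
  -- the subgroup `Y' κ(Y')`
  have hspan : ∀ (Y₁ : Subgroup ↥Z), Y₁ ≤ U → ∃ Y : Subgroup ↥Z, (∀ y ∈ Y, y ∈ X) ∧
      (∀ u₁ ∈ Y₁, ∀ u₂ ∈ Y₁, u₁ * κ u₂ ∈ Y) ∧ Nat.card ↥Y = Nat.card ↥Y₁ * Nat.card ↥Y₁ ∧
      (∀ y ∈ Y, ∃ u₁ ∈ Y₁, ∃ u₂ ∈ Y₁, y = u₁ * κ u₂) := by
    intro Y₁ hY₁
    let f : ↥Y₁ × ↥Y₁ →* ↥Z :=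
      { toFun := fun p => (p.1 : ↥Z) * κ p.2
        map_one' := by simp
        map_mul' := fun p q => by
          show ((p.1 * q.1 : ↥Y₁) : ↥Z) * κ ((p.2 * q.2 : ↥Y₁) : ↥Z) =
            ((p.1 : ↥Z) * κ p.2) * ((q.1 : ↥Z) * κ q.2)
          rw [Subgroup.coe_mul, Subgroup.coe_mul, map_mul]
          exact mul_mul_mul_comm _ _ _ _ }
    have hf : Function.Injective f := (injective_iff_map_eq_one f).mpr fun p hp => by
      obtain ⟨e1, e2⟩ := hpair _ (hY₁ p.1.2) _ (hY₁ p.2.2) hp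
      exact Prod.ext (Subtype.ext e1) (Subtype.ext e2)
    refine ⟨f.range, ?_, fun u₁ h1 u₂ h2 => ⟨(⟨u₁, h1⟩, ⟨u₂, h2⟩), rfl⟩, ?_, ?_⟩
    · rintro _ ⟨p, rfl⟩
      exact mul_mem (hY₁ p.1.2).1 (hXκ _ (hY₁ p.2.2).1)
    · rw [← Nat.card_prod]
      exact (Nat.card_congr (Equiv.ofInjective f hf)).symm
    · rintro _ ⟨p, rfl⟩
      exact ⟨_, p.1.2, _, p.2.2, rfl⟩
  -- `B` centralizes `U`
  have hUC : U ≤ C := by
    by_contra hne
    obtain ⟨y₀, hy₀U, hy₀C⟩ := SetLike.not_le_iff_exists.mp hne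
    have hBU : ∀ b ∈ B, ∀ x ∈ U, act b x ∈ U := fun b hb x hx => ⟨hXβ b hb x hx.1, by
      rw [← hcomp haA (hBA hb), hAc a haA b (hBA hb), hcomp (hBA hb) haA, hx.2]⟩
    have key : ∀ s : Finset G, (∀ b ∈ s, b ∈ B) →
        ∃ y ∈ U, y ∉ C ∧ ∀ b ∈ s, act b y * y ∈ C := by
      intro s
      induction s using Finset.induction with
      | empty => exact fun _ => ⟨y₀, hy₀U, hy₀C, fun b hb => by simp at hb⟩
      | @insert b s hbs ihs =>
        intro hs
        have hbB := hs b (Finset.mem_insert_self b s)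
        obtain ⟨y, hyU, hyC, hy⟩ := ihs fun c hc => hs c (Finset.mem_insert_of_mem hc)
        by_cases h : act b y * y ∈ C
        · refine ⟨y, hyU, hyC, fun c hc => ?_⟩
          rcases Finset.mem_insert.mp hc with rfl | hc
          exacts [h, hy c hc]
        · refine ⟨act b y * y, mul_mem (hBU b hbB y hyU) hyU, h, fun c hc => ?_⟩
          rcases Finset.mem_insert.mp hc with rfl | hc'
          · rw [hmul (hBA hbB), haA2 (hBA hbB), mul_comm y, hex]
            exact one_mem _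
          · have hcB := hs c hc
            have h1 := hy c hc'
            have e : act c (act b y * y) * (act b y * y) = act b (act c y * y) * (act c y * y) := by
              rw [hmul (hBA hcB), hmul (hBA hbB), ← hcomp (hBA hcB) (hBA hbB),
                hAc c (hBA hcB) b (hBA hbB), hcomp (hBA hbB) (hBA hcB)]
              ac_rfl
            rw [e, h1.2 b hbB, hex]
            exact one_mem _
    obtain ⟨y, hyU, hyC, hy⟩ := key (Set.toFinite (B : Set G)).toFinset (fun b hb => by simpa using hb)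
    have hy' : ∀ b ∈ B, act b y * y ∈ C := fun b hb => hy b (by simpa using hb)
    let g : ↥B →* ↥C :=
      { toFun := fun b => ⟨act b y * y, hy' b b.2⟩
        map_one' := Subtype.ext (by
          show act ((1 : ↥B) : G) y * y = 1
          rw [Subgroup.coe_one, show act 1 y = y from Subtype.ext (by
            rw [hact (one_mem A)]; group), hex])
        map_mul' := fun b c => Subtype.ext (by
          show act ((b * c : ↥B) : G) y * y = (act b y * y) * (act c y * y)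
          have h1 := (hy' c c.2).2 b b.2
          rw [hmul (hBA b.2)] at h1
          rw [Subgroup.coe_mul, hcomp (hBA b.2) (hBA c.2), ← h1]
          calc act b (act (c : G) y) * y = act b (act (c : G) y) * y * 1 := (mul_one _).symm
            _ = act b (act (c : G) y) * y * (act b y * act b y) := by rw [hex]
            _ = _ := by ac_rfl) }
    set B₀ := g.ker.map B.subtype with hB₀
    have hBcard : Nat.card ↥B ≤ Nat.card ↥B₀ * Nat.card ↥C := by
      rw [Subgroup.card_map_of_injective B.subtype_injective,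
        ← Subgroup.card_mul_index g.ker]
      refine Nat.mul_le_mul_left _ ?_
      rw [Subgroup.index_ker]
      exact Subgroup.card_le_card_group _
    set Y₁ := C ⊔ Subgroup.zpowers y with hY₁
    have hY₁U : Y₁ ≤ U := sup_le (fun x hx => hx.1) (Subgroup.zpowers_le.mpr hyU)
    have hY₁card : 2 * Nat.card ↥C ≤ Nat.card ↥Y₁ := by
      obtain ⟨m, hm⟩ := Subgroup.card_dvd_of_le (le_sup_left : C ≤ Y₁)
      have hne' : C ≠ Y₁ := fun h =>
        hyC (h.symm ▸ Subgroup.mem_sup_right (Subgroup.mem_zpowers y))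
      rcases m with _ | _ | m
      · rw [mul_zero] at hm; exact absurd hm Nat.card_pos.ne'
      · exact absurd (Subgroup.eq_of_le_of_card_ge le_sup_left (by simp [hm])) hne'
      · rw [hm, mul_comm 2]; exact Nat.mul_le_mul_left _ (by omega)
    obtain ⟨Y, hYX, -, hYcard, hYform⟩ := hspan Y₁ hY₁U
    have hfix : ∀ b ∈ B₀, ∀ x ∈ Y, act b x = x := by
      rintro _ ⟨b, hb, rfl⟩ x hx
      have hby : act (b : G) y = y := by
        have : act (b : G) y * y = 1 := congrArg Subtype.val (MonoidHom.mem_ker.mp hb)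
        rw [eq_inv_of_mul_eq_one_left this, hsinv]
      have h1 : ∀ x ∈ Y₁, act (b : G) x = x := by
        intro x hx
        rw [hY₁, Subgroup.mem_sup] at hx
        obtain ⟨c, hc, _, ⟨i, rfl⟩, rfl⟩ := hx
        rw [hmul (hBA b.2), hc.2 b b.2]
        congr 1
        rcases Int.even_or_odd i with ⟨n, rfl⟩ | ⟨n, rfl⟩
        · show act (b : G) (y ^ (n + n)) = y ^ (n + n)
          rw [zpow_add, ← mul_zpow, hex, one_zpow, hone (hBA b.2)]
        · show act (b : G) (y ^ (2 * n + 1)) = y ^ (2 * n + 1)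
          rw [zpow_add, zpow_one, two_mul, zpow_add, ← mul_zpow, hex, one_zpow, one_mul, hby]
      obtain ⟨u₁, e1, u₂, e2, rfl⟩ := hYform x hx
      show act (b : G) (u₁ * κ u₂) = u₁ * κ u₂
      rw [hmul (hBA b.2), hbκ b b.2, h1 u₁ e1, h1 u₂ e2]
    have h := main B₀ Y (Subgroup.map_subtype_le _) hYX hfix
    rw [hYcard] at h
    have hCpos : 0 < Nat.card ↥C := Nat.card_pos
    have hBpos : 0 < Nat.card ↥B₀ := Nat.card_pos
    have h2 : Nat.card ↥B₀ * (2 * Nat.card ↥C * (2 * Nat.card ↥C)) ≤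
        2 * (Nat.card ↥B₀ * Nat.card ↥C) * Nat.card ↥C :=
      ((Nat.mul_le_mul_left _ (Nat.mul_le_mul hY₁card hY₁card)).trans h).trans
        (Nat.mul_le_mul_right _ (hAcard.trans (Nat.mul_le_mul_left 2 hBcard)))
    have h3 : 0 < Nat.card ↥B₀ * Nat.card ↥C * Nat.card ↥C := Nat.mul_pos (Nat.mul_pos hBpos hCpos) hCpos
    have e1 : Nat.card ↥B₀ * (2 * Nat.card ↥C * (2 * Nat.card ↥C)) =
        4 * (Nat.card ↥B₀ * Nat.card ↥C * Nat.card ↥C) := by ring
    have e2 : 2 * (Nat.card ↥B₀ * Nat.card ↥C) * Nat.card ↥C =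
        2 * (Nat.card ↥B₀ * Nat.card ↥C * Nat.card ↥C) := by ring
    omega
  -- so `B` centralizes `X`
  obtain ⟨Y, hYX, hYmem, hYcard, hYform⟩ := hspan U le_rfl
  have hfix : ∀ b ∈ B, ∀ x ∈ Y, act b x = x := by
    intro b hb x hx
    obtain ⟨u₁, e1, u₂, e2, rfl⟩ := hYform x hx
    rw [hmul (hBA hb), hbκ b hb, (hUC e1).2 b hb, (hUC e2).2 b hb]
  have h := main B Y le_rfl hYX hfix
  have hCU : Nat.card ↥C ≤ Nat.card ↥U := Subgroup.card_le_of_le fun x hx => hx.1
  rw [hYcard] at h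
  have hU2 : Nat.card ↥U ≤ 2 := by
    have h2 : Nat.card ↥B * Nat.card ↥U * Nat.card ↥U ≤ Nat.card ↥B * Nat.card ↥U * 2 := by
      calc Nat.card ↥B * Nat.card ↥U * Nat.card ↥U = Nat.card ↥B * (Nat.card ↥U * Nat.card ↥U) :=
            mul_assoc _ _ _
        _ ≤ Nat.card ↥A * Nat.card ↥C := h
        _ ≤ 2 * Nat.card ↥B * Nat.card ↥U := Nat.mul_le_mul hAcard hCU
        _ = Nat.card ↥B * Nat.card ↥U * 2 := by ring
    exact Nat.le_of_mul_le_mul_left h2 (Nat.mul_pos Nat.card_pos Nat.card_pos)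
  have hXY : X ≤ Y := fun x hx => by
    obtain ⟨u₁, e1, u₂, e2, rfl⟩ := hUκ x hx
    exact hYmem u₁ e1 u₂ e2
  rw [hXset, Set.ncard_image_of_injective _ Subtype.val_injective]
  calc (X : Set ↥Z).ncard = Nat.card ↥X := (Nat.card_coe_set_eq _).symm
    _ ≤ Nat.card ↥Y := Subgroup.card_le_of_le hXY
    _ = Nat.card ↥U * Nat.card ↥U := hYcard
    _ ≤ 4 := by
      calc Nat.card ↥U * Nat.card ↥U ≤ 2 * 2 := Nat.mul_le_mul hU2 hU2
        _ = 4 := rfl

end Cfsg.Agent.Lib.LocalEven2
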