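import Cfsg.Agent.Lib.LocalEven2.HSubgroup
import Cfsg.Agent.Lib.FusionControl.Family
import Cfsg.Agent.Lib.Transfer.Tate
import Cfsg.Agent.Lib.Cores.Frattini

/-!
Strongly closed subgroups of one order force normal `p`-complements for the smallest prime.
-/

set_option autoImplicit false

namespace Cfsg.Agent.Lib.LocalEven2

variable {G : Type*} [Group G] [Finite G] {p : ℕ} [Fact p.Prime]

/-- An element of `M` of small order lies in a member inside `M`. -/
theorem exists_member_le {M : Subgroup G} (hM : IsPGroup p ↥M) {k : ℕ} (hk : p ^ k ≤ Nat.card ↥M)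
    {u : G} (hu : u ∈ M) (huo : orderOf u ≤ p ^ k) :
    ∃ E : Subgroup G, E ≤ M ∧ u ∈ E ∧ Nat.card ↥E = p ^ k := by
  have hp : p.Prime := Fact.out
  obtain ⟨m, hm⟩ := hM.exists_card_eq
  obtain ⟨i, hi, hie⟩ := (Nat.dvd_prime_pow hp).mp
    (hm ▸ Subgroup.orderOf_dvd_natCard M hu)
  rw [hm] at hk
  rw [hie] at huo
  have hik : i ≤ k := (Nat.pow_le_pow_iff_right hp.one_lt).mp huo
  have hkm : k ≤ m := (Nat.pow_le_pow_iff_right hp.one_lt).mp hk
  obtain ⟨K, hK, hle⟩ := Sylow.exists_subgroup_card_pow_prime_le p (G := ↥M) (n := i) (m := k)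
    (hm ▸ pow_dvd_pow p hkm) (Subgroup.zpowers (⟨u, hu⟩ : ↥M))
    (by rw [Nat.card_zpowers, Subgroup.orderOf_mk, hie]) hik
  refine ⟨K.map M.subtype, Subgroup.map_subtype_le _, ⟨_, hle (Subgroup.mem_zpowers _), rfl⟩, ?_⟩
  rw [← hK]
  exact (Nat.card_congr (K.equivMapOfInjective _ M.subtype_injective).toEquiv).symm

omit [Finite G] [Fact p.Prime] in
/-- An element of large order has a power of order exactly `p ^ k`. -/
theorem exists_pow_orderOf {u : G} {i k : ℕ} (hu : orderOf u = p ^ i) (hki : k ≤ i) (hp : p.Prime) :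
    ∃ v ∈ Subgroup.zpowers u, orderOf v = p ^ k := by
  refine ⟨u ^ p ^ (i - k), pow_mem (Subgroup.mem_zpowers u) _, ?_⟩
  rw [orderOf_pow' u (pow_ne_zero _ hp.ne_zero), hu, Nat.gcd_eq_right (pow_dvd_pow p (by omega)),
    Nat.pow_div (by omega) hp.pos, show i - (i - k) = k by omega]

/-- A coprime element normalizing `U ≤ P` acts trivially on `U` modulo a maximal subgroup of `P`. -/
theorem focal_step {P : Subgroup G} (hP : IsPGroup p ↥P) {k : ℕ} (hk : 1 ≤ k)
    (h : HClosed P (p ^ k)) (hkP : p ^ k < Nat.card ↥P) {M : Subgroup G} (hMP : M ≤ P)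
    (hMc : p * Nat.card ↥M = Nat.card ↥P) {U : Subgroup G} (hU : U ≤ P) {g : G}
    (hg : g ∈ Subgroup.normalizer (U : Set G)) (hgp : (orderOf g).Coprime p)
    (hgp1 : (orderOf g).Coprime (p - 1)) {u : G} (hu : u ∈ U) :
    g * u * g⁻¹ * u⁻¹ ∈ M := by
  have hp : p.Prime := Fact.out
  have hUp := hP.to_le hU
  have hgU : ∀ x ∈ U, g * x * g⁻¹ ∈ U := fun x hx => (Subgroup.mem_normalizer_iff.mp hg x).mp hx
  have hkM : p ^ k ≤ Nat.card ↥M := by
    obtain ⟨m, hm⟩ := (hP.to_le hMP).exists_card_eq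
    rw [← hMc, hm, ← pow_succ'] at hkP
    rw [hm]
    exact Nat.pow_le_pow_right hp.pos (Nat.lt_succ_iff.mp ((Nat.pow_lt_pow_iff_right hp.one_lt).mp hkP))
  by_cases hbig : ∃ x ∈ U, p ^ k < orderOf x
  · obtain ⟨x, hx, hxo⟩ := hbig
    obtain ⟨m, hm⟩ := hUp.exists_card_eq
    obtain ⟨i, -, hie⟩ := (Nat.dvd_prime_pow hp).mp (hm ▸ Subgroup.orderOf_dvd_natCard U hx)
    rw [hie] at hxo
    obtain ⟨v, hv, hvo⟩ := exists_pow_orderOf hie ((Nat.pow_lt_pow_iff_right hp.one_lt).mp hxo).le hp
    have hvU : v ∈ U := Subgroup.zpowers_le.mpr hx hv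
    have hfam : NormalFamily U g (p ^ k) := fun E hE hc =>
      ⟨mem_normalizer_of_conj_mem fun y hy => h.conj_mem hP (hE.trans hU) hc hy (hU (hgU y (hE hy))),
        hU.trans (h.le_normalizer hP (hE.trans hU) hc)⟩
    have hgC := (Subgroup.mem_normalizer_iff.mp (hfam _ (Subgroup.zpowers_le.mpr hvU)
      (Or.inl (by rw [Nat.card_zpowers, hvo]))).1 v).mp (Subgroup.mem_zpowers v)
    have hgz : g * v ^ (p ^ (k - 1)) = v ^ (p ^ (k - 1)) * g := by
      refine commute_orderP (m := orderOf g) ?_ (conj_pow_mem hgC _) hgp1 ?_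
      · rw [← pow_mul, ← pow_succ, Nat.sub_add_cancel hk, ← hvo, pow_orderOf_eq_one]
      · rw [pow_orderOf_eq_one]; simp
    have hc := mem_centralizer_of_big hUp hgp hg hk hfam hvU hvo hgz
    rw [← Subgroup.mem_centralizer_iff.mp hc u hu, mul_inv_cancel_right, mul_inv_cancel]
    exact one_mem M
  push Not at hbig
  have hV : ∀ x ∈ U, x ∈ M → g * x * g⁻¹ ∈ M := by
    intro x hx hxM
    obtain ⟨E, hEM, hxE, hEc⟩ := exists_member_le (hP.to_le hMP) hkM hxM (hbig x hx)
    exact hEM (h.conj_mem hP (hEM.trans hMP) (Or.inl hEc) hxE (hU (hgU x hx)))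
  by_cases hUM : U ≤ M
  · exact mul_mem (hV u hu (hUM hu)) (inv_mem (hUM hu))
  obtain ⟨u₀, hu₀, hu₀M⟩ := SetLike.not_le_iff_exists.mp hUM
  have hPM : P ≤ Subgroup.normalizer (M : Set G) := by
    have hlt : M < P := lt_of_le_of_ne hMP fun e => by
      rw [e] at hMc
      have : 0 < Nat.card ↥P := Nat.card_pos
      nlinarith [hp.two_le]
    by_contra hn
    obtain ⟨w, hwP, hwM, hwN⟩ := exists_normalizer_not_mem hP hlt
    apply hn
    have hle : M < P ⊓ Subgroup.normalizer (M : Set G) :=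
      lt_of_le_of_ne (le_inf hMP Subgroup.le_normalizer) fun e => hwM (e.ge ⟨hwP, hwN⟩)
    refine inf_eq_left.mp (Subgroup.eq_of_le_of_card_ge inf_le_left ?_)
    obtain ⟨a, ha⟩ := (hP.to_le hMP).exists_card_eq
    obtain ⟨b, hb⟩ := (hP.to_le (inf_le_left : P ⊓ Subgroup.normalizer (M : Set G) ≤ P)).exists_card_eq
    have hlt' : Nat.card ↥M < Nat.card ↥(P ⊓ Subgroup.normalizer (M : Set G)) := by
      by_contra hc
      exact hle.ne (Subgroup.eq_of_le_of_card_ge hle.le (not_lt.mp hc))
    rw [← hMc, ha, hb, ← pow_succ']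
    rw [ha, hb] at hlt'
    exact Nat.pow_le_pow_right hp.pos ((Nat.pow_lt_pow_iff_right hp.one_lt).mp hlt')
  have hu₀p : u₀ ^ p ∈ M := by
    haveI : (M.subgroupOf P).Normal :=
      Subgroup.normal_subgroupOf_of_le_normalizer hPM
    have h1 : (M.subgroupOf P).index = p := by
      have h2 := (M.subgroupOf P).card_mul_index
      rw [Nat.card_congr (Subgroup.subgroupOfEquivOfLe hMP).toEquiv, ← hMc, mul_comm p] at h2
      exact Nat.eq_of_mul_eq_mul_left Nat.card_pos h2
    have h3 := (M.subgroupOf P).pow_index_mem ⟨u₀, hU hu₀⟩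
    rw [h1] at h3
    exact h3
  have hgen : M ⊔ Subgroup.zpowers u₀ = P := by
    refine Subgroup.eq_of_le_of_card_ge (sup_le hMP (Subgroup.zpowers_le.mpr (hU hu₀))) ?_
    rw [card_sup_zpowers (hPM (hU hu₀)) hu₀M hu₀p, hMc]
  set V := U ⊓ M
  have hVU : U ≤ Subgroup.normalizer (V : Set G) := fun x hx => mem_normalizer_of_conj_mem
    fun y hy => ⟨(show x * y * x⁻¹ ∈ U from mul_mem (mul_mem hx hy.1) (inv_mem hx)),
      (Subgroup.mem_normalizer_iff.mp (hPM (hU hx)) y).mp hy.2⟩
  have hgV : g ∈ Subgroup.normalizer (V : Set G) :=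
    mem_normalizer_of_conj_mem fun y hy => ⟨hgU y hy.1, hV y hy.1 hy.2⟩
  set X := Subgroup.normalizer (V : Set G)
  haveI : (V.subgroupOf X).Normal := Subgroup.normal_in_normalizer
  let π := QuotientGroup.mk' (V.subgroupOf X)
  have hker : ∀ x : ↥X, π x = 1 ↔ (x : G) ∈ V := fun x => by
    rw [QuotientGroup.mk'_apply, QuotientGroup.eq_one_iff]; rfl
  set z := π ⟨u₀, hVU hu₀⟩
  have hall : ∀ x (hx : x ∈ U), π ⟨x, hVU hx⟩ ∈ Subgroup.zpowers z := by
    intro x hx
    obtain ⟨m, hm, _, ⟨i, rfl⟩, he⟩ := Coprime.exists_mul_of_mem_sup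
      (Subgroup.zpowers_le.mpr (hPM (hU hu₀))) (hgen.ge (hU hx))
    replace he : x = m * u₀ ^ i := by
      first | exact he | exact he.symm
    refine ⟨i, ?_⟩
    change z ^ i = _
    rw [← map_zpow, eq_comm, ← mul_inv_eq_one, ← map_inv, ← map_mul, hker]
    refine ⟨(show x * (u₀ ^ i)⁻¹ ∈ U from mul_mem hx (inv_mem (zpow_mem hu₀ i))), ?_⟩
    change x * (u₀ ^ i)⁻¹ ∈ M
    rw [he, mul_inv_cancel_right]
    exact hm
  have hcomm : π ⟨g, hgV⟩ * z = z * π ⟨g, hgV⟩ := by
    refine commute_orderP (p := p) (m := orderOf g) ?_ ?_ hgp1 ?_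
    · rw [← map_pow, hker]
      exact ⟨pow_mem hu₀ p, hu₀p⟩
    · rw [← map_inv, ← map_mul, ← map_mul]
      exact hall _ (hgU u₀ hu₀)
    · rw [← map_pow, show (⟨g, hgV⟩ : ↥X) ^ orderOf g = 1 from Subtype.ext (by simp [pow_orderOf_eq_one]),
        map_one, one_mul, mul_one]
  obtain ⟨i, hi⟩ := hall u hu
  change z ^ i = _ at hi
  have h1 : π (⟨g, hgV⟩ * ⟨u, hVU hu⟩ * ⟨g, hgV⟩⁻¹ * ⟨u, hVU hu⟩⁻¹) = 1 := by
    rw [map_mul, map_mul, map_mul, map_inv, map_inv, ← hi,
      ((show Commute (π ⟨g, hgV⟩) z from hcomm).zpow_right i).eq, mul_inv_cancel_right, mul_inv_cancel]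
  exact ((hker _).mp h1).2

/-- For the smallest prime the focal subgroup lies in the Frattini subgroup. -/
theorem hasNormalPComplement_of_hClosed (hmin : ∀ q : ℕ, q.Prime → q ∣ Nat.card G → p ≤ q)
    (P : Sylow p G) {k : ℕ} (hk : 1 ≤ k) (h : HClosed (P : Subgroup G) (p ^ k))
    (hkP : p ^ k < Nat.card ↥(P : Subgroup G)) : Cfsg.HasNormalPComplement p G := by
  have hp : p.Prime := Fact.out
  haveI := P.2.isNilpotent
  have key : ∀ M : Subgroup G, M ≤ (P : Subgroup G) → p * Nat.card ↥M = Nat.card ↥(P : Subgroup G) →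
      ∀ (A : Set G) (g : G), FusionControl.Chain {W | FusionControl.Extr p (P : Subgroup G) W} A g →
        ∀ x ∈ A, g * x * g⁻¹ * x⁻¹ ∈ M := by
    intro M hMP hMc A g hch
    induction hch with
    | @step A z T hT hA hz =>
      intro x hx
      let K : Subgroup G :=
        { carrier := {w | w ∈ Subgroup.normalizer (T : Set G) ∧ ∀ u ∈ T, w * u * w⁻¹ * u⁻¹ ∈ M}
          one_mem' := ⟨one_mem _, fun u _ => by simp⟩
          mul_mem' := fun {a b} ha hb => ⟨mul_mem ha.1 hb.1, fun u hu => by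
            have h1 := ha.2 _ ((Subgroup.mem_normalizer_iff.mp hb.1 u).mp hu)
            have h2 := mul_mem h1 (hb.2 u hu)
            convert h2 using 1
            group⟩
          inv_mem' := fun {a} ha => ⟨inv_mem ha.1, fun u hu => by
            have h1 := inv_mem (ha.2 _ ((Subgroup.mem_normalizer_iff.mp (inv_mem ha.1) u).mp hu))
            convert h1 using 1
            group⟩ }
      have hNK : Subgroup.normalizer (T : Set G) ≤ K := by
        refine Subgroup.relIndex_eq_one.mp (Nat.eq_one_iff_not_exists_prime_dvd.mpr fun q hq hdvd => ?_)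
        haveI := Fact.mk hq
        by_cases hqp : q = p
        · subst hqp
          refine hT.2 (hdvd.trans (Subgroup.relIndex_dvd_of_le_left _ ?_))
          intro w hw
          refine ⟨hw.2, fun u hu => ?_⟩
          -- elements of `P` act trivially on `P / M`
          obtain ⟨hMn, hMi⟩ : (M.subgroupOf (P : Subgroup G)).Normal ∧
              (M.subgroupOf (P : Subgroup G)).index = q := by
            have hidx : (M.subgroupOf (P : Subgroup G)).index = q := by
              have h2 := (M.subgroupOf (P : Subgroup G)).card_mul_index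
              rw [Nat.card_congr (Subgroup.subgroupOfEquivOfLe hMP).toEquiv, ← hMc, mul_comm q] at h2
              exact Nat.eq_of_mul_eq_mul_left Nat.card_pos h2
            obtain ⟨a, ha⟩ := P.2.exists_card_eq
            refine ⟨Subgroup.normal_of_index_eq_minFac_card ?_, hidx⟩
            have h0 : a ≠ 0 := by
              intro h0; rw [h0, pow_zero] at ha; rw [ha] at hkP
              exact absurd hkP (not_lt.mpr (Nat.one_le_pow _ _ hq.pos))
            rw [hidx, ha, Nat.pow_minFac h0, hq.minFac_eq]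
          haveI := hMn
          haveI : IsCyclic (↥(P : Subgroup G) ⧸ M.subgroupOf (P : Subgroup G)) :=
            isCyclic_of_prime_card (p := q) hMi
          have hcomm : ∀ a b : ↥(P : Subgroup G) ⧸ M.subgroupOf (P : Subgroup G), a * b = b * a :=
            fun a b => IsCyclic.isMulCommutative.is_comm.comm a b
          have h1 : (QuotientGroup.mk' (M.subgroupOf (P : Subgroup G)))
              (⟨w, hw.1⟩ * ⟨u, hT.1 hu⟩ * ⟨w, hw.1⟩⁻¹ * ⟨u, hT.1 hu⟩⁻¹) = 1 := by
            rw [map_mul, map_mul, map_mul, map_inv, map_inv, hcomm _ ((QuotientGroup.mk'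
              (M.subgroupOf (P : Subgroup G))) ⟨u, hT.1 hu⟩),
              mul_inv_cancel_right, mul_inv_cancel]
          rw [QuotientGroup.mk'_apply, QuotientGroup.eq_one_iff] at h1
          exact h1
        · obtain ⟨S⟩ : Nonempty (Sylow q ↥(Subgroup.normalizer (T : Set G))) := inferInstance
          have hS : (S : Subgroup ↥(Subgroup.normalizer (T : Set G))) ≤
              K.subgroupOf (Subgroup.normalizer (T : Set G)) := by
            intro w hw
            refine ⟨w.2, fun u hu => ?_⟩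
            obtain ⟨j, hj⟩ := (IsPGroup.iff_orderOf.mp S.2) ⟨w, hw⟩
            have hwo : orderOf (w : G) = q ^ j := by
              rw [← hj]
              exact (Subgroup.orderOf_coe w).trans (Subgroup.orderOf_coe ⟨w, hw⟩)
            rcases Nat.eq_zero_or_pos j with hj0 | hj0
            · rw [hj0, pow_zero, orderOf_eq_one_iff] at hwo
              change (w : G) * u * (w : G)⁻¹ * u⁻¹ ∈ M
              rw [hwo]; simp
            have hqG : q ∣ Nat.card G := (dvd_pow_self q hj0.ne').trans (hwo ▸ orderOf_dvd_natCard _)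
            refine focal_step P.2 hk h hkP hMP hMc hT.1 w.2 ?_ ?_ hu <;> rw [hwo]
            · exact Nat.Coprime.pow_left j ((Nat.coprime_primes hq hp).mpr hqp)
            · refine Nat.Coprime.pow_left j (hq.coprime_iff_not_dvd.mpr fun hd => ?_)
              have h3 := Nat.le_of_dvd (by have := hp.two_le; omega) hd
              have h4 := hmin q hq hqG
              omega
          exact S.not_dvd_index (hdvd.trans (Subgroup.index_dvd_of_le hS))
      exact (hNK hz).2 x (hA hx)
    | @comp A a b _ _ ih1 ih2 =>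
      intro x hx
      have h1 := mul_mem (ih2 _ ⟨x, hx, rfl⟩) (ih1 x hx)
      convert h1 using 1
      group
  have hfoc : Subgroup.focalSubgroup (P : Subgroup G) ≤
      (frattini ↥(P : Subgroup G)).map (P : Subgroup G).subtype := by
    rw [Transfer.focalSubgroup_le_iff]
    intro x hx g hgx
    refine ⟨⟨x⁻¹ * (g * x * g⁻¹), mul_mem (inv_mem hx) hgx⟩, ?_, rfl⟩
    change _ ∈ Order.radical (Subgroup ↥(P : Subgroup G))
    simp only [Order.radical, Subgroup.mem_iInf]
    intro M hM
    obtain ⟨hMn, hMi⟩ := Cores.prime_index_of_isCoatom hM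
    obtain ⟨a, ha⟩ := P.2.index M
    rw [ha] at hMi
    rw [Nat.Prime.eq_one_of_pow hMi, pow_one] at ha
    have hMc : p * Nat.card ↥(M.map (P : Subgroup G).subtype) = Nat.card ↥(P : Subgroup G) := by
      rw [← Nat.card_congr (M.equivMapOfInjective _ (P : Subgroup G).subtype_injective).toEquiv,
        ← M.card_mul_index, ha, mul_comm]
    have hch := FusionControl.chain_of_extr_set P {W | FusionControl.Extr p (P : Subgroup G) W}
      (fun T hT => by
        obtain ⟨g, -, hg⟩ := FusionControl.exists_extr_cj P hT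
        exact ⟨_, hg, g, rfl, hg⟩) {x} g (Set.singleton_subset_iff.mpr hx)
      (by rintro _ ⟨y, rfl, rfl⟩; exact hgx)
    obtain ⟨c, hc, hce⟩ := key _ (Subgroup.map_subtype_le _) hMc _ g hch x rfl
    have h1 := hMn.conj_mem c hc ⟨x⁻¹, inv_mem hx⟩
    convert h1 using 1
    apply Subtype.ext
    have hce' : (c : G) = g * x * g⁻¹ * x⁻¹ := hce
    simp [hce', mul_assoc]
  have h1 : Cfsg.pResidual p (P : Subgroup G) = ⊥ := by
    refine le_bot_iff.mp (le_trans (Transfer.pResidual_le_ker P.2 (MonoidHom.id _)) ?_)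
    exact (MonoidHom.ker_eq_bot_iff _).mpr Function.injective_id |>.le
  rw [Transfer.hasNormalPComplement_iff_inf_eq_bot P,
    Transfer.inf_pResidual_eq P le_rfl (((Transfer.inf_pResidual_le_focalSubgroup P).trans hfoc).trans
      (le_sup_left.trans le_sup_left)), h1, Subgroup.map_bot, inf_bot_eq]

/-- Burnside: a cyclic Sylow subgroup for the smallest prime has a normal complement. -/
theorem hasNormalPComplement_of_isCyclic (hmin : ∀ q : ℕ, q.Prime → q ∣ Nat.card G → p ≤ q)
    (hdvd : p ∣ Nat.card G) (P : Sylow p G) (hP : IsCyclic ↥(P : Subgroup G)) :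
    Cfsg.HasNormalPComplement p G := by
  have hp : p.Prime := Fact.out
  have hne : Nat.card G ≠ 1 := fun h => hp.ne_one (Nat.dvd_one.mp (h ▸ hdvd))
  have hmf : (Nat.card G).minFac = p := le_antisymm (Nat.minFac_le_of_dvd hp.two_le hdvd)
    (hmin _ (Nat.minFac_prime hne) (Nat.minFac_dvd _))
  have hle := IsCyclic.normalizer_le_centralizer hmf hP
  refine Transfer.hasNormalPComplement_of_controlsFusion P fun x hx g hg => ?_
  have hcomm : IsMulCommutative ↥(P : Subgroup G) := hP.isMulCommutative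
  obtain ⟨n, hn, hne⟩ := Transfer.controlsFusion_normalizer_of_abelian P hcomm x hx g hg
  refine ⟨1, one_mem _, ?_⟩
  rw [← hne, ← Subgroup.mem_centralizer_iff.mp (hle hn) x hx]
  simp

end Cfsg.Agent.Lib.LocalEven2
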