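import Cfsg.Agent.Lib.LocalEven2.CyclicFix
import Cfsg.Agent.Lib.LocalEven2.OmegaFix
import Cfsg.Agent.Lib.Coprime.Basic

/-!
Families of subgroups of one order which are strongly closed in their normalizers.
-/

set_option autoImplicit false

namespace Cfsg.Agent.Lib.LocalEven2

variable {G : Type*} [Group G] [Finite G] {p : ℕ} [Fact p.Prime]

/-- Every subgroup of `P` of order `d` (and of order `4` when `d = 2`) is strongly closed in its
normalizer. -/
def HClosed (P : Subgroup G) (d : ℕ) : Prop :=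
  ∀ E : Subgroup G, E ≤ P → (Nat.card E = d ∨ (d = 2 ∧ Nat.card E = 4)) →
    ∀ g : G, E.map (MulAut.conj g).toMonoidHom ⊓ Subgroup.normalizer (E : Set G) ≤ E

omit [Fact p.Prime] in
/-- In a finite group it suffices that conjugation maps into the subgroup. -/
theorem mem_normalizer_of_conj_mem {E : Subgroup G} {w : G} (h : ∀ x ∈ E, w * x * w⁻¹ ∈ E) :
    w ∈ Subgroup.normalizer (E : Set G) := by
  have hle : E.map (MulAut.conj w).toMonoidHom ≤ E := by
    rintro _ ⟨x, hx, rfl⟩; exact h x hx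
  have heq := Subgroup.eq_of_le_of_card_ge hle (le_of_eq
    (Nat.card_congr (E.equivMapOfInjective _ (MulAut.conj w).injective).toEquiv))
  rw [Subgroup.mem_normalizer_iff]
  refine fun x => ⟨h x, fun hx => ?_⟩
  obtain ⟨y, hy, hyx⟩ := heq.ge hx
  have hyx' : w * y * w⁻¹ = w * x * w⁻¹ := hyx
  rwa [← mul_left_cancel (mul_right_cancel hyx')]

theorem HClosed.le_normalizer {P : Subgroup G} {d : ℕ} (hP : IsPGroup p ↥P) (h : HClosed P d)
    {E : Subgroup G} (hE : E ≤ P) (hc : Nat.card E = d ∨ (d = 2 ∧ Nat.card E = 4)) :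
    P ≤ Subgroup.normalizer (E : Set G) := by
  by_contra hn
  have hlt : P ⊓ Subgroup.normalizer (E : Set G) < P :=
    lt_of_le_of_ne inf_le_left fun e => hn (inf_eq_left.mp e)
  obtain ⟨w, hwP, hwN, hw⟩ := exists_normalizer_not_mem hP hlt
  refine hwN ⟨hwP, mem_normalizer_of_conj_mem fun x hx => h E hE hc w ⟨⟨x, hx, rfl⟩, ?_⟩⟩
  exact ((Subgroup.mem_normalizer_iff.mp hw x).mp ⟨hE hx, Subgroup.le_normalizer hx⟩).2

/-- The subgroups in question are strongly closed in `P`. -/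
theorem HClosed.conj_mem {P : Subgroup G} {d : ℕ} (hP : IsPGroup p ↥P) (h : HClosed P d)
    {E : Subgroup G} (hE : E ≤ P) (hc : Nat.card E = d ∨ (d = 2 ∧ Nat.card E = 4)) {g x : G}
    (hx : x ∈ E) (hgx : g * x * g⁻¹ ∈ P) : g * x * g⁻¹ ∈ E :=
  h E hE hc g ⟨⟨x, hx, rfl⟩, h.le_normalizer hP hE hc hgx⟩

omit [Finite G] [Fact p.Prime] in
/-- Normalizing a cyclic group, one normalizes its subgroups of powers. -/
theorem conj_pow_mem {w v : G} (h : w * v * w⁻¹ ∈ Subgroup.zpowers v) (n : ℕ) :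
    w * v ^ n * w⁻¹ ∈ Subgroup.zpowers (v ^ n) := by
  obtain ⟨a, ha⟩ := Subgroup.mem_zpowers_iff.mp h
  refine ⟨a, ?_⟩
  change (v ^ n) ^ a = w * v ^ n * w⁻¹
  rw [← conj_pow, ← ha, ← zpow_natCast, ← zpow_natCast, ← zpow_mul, ← zpow_mul, mul_comm]

omit [Fact p.Prime] in
theorem mem_normalizer_zpowers {w v : G} (h : w * v * w⁻¹ ∈ Subgroup.zpowers v) :
    w ∈ Subgroup.normalizer (Subgroup.zpowers v : Set G) := by
  refine mem_normalizer_of_conj_mem fun x hx => ?_
  obtain ⟨i, rfl⟩ := Subgroup.mem_zpowers_iff.mp hx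
  rw [zpow_conj]
  exact zpow_mem h i

omit [Finite G] in
/-- Adjoining an element whose `p`-th power lies inside multiplies the order by `p`. -/
theorem card_sup_zpowers [Finite G] {N : Subgroup G} {w : G}
    (hw : w ∈ Subgroup.normalizer (N : Set G)) (hwN : w ∉ N) (hwp : w ^ p ∈ N) :
    Nat.card ↥(N ⊔ Subgroup.zpowers w) = p * Nat.card ↥N := by
  have hp : p.Prime := Fact.out
  have h := Coprime.card_sup_mul_card_inf (N := N) (H := Subgroup.zpowers w)
    (Subgroup.zpowers_le.mpr hw)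
  have hinf : N ⊓ Subgroup.zpowers w = Subgroup.zpowers (w ^ p) := by
    refine le_antisymm ?_ (le_inf (Subgroup.zpowers_le.mpr hwp)
      (Subgroup.zpowers_le.mpr (pow_mem (Subgroup.mem_zpowers w) p)))
    rintro x ⟨hxN, hx⟩
    obtain ⟨i, rfl⟩ := Subgroup.mem_zpowers_iff.mp hx
    by_cases hi : (p : ℤ) ∣ i
    · obtain ⟨j, rfl⟩ := hi
      exact ⟨j, by simp [zpow_mul, zpow_natCast]⟩
    · exfalso
      apply hwN
      obtain ⟨a, b, hab⟩ : ∃ a b : ℤ, a * i + b * p = 1 :=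
        (((Nat.prime_iff_prime_int.mp hp).coprime_iff_not_dvd).mpr hi).symm
      have h2 : w = (w ^ i) ^ a * (w ^ (p : ℤ)) ^ b := by
        rw [← zpow_mul, ← zpow_mul, ← zpow_add, mul_comm i a, mul_comm (p : ℤ) b, hab, zpow_one]
      rw [h2, zpow_natCast]
      exact mul_mem (zpow_mem (show w ^ i ∈ N from hxN) a) (zpow_mem hwp b)
  have hdvd : p ∣ orderOf w := by
    by_contra hc
    apply hwN
    obtain ⟨a, ha⟩ := exists_pow_eq_self_of_coprime (x := w) (n := p) (hp.coprime_iff_not_dvd.mpr hc)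
    rw [← ha]
    exact pow_mem hwp a
  rw [hinf, Nat.card_zpowers, Nat.card_zpowers, orderOf_pow' w hp.ne_zero,
    Nat.gcd_eq_right hdvd] at h
  have hpos : 0 < orderOf w / p :=
    Nat.div_pos (Nat.le_of_dvd (isOfFinOrder_of_finite w).orderOf_pos hdvd) hp.pos
  refine Nat.eq_of_mul_eq_mul_right hpos (h.trans ?_)
  conv_lhs => rw [← Nat.mul_div_cancel' hdvd]
  ring

/-- The hypothesis on the subgroups of order `d` of `Q` used below. -/
def NormalFamily (Q : Subgroup G) (g : G) (d : ℕ) : Prop :=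
  ∀ E : Subgroup G, E ≤ Q → (Nat.card E = d ∨ (d = 2 ∧ Nat.card E = 4)) →
    g ∈ Subgroup.normalizer (E : Set G) ∧ Q ≤ Subgroup.normalizer (E : Set G)

/-- A `p'`-element fixing the elements of order `p` of a cyclic subgroup of order `d` centralizes
the elements of order `p`. -/
theorem commute_of_orderP {Q : Subgroup G} (hQ : IsPGroup p ↥Q) {g : G}
    (hg : (orderOf g).Coprime p) {k : ℕ} (hk : 1 ≤ k) (hfam : NormalFamily Q g (p ^ k))
    {v : G} (hv : v ∈ Q) (hvo : orderOf v = p ^ k) (hgv : g * v = v * g)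
    {y : G} (hy : y ∈ Q) (hyp : y ^ p = 1) : g * y = y * g := by
  have hp : p.Prime := Fact.out
  by_cases hyC : y ∈ Subgroup.zpowers v
  · obtain ⟨i, rfl⟩ := Subgroup.mem_zpowers_iff.mp hyC
    exact (show Commute g v from hgv).zpow_right i
  set C' := Subgroup.zpowers (v ^ p) with hC'
  have hC'C : C' ≤ Subgroup.zpowers v :=
    Subgroup.zpowers_le.mpr (pow_mem (Subgroup.mem_zpowers v) p)
  have hcC' : Nat.card ↥C' = p ^ (k - 1) := by
    rw [Nat.card_zpowers, orderOf_pow' v hp.ne_zero, hvo,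
      Nat.gcd_eq_right (dvd_pow_self p (by omega))]
    conv_lhs => rw [show k = k - 1 + 1 by omega, pow_succ]
    rw [Nat.mul_div_cancel _ hp.pos]
  have hCQ : ∀ w ∈ Q, w * v * w⁻¹ ∈ Subgroup.zpowers v := fun w hw =>
    (Subgroup.mem_normalizer_iff.mp ((hfam _ (Subgroup.zpowers_le.mpr hv)
      (Or.inl (by rw [Nat.card_zpowers, hvo]))).2 hw) v).mp (Subgroup.mem_zpowers v)
  have hC'Q : Q ≤ Subgroup.normalizer (C' : Set G) := fun w hw =>
    mem_normalizer_zpowers (conj_pow_mem (hCQ w hw) p)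
  have hgC' : ∀ c ∈ C', g * c = c * g := fun c hc => by
    obtain ⟨i, rfl⟩ := Subgroup.mem_zpowers_iff.mp (hC'C hc)
    exact (show Commute g v from hgv).zpow_right i
  have hvC' : ∀ c ∈ C', v * c = c * v := fun c hc => by
    obtain ⟨i, rfl⟩ := Subgroup.mem_zpowers_iff.mp (hC'C hc)
    exact (Commute.refl v).zpow_right i
  -- `y` acts trivially on `C / C'`
  have hyv : y * v * y⁻¹ * v⁻¹ ∈ C' := by
    obtain ⟨b, hb⟩ := Subgroup.mem_zpowers_iff.mp (hCQ y hy)
    have h1 := conj_pow_of_zpow hb.symm p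
    rw [hyp, one_mul, inv_one, mul_one] at h1
    have h2 : ((b ^ p : ℤ) : ZMod p) = ((1 : ℤ) : ZMod p) := by
      have h3 := zpow_eq_zpow_iff_modEq.mp (h1.symm.trans (zpow_one v).symm)
      rw [hvo] at h3
      rw [ZMod.intCast_eq_intCast_iff]
      exact h3.of_dvd (by exact_mod_cast dvd_pow_self p (by omega : k ≠ 0))
    rw [Int.cast_pow, ZMod.pow_card, Int.cast_one] at h2
    obtain ⟨t, ht⟩ : (p : ℤ) ∣ b - 1 := by
      rw [← ZMod.intCast_zmod_eq_zero_iff_dvd, Int.cast_sub, Int.cast_one, h2, sub_self]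
    refine ⟨t, ?_⟩
    change (v ^ p) ^ t = _
    rw [← hb, ← zpow_natCast, ← zpow_mul, ← ht, zpow_sub, zpow_one]
  have hyC' : y ∉ C' := fun h => hyC (hC'C h)
  have hvy : ∀ n : ℕ, (v * y) ^ n * (v ^ n * y ^ n)⁻¹ ∈ C' := by
    have hy2 : ∀ n : ℕ, y ^ n * v * (y ^ n)⁻¹ * v⁻¹ ∈ C' := by
      intro n
      induction n with
      | zero => simp
      | succ n ih =>
        have h2 := (Subgroup.mem_normalizer_iff.mp (hC'Q hy) _).mp ih
        have h3 := mul_mem h2 hyv
        convert h3 using 1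
        rw [pow_succ']; group
    intro n
    induction n with
    | zero => simp
    | succ n ih =>
      have hinner := hy2 n
      have hc' : v ^ n * (y ^ n * v * (y ^ n)⁻¹ * v⁻¹) * (v ^ n)⁻¹ ∈ C' := by
        rw [((show Commute v (y ^ n * v * (y ^ n)⁻¹ * v⁻¹) from hvC' _ hinner).pow_left n).eq,
          mul_inv_cancel_right]
        exact hinner
      have h4 := mul_mem ih hc'
      convert h4 using 1
      rw [pow_succ, pow_succ, pow_succ]; group
  have hvyp : (v * y) ^ p ∈ C' := by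
    have h1 := hvy p
    rw [hyp, mul_one] at h1
    have h2 := mul_mem h1 (Subgroup.mem_zpowers (v ^ p))
    rwa [inv_mul_cancel_right] at h2
  have hvyC' : v * y ∉ C' := fun h => hyC (by
    have h1 := mul_mem (inv_mem (Subgroup.mem_zpowers v)) (hC'C h)
    rwa [inv_mul_cancel_left] at h1)
  set E₀ := C' ⊔ Subgroup.zpowers y
  set E₁ := C' ⊔ Subgroup.zpowers (v * y)
  have hC'leQ : C' ≤ Q := Subgroup.zpowers_le.mpr (pow_mem hv p)
  have hcard : ∀ w ∈ Q, w ∉ C' → w ^ p ∈ C' →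
      Nat.card ↥(C' ⊔ Subgroup.zpowers w) = p ^ k := by
    intro w hw hw1 hw2
    rw [card_sup_zpowers (hC'Q hw) hw1 hw2, hcC', ← pow_succ', Nat.sub_add_cancel hk]
  have hc0 : Nat.card ↥E₀ = p ^ k := hcard y hy hyC' (by rw [hyp]; exact one_mem _)
  have hc1 : Nat.card ↥E₁ = p ^ k := hcard _ (mul_mem hv hy) hvyC' hvyp
  have hE0Q : E₀ ≤ Q := sup_le hC'leQ (Subgroup.zpowers_le.mpr hy)
  have hE1Q : E₁ ≤ Q := sup_le hC'leQ (Subgroup.zpowers_le.mpr (mul_mem hv hy))
  obtain ⟨hg0, hQ0⟩ := hfam E₀ hE0Q (Or.inl hc0)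
  obtain ⟨hg1, -⟩ := hfam E₁ hE1Q (Or.inl hc1)
  have hy0 : y ∈ E₀ := Subgroup.mem_sup_right (Subgroup.mem_zpowers y)
  have hvy1 : v * y ∈ E₁ := Subgroup.mem_sup_right (Subgroup.mem_zpowers _)
  have hne : ¬ E₀ ≤ E₁ := by
    intro h
    have heq : E₀ = E₁ := Subgroup.eq_of_le_of_card_ge h (by rw [hc0, hc1])
    have hv0 : v ∈ E₀ := by
      have h1 := mul_mem (heq ▸ hvy1) (inv_mem hy0)
      rwa [mul_inv_cancel_right] at h1
    have h2 : Subgroup.zpowers v = E₀ :=
      Subgroup.eq_of_le_of_card_ge (Subgroup.zpowers_le.mpr hv0) (by rw [hc0, Nat.card_zpowers, hvo])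
    exact hyC (h2 ▸ hy0)
  have hinf : E₀ ⊓ E₁ = C' := by
    have hle : C' ≤ E₀ ⊓ E₁ := le_inf le_sup_left le_sup_left
    refine (Subgroup.eq_of_le_of_card_ge hle ?_).symm
    have hlt : Nat.card ↥(E₀ ⊓ E₁) < p ^ k := by
      rcases lt_or_eq_of_le (Subgroup.card_le_of_le (inf_le_left : E₀ ⊓ E₁ ≤ E₀)) with h | h
      · rwa [hc0] at h
      · exact absurd (inf_eq_left.mp (Subgroup.eq_of_le_of_card_ge inf_le_left h.ge)) hne
    obtain ⟨i, hi, hie⟩ := (Nat.dvd_prime_pow hp).mp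
      (hc0 ▸ Subgroup.card_dvd_of_le (inf_le_left : E₀ ⊓ E₁ ≤ E₀))
    rw [hie, hcC']
    refine Nat.pow_le_pow_right hp.pos ?_
    rw [hie] at hlt
    have := (Nat.pow_lt_pow_iff_right hp.one_lt).mp hlt
    omega
  have hw0 : g * y * g⁻¹ * y⁻¹ ∈ E₀ :=
    mul_mem ((Subgroup.mem_normalizer_iff.mp hg0 y).mp hy0) (inv_mem hy0)
  have hz1 : g * (v * y) * g⁻¹ * (v * y)⁻¹ ∈ E₁ :=
    mul_mem ((Subgroup.mem_normalizer_iff.mp hg1 _).mp hvy1) (inv_mem hvy1)
  have hze : g * (v * y) * g⁻¹ * (v * y)⁻¹ = v * (g * y * g⁻¹ * y⁻¹) * v⁻¹ := by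
    have h1 : g * v * g⁻¹ = v := by rw [hgv, mul_inv_cancel_right]
    calc g * (v * y) * g⁻¹ * (v * y)⁻¹ = (g * v * g⁻¹) * (g * y * g⁻¹) * (v * y)⁻¹ := by group
      _ = _ := by rw [h1]; group
  have hzC : v * (g * y * g⁻¹ * y⁻¹) * v⁻¹ ∈ C' := by
    rw [← hinf]
    exact ⟨(Subgroup.mem_normalizer_iff.mp (hQ0 hv) _).mp hw0, hze ▸ hz1⟩
  have hwC : g * y * g⁻¹ * y⁻¹ ∈ C' := by
    have e := hvC' _ hzC
    have : g * y * g⁻¹ * y⁻¹ = v * (g * y * g⁻¹ * y⁻¹) * v⁻¹ := by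
      calc g * y * g⁻¹ * y⁻¹ = v⁻¹ * ((v * (g * y * g⁻¹ * y⁻¹) * v⁻¹) * v) := by group
        _ = _ := by rw [← e]; group
    rwa [this]
  exact commute_of_stabilizes hQ hg (hC'leQ hwC) (hgC' _ hwC)

/-- The same for elements of order dividing `4`, when `p = 2`. -/
theorem commute_of_orderFour {Q : Subgroup G} (hQ : IsPGroup p ↥Q) (hp2 : p = 2) {g : G}
    (hg : (orderOf g).Coprime p) {k : ℕ} (hk : 1 ≤ k) (hfam : NormalFamily Q g (p ^ k))
    {v : G} (hv : v ∈ Q) (hvo : orderOf v = p ^ k) (hgv : g * v = v * g)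
    {y : G} (hy : y ∈ Q) (hy4 : y ^ (p * p) = 1) : g * y = y * g := by
  have hp : p.Prime := Fact.out
  have hy2 : g * y ^ p = y ^ p * g :=
    commute_of_orderP hQ hg hk hfam hv hvo hgv (pow_mem hy p) (by rw [← pow_mul, hy4])
  by_cases hyp : y ^ p = 1
  · exact commute_of_orderP hQ hg hk hfam hv hvo hgv hy hyp
  have hoy : orderOf y = p ^ 2 :=
    orderOf_eq_prime_pow (n := 1) (by simpa using hyp) (by rw [← pow_two] at hy4; exact hy4)
  rcases Nat.lt_or_ge k 2 with hk2 | hk2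
  · -- `d = 2`
    have hd : p ^ k = 2 := by rw [show k = 1 by omega, pow_one, hp2]
    obtain ⟨hgE, -⟩ := hfam (Subgroup.zpowers y) (Subgroup.zpowers_le.mpr hy)
      (Or.inr ⟨hd, by rw [Nat.card_zpowers, hoy, hp2]; rfl⟩)
    refine commute_of_fix_socle hg hoy ((Subgroup.mem_normalizer_iff.mp hgE y).mp
      (Subgroup.mem_zpowers y)) ?_
    simpa using hy2
  by_cases hyC : y ∈ Subgroup.zpowers v
  · obtain ⟨i, rfl⟩ := Subgroup.mem_zpowers_iff.mp hyC
    exact (show Commute g v from hgv).zpow_right i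
  have hCQ : ∀ w ∈ Q, w * v * w⁻¹ ∈ Subgroup.zpowers v := fun w hw =>
    (Subgroup.mem_normalizer_iff.mp ((hfam _ (Subgroup.zpowers_le.mpr hv)
      (Or.inl (by rw [Nat.card_zpowers, hvo]))).2 hw) v).mp (Subgroup.mem_zpowers v)
  have hpowC : ∀ n : ℕ, Q ≤ Subgroup.normalizer (Subgroup.zpowers (v ^ n) : Set G) := fun n w hw =>
    mem_normalizer_zpowers (conj_pow_mem (hCQ w hw) n)
  have hcardpow : ∀ j : ℕ, 1 ≤ j → j ≤ k → Nat.card ↥(Subgroup.zpowers (v ^ p ^ j)) = p ^ (k - j) := by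
    intro j _ hj
    rw [Nat.card_zpowers, orderOf_pow' v (pow_ne_zero _ hp.ne_zero), hvo,
      Nat.gcd_eq_right (pow_dvd_pow p hj), Nat.pow_div hj hp.pos]
  have hfixC : ∀ c ∈ Subgroup.zpowers v, g * c = c * g := fun c hc => by
    obtain ⟨i, rfl⟩ := Subgroup.mem_zpowers_iff.mp hc
    exact (show Commute g v from hgv).zpow_right i
  -- a fixed subgroup of index `p` below a member containing `y`
  obtain ⟨M, hMQ, hMfix, hyM, hMc, hyN, hy2M⟩ : ∃ M : Subgroup G, M ≤ Q ∧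
      (∀ c ∈ M, g * c = c * g) ∧ y ∉ M ∧ p * Nat.card ↥M = p ^ k ∧
      y ∈ Subgroup.normalizer (M : Set G) ∧ y ^ p ∈ M := by
    by_cases h1 : y ^ p ∈ Subgroup.zpowers (v ^ p)
    · refine ⟨Subgroup.zpowers (v ^ p), Subgroup.zpowers_le.mpr (pow_mem hv p), fun c hc =>
        hfixC c (Subgroup.zpowers_le.mpr (pow_mem (Subgroup.mem_zpowers v) p) hc),
        fun h => hyC (Subgroup.zpowers_le.mpr (pow_mem (Subgroup.mem_zpowers v) p) h), ?_,
        hpowC p hy, h1⟩
      have h2 := hcardpow 1 le_rfl hk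
      rw [pow_one] at h2
      rw [h2, ← pow_succ', Nat.sub_add_cancel hk]
    · set C'' := Subgroup.zpowers (v ^ p ^ 2)
      have hC''1 : C'' ≤ Subgroup.zpowers (v ^ p) := by
        refine Subgroup.zpowers_le.mpr ?_
        rw [pow_two, pow_mul]
        exact pow_mem (Subgroup.mem_zpowers _) p
      have hC''C : C'' ≤ Subgroup.zpowers v :=
        Subgroup.zpowers_le.mpr (pow_mem (Subgroup.mem_zpowers v) _)
      refine ⟨C'' ⊔ Subgroup.zpowers (y ^ p), sup_le (Subgroup.zpowers_le.mpr (pow_mem hv _))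
        (Subgroup.zpowers_le.mpr (pow_mem hy p)), ?_, ?_, ?_, ?_,
        Subgroup.mem_sup_right (Subgroup.mem_zpowers _)⟩
      · intro c hc
        have hle : C'' ⊔ Subgroup.zpowers (y ^ p) ≤ Subgroup.centralizer ({g} : Set G) := by
          refine sup_le (fun c hc => ?_) (Subgroup.zpowers_le.mpr ?_) <;>
            rw [Subgroup.mem_centralizer_singleton_iff]
          · exact (hfixC c (hC''C hc)).symm
          · exact hy2.symm
        exact ((Subgroup.mem_centralizer_singleton_iff.mp (hle hc))).symm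
      · intro h
        obtain ⟨c, hc, _, ⟨i, rfl⟩, he⟩ := Coprime.exists_mul_of_mem_sup
          (Subgroup.zpowers_le.mpr (hpowC (p ^ 2) (pow_mem hy p))) h
        apply hyC
        have he' : y ^ (1 - (p : ℤ) * i) = c := by
          rw [zpow_sub, zpow_one, zpow_mul, zpow_natCast]
          exact mul_inv_eq_iff_eq_mul.mpr (show y = c * (y ^ p) ^ i from he)
        obtain ⟨a, b, hab⟩ : ∃ a b : ℤ, a * (1 - (p : ℤ) * i) + b * (p * p : ℕ) = 1 :=
          ⟨1 + (p : ℤ) * i, i * i, by push_cast; ring⟩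
        have h2 : y = c ^ a := by
          rw [← he', ← zpow_mul, mul_comm, ← mul_one (y ^ _), ← one_zpow b, ← hy4,
            ← zpow_natCast, ← zpow_mul, ← zpow_add, mul_comm ((p * p : ℕ) : ℤ), hab, zpow_one]
        rw [h2]
        exact zpow_mem (hC''C hc) a
      · rw [card_sup_zpowers (hpowC (p ^ 2) (pow_mem hy p)) (fun h => h1 (hC''1 h))
          (by rw [← pow_mul, hy4]; exact one_mem _), hcardpow 2 (by omega) hk2, ← pow_succ',
          ← pow_succ', show k - 2 + 1 + 1 = k by omega]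
      · refine mem_normalizer_of_conj_mem fun x hx => ?_
        have hle : (C'' ⊔ Subgroup.zpowers (y ^ p)).map (MulAut.conj y).toMonoidHom ≤
            C'' ⊔ Subgroup.zpowers (y ^ p) := by
          rw [Subgroup.map_sup]
          refine sup_le_sup ?_ ?_
          · rintro _ ⟨c, hc, rfl⟩
            exact (Subgroup.mem_normalizer_iff.mp (hpowC (p ^ 2) hy) c).mp hc
          · rw [MonoidHom.map_zpowers]
            refine Subgroup.zpowers_le.mpr ?_
            simp only [MulEquiv.coe_toMonoidHom, MulAut.conj_apply]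
            rw [show y * y ^ p * y⁻¹ = y ^ p by rw [← pow_succ', pow_succ]; group]
            exact Subgroup.mem_zpowers _
        exact hle ⟨x, hx, rfl⟩
  set E := M ⊔ Subgroup.zpowers y
  have hEc : Nat.card ↥E = p ^ k := by rw [card_sup_zpowers hyN hyM hy2M, hMc]
  obtain ⟨hgE, -⟩ := hfam E (sup_le hMQ (Subgroup.zpowers_le.mpr hy)) (Or.inl hEc)
  have hyE : y ∈ E := Subgroup.mem_sup_right (Subgroup.mem_zpowers y)
  obtain ⟨m, hm, _, ⟨i, rfl⟩, he⟩ := Coprime.exists_mul_of_mem_sup (Subgroup.zpowers_le.mpr hyN)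
    ((Subgroup.mem_normalizer_iff.mp hgE y).mp hyE)
  replace he : m * y ^ i = g * y * g⁻¹ := he.symm
  rcases Int.even_or_odd i with ⟨j, rfl⟩ | ⟨j, rfl⟩
  · exfalso
    apply hyM
    have hmem : g * y * g⁻¹ ∈ M := by
      rw [← he]
      refine mul_mem hm ?_
      rw [show j + j = (p : ℤ) * j by rw [hp2]; push_cast; ring, zpow_mul, zpow_natCast]
      exact zpow_mem hy2M j
    have h2 := hMfix _ hmem
    rw [inv_mul_cancel_right] at h2
    rwa [mul_left_cancel h2] at hmem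
  · have hw : g * y * g⁻¹ * y⁻¹ ∈ M := by
      rw [← he, show m * y ^ (2 * j + 1) * y⁻¹ = m * y ^ (2 * j) by rw [zpow_add_one]; group]
      refine mul_mem hm ?_
      rw [show 2 * j = (p : ℤ) * j by rw [hp2]; push_cast; ring, zpow_mul, zpow_natCast]
      exact zpow_mem hy2M j
    exact commute_of_stabilizes hQ hg (hMQ hw) (hMfix _ hw)

/-- A `p'`-element normalizing every member and fixing the socle of a cyclic member centralizes `Q`. -/
theorem mem_centralizer_of_big {Q : Subgroup G} (hQ : IsPGroup p ↥Q) {g : G}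
    (hg : (orderOf g).Coprime p) (hgQ : g ∈ Subgroup.normalizer (Q : Set G)) {k : ℕ} (hk : 1 ≤ k)
    (hfam : NormalFamily Q g (p ^ k)) {v : G} (hv : v ∈ Q) (hvo : orderOf v = p ^ k)
    (hgz : g * v ^ (p ^ (k - 1)) = v ^ (p ^ (k - 1)) * g) :
    g ∈ Subgroup.centralizer (Q : Set G) := by
  have hgv : g * v = v * g := commute_of_fix_socle hg hvo
    ((Subgroup.mem_normalizer_iff.mp (hfam _ (Subgroup.zpowers_le.mpr hv)
      (Or.inl (by rw [Nat.card_zpowers, hvo]))).1 v).mp (Subgroup.mem_zpowers v)) hgz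
  have hcop : (Nat.card ↥(Subgroup.zpowers g)).Coprime p := by rwa [Nat.card_zpowers]
  have hA : Subgroup.zpowers g ≤ Subgroup.normalizer (Q : Set G) := Subgroup.zpowers_le.mpr hgQ
  refine Subgroup.zpowers_le.mp ?_
  by_cases hp2 : p = 2
  · refine le_centralizer_of_fixes_pow_sq hcop Q hQ hA fun x hx hxp => Subgroup.zpowers_le.mpr ?_
    rw [Subgroup.mem_centralizer_singleton_iff]
    exact commute_of_orderFour hQ hp2 hg hk hfam hv hvo hgv hx hxp
  · refine OddLocal.le_centralizer_of_fixes_pow_eq_one hp2 hcop Q hQ hA fun x hx hxp =>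
      Subgroup.zpowers_le.mpr ?_
    rw [Subgroup.mem_centralizer_singleton_iff]
    exact commute_of_orderP hQ hg hk hfam hv hvo hgv hx hxp

end Cfsg.Agent.Lib.LocalEven2
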