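import Mathlib

/-!
# Groups of linear maps whose prime-power elements are homologies
-/

set_option autoImplicit false

namespace Cfsg.Agent.Lib.LocalEven2.Homology

/-- Every element of prime-power order has the shape of a homology. -/
theorem exists_primePart {G H : Type*} [Group G] [Finite G] [Monoid H] (f : G →* H) {q : ℕ}
    (hq : q.Prime) {g : G} {k : ℕ} (h : f g ^ q ^ k = 1) :
    ∃ u : G, (∃ a : ℕ, u ^ q ^ a = 1) ∧ f u = f g := by
  obtain ⟨a, m, hm, hn⟩ := Nat.exists_eq_pow_mul_and_not_dvd (orderOf_pos g).ne' q hq.ne_one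
  obtain ⟨t, ht⟩ : ∃ t, m * t ≡ 1 [MOD q ^ k] := by
    have hc : Nat.Coprime m (q ^ k) := ((hq.coprime_iff_not_dvd.mpr hm).symm).pow_right k
    rcases eq_or_ne (q ^ k) 1 with h1 | h1
    · exact ⟨0, by simp [Nat.ModEq, h1, Nat.mod_one]⟩
    · obtain ⟨t, -, ht⟩ := Nat.exists_mul_mod_eq_one_of_coprime hc
        (lt_of_le_of_ne (Nat.one_le_pow _ _ hq.pos) (Ne.symm h1))
      exact ⟨t, by rw [Nat.ModEq, ht, Nat.one_mod_eq_one.mpr h1]⟩
  refine ⟨g ^ (m * t), ⟨a, ?_⟩, ?_⟩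
  · rw [← pow_mul, show m * t * q ^ a = q ^ a * m * t by ring, ← hn, pow_mul, pow_orderOf_eq_one,
      one_pow]
  · rw [map_pow]
    conv_rhs => rw [← pow_one (f g)]
    rw [← pow_mod_orderOf (f g) (m * t), ← pow_mod_orderOf (f g) 1]
    congr 1
    exact ht.of_dvd (orderOf_dvd_of_pow_eq_one h)

variable {k V G : Type*} [Field k] [AddCommGroup V] [Module k V] [Group G]

/-- If every vector of the image of `T - 1` is an eigenvector, it is a single eigenspace. -/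
theorem exists_scalar (T : V →ₗ[k] V) (h : ∀ v, ∃ c : k, T (T v - v) = c • (T v - v)) :
    ∃ c : k, ∀ v, T (T v - v) = c • (T v - v) := by
  by_cases h0 : ∀ v, T v - v = 0
  · exact ⟨1, fun v => by rw [h0 v, map_zero, smul_zero]⟩
  push Not at h0
  obtain ⟨v₀, hv₀⟩ := h0
  obtain ⟨c, hc⟩ := h v₀
  refine ⟨c, fun v => ?_⟩
  obtain ⟨a, ha⟩ := h v
  obtain ⟨e, he⟩ := h (v₀ + v)
  have hadd : T (v₀ + v) - (v₀ + v) = (T v₀ - v₀) + (T v - v) := by rw [map_add]; abel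
  rw [hadd, map_add, hc, ha, smul_add] at he
  have h1 : (c - e) • (T v₀ - v₀) + (a - e) • (T v - v) = 0 := by
    rw [sub_smul, sub_smul]; linear_combination (norm := module) he
  by_cases hae : a = e
  · rw [hae, sub_self, zero_smul, add_zero, smul_eq_zero] at h1
    rw [ha, hae, sub_eq_zero.mp (h1.resolve_right hv₀)]
  · have h2 : T v - v = ((a - e)⁻¹ * -(c - e)) • (T v₀ - v₀) := by
      rw [← smul_smul, neg_smul, eq_comm, inv_smul_eq_iff₀ (sub_ne_zero.mpr hae), eq_comm,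
        eq_neg_iff_add_eq_zero, add_comm]
      exact h1
    rw [h2, map_smul, hc, smul_comm]

/-- A finite order unipotent map of quadratic type is trivial. -/
theorem eq_one_of_sq_zero (T : Module.End k V) {m : ℕ} (hm : (m : k) ≠ 0) (hT : T ^ m = 1)
    (h : ∀ v, T (T v - v) = T v - v) : T = 1 := by
  have hpow : ∀ n : ℕ, ∀ v, (T ^ n) v = v + (n : k) • (T v - v) := by
    intro n
    induction n with
    | zero => intro v; simp
    | succ n ih =>
      intro v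
      rw [pow_succ', Module.End.mul_apply, ih, map_add, map_smul, h, Nat.cast_succ, add_smul,
        one_smul]
      abel
  ext v
  have h1 := hpow m v
  rw [hT, Module.End.one_apply, left_eq_add, smul_eq_zero] at h1
  exact sub_eq_zero.mp (h1.resolve_left hm)

variable [Finite G] (ψ : G →* Module.End k V)

/-- An irreducible group, with supersolvable image, all of whose elements of prime-power order are
homologies acts by scalars. -/
theorem exists_scalar_of_homologies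
    (hA : ∀ (g : G) (q a : ℕ), q.Prime → g ^ q ^ a = 1 →
      ∃ c : k, ∀ v, ψ g (ψ g v - v) = c • (ψ g v - v))
    (hss : ∀ (g : G) (q a : ℕ), q.Prime → g ^ q ^ a = 1 → (q : k) ≠ 0 ∨ ψ g = 1)
    (hirr : ∀ W : Submodule k V, (∀ g, ∀ v ∈ W, ψ g v ∈ W) → W = ⊥ ∨ W = ⊤)
    (hchief : ∀ Z : Subgroup G, Z.Normal → ψ.ker ≤ Z → Z ≠ ⊤ →
      ∃ B : Subgroup G, B.Normal ∧ Z ≤ B ∧ (Z.relIndex B).Prime) :
    ∀ g, ∃ c : k, ∀ v, ψ g v = c • v := by
  classical
  intro g₀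
  have hinv : ∀ (g : G) (v : V), ψ g⁻¹ (ψ g v) = v := fun g v => by
    rw [← Module.End.mul_apply, ← map_mul, inv_mul_cancel, map_one, Module.End.one_apply]
  have hinv' : ∀ (g : G) (v : V), ψ g (ψ g⁻¹ v) = v := fun g v => by
    simpa using hinv g⁻¹ v
  let Z : Subgroup G :=
    { carrier := {g | ∃ c : k, ∀ v, ψ g v = c • v}
      one_mem' := ⟨1, fun v => by simp⟩
      mul_mem' := fun {a b} ⟨c, hc⟩ ⟨d, hd⟩ => ⟨c * d, fun v => by
        rw [map_mul, Module.End.mul_apply, hd, map_smul, hc, smul_smul, mul_comm]⟩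
      inv_mem' := fun {a} ⟨c, hc⟩ => by
        by_cases hc0 : c = 0
        · refine ⟨0, fun v => ?_⟩
          have := hinv' a v
          rw [hc, hc0, zero_smul] at this
          rw [← this, map_zero, zero_smul]
        · refine ⟨c⁻¹, fun v => ?_⟩
          have := hinv' a v
          rw [hc] at this
          rw [eq_inv_smul_iff₀ hc0, this] }
  by_contra hg₀
  have hZ : Z ≠ ⊤ := fun e => hg₀ (show g₀ ∈ Z from e ▸ Subgroup.mem_top _)
  have hZn : Z.Normal := ⟨fun x ⟨c, hc⟩ g => ⟨c, fun v => by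
    rw [map_mul, map_mul, Module.End.mul_apply, Module.End.mul_apply, hc, map_smul, hinv']⟩⟩
  have hker : ψ.ker ≤ Z := fun g hg => ⟨1, fun v => by
    rw [MonoidHom.mem_ker.mp hg, Module.End.one_apply, one_smul]⟩
  obtain ⟨B, hBn, hZB, hs⟩ := hchief Z hZn hker hZ
  haveI := hZn
  set s := Z.relIndex B with hsdef
  haveI := Fact.mk hs
  -- an element of prime-power order outside `Z`
  obtain ⟨b₀, hb₀B, hb₀Z⟩ : ∃ b ∈ B, b ∉ Z := by
    by_contra h
    push Not at h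
    exact hs.ne_one (Subgroup.relIndex_eq_one.mpr h)
  haveI : (Z.subgroupOf B).Normal := Subgroup.normal_subgroupOf
  have hcardQ : Nat.card (↥B ⧸ Z.subgroupOf B) = s := rfl
  have hpows : ∀ y ∈ B, ∀ x ∈ B, x ∉ Z → ∃ i : ℤ, y * (x ^ i)⁻¹ ∈ Z := by
    intro y hy x hx hxZ
    have hx1 : ((⟨x, hx⟩ : ↥B) : ↥B ⧸ Z.subgroupOf B) ≠ 1 := fun h =>
      hxZ (by simpa [Subgroup.mem_subgroupOf] using (QuotientGroup.eq_one_iff _).mp h)
    obtain ⟨i, hi⟩ := Subgroup.mem_zpowers_iff.mp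
      (mem_zpowers_of_prime_card hcardQ hx1 (g' := ((⟨y, hy⟩ : ↥B) : ↥B ⧸ Z.subgroupOf B)))
    refine ⟨i, ?_⟩
    have h1 : ((⟨y, hy⟩ * (⟨x, hx⟩ ^ i)⁻¹ : ↥B) : ↥B ⧸ Z.subgroupOf B) = 1 := by
      rw [QuotientGroup.mk_mul, QuotientGroup.mk_inv, QuotientGroup.mk_zpow, hi, mul_inv_cancel]
    simpa [Subgroup.mem_subgroupOf] using (QuotientGroup.eq_one_iff _).mp h1
  obtain ⟨a₀, m₀, hm₀, hn₀⟩ :=
    Nat.exists_eq_pow_mul_and_not_dvd (orderOf_pos b₀).ne' s hs.ne_one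
  set b := b₀ ^ m₀ with hbdef
  have hbB : b ∈ B := pow_mem hb₀B _
  have hbpow : b ^ s ^ a₀ = 1 := by
    rw [hbdef, ← pow_mul, mul_comm, ← hn₀, pow_orderOf_eq_one]
  have hbZ : b ∉ Z := by
    intro h
    have hq : ((⟨b₀, hb₀B⟩ : ↥B) : ↥B ⧸ Z.subgroupOf B) ≠ 1 := fun h' =>
      hb₀Z (by simpa [Subgroup.mem_subgroupOf] using (QuotientGroup.eq_one_iff _).mp h')
    have h1 : ((⟨b₀, hb₀B⟩ : ↥B) : ↥B ⧸ Z.subgroupOf B) ^ m₀ = 1 := by
      rw [← QuotientGroup.mk_pow, QuotientGroup.eq_one_iff]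
      simpa [Subgroup.mem_subgroupOf] using h
    have h2 := orderOf_dvd_of_pow_eq_one h1
    rw [orderOf_eq_prime (hcardQ ▸ pow_card_eq_one') hq] at h2
    exact hm₀ h2
  have hT1 : ψ b ≠ 1 := fun h => hbZ (hker h)
  have hsk : (s : k) ≠ 0 := (hss b s a₀ hs hbpow).resolve_right hT1
  obtain ⟨c, hc⟩ := hA b s a₀ hs hbpow
  have hc1 : c ≠ 1 := by
    intro h
    apply hT1
    refine eq_one_of_sq_zero (ψ b) (m := s ^ a₀) (by rw [Nat.cast_pow]; exact pow_ne_zero _ hsk)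
      (by rw [← map_pow, hbpow, map_one]) fun v => ?_
    rw [hc, h, one_smul]
  let V₁ : Submodule k V := LinearMap.ker (ψ b - 1)
  let Vc : Submodule k V := LinearMap.ker (ψ b - c • 1)
  have hmem1 : ∀ v, v ∈ V₁ ↔ ψ b v = v := fun v => by simp [V₁, sub_eq_zero]
  have hmemc : ∀ v, v ∈ Vc ↔ ψ b v = c • v := fun v => by simp [Vc, sub_eq_zero]
  have hc0 : c ≠ 0 := by
    intro h
    apply hT1
    ext v
    rw [Module.End.one_apply]
    have := congrArg (ψ b⁻¹) (hc v)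
    rw [h, zero_smul, map_zero, hinv] at this
    exact sub_eq_zero.mp this
  have hdec : ∀ v, ∃ x ∈ V₁, ∃ y ∈ Vc, v = x + y := fun v => by
    have hy : (c - 1)⁻¹ • (ψ b v - v) ∈ Vc := by rw [hmemc, map_smul, hc, smul_comm]
    refine ⟨v - (c - 1)⁻¹ • (ψ b v - v), ?_, _, hy, by abel⟩
    rw [hmem1, map_sub, (hmemc _).mp hy, ← sub_eq_zero]
    rw [show ψ b v - c • (c - 1)⁻¹ • (ψ b v - v) - (v - (c - 1)⁻¹ • (ψ b v - v))
      = (ψ b v - v) - (c - 1) • (c - 1)⁻¹ • (ψ b v - v) by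
        rw [sub_smul, one_smul]; abel, smul_smul, mul_inv_cancel₀ (sub_ne_zero.mpr hc1), one_smul,
        sub_self]
  have hne1 : ∃ v₁ ∈ V₁, v₁ ≠ 0 := by
    by_contra h
    push Not at h
    refine hbZ ⟨c, fun v => ?_⟩
    obtain ⟨x, hx, y, hy, rfl⟩ := hdec v
    rw [h x hx, zero_add, (hmemc y).mp hy]
  have hnec : ∃ v₂ ∈ Vc, v₂ ≠ 0 := by
    by_contra h
    push Not at h
    refine hT1 (LinearMap.ext fun v => ?_)
    obtain ⟨x, hx, y, hy, rfl⟩ := hdec v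
    rw [h y hy, add_zero, (hmem1 x).mp hx, Module.End.one_apply]
  -- powers of `b`
  have hzp : ∀ (i : ℤ) (v : V), (v ∈ V₁ → ψ (b ^ i) v = v) ∧
      (v ∈ Vc → ψ (b ^ i) v = c ^ i • v) := by
    intro i
    induction i using Int.induction_on with
    | zero => intro v; simp
    | succ n ih =>
      intro v
      refine ⟨fun hv => ?_, fun hv => ?_⟩
      · rw [zpow_add_one, map_mul, Module.End.mul_apply, (hmem1 v).mp hv, (ih v).1 hv]
      · rw [zpow_add_one, map_mul, Module.End.mul_apply, (hmemc v).mp hv, map_smul, (ih v).2 hv,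
          smul_smul, zpow_add_one₀ hc0, mul_comm]
    | pred n ih =>
      intro v
      have key : ψ (b ^ (-(n : ℤ) - 1)) v = ψ (b ^ (-(n : ℤ))) (ψ b⁻¹ v) := by
        rw [zpow_sub_one, map_mul, Module.End.mul_apply]
      refine ⟨fun hv => ?_, fun hv => ?_⟩
      · rw [key, show ψ b⁻¹ v = v by conv_lhs => rw [← (hmem1 v).mp hv, hinv], (ih v).1 hv]
      · have : ψ b⁻¹ v = c⁻¹ • v := by
          rw [eq_inv_smul_iff₀ hc0, ← map_smul, ← (hmemc v).mp hv, hinv]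
        rw [key, this, map_smul, (ih v).2 hv, smul_smul, zpow_sub_one₀ hc0, mul_comm]
  -- every element fixes or swaps the two eigenspaces
  have hperm : ∀ g : G, (∀ v ∈ V₁, ψ g v ∈ V₁) ∧ (∀ v ∈ Vc, ψ g v ∈ Vc) ∨
      (∀ v ∈ V₁, ψ g v ∈ Vc) ∧ (∀ v ∈ Vc, ψ g v ∈ V₁) := by
    intro g
    obtain ⟨i, l, hl⟩ := hpows (g * b * g⁻¹) (hBn.conj_mem b hbB g) b hbB hbZ
    have hgb : ∀ x, ψ g (ψ b x) = l • ψ (b ^ i) (ψ g x) := fun x => by
      rw [← hl, ← Module.End.mul_apply, ← Module.End.mul_apply, ← Module.End.mul_apply, ← map_mul,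
        ← map_mul, ← map_mul]
      exact congrArg (fun e => ψ e x) (by group)
    have hci : c ^ i ≠ 1 := by
      intro h
      refine hbZ ⟨l, fun v => ?_⟩
      have h1 : ψ (b ^ i) (ψ g v) = ψ g v := by
        obtain ⟨x, hx, y, hy, hxy⟩ := hdec (ψ g v)
        rw [hxy, map_add, (hzp i x).1 hx, (hzp i y).2 hy, h, one_smul]
      have h2 := congrArg (ψ g⁻¹) (hgb v)
      rwa [h1, hinv, map_smul, hinv] at h2
    have hloc : ∀ (e : k) (v : V), ψ b v = e • v →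
        (l ≠ e → l * c ^ i = e → ψ g v ∈ Vc) ∧ (l * c ^ i ≠ e → ψ g v ∈ V₁) ∧
        (l ≠ e → l * c ^ i ≠ e → v = 0) := by
      intro e v hv
      obtain ⟨x, hx, y, hy, hxy⟩ := hdec (ψ g v)
      have h1 := hgb v
      rw [hv, map_smul, hxy, map_add, (hzp i x).1 hx, (hzp i y).2 hy, smul_add, smul_add,
        smul_smul] at h1
      have h2 : (e - l) • x + (e - l * c ^ i) • y = 0 := by
        rw [sub_smul, sub_smul]; linear_combination (norm := module) h1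
      have h3 := congrArg (ψ b) h2
      rw [map_add, map_smul, map_smul, (hmem1 x).mp hx, (hmemc y).mp hy, map_zero] at h3
      have h4 : (c - 1) • (e - l * c ^ i) • y = 0 := by
        linear_combination (norm := module) h3 - h2
      rw [smul_eq_zero, smul_eq_zero, sub_eq_zero, sub_eq_zero] at h4
      replace h4 := h4.resolve_left hc1
      have hy0 : l * c ^ i ≠ e → y = 0 := fun h => h4.resolve_left (Ne.symm h)
      have hx0 : l ≠ e → x = 0 := fun h => by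
        have h5 : (e - l) • x = 0 := by
          rcases h4 with h4 | h4
          · rwa [sub_eq_zero.mpr h4, zero_smul, add_zero] at h2
          · rwa [h4, smul_zero, add_zero] at h2
        exact (smul_eq_zero.mp h5).resolve_left (sub_ne_zero.mpr (Ne.symm h))
      refine ⟨fun h _ => by rw [hxy, hx0 h, zero_add]; exact hy,
        fun h => by rw [hxy, hy0 h, add_zero]; exact hx, fun h h' => ?_⟩
      have := hinv g v
      rw [hxy, hx0 h, hy0 h', add_zero, map_zero] at this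
      exact this.symm
    have hl1 : ∀ e : k, l = e → l * c ^ i ≠ e := fun e h h' => by
      subst h
      rcases eq_or_ne l 0 with hl0 | hl0
      · refine hT1 (LinearMap.ext fun v => ?_)
        have h2 := congrArg (ψ g⁻¹) (hgb v)
        rw [hl0, zero_smul, map_zero, hinv] at h2
        have h3 := congrArg (ψ b⁻¹) h2
        rw [hinv, map_zero] at h3
        simp [h3]
      · exact hci (mul_left_cancel₀ hl0 (by rw [h', mul_one]))
    obtain ⟨v₁, hv₁, hv₁0⟩ := hne1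
    obtain ⟨v₂, hv₂, hv₂0⟩ := hnec
    have e1 : ∀ v ∈ V₁, ψ b v = (1 : k) • v := fun v hv => by rw [one_smul]; exact (hmem1 v).mp hv
    have ec : ∀ v ∈ Vc, ψ b v = c • v := fun v hv => (hmemc v).mp hv
    rcases eq_or_ne l 1 with hl' | hl'
    · refine Or.inl ⟨fun v hv => (hloc 1 v (e1 v hv)).2.1 (hl1 1 hl'), fun v hv => ?_⟩
      have hne : l ≠ c := fun h => hc1 (h.symm.trans hl')
      refine (hloc c v (ec v hv)).1 hne ?_
      by_contra h
      exact hv₂0 ((hloc c v₂ (ec v₂ hv₂)).2.2 hne h)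
    · have h1 : l * c ^ i = 1 := by
        by_contra h
        exact hv₁0 ((hloc 1 v₁ (e1 v₁ hv₁)).2.2 hl' h)
      refine Or.inr ⟨fun v hv => (hloc 1 v (e1 v hv)).1 hl' h1,
        fun v hv => (hloc c v (ec v hv)).2.1 fun h => hc1 (h.symm.trans h1)⟩
  -- the stabilizer of the first eigenspace
  have hdisj : ∀ v ∈ V₁, v ∈ Vc → v = 0 := fun v h1 h2 => by
    have h3 : (c - 1) • v = 0 := by
      rw [sub_smul, one_smul, sub_eq_zero, ← (hmemc v).mp h2, (hmem1 v).mp h1]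
    exact (smul_eq_zero.mp h3).resolve_left (sub_ne_zero.mpr hc1)
  obtain ⟨v₁, hv₁, hv₁0⟩ := hne1
  obtain ⟨h₀, hh₀⟩ : ∃ h : G, ∀ v ∈ V₁, ψ h v ∈ Vc := by
    by_contra h
    push Not at h
    have hall : ∀ g, ∀ v ∈ V₁, ψ g v ∈ V₁ := fun g =>
      ((hperm g).resolve_right fun h' => by
        obtain ⟨v, hv, hv'⟩ := h g; exact hv' (h'.1 v hv)).1
    rcases hirr V₁ hall with h' | h'
    · exact hv₁0 (by rwa [h', Submodule.mem_bot] at hv₁)
    · obtain ⟨v₂, hv₂, hv₂0⟩ := hnec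
      exact hv₂0 (hdisj v₂ (h' ▸ Submodule.mem_top) hv₂)
  -- a `2`-element swapping them
  obtain ⟨h, hsw, a₂, hh2⟩ : ∃ h : G, ((∀ v ∈ V₁, ψ h v ∈ Vc) ∧ ∀ v ∈ Vc, ψ h v ∈ V₁) ∧
      ∃ a, h ^ 2 ^ a = 1 := by
    have hsw₀ : (∀ v ∈ V₁, ψ h₀ v ∈ Vc) ∧ ∀ v ∈ Vc, ψ h₀ v ∈ V₁ := (hperm h₀).resolve_left
      fun h' => hv₁0 (by
        have := hinv h₀ v₁
        rw [hdisj _ (h'.1 v₁ hv₁) (hh₀ v₁ hv₁), map_zero] at this
        exact this.symm)
    obtain ⟨a, m, hm, hn⟩ := Nat.exists_eq_pow_mul_and_not_dvd (orderOf_pos h₀).ne' 2 (by norm_num)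
    refine ⟨h₀ ^ m, ?_, a, by rw [← pow_mul, mul_comm, ← hn, pow_orderOf_eq_one]⟩
    have h2 : ∀ j : ℕ, (∀ v ∈ V₁, ψ (h₀ ^ (2 * j + 1)) v ∈ Vc) ∧
        ∀ v ∈ Vc, ψ (h₀ ^ (2 * j + 1)) v ∈ V₁ := by
      intro j
      induction j with
      | zero => simpa using hsw₀
      | succ j ih =>
        rw [show 2 * (j + 1) + 1 = 2 * j + 1 + 1 + 1 by ring]
        refine ⟨fun v hv => ?_, fun v hv => ?_⟩ <;>
          rw [pow_succ, pow_succ, map_mul, map_mul, Module.End.mul_apply, Module.End.mul_apply]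
        · exact ih.1 _ (hsw₀.2 _ (hsw₀.1 v hv))
        · exact ih.2 _ (hsw₀.1 _ (hsw₀.2 v hv))
    obtain ⟨j, rfl⟩ : ∃ j, m = 2 * j + 1 := ⟨m / 2, by omega⟩
    exact h2 j
  have hswap : ∀ (g : G) (v : V), (∃ a, ψ g ^ 2 ^ a = 1) → v ≠ 0 → ψ g v ≠ 0 →
      (v ∈ V₁ ∧ ψ g v ∈ Vc ∧ ψ g (ψ g v) ∈ V₁ ∨ v ∈ Vc ∧ ψ g v ∈ V₁ ∧ ψ g (ψ g v) ∈ Vc) →
      ψ g (ψ g v) = v := by
    rintro g v ⟨a, ha⟩ hv hgv hcase
    obtain ⟨u, ⟨a', hu⟩, hue⟩ := exists_primePart ψ Nat.prime_two ha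
    obtain ⟨d, hd⟩ := hA u 2 a' Nat.prime_two hu
    rw [hue] at hd
    have h1 : ψ g (ψ g v) + d • v = (1 + d) • ψ g v := by
      have := hd v
      rw [map_sub, smul_sub] at this
      rw [add_smul, one_smul]; linear_combination (norm := module) this
    have h2 : (1 + d) • ψ g v = 0 := by
      rcases hcase with ⟨a1, a2, a3⟩ | ⟨a1, a2, a3⟩
      · exact hdisj _ (h1 ▸ V₁.add_mem a3 (V₁.smul_mem d a1)) (Vc.smul_mem _ a2)
      · exact hdisj _ (V₁.smul_mem _ a2) (h1 ▸ Vc.add_mem a3 (Vc.smul_mem d a1))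
    have hd1 : d = -1 := by
      have := (smul_eq_zero.mp h2).resolve_right hgv
      linear_combination this
    rw [h2, hd1, neg_one_smul, ← sub_eq_add_neg, sub_eq_zero] at h1
    exact h1
  have hne0 : ∀ (g : G) (v : V), v ≠ 0 → ψ g v ≠ 0 := fun g v hv h' => hv (by
    have := hinv g v; rwa [h', map_zero, eq_comm] at this)
  have hh1 : ∀ v ∈ V₁, ψ h (ψ h v) = v := fun v hv => by
    rcases eq_or_ne v 0 with rfl | hv0
    · simp
    · exact hswap h v ⟨a₂, by rw [← map_pow, hh2, map_one]⟩ hv0 (hne0 h v hv0)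
        (Or.inl ⟨hv, hsw.1 v hv, hsw.2 _ (hsw.1 v hv)⟩)
  have hhc : ∀ v ∈ Vc, ψ h (ψ h v) = v := fun v hv => by
    rcases eq_or_ne v 0 with rfl | hv0
    · simp
    · exact hswap h v ⟨a₂, by rw [← map_pow, hh2, map_one]⟩ hv0 (hne0 h v hv0)
        (Or.inr ⟨hv, hsw.2 v hv, hsw.1 _ (hsw.2 v hv)⟩)
  have hext : ∀ T T' : Module.End k V, (∀ v ∈ V₁, T v = T' v) → (∀ v ∈ Vc, T v = T' v) → T = T' :=
    fun T T' e1 e2 => LinearMap.ext fun v => by
      obtain ⟨x, hx, y, hy, rfl⟩ := hdec v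
      rw [map_add, map_add, e1 x hx, e2 y hy]
  have hh1' : ∀ v, ψ h⁻¹ v = ψ h v := fun v => by
    obtain ⟨x, hx, y, hy, rfl⟩ := hdec v
    conv_lhs => rw [← hh1 x hx, ← hhc y hy]
    rw [map_add, hinv, hinv, map_add]
  -- `u = b * (h * b * h⁻¹)⁻¹`
  set u₀ := b * (h * b⁻¹ * h⁻¹) with hu₀
  have hu1 : ∀ v ∈ V₁, ψ u₀ v = c⁻¹ • v := fun v hv => by
    have hw := hsw.1 v hv
    rw [hu₀, map_mul, map_mul, map_mul, Module.End.mul_apply, Module.End.mul_apply,
      Module.End.mul_apply, hh1', ← zpow_neg_one, (hzp (-1) _).2 hw, zpow_neg_one, map_smul,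
      hh1 v hv, map_smul, (hmem1 v).mp hv]
  have huc : ∀ v ∈ Vc, ψ u₀ v = c • v := fun v hv => by
    have hw := hsw.2 v hv
    rw [hu₀, map_mul, map_mul, map_mul, Module.End.mul_apply, Module.End.mul_apply,
      Module.End.mul_apply, hh1', ← zpow_neg_one, (hzp (-1) _).1 hw, hhc v hv, (hmemc v).mp hv]
  have hcpow : c ^ s ^ a₀ = 1 := by
    obtain ⟨v₂, hv₂, hv₂0⟩ := hnec
    have h1 := (hzp ((s ^ a₀ : ℕ) : ℤ) v₂).2 hv₂
    rw [zpow_natCast, hbpow, map_one, Module.End.one_apply, zpow_natCast] at h1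
    have h2 : (c ^ s ^ a₀ - 1) • v₂ = 0 := by rw [sub_smul, one_smul, ← h1, sub_self]
    exact sub_eq_zero.mp ((smul_eq_zero.mp h2).resolve_right hv₂0)
  have hupow : ψ u₀ ^ s ^ a₀ = 1 := by
    have hp : ∀ (n : ℕ) (d : k) (v : V), ψ u₀ v = d • v → (ψ u₀ ^ n) v = d ^ n • v := by
      intro n d v hv
      induction n with
      | zero => simp
      | succ n ih => rw [pow_succ', Module.End.mul_apply, ih, map_smul, hv, smul_smul, pow_succ]
    refine hext _ _ (fun v hv => ?_) (fun v hv => ?_)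
    · rw [hp _ _ v (hu1 v hv), inv_pow, hcpow, inv_one, one_smul, Module.End.one_apply]
    · rw [hp _ _ v (huc v hv), hcpow, one_smul, Module.End.one_apply]
  obtain ⟨u, ⟨a', hu⟩, hue⟩ := exists_primePart ψ hs hupow
  obtain ⟨d, hd⟩ := hA u s a' hs hu
  rw [hue] at hd
  have hd1 : d = c⁻¹ := by
    have h1 := hd v₁
    rw [hu1 v₁ hv₁, map_sub, map_smul, hu1 v₁ hv₁] at h1
    have h2 : (c⁻¹ - d) • ((c⁻¹ - 1) • v₁) = 0 := by linear_combination (norm := module) h1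
    rw [smul_eq_zero, smul_eq_zero] at h2
    rcases h2 with h2 | h2 | h2
    · exact (sub_eq_zero.mp h2).symm
    · exact absurd (inv_eq_one.mp (sub_eq_zero.mp h2)) hc1
    · exact absurd h2 hv₁0
  have hd2 : d = c := by
    obtain ⟨v₂, hv₂, hv₂0⟩ := hnec
    have h1 := hd v₂
    rw [huc v₂ hv₂, map_sub, map_smul, huc v₂ hv₂] at h1
    have h2 : (c - d) • ((c - 1) • v₂) = 0 := by linear_combination (norm := module) h1
    rw [smul_eq_zero, smul_eq_zero] at h2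
    rcases h2 with h2 | h2 | h2
    · exact (sub_eq_zero.mp h2).symm
    · exact absurd (sub_eq_zero.mp h2) hc1
    · exact absurd h2 hv₂0
  have hc2 : c = -1 := by
    have h1 : c * c = 1 := by
      calc c * c = c * c⁻¹ := by rw [← hd1, hd2]
        _ = 1 := mul_inv_cancel₀ hc0
    exact (mul_self_eq_one_iff.mp h1).resolve_left hc1
  -- `w = h * b` has order four on `V`
  have hw1 : ∀ v ∈ V₁, ψ (h * b) (ψ (h * b) v) = -v := fun v hv => by
    simp only [map_mul, Module.End.mul_apply]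
    rw [(hmem1 v).mp hv, (hmemc _).mp (hsw.1 v hv), hc2, neg_one_smul, map_neg, hh1 v hv]
  have hwc : ∀ v ∈ Vc, ψ (h * b) (ψ (h * b) v) = -v := fun v hv => by
    simp only [map_mul, Module.End.mul_apply]
    rw [(hmemc v).mp hv, hc2, neg_one_smul, map_neg, map_neg,
      (hmem1 _).mp (hsw.2 v hv), map_neg, hhc v hv]
  have hw4 : ψ (h * b) ^ 2 ^ 2 = 1 := by
    have hsq : ∀ v, ψ (h * b) (ψ (h * b) v) = -v := fun v => by
      obtain ⟨x, hx, y, hy, rfl⟩ := hdec v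
      rw [map_add, map_add, hw1 x hx, hwc y hy, neg_add]
    refine LinearMap.ext fun v => ?_
    show ψ (h * b) (ψ (h * b) (ψ (h * b) (ψ (h * b) v))) = v
    rw [hsq, hsq, neg_neg]
  have key := hswap (h * b) v₁ ⟨2, hw4⟩ hv₁0 (hne0 _ v₁ hv₁0) (Or.inl ⟨hv₁, ?_, ?_⟩)
  · rw [hw1 v₁ hv₁] at key
    have h2 : (c - 1) • v₁ = 0 := by rw [hc2, sub_smul, neg_one_smul, one_smul, key, sub_self]
    exact hv₁0 ((smul_eq_zero.mp h2).resolve_left (sub_ne_zero.mpr hc1))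
  · rw [map_mul, Module.End.mul_apply, (hmem1 v₁).mp hv₁]; exact hsw.1 v₁ hv₁
  · rw [hw1 v₁ hv₁]; exact V₁.neg_mem hv₁

end Cfsg.Agent.Lib.LocalEven2.Homology
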