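import Cfsg.Prelude.Def_LocalEven
import Cfsg.Agent.Lib.Components.GenFitting
import Cfsg.Agent.Lib.Cores.Residual
import Cfsg.Agent.Lib.Cores.Frattini

/-!
# Isolated p-minimal subgroups: basic facts
-/

set_option autoImplicit false

namespace Cfsg.Agent.Lib.LocalEven2.Isolated

open Subgroup Cfsg.Agent.Lib

variable {G : Type*} [Group G] {p : ℕ}

/-- `p`-minimality only has to be checked at one Sylow `p`-subgroup. -/
theorem isPMinimal_of_one [Finite G] [Fact p.Prime] (S₀ : Sylow p G)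
    (hn : ¬ (S₀ : Subgroup G).Normal)
    (hu : ∃! M : Subgroup G, IsCoatom M ∧ (S₀ : Subgroup G) ≤ M) : IsPMinimal p G := by
  intro T
  obtain ⟨g, rfl⟩ := MulAction.exists_smul_eq G S₀ T
  set e : Subgroup G ≃o Subgroup G := (MulAut.conj g).mapSubgroup with he
  have hT : ((g • S₀ : Sylow p G) : Subgroup G) = e (S₀ : Subgroup G) := rfl
  refine ⟨fun hnor => ?_, ?_⟩
  · have h1 := hnor.map (MulAut.conj g⁻¹).toMonoidHom (MulAut.conj g⁻¹).surjective
    refine hn ?_
    convert h1 using 1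
    rw [hT]
    ext x
    simp [he, Subgroup.mem_map_equiv, mul_assoc]
  · obtain ⟨M, ⟨hM, hSM⟩, huniq⟩ := hu
    refine ⟨e M, ⟨(OrderIso.isCoatom_iff e M).mpr hM, by rw [hT]; exact e.monotone hSM⟩, ?_⟩
    rintro M' ⟨hM', hTM'⟩
    rw [hT] at hTM'
    have h := huniq (e.symm M') ⟨(OrderIso.isCoatom_iff e.symm M').mpr hM',
      by have := e.symm.monotone hTM'; rwa [OrderIso.symm_apply_apply] at this⟩
    rw [← h, OrderIso.apply_symm_apply]

/-- Every overgroup of a Sylow `p`-subgroup is generated by what it shares with `L` together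
with `P`, when `L` contains the normaliser and all other `p`-minimal overgroups. -/
theorem gen [Finite G] [Fact p.Prime] (S : Sylow p G) {P L : Subgroup G}
    (hN : normalizer ((S : Subgroup G) : Set G) ≤ L)
    (hQ : ∀ P' : Subgroup G, (S : Subgroup G) ≤ P' → IsPMinimal p ↥P' → P' ≠ P → P' ≤ L)
    (H : Subgroup G) (hSH : (S : Subgroup G) ≤ H) :
    (¬ P ≤ H → H ≤ L) ∧ H ≤ (H ⊓ L) ⊔ P := by
  suffices key : ∀ n, ∀ H : Subgroup G, Nat.card ↥H = n → (S : Subgroup G) ≤ H →
      (¬ P ≤ H → H ≤ L) ∧ H ≤ (H ⊓ L) ⊔ P from key _ H rfl hSH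
  intro n
  induction n using Nat.strong_induction_on with
  | _ n ih =>
    intro H hn hSH
    subst hn
    have triv : H ≤ L → (¬ P ≤ H → H ≤ L) ∧ H ≤ (H ⊓ L) ⊔ P := fun h =>
      ⟨fun _ => h, le_sup_of_le_left (le_inf le_rfl h)⟩
    set S' : Sylow p ↥H := S.subtype hSH with hS'
    by_cases hnor : ((S : Subgroup G).subgroupOf H).Normal
    · exact triv (le_trans ((normal_subgroupOf_iff_le_normalizer hSH).mp hnor) hN)
    have hne : (S : Subgroup G).subgroupOf H ≠ ⊤ := fun h => hnor (by rw [h]; infer_instance)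
    have : IsCoatomic (Subgroup ↥H) := Finite.to_isCoatomic
    obtain h | ⟨M₁, hM₁, hSM₁⟩ := eq_top_or_exists_le_coatom ((S : Subgroup G).subgroupOf H)
    · exact absurd h hne
    by_cases hu : ∀ M : Subgroup ↥H, IsCoatom M → (S : Subgroup G).subgroupOf H ≤ M → M = M₁
    · have hpm : IsPMinimal p ↥H := isPMinimal_of_one S' hnor
        ⟨M₁, ⟨hM₁, hSM₁⟩, fun M hM => hu M hM.1 hM.2⟩
      by_cases hHP : H = P
      · exact ⟨fun h => absurd hHP.ge h, hHP ▸ le_sup_right⟩
      · exact triv (hQ H hSH hpm hHP)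
    push Not at hu
    obtain ⟨M₂, hM₂, hSM₂, hne2⟩ := hu
    have small : ∀ M : Subgroup ↥H, IsCoatom M → (S : Subgroup G).subgroupOf H ≤ M →
        (¬ P ≤ M.map H.subtype → M.map H.subtype ≤ L) ∧
          M.map H.subtype ≤ (M.map H.subtype ⊓ L) ⊔ P := by
      intro M hM hSM
      refine ih (Nat.card ↥(M.map H.subtype)) ?_ _ rfl ?_
      · rw [Subgroup.card_map_of_injective H.subtype_injective]
        exact lt_of_le_of_ne (Nat.le_of_dvd Nat.card_pos (Subgroup.card_subgroup_dvd_card M))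
          fun h => hM.1 (Subgroup.eq_top_of_card_eq M h)
      · rw [← inf_eq_left.mpr hSH, ← subgroupOf_map_subtype]
        exact Subgroup.map_mono hSM
    have hsup : M₁ ⊔ M₂ = ⊤ := hM₁.sup_eq_top_of_ne hM₂ (Ne.symm hne2)
    have hH : H = M₁.map H.subtype ⊔ M₂.map H.subtype := by
      rw [← Subgroup.map_sup, hsup, ← MonoidHom.range_eq_map, H.range_subtype]
    have h1 := small M₁ hM₁ hSM₁
    have h2 := small M₂ hM₂ hSM₂
    have l1 : M₁.map H.subtype ≤ H := map_subtype_le M₁
    have l2 : M₂.map H.subtype ≤ H := map_subtype_le M₂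
    refine ⟨fun hPH => ?_, ?_⟩
    · rw [hH]
      exact sup_le (h1.1 fun h => hPH (h.trans l1)) (h2.1 fun h => hPH (h.trans l2))
    · conv_lhs => rw [hH]
      exact sup_le (h1.2.trans (sup_le_sup_right (inf_le_inf_right L l1) P))
        (h2.2.trans (sup_le_sup_right (inf_le_inf_right L l2) P))

/-- A `p`-subgroup of a normal subgroup `N` that is normalised by `N` lies in `O_p`. -/
theorem le_pCore_of_normalized {N Q : Subgroup G} [N.Normal] (hQN : Q ≤ N)
    (hQ : IsPGroup p ↥Q) (hn : N ≤ normalizer (Q : Set G)) : Q ≤ pCore p G := by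
  have hnor : (Q.subgroupOf N).Normal := (normal_subgroupOf_iff_le_normalizer hQN).mpr hn
  have h1 : Q.subgroupOf N ≤ pCore p ↥N :=
    Cores.le_pCore hnor (hQ.of_equiv (subgroupOfEquivOfLe hQN).symm)
  have h2 := (Subgroup.map_mono (f := N.subtype) h1).trans (Cores.map_subtype_pCore_le N)
  rwa [subgroupOf_map_subtype, inf_eq_left.mpr hQN] at h2

/-- `O_p(H)` as a subgroup of `G`. -/
abbrev coreIn (p : ℕ) (H : Subgroup G) : Subgroup G := (pCore p ↥H).map H.subtype

/-- `O^p(H)` as a subgroup of `G`. -/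
abbrev resIn (p : ℕ) (H : Subgroup G) : Subgroup G := (pResidual p ↥H).map H.subtype

section Setting

variable (S : Sylow p G) (P L : Subgroup G)

/-- The hypotheses shared by the statements on isolated `p`-minimal subgroups. -/
structure Isolated : Prop where
  sylow_le : (S : Subgroup G) ≤ P
  pmin : IsPMinimal p ↥P
  normalizer_le : normalizer ((S : Subgroup G) : Set G) ≤ L
  others_le : ∀ P' : Subgroup G, (S : Subgroup G) ≤ P' → IsPMinimal p ↥P' → P' ≠ P → P' ≤ L
  iso : ¬ (pCore p ↥L).map L.subtype ≤ (pCore p ↥P).map P.subtype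

theorem isolated_of_eq (hSP : (S : Subgroup G) ≤ P) (hPmin : IsPMinimal p ↥P)
    (hL : L = normalizer ((S : Subgroup G) : Set G) ⊔
      ⨆ P' : {P' : Subgroup G // (S : Subgroup G) ≤ P' ∧ IsPMinimal p ↥P' ∧ P' ≠ P},
        (P' : Subgroup G))
    (hiso : ¬ (pCore p ↥L).map L.subtype ≤ (pCore p ↥P).map P.subtype) :
    Isolated S P L where
  sylow_le := hSP
  pmin := hPmin
  normalizer_le := hL ▸ le_sup_left
  others_le P' h1 h2 h3 := by
    rw [hL]
    exact le_sup_of_le_right (le_iSup_of_le (⟨P', h1, h2, h3⟩ :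
      {P' : Subgroup G // (S : Subgroup G) ≤ P' ∧ IsPMinimal p ↥P' ∧ P' ≠ P}) le_rfl)
  iso := hiso

namespace Isolated

variable {S P L} (h : Isolated S P L)

include h

theorem sylow_le_L : (S : Subgroup G) ≤ L := le_normalizer.trans h.normalizer_le

theorem R_le_S : coreIn p L ≤ (S : Subgroup G) := by
  have h1 := Cores.pCore_le_sylow (S.subtype h.sylow_le_L)
  refine (Subgroup.map_mono h1).trans ?_
  intro x hx
  obtain ⟨y, hy, rfl⟩ := hx
  exact hy

theorem L_le_normalizer_R : L ≤ normalizer ((coreIn p L : Subgroup G) : Set G) := by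
  refine le_normalizer_iff.mpr ?_
  rintro l hl _ ⟨k, hk, rfl⟩
  exact ⟨⟨l, hl⟩ * k * ⟨l, hl⟩⁻¹, (pCore_normal p ↥L).conj_mem k hk _, rfl⟩

theorem le_pCore_P {K : Subgroup G} (hKS : K ≤ (S : Subgroup G))
    (hn : P ≤ normalizer (K : Set G)) : K ≤ (pCore p ↥P).map P.subtype := by
  have hKP : K ≤ P := hKS.trans h.sylow_le
  have h1 : K.subgroupOf P ≤ pCore p ↥P :=
    Cores.le_pCore ((normal_subgroupOf_iff_le_normalizer hKP).mpr hn)
      ((S.isPGroup'.to_le hKS).of_equiv (subgroupOfEquivOfLe hKP).symm)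
  have h2 := Subgroup.map_mono (f := P.subtype) h1
  rwa [subgroupOf_map_subtype, inf_eq_left.mpr hKP] at h2

theorem not_normalizes {K : Subgroup G} (hRK : coreIn p L ≤ K) (hKS : K ≤ (S : Subgroup G)) :
    ¬ P ≤ normalizer (K : Set G) := fun hn => h.iso (hRK.trans (h.le_pCore_P hKS hn))

theorem not_le_L : ¬ P ≤ L := fun hPL =>
  h.not_normalizes le_rfl h.R_le_S (hPL.trans h.L_le_normalizer_R)

theorem not_R_le_pCore : ¬ coreIn p L ≤ pCore p G := fun hR =>
  h.not_normalizes hR (Cores.pCore_le_sylow S) le_normalizer_of_normal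

variable [Finite G] [Fact p.Prime]

theorem genL (H : Subgroup G) (hSH : (S : Subgroup G) ≤ H) :
    (¬ P ≤ H → H ≤ L) ∧ H ≤ (H ⊓ L) ⊔ P :=
  gen S h.normalizer_le h.others_le H hSH

theorem residual_sup_sylow : resIn p P ⊔ (S : Subgroup G) = P := by
  have h1 := congrArg (Subgroup.map P.subtype)
    (Cores.sylow_sup_pResidual (S.subtype h.sylow_le))
  rw [Subgroup.map_sup, ← MonoidHom.range_eq_map, P.range_subtype, sup_comm] at h1
  refine le_antisymm (sup_le (map_subtype_le _) h.sylow_le) (h1.symm.le.trans ?_)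
  refine sup_le_sup_left ?_ _
  rintro _ ⟨y, hy, rfl⟩
  exact hy

theorem residual_le_of_le_sup {N : Subgroup G} [N.Normal] (hP : P ≤ N ⊔ (S : Subgroup G)) :
    resIn p P ≤ N := by
  have h1 : pResidual p ↥P ≤ N.subgroupOf P := by
    refine Cores.pResidual_le ?_
    intro x
    induction x using QuotientGroup.induction_on with
    | _ x =>
      obtain ⟨n, hn, s, hs, hx⟩ := mem_sup_of_normal_left.mp (hP x.2)
      obtain ⟨k, hk⟩ := S.isPGroup' ⟨s, hs⟩
      refine ⟨k, ?_⟩
      rw [← QuotientGroup.mk_pow, QuotientGroup.eq_one_iff, mem_subgroupOf]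
      have hk' : s ^ p ^ k = 1 := by simpa using congrArg Subtype.val hk
      have hq : QuotientGroup.mk' N ((x : G) ^ p ^ k) = 1 := by
        rw [← hx, map_pow, map_mul, (show QuotientGroup.mk' N n = 1 from
          (QuotientGroup.eq_one_iff n).mpr hn), one_mul, ← map_pow, hk', map_one]
      simpa using (QuotientGroup.eq_one_iff _).mp hq
  have h2 := Subgroup.map_mono (f := P.subtype) h1
  rw [subgroupOf_map_subtype] at h2
  exact h2.trans inf_le_left

theorem residual_not_le_L : ¬ resIn p P ≤ L := fun hle =>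
  h.not_le_L (h.residual_sup_sylow.ge.trans (sup_le hle h.sylow_le_L))

theorem residual_not_le_pCore : ¬ resIn p P ≤ pCore p G := fun hle =>
  h.residual_not_le_L (hle.trans ((Cores.pCore_le_sylow S).trans h.sylow_le_L))

/-- A normal subgroup of `G` not containing `O^p(P)` lies in `L`. -/
theorem normal_le_L {N : Subgroup G} [N.Normal] (hN : ¬ resIn p P ≤ N) : N ≤ L :=
  le_sup_left.trans ((h.genL (N ⊔ (S : Subgroup G)) le_sup_right).1
    fun hP => hN (h.residual_le_of_le_sup hP))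

end Isolated

end Setting

end Cfsg.Agent.Lib.LocalEven2.Isolated
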