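import Cfsg.Agent.Lib.LocalEven2.IsolatedBase
import Cfsg.Agent.Lib.Characters.Kazarin
import Cfsg.Agent.Lib.Coprime.Action
import Cfsg.Agent.Lib.Cores.Fitting

/-!
# Isolated p-minimal subgroups: the non-solvable case

In a group `X` with trivial `O_p`, the normal closure of the image of `O^p(P)` is generated by
components permuted transitively by the Sylow subgroup, and its order is divisible by `p`.
-/

set_option autoImplicit false

namespace Cfsg.Agent.Lib.LocalEven2.Isolated

open Subgroup Cfsg.Agent.Lib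
open scoped commutatorElement

universe u

variable {X : Type u} [Group X]

theorem map_conj_mem_le {A N : Subgroup X}
    (h : ∀ a ∈ A, N.map (MulAut.conj a).toMonoidHom ≤ N) : A ≤ normalizer (N : Set X) :=
  le_normalizer_iff.mpr fun a ha k hk => h a ha ⟨k, hk, rfl⟩

theorem le_normalizer_sSup_components {A : Subgroup X} (q : Subgroup X → Prop)
    (h : ∀ a ∈ A, ∀ K : Subgroup X, IsComponent K → q K →
      q (K.map (MulAut.conj a).toMonoidHom)) :
    A ≤ normalizer ((sSup {K | IsComponent K ∧ q K} : Subgroup X) : Set X) := by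
  refine map_conj_mem_le fun a ha => ?_
  rw [map_le_iff_le_comap]
  refine sSup_le fun K hK => ?_
  rw [← map_le_iff_le_comap]
  exact le_sSup ⟨Components.IsComponent.map_conj hK.1 a, h a ha K hK.1 hK.2⟩

theorem isSubnormal_of_le_layer {N : Subgroup X} (h : N ≤ layer X)
    (hn : layer X ≤ normalizer (N : Set X)) : N.IsSubnormal :=
  Subgroup.IsSubnormal.step N (layer X) h (Components.layer_normal (G := X)).isSubnormal
    ((normal_subgroupOf_iff_le_normalizer h).mpr hn)

theorem isSubnormal_sSup_components [Finite X] (q : Subgroup X → Prop) :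
    (sSup {K | IsComponent K ∧ q K} : Subgroup X).IsSubnormal :=
  isSubnormal_of_le_layer (sSup_le fun _ hK => Components.IsComponent.le_layer hK.1)
    (Components.layer_le_normalizer_sSup q)

theorem conj_map_map (K : Subgroup X) (a b : X) :
    (K.map (MulAut.conj b).toMonoidHom).map (MulAut.conj a).toMonoidHom =
      K.map (MulAut.conj (a * b)).toMonoidHom := by
  rw [Subgroup.map_map]
  congr 1
  ext x
  simp [mul_assoc]

theorem conj_map_one (K : Subgroup X) : K.map (MulAut.conj (1 : X)).toMonoidHom = K := by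
  ext x
  simp [Subgroup.mem_map]

theorem centralizes_map_iff {R K : Subgroup X} {a : X} (ha : a ∈ normalizer (R : Set X)) :
    K.map (MulAut.conj a).toMonoidHom ≤ centralizer (R : Set X) ↔
      K ≤ centralizer (R : Set X) := by
  rw [← commutator_eq_bot_iff_le_centralizer, ← commutator_eq_bot_iff_le_centralizer]
  conv_lhs => rw [← mem_normalizer_iff_map_conj_eq.mp ha]
  rw [show (Subgroup.map ((MulAut.conj a) : X →* X) R) =
    R.map (MulAut.conj a).toMonoidHom from rfl, ← map_commutator]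
  exact map_eq_bot_iff_of_injective _ (MulAut.conj a).injective

variable [Finite X] {p : ℕ} [Fact p.Prime]

/-- The hypotheses in the quotient by `O_p`. -/
structure Layered (Sb Pb Lb Rb D : Subgroup X) (p : ℕ) : Prop where
  pgroup : IsPGroup p ↥Sb
  S_le_L : Sb ≤ Lb
  R_le_S : Rb ≤ Sb
  L_norm_R : Lb ≤ normalizer (Rb : Set X)
  gen : ∀ H : Subgroup X, Sb ≤ H → (¬ Pb ≤ H → H ≤ Lb) ∧ H ≤ (H ⊓ Lb) ⊔ Pb
  sup_eq : D ⊔ Sb = Pb
  res : ∀ N : Subgroup X, Sb ≤ normalizer (N : Set X) → Pb ≤ N ⊔ Sb → D ≤ N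
  not_norm : ¬ Pb ≤ normalizer (Rb : Set X)
  core : pCore p X = ⊥
  le_layer : D ≤ layer X
  not_fitting : ¬ D ≤ fittingSubgroup X
  not_solvable : ¬ Group.IsSolvable ↥(normalClosure (D : Set X))

namespace Layered

variable {Sb Pb Lb Rb D : Subgroup X} (h : Layered Sb Pb Lb Rb D p)

include h

omit [Finite X] [Fact p.Prime] in
theorem dichotomy (U : Subgroup X) (hU : Sb ≤ normalizer (U : Set X)) : D ≤ U ∨ U ≤ Lb := by
  by_cases hP : Pb ≤ U ⊔ Sb
  · exact Or.inl (h.res U hU hP)
  · exact Or.inr (le_sup_left.trans ((h.gen _ le_sup_right).1 hP))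

omit [Fact p.Prime] in
theorem le_centralizer (U : Subgroup X) (hsn : U.IsSubnormal)
    (hU : Sb ≤ normalizer (U : Set X)) (hL : U ≤ Lb) : U ≤ centralizer (Rb : Set X) := by
  set Q := Rb ⊓ U with hQ
  have hQn : U ≤ normalizer (Q : Set X) :=
    (le_inf (hL.trans h.L_norm_R) le_normalizer).trans inf_normalizer_le_normalizer_inf
  have hQbot : Q = ⊥ := by
    have h1 : Q.subgroupOf U ≤ pCore p ↥U :=
      Cores.le_pCore ((normal_subgroupOf_iff_le_normalizer inf_le_right).mpr hQn)
        ((h.pgroup.to_le (inf_le_left.trans h.R_le_S)).of_equiv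
          (subgroupOfEquivOfLe inf_le_right).symm)
    have h2 := (Subgroup.map_mono (f := U.subtype) h1).trans
      (Cores.map_subtype_pCore_le_of_isSubnormal hsn)
    rw [subgroupOf_map_subtype, h.core, le_bot_iff] at h2
    rwa [inf_eq_left.mpr inf_le_right] at h2
  rw [← commutator_eq_bot_iff_le_centralizer, eq_bot_iff, ← hQbot, commutator_le]
  intro u hu r hr
  refine mem_inf.mpr ⟨mul_mem ((le_normalizer_iff.mp (hL.trans h.L_norm_R)) u hu r hr) (inv_mem hr), ?_⟩
  rw [commutatorElement_def, mul_assoc, mul_assoc, ← mul_assoc r]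
  exact mul_mem hu ((le_normalizer_iff.mp (h.R_le_S.trans hU)) r hr _ (inv_mem hu))

omit [Finite X] [Fact p.Prime] in
theorem exists_moved : ∃ K : Subgroup X, IsComponent K ∧ ¬ K ≤ centralizer (Rb : Set X) := by
  by_contra hcon
  push Not at hcon
  have h1 : layer X ≤ centralizer (Rb : Set X) := Components.layer_le_iff.mpr hcon
  refine h.not_norm (h.sup_eq ▸ sup_le ?_ (h.S_le_L.trans h.L_norm_R))
  exact (h.le_layer.trans h1).trans (centralizer_le_normalizer _)

omit [Fact p.Prime] in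
theorem le_orbit {K : Subgroup X} (hK : IsComponent K) (hKR : ¬ K ≤ centralizer (Rb : Set X)) :
    D ≤ sSup {K' : Subgroup X | IsComponent K' ∧
      ∃ s ∈ Sb, K' = K.map (MulAut.conj s).toMonoidHom} := by
  have hn : Sb ≤ normalizer ((sSup {K' : Subgroup X | IsComponent K' ∧
      ∃ s ∈ Sb, K' = K.map (MulAut.conj s).toMonoidHom} : Subgroup X) : Set X) := by
    refine le_normalizer_sSup_components _ fun a ha K' _ => ?_
    rintro ⟨s, hs, rfl⟩
    exact ⟨a * s, mul_mem ha hs, conj_map_map K a s⟩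
  refine (h.dichotomy _ hn).resolve_right fun hL => hKR ?_
  refine le_trans ?_ (h.le_centralizer _ (isSubnormal_sSup_components _) hn hL)
  exact le_sSup ⟨hK, 1, one_mem _, (conj_map_one K).symm⟩

omit [Fact p.Prime] in
theorem transitive {K₁ K₂ : Subgroup X} (h₁ : IsComponent K₁)
    (h₁R : ¬ K₁ ≤ centralizer (Rb : Set X)) (h₂ : IsComponent K₂)
    (h₂R : ¬ K₂ ≤ centralizer (Rb : Set X)) :
    ∃ s ∈ Sb, K₂ = K₁.map (MulAut.conj s).toMonoidHom := by
  by_contra hcon
  set q₁ : Subgroup X → Prop := fun K' => ∃ s ∈ Sb, K' = K₁.map (MulAut.conj s).toMonoidHom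
  set q₂ : Subgroup X → Prop := fun K' => ∃ s ∈ Sb, K' = K₂.map (MulAut.conj s).toMonoidHom
  set N₁ := sSup {K' : Subgroup X | IsComponent K' ∧ q₁ K'}
  set N₂ := sSup {K' : Subgroup X | IsComponent K' ∧ q₂ K'}
  have hcomm : ⁅N₁, N₂⁆ = ⊥ := by
    refine Components.commutator_sSup_eq_bot fun B hB => ?_
    rw [commutator_comm]
    refine Components.commutator_sSup_eq_bot fun A hA => ?_
    refine Components.IsComponent.commutator_eq_bot_of_ne hB.1 hA.1 fun hBA => hcon ?_
    obtain ⟨-, s, hs, rfl⟩ := hA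
    obtain ⟨-, s', hs', rfl⟩ := hB
    refine ⟨s'⁻¹ * s, mul_mem (inv_mem hs') hs, ?_⟩
    rw [← conj_map_map, ← hBA, conj_map_map, inv_mul_cancel, conj_map_one]
  have hMn : layer X ≤ normalizer ((N₁ ⊓ N₂ : Subgroup X) : Set X) :=
    (le_inf (Components.layer_le_normalizer_sSup q₁) (Components.layer_le_normalizer_sSup q₂)).trans
      inf_normalizer_le_normalizer_inf
  have hMsn : (N₁ ⊓ N₂).IsSubnormal :=
    isSubnormal_of_le_layer
      (inf_le_left.trans (sSup_le fun _ hK => Components.IsComponent.le_layer hK.1)) hMn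
  have hMcomm : IsMulCommutative ↥(N₁ ⊓ N₂) := ⟨⟨fun a b => Subtype.ext
    (Components.commute_of_commutator_eq_bot hcomm a.2.1 b.2.2)⟩⟩
  exact h.not_fitting ((le_inf (h.le_orbit h₁ h₁R) (h.le_orbit h₂ h₂R)).trans
    (Cores.le_fittingSubgroup_of_isSubnormal hMsn
      (Components.isNilpotent_of_isMulCommutative hMcomm)))

theorem closure_eq :
    normalClosure (D : Set X) =
      sSup {K : Subgroup X | IsComponent K ∧ ¬ K ≤ centralizer (Rb : Set X)} := by
  set q : Subgroup X → Prop := fun K => ¬ K ≤ centralizer (Rb : Set X) with hq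
  set N := sSup {K : Subgroup X | IsComponent K ∧ q K} with hN
  obtain ⟨K₀, hK₀, hK₀R⟩ := h.exists_moved
  have hDN : D ≤ N := (h.le_orbit hK₀ hK₀R).trans (sSup_le_sSup (by
    rintro K' ⟨hK', s, hs, rfl⟩
    exact ⟨hK', fun hc => hK₀R ((centralizes_map_iff (h.L_norm_R (h.S_le_L hs))).mp hc)⟩))
  have hLN : Lb ≤ normalizer (N : Set X) :=
    le_normalizer_sSup_components q fun a ha K _ hK hc =>
      hK ((centralizes_map_iff (h.L_norm_R ha)).mp hc)
  have hnor : N.Normal := by
    rw [← normalizer_eq_top_iff, eq_top_iff]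
    refine ((h.gen ⊤ le_top).2).trans (sup_le (inf_le_right.trans hLN) ?_)
    exact h.sup_eq ▸ sup_le (hDN.trans le_normalizer) (h.S_le_L.trans hLN)
  set Y := normalClosure (D : Set X) with hY
  have hYN : Y ≤ N := normalClosure_le_normal hDN
  refine le_antisymm hYN ?_
  have hex : ∃ K, IsComponent K ∧ q K ∧ K ≤ Y := by
    by_contra hcon
    push Not at hcon
    have hc : ⁅Y, N⁆ = ⊥ := Components.commutator_sSup_eq_bot fun K hK => by
      rw [commutator_comm]
      exact (Components.IsComponent.le_or_commutator_eq_bot hK.1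
        (normalClosure_normal (s := (D : Set X))).isSubnormal).resolve_left
          (hcon K hK.1 hK.2)
    have hcomm : IsMulCommutative ↥Y := ⟨⟨fun a b => Subtype.ext
      (Components.commute_of_commutator_eq_bot hc a.2 (hYN b.2))⟩⟩
    have := Components.isNilpotent_of_isMulCommutative hcomm
    exact h.not_solvable inferInstance
  obtain ⟨K, hK, hKq, hKY⟩ := hex
  refine sSup_le fun K' hK' => ?_
  obtain ⟨s, -, rfl⟩ := h.transitive hK hKq hK'.1 hK'.2
  rw [map_le_iff_le_comap]
  intro x hx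
  exact (normalClosure_normal (s := (D : Set X))).conj_mem x (hKY hx) s

theorem component_iff {K : Subgroup X} (hK : IsComponent K) :
    K ≤ normalClosure (D : Set X) ↔ ¬ K ≤ centralizer (Rb : Set X) := by
  rw [h.closure_eq]
  refine ⟨fun hle hc => ?_, fun hq => le_sSup ⟨hK, hq⟩⟩
  have h0 : ⁅K, sSup {K : Subgroup X | IsComponent K ∧ ¬ K ≤ centralizer (Rb : Set X)}⁆ = ⊥ :=
    Components.commutator_sSup_eq_bot fun K' hK' =>
      Components.IsComponent.commutator_eq_bot_of_ne hK hK'.1 fun he => hK'.2 (he ▸ hc)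
  refine Components.IsComponent.ne_bot hK ?_
  rw [← Components.IsComponent.commutator_self hK, eq_bot_iff, ← h0]
  exact commutator_mono le_rfl hle

theorem layer_closure : layer ↥(normalClosure (D : Set X)) = ⊤ := by
  apply Subgroup.map_injective (Subgroup.subtype_injective _)
  rw [Components.map_layer_subtype (normalClosure_normal (s := (D : Set X))).isSubnormal,
    ← MonoidHom.range_eq_map, range_subtype]
  refine le_antisymm (sSup_le fun K hK => hK.2) (h.closure_eq.le.trans (sSup_le ?_))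
  intro K hK
  exact le_sSup ⟨hK.1, (h.component_iff hK.1).mpr hK.2⟩

theorem dvd_card_closure : p ∣ Nat.card ↥(normalClosure (D : Set X)) := by
  by_contra hp
  set Y := normalClosure (D : Set X) with hY
  haveI hYn : Y.Normal := normalClosure_normal
  have hcop : (Nat.card ↥Sb).Coprime (Nat.card ↥Y) := by
    obtain ⟨k, hk⟩ := IsPGroup.iff_card.mp h.pgroup
    rw [hk]
    exact (((Fact.out : p.Prime).coprime_iff_not_dvd).mpr hp).pow_left k
  have hsolS : Group.IsSolvable ↥Sb := by
    haveI := h.pgroup.isNilpotent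
    infer_instance
  -- an invariant Sylow subgroup contains `D` or is centralised by `Rb`
  have hsyl : ∀ v : ℕ, v.Prime → ∃ U : Subgroup X, U ≤ Y ∧ IsPGroup v ↥U ∧
      ¬ v ∣ (U.subgroupOf Y).index ∧ (D ≤ U ∨ U ≤ centralizer (Rb : Set X)) := by
    intro v hv
    haveI := Fact.mk hv
    obtain ⟨Q, hQ⟩ := Coprime.exists_invariant_sylow (K := Y) le_normalizer_of_normal hcop
      (Or.inl hsolS) v
    refine ⟨(Q : Subgroup ↥Y).map Y.subtype, map_subtype_le _, Q.isPGroup'.map _, ?_, ?_⟩
    · rw [subgroupOf, comap_map_eq_self_of_injective Y.subtype_injective]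
      exact Q.not_dvd_index
    refine (h.dichotomy _ hQ).imp id fun hL => ?_
    rw [← commutator_eq_bot_iff_le_centralizer, eq_bot_iff, commutator_le]
    intro a ha r hr
    have h1 : ⁅a, r⁆ ∈ Rb :=
      mul_mem ((le_normalizer_iff.mp (hL.trans h.L_norm_R)) a ha r hr) (inv_mem hr)
    have h2 : ⁅a, r⁆ ∈ Y := by
      rw [commutatorElement_def, mul_assoc, mul_assoc, ← mul_assoc r]
      exact mul_mem (map_subtype_le _ ha) (hYn.conj_mem _ (inv_mem (map_subtype_le _ ha)) r)
    rw [mem_bot, ← orderOf_eq_one_iff]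
    exact Nat.eq_one_of_dvd_coprimes hcop
      ((Subgroup.orderOf_dvd_natCard (s := Sb) (h.R_le_S h1)))
      (Subgroup.orderOf_dvd_natCard (s := Y) h2)
  have hex : ∃ t : ℕ, t.Prime ∧ ∀ v : ℕ, v.Prime → v ≠ t → ∃ U : Subgroup X, U ≤ Y ∧
      ¬ v ∣ (U.subgroupOf Y).index ∧ U ≤ centralizer (Rb : Set X) := by
    by_cases hD : ∃ t : ℕ, t.Prime ∧ ∃ U : Subgroup X, IsPGroup t ↥U ∧ D ≤ U
    · obtain ⟨t, ht, U₀, hU₀, hDU₀⟩ := hD
      refine ⟨t, ht, fun v hv hvt => ?_⟩
      haveI := Fact.mk hv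
      haveI := Fact.mk ht
      obtain ⟨U, hUY, hUv, hUi, hU⟩ := hsyl v hv
      refine ⟨U, hUY, hUi, hU.resolve_left fun hDU => h.not_fitting ?_⟩
      exact (le_trans (le_inf hDU hDU₀)
        (disjoint_iff.mp (IsPGroup.disjoint_of_ne v t hvt U U₀ hUv hU₀)).le).trans bot_le
    · refine ⟨2, Nat.prime_two, fun v hv _ => ?_⟩
      obtain ⟨U, hUY, hUv, hUi, hU⟩ := hsyl v hv
      exact ⟨U, hUY, hUi, hU.resolve_left fun hDU => hD ⟨v, hv, U, hUv, hDU⟩⟩
  obtain ⟨t, ht, ht'⟩ := hex
  obtain ⟨K₀, hK₀, hK₀R⟩ := h.exists_moved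
  have hr : ∃ r ∈ Rb, ¬ Y ≤ centralizer ({r} : Set X) := by
    by_contra hcon
    push Not at hcon
    refine hK₀R (((h.component_iff hK₀).mpr hK₀R).trans ?_)
    intro y hy
    rw [mem_centralizer_iff]
    intro r hr
    exact (mem_centralizer_singleton_iff.mp (hcon r hr hy)).symm
  obtain ⟨r, hrR, hrY⟩ := hr
  set C := centralizer ({r} : Set X) with hC
  -- the index of the centraliser is a power of `t`
  have hind : ∀ v : ℕ, v.Prime → v ≠ t → ¬ v ∣ (C ⊓ Y).relIndex Y := by
    intro v hv hvt hd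
    obtain ⟨U, hUY, hUi, hUR⟩ := ht' v hv hvt
    refine hUi (hd.trans ?_)
    have hUC : U ≤ C ⊓ Y := le_inf (fun y hy => mem_centralizer_singleton_iff.mpr
      ((mem_centralizer_iff.mp (hUR hy)) r hrR).symm) hUY
    exact relIndex_dvd_of_le_left Y hUC
  obtain ⟨a, ha⟩ : ∃ a, (C ⊓ Y).relIndex Y = t ^ a :=
    ⟨_, Nat.eq_prime_pow_of_unique_prime_dvd
      (by rw [relIndex]; exact index_ne_zero_of_finite)
      fun {d} hd hd' => by_contra fun hne => hind d hd hne hd'⟩
  -- apply Kazarin in `Y ⊔ ⟨r⟩`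
  set H := Y ⊔ zpowers r with hH
  have hrH : r ∈ H := mem_sup_right (mem_zpowers r)
  have hCH : centralizer ({(⟨r, hrH⟩ : ↥H)} : Set ↥H) = C.subgroupOf H := by
    ext n
    rw [mem_subgroupOf, mem_centralizer_singleton_iff, mem_centralizer_singleton_iff]
    exact ⟨fun h => congrArg Subtype.val h, fun h => Subtype.ext h⟩
  have hidx : (centralizer ({(⟨r, hrH⟩ : ↥H)} : Set ↥H)).index = t ^ a := by
    rw [hCH, ← relIndex, ← inf_relIndex_right C H, ← ha]
    set C' := C ⊓ H with hC'
    have hsup : Y ⊔ C' = H := le_antisymm (sup_le le_sup_left inf_le_right)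
      (sup_le le_sup_left (le_sup_of_le_right (zpowers_le.mpr
        ⟨mem_centralizer_singleton_iff.mpr rfl, hrH⟩)))
    have e1 : (Y ⊓ C') = C ⊓ Y := by
      rw [hC', inf_comm C H, ← inf_assoc, inf_eq_left.mpr (le_sup_left : Y ≤ H), inf_comm]
    have e2 : (Y ⊓ C').relIndex Y * Y.relIndex H = (Y ⊓ C').relIndex C' * C'.relIndex H := by
      rw [relIndex_mul_relIndex _ _ _ inf_le_left le_sup_left,
        relIndex_mul_relIndex _ _ _ inf_le_right inf_le_right]
    have e3 : (Y ⊓ C').relIndex C' = Y.relIndex H := by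
      rw [inf_relIndex_right, ← hsup, sup_comm, relIndex_sup_right]
    rw [e3, e1, mul_comm ((C ⊓ Y).relIndex Y)] at e2
    exact (Nat.eq_of_mul_eq_mul_left (Nat.pos_of_ne_zero (by
      rw [relIndex]; exact index_ne_zero_of_finite)) e2).symm
  have hsol := Characters.isSolvable_normalClosure_of_index_primePow _ ht hidx
  set M := (normalClosure ({(⟨r, hrH⟩ : ↥H)} : Set ↥H)).map H.subtype with hM
  haveI hMs : Group.IsSolvable ↥M :=
    Group.isSolvable_of_surjective (H.subtype.subgroupMap_surjective _)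
  have hrM : r ∈ M := ⟨⟨r, hrH⟩, subset_normalClosure rfl, rfl⟩
  have hHM : H ≤ normalizer (M : Set X) := by
    refine le_normalizer_iff.mpr ?_
    rintro g hg _ ⟨k, hk, rfl⟩
    exact ⟨⟨g, hg⟩ * k * ⟨g, hg⟩⁻¹, normalClosure_normal.conj_mem k hk _, rfl⟩
  have hYM : Y ≤ normalizer ((M ⊓ Y : Subgroup X) : Set X) :=
    (le_inf (le_sup_left.trans hHM) le_normalizer).trans inf_normalizer_le_normalizer_inf
  have hM0 : ⁅Y, M ⊓ Y⁆ = ⊥ := by
    haveI : ((M ⊓ Y).subgroupOf Y).Normal :=
      (normal_subgroupOf_iff_le_normalizer inf_le_right).mpr hYM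
    have h1 := Components.commutator_layer_eq_bot_of_solvable (G := ↥Y)
      (H := (M ⊓ Y).subgroupOf Y)
      (by
        have h2 := Components.isSolvable_of_le (inf_le_left : M ⊓ Y ≤ M) hMs
        exact Group.isSolvable_of_surjective
          (f := (subgroupOfEquivOfLe (inf_le_right : M ⊓ Y ≤ Y)).symm.toMonoidHom)
          (MulEquiv.surjective _))
    rw [h.layer_closure] at h1
    have h3 := congrArg (Subgroup.map Y.subtype) h1
    rwa [Subgroup.map_commutator, ← MonoidHom.range_eq_map, range_subtype,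
      map_subgroupOf_eq_of_le inf_le_right, Subgroup.map_bot] at h3
  have hYr : ⁅Y, zpowers r⁆ ≤ M ⊓ Y := by
    rw [commutator_le]
    intro y hy z hz
    have hzM : z ∈ M := zpowers_le.mpr hrM hz
    refine mem_inf.mpr ⟨mul_mem ((le_normalizer_iff.mp hHM) y (mem_sup_left hy) z hzM) (inv_mem hzM), ?_⟩
    rw [commutatorElement_def, mul_assoc, mul_assoc, ← mul_assoc z]
    exact mul_mem hy (hYn.conj_mem _ (inv_mem hy) z)
  have hperf : ⁅Y, Y⁆ = Y := by
    have h1 := Components.layer_commutator_self ↥Y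
    rw [h.layer_closure] at h1
    have h3 := congrArg (Subgroup.map Y.subtype) h1
    rwa [Subgroup.map_commutator, ← MonoidHom.range_eq_map, range_subtype] at h3
  have h3s : ⁅⁅Y, Y⁆, zpowers r⁆ = ⊥ := by
    refine commutator_commutator_eq_bot_of_rotate ?_ ?_
    · rw [eq_bot_iff, ← hM0, commutator_comm Y (M ⊓ Y)]
      exact commutator_mono hYr le_rfl
    · rw [eq_bot_iff, ← hM0, commutator_comm Y (M ⊓ Y), commutator_comm (zpowers r) Y]
      exact commutator_mono hYr le_rfl
  rw [hperf, commutator_eq_bot_iff_le_centralizer] at h3s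
  exact hrY fun y hy => mem_centralizer_singleton_iff.mpr
    ((mem_centralizer_iff.mp (h3s hy)) r (mem_zpowers r)).symm

end Layered

end Cfsg.Agent.Lib.LocalEven2.Isolated
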