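import Cfsg.Agent.Lib.LocalEven2.IsolatedSolvable
import Cfsg.Agent.Lib.LocalEven2.IsolatedLayer

/-!
# Isolated p-minimal subgroups: the normal closure of the residual
-/

set_option autoImplicit false

namespace Cfsg.Agent.Lib.LocalEven2.Isolated

open Subgroup Cfsg.Agent.Lib
open scoped commutatorElement

variable {G : Type*} [Group G] {p : ℕ} [Finite G] [Fact p.Prime]
  {S : Sylow p G} {P L : Subgroup G}

namespace Isolated

variable (h : Isolated S P L)

include h

theorem residual_le_of_le_sup' {M : Subgroup G}
    (hM : (S : Subgroup G) ≤ normalizer (M : Set G)) (hP : P ≤ M ⊔ (S : Subgroup G)) :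
    resIn p P ≤ M := by
  have hn : (M.subgroupOf P).Normal := by
    refine ⟨fun m hm x => ?_⟩
    exact (le_normalizer_iff.mp (hP.trans (sup_le le_normalizer hM))) x x.2 m hm
  have h1 : pResidual p ↥P ≤ M.subgroupOf P := by
    refine Cores.pResidual_le ?_
    intro x
    induction x using QuotientGroup.induction_on with
    | _ x =>
      have hx : (x : G) ∈ ((M ⊔ (S : Subgroup G) : Subgroup G) : Set G) := hP x.2
      rw [coe_mul_of_right_le_normalizer_left M _ hM] at hx
      obtain ⟨m, hm, s, hs, hx⟩ := hx
      obtain ⟨k, hk⟩ := S.isPGroup' ⟨s, hs⟩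
      refine ⟨k, ?_⟩
      rw [← QuotientGroup.mk_pow, QuotientGroup.eq_one_iff, mem_subgroupOf]
      have hk' : s ^ p ^ k = 1 := by simpa using congrArg Subtype.val hk
      have key : ∀ n : ℕ, (m * s) ^ n * (s ^ n)⁻¹ ∈ M := by
        intro n
        induction n with
        | zero => simp
        | succ n ih =>
          have e : (m * s) ^ (n + 1) * (s ^ (n + 1))⁻¹ =
              ((m * s) ^ n * (s ^ n)⁻¹) * (s ^ n * m * (s ^ n)⁻¹) := by
            rw [pow_succ, pow_succ]; group
          rw [e]
          exact mul_mem ih ((le_normalizer_iff.mp hM) _ (pow_mem hs n) m hm)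
      have h2 := key (p ^ k)
      rw [hk', inv_one, mul_one] at h2
      rw [coe_pow, ← hx]
      exact h2
  have h2 := Subgroup.map_mono (f := P.subtype) h1
  rw [subgroupOf_map_subtype] at h2
  exact h2.trans inf_le_left

omit [Fact p.Prime] h in
theorem map_closure_residual (P : Subgroup G) :
    (normalClosure ((resIn p P : Subgroup G) : Set G)).map (QuotientGroup.mk' (pCore p G)) =
      normalClosure ((((resIn p P).map (QuotientGroup.mk' (pCore p G))) : Subgroup (G ⧸ pCore p G))
        : Set (G ⧸ pCore p G)) := by
  rw [map_normalClosure _ _ (QuotientGroup.mk'_surjective _)]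
  rfl

/-- When the normal closure is not solvable the quotient by `O_p` is of layered shape. -/
theorem layered (hns : ¬ Group.IsSolvable ↥(normalClosure ((resIn p P : Subgroup G) : Set G))) :
    Layered ((S : Subgroup G).map (QuotientGroup.mk' (pCore p G)))
      (P.map (QuotientGroup.mk' (pCore p G))) (L.map (QuotientGroup.mk' (pCore p G)))
      ((coreIn p L).map (QuotientGroup.mk' (pCore p G)))
      ((resIn p P).map (QuotientGroup.mk' (pCore p G))) p := by
  set π := QuotientGroup.mk' (pCore p G) with hπ
  have hπs : Function.Surjective π := QuotientGroup.mk'_surjective _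
  have hker : π.ker ≤ (S : Subgroup G) := by
    rw [hπ, QuotientGroup.ker_mk']; exact Cores.pCore_le_sylow S
  have hnsb : ¬ Group.IsSolvable
      ↥((normalClosure ((resIn p P : Subgroup G) : Set G)).map π) := by
    intro hs
    set Y := normalClosure ((resIn p P : Subgroup G) : Set G)
    refine hns ?_
    haveI := hs
    haveI : Group.IsSolvable ↥(pCore p G) := by
      haveI := (Cores.pCore_isPGroup p G).isNilpotent
      infer_instance
    haveI : Group.IsSolvable ↥(Y ⊓ pCore p G) :=
      Group.isSolvable_of_isSolvable_injective (inclusion_injective inf_le_right)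
    refine Group.isSolvable_of_ker_le_range (inclusion (inf_le_left : Y ⊓ pCore p G ≤ Y))
      (π.subgroupMap Y) ?_
    intro x hx
    exact ⟨⟨x, x.2, (QuotientGroup.eq_one_iff (x : G)).1 (congrArg Subtype.val hx)⟩, rfl⟩
  have hnfit : ¬ (resIn p P).map π ≤ fittingSubgroup (G ⧸ pCore p G) := by
    intro hle
    refine hnsb (Components.isSolvable_of_le ?_ Components.fittingSubgroup_isSolvable)
    rw [map_closure_residual]
    exact normalClosure_le_normal hle
  refine
    { pgroup := S.isPGroup'.map π
      S_le_L := Subgroup.map_mono h.sylow_le_L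
      R_le_S := Subgroup.map_mono h.R_le_S
      L_norm_R := (Subgroup.map_mono h.L_le_normalizer_R).trans (le_normalizer_map π)
      gen := fun H hH => ?_
      sup_eq := by rw [← Subgroup.map_sup, h.residual_sup_sylow]
      res := fun N hN hP => ?_
      not_norm := fun hc => ?_
      core := Cores.pCore_quotient_pCore p G
      le_layer := ?_
      not_fitting := hnfit
      not_solvable := by rwa [← map_closure_residual] }
  · have hS : (S : Subgroup G) ≤ H.comap π := Subgroup.map_le_iff_le_comap.mp hH
    obtain ⟨h1, h2⟩ := h.genL _ hS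
    constructor
    · intro hP
      have := Subgroup.map_mono (f := π) (h1 fun hc => hP (Subgroup.map_le_iff_le_comap.mpr hc))
      rwa [map_comap_eq_self_of_surjective hπs] at this
    · have h3 := Subgroup.map_mono (f := π) h2
      rw [Subgroup.map_sup, map_comap_eq_self_of_surjective hπs] at h3
      refine h3.trans (sup_le_sup_right (le_inf ?_ (Subgroup.map_mono inf_le_right)) _)
      exact (Subgroup.map_mono inf_le_left).trans (map_comap_le _ _)
  · refine Subgroup.map_le_iff_le_comap.mpr (h.residual_le_of_le_sup' ?_ ?_)
    · exact (Subgroup.map_le_iff_le_comap.mp hN).trans (le_normalizer_comap π)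
    · refine (Subgroup.map_le_iff_le_comap.mp hP).trans ?_
      rw [← map_comap_eq_self_of_surjective hπs N, ← Subgroup.map_sup, comap_map_eq,
        map_comap_eq_self_of_surjective hπs N]
      exact sup_le le_rfl (le_sup_of_le_right hker)
  · have h4 := (Subgroup.map_le_iff_le_comap.mp hc).trans (le_normalizer_comap π)
    refine h.not_normalizes (le_comap_map π _) ?_ h4
    rw [comap_map_eq]
    exact sup_le h.R_le_S hker
  · by_contra hlay
    have h1 : (layer (G ⧸ pCore p G)).comap π ≤ L :=
      h.normal_le_L fun hle => hlay (Subgroup.map_le_iff_le_comap.mpr hle)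
    have h2 : (fittingSubgroup (G ⧸ pCore p G)).comap π ≤ L :=
      h.normal_le_L fun hle => hnfit (Subgroup.map_le_iff_le_comap.mpr hle)
    refine h.residual_not_le_L (h.residual_le_genFitting.trans ?_)
    rw [generalizedFittingSubgroup, ← comap_sup_eq _ _ _ hπs]
    exact sup_le h1 h2

end Isolated

end Cfsg.Agent.Lib.LocalEven2.Isolated
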