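import Cfsg.Agent.Lib.LocalEven2.IsolatedBase

/-!
# Isolated p-minimal subgroups: the residual lies over the generalized Fitting subgroup
-/

set_option autoImplicit false

namespace Cfsg.Agent.Lib.LocalEven2.Isolated

open Subgroup Cfsg.Agent.Lib
open scoped commutatorElement

variable {G : Type*} [Group G] {p : ℕ} [Finite G] [Fact p.Prime]
  {S : Sylow p G} {P L : Subgroup G}

namespace Isolated

variable (h : Isolated S P L)

include h

theorem residual_le_genFitting :
    resIn p P ≤ (generalizedFittingSubgroup (G ⧸ pCore p G)).comap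
      (QuotientGroup.mk' (pCore p G)) := by
  set π := QuotientGroup.mk' (pCore p G) with hπ
  set F := (generalizedFittingSubgroup (G ⧸ pCore p G)).comap π with hF
  by_contra hcon
  have hFL : F ≤ L := h.normal_le_L hcon
  have hFR : F ≤ normalizer ((coreIn p L : Subgroup G) : Set G) :=
    hFL.trans h.L_le_normalizer_R
  have hFnR : F ≤ normalizer ((coreIn p L ⊓ F : Subgroup G) : Set G) :=
    (le_inf hFR le_normalizer).trans (inf_normalizer_le_normalizer_inf)
  have hQ : (coreIn p L ⊓ F).map π ≤ pCore p (G ⧸ pCore p G) := by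
    refine le_pCore_of_normalized (N := generalizedFittingSubgroup (G ⧸ pCore p G)) ?_ ?_ ?_
    · exact (Subgroup.map_mono inf_le_right).trans (map_comap_le _ _)
    · exact ((S.isPGroup'.to_le h.R_le_S).to_le inf_le_left).map π
    · refine le_trans ?_ ((Subgroup.map_mono hFnR).trans (le_normalizer_map π))
      rw [hF, map_comap_eq_self_of_surjective (QuotientGroup.mk'_surjective _)]
  rw [Cores.pCore_quotient_pCore, le_bot_iff, Subgroup.map_eq_bot_iff, hπ, QuotientGroup.ker_mk'] at hQ
  refine h.not_R_le_pCore fun r hr => hQ ⟨hr, ?_⟩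
  refine Components.centralizer_genFitting_le ?_
  rw [mem_centralizer_iff]
  intro y hy
  obtain ⟨f, rfl⟩ := QuotientGroup.mk'_surjective _ y
  have hfF : f ∈ F := hy
  have h1 : ⁅f, r⁆ ∈ coreIn p L :=
    mul_mem (by simpa using (le_normalizer_iff.mp hFR) f hfF r hr) (inv_mem hr)
  have h2 : ⁅f, r⁆ ∈ F := by
    rw [commutatorElement_def, mul_assoc, mul_assoc]
    refine mul_mem hfF ?_
    rw [← mul_assoc]
    exact (inferInstance : F.Normal).conj_mem f⁻¹ (inv_mem hfF) r
  have h3 : π ⁅f, r⁆ = 1 := (QuotientGroup.eq_one_iff _).mpr (hQ ⟨h1, h2⟩)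
  rw [map_commutatorElement, commutatorElement_eq_one_iff_mul_comm] at h3
  exact h3

end Isolated

end Cfsg.Agent.Lib.LocalEven2.Isolated
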