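import Cfsg.Agent.Lib.LocalEven2.IsolatedBase

/-!
# Isolated p-minimal subgroups: the action on a normal t-group
-/

set_option autoImplicit false

namespace Cfsg.Agent.Lib.LocalEven2.Isolated

open Subgroup Cfsg.Agent.Lib
open scoped commutatorElement

variable {X : Type*} [Group X]

/-- A `p`-element fixing the commutator of a `t`-group element fixes the element, elementwise. -/
theorem comm_eq_one_of_comm_comm {p t : ℕ} [Fact p.Prime] [Fact t.Prime] (hne : t ≠ p)
    {D R : Subgroup X} (hD : IsPGroup t ↥D) (hR : IsPGroup p ↥R)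
    (hDR : R ≤ normalizer (D : Set X))
    (h2 : ⁅⁅D, R⁆, R⁆ = ⊥) : ⁅D, R⁆ = ⊥ := by
  rw [commutator_comm, eq_bot_iff, commutator_le]
  intro r hr d hd
  set c := ⁅r, d⁆ with hc
  have hcm : c ∈ ⁅D, R⁆ := by
    rw [commutator_comm]; exact commutator_mem_commutator hr hd
  have hcD : c ∈ D :=
    mul_mem ((le_normalizer_iff.mp hDR) r hr d hd) (inv_mem hd)
  have hcr : Commute c r := by
    rw [commutator_eq_bot_iff_le_centralizer] at h2
    exact ((mem_centralizer_iff.mp (h2 hcm)) r hr).symm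
  have hrd : r * d * r⁻¹ = c * d := by rw [hc, commutatorElement_def]; group
  have key : ∀ n : ℕ, r ^ n * d * (r ^ n)⁻¹ = c ^ n * d := by
    intro n
    induction n with
    | zero => simp
    | succ n ih =>
      have h1 : r * c ^ n = c ^ n * r := ((hcr.symm.pow_right n)).eq
      calc r ^ (n + 1) * d * (r ^ (n + 1))⁻¹ = r * (r ^ n * d * (r ^ n)⁻¹) * r⁻¹ := by
            rw [pow_succ']; group
        _ = c ^ n * (r * d * r⁻¹) := by rw [ih, ← mul_assoc, h1]; group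
        _ = c ^ (n + 1) * d := by rw [hrd, pow_succ, mul_assoc]
  obtain ⟨k, hk⟩ := hR ⟨r, hr⟩
  have hk' : r ^ p ^ k = 1 := by simpa using congrArg Subtype.val hk
  have h3 := key (p ^ k)
  rw [hk'] at h3
  have h4 : c ^ p ^ k = 1 := by simpa using h3.symm
  obtain ⟨m, hm⟩ := hD ⟨c, hcD⟩
  have hm' : c ^ t ^ m = 1 := by simpa using congrArg Subtype.val hm
  have hco : Nat.Coprime (p ^ k) (t ^ m) :=
    Nat.Coprime.pow k m ((Nat.coprime_primes (Fact.out : p.Prime) (Fact.out : t.Prime)).mpr hne.symm)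
  rw [mem_bot]
  have h5 := pow_gcd_eq_one.mpr ⟨h4, hm'⟩
  rwa [hco, pow_one] at h5

variable [Finite X] {p t : ℕ} [Fact p.Prime] [Fact t.Prime]

/-- The core argument: the image of `O^p(P)` inside a normal `t`-group is normal of class two. -/
theorem normal_of_tgroup (hne : t ≠ p) {Sb Pb Lb Rb T D : Subgroup X} [T.Normal]
    (hT : IsPGroup t ↥T) (hS : IsPGroup p ↥Sb) (hSL : Sb ≤ Lb) (hRS : Rb ≤ Sb)
    (hLR : Lb ≤ normalizer (Rb : Set X))
    (hgen : ∀ H : Subgroup X, Sb ≤ H → (¬ Pb ≤ H → H ≤ Lb) ∧ H ≤ (H ⊓ Lb) ⊔ Pb)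
    (hDT : D ≤ T) (hPD : D ⊔ Sb = Pb) (hPn : Pb ≤ normalizer (D : Set X))
    (hnR : ¬ Pb ≤ normalizer (Rb : Set X)) :
    D.Normal ∧ ⁅⁅D, D⁆, D⁆ = ⊥ := by
  have hdis : ∀ x : X, x ∈ T → x ∈ Sb → x = 1 := fun x h1 h2 =>
    (disjoint_def.mp (IsPGroup.disjoint_of_ne t p hne T Sb hT hS)) h1 h2
  have hTn : ∀ K : Subgroup X, K ≤ normalizer (T : Set X) := fun K => le_normalizer_of_normal
  have hSR : Sb ≤ normalizer (Rb : Set X) := hSL.trans hLR
  have hSD : Sb ≤ normalizer (D : Set X) := (hPD ▸ le_sup_right).trans hPn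
  -- (A) an `Sb`-invariant subgroup of `T ⊓ Lb` is centralised by `Rb`
  have hA : ∀ U : Subgroup X, U ≤ T → U ≤ Lb → Sb ≤ normalizer (U : Set X) → ⁅U, Rb⁆ = ⊥ := by
    intro U hUT hUL hSU
    rw [eq_bot_iff, commutator_le]
    intro u hu r hr
    have h1 : ⁅u, r⁆ ∈ Rb :=
      mul_mem ((le_normalizer_iff.mp (hUL.trans hLR)) u hu r hr) (inv_mem hr)
    have h2 : ⁅u, r⁆ ∈ U := by
      rw [commutatorElement_def, mul_assoc, mul_assoc, ← mul_assoc r]
      exact mul_mem hu ((le_normalizer_iff.mp (hRS.trans hSU)) r hr _ (inv_mem hu))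
    exact hdis _ (hUT h2) (hRS h1)
  -- (B) dichotomy
  have hB : ∀ U : Subgroup X, U ≤ T → Sb ≤ normalizer (U : Set X) → D ≤ U ∨ U ≤ Lb := by
    intro U hUT hSU
    by_cases hPU : Pb ≤ U ⊔ Sb
    · left
      intro d hd
      have hd2 : d ∈ ((U ⊔ Sb : Subgroup X) : Set X) := hPU (hPD ▸ mem_sup_left hd)
      rw [coe_mul_of_right_le_normalizer_left U Sb hSU] at hd2
      obtain ⟨u, hu, s, hs, rfl⟩ := hd2
      have hs1 : s = 1 := hdis s (by
        have := mul_mem (inv_mem (hUT hu)) (hDT hd)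
        simpa using this) hs
      simpa [hs1] using hu
    · exact Or.inr (le_sup_left.trans ((hgen _ le_sup_right).1 hPU))
  -- (C) `D = ⁅D, Rb⁆`
  have hRD : Rb ≤ normalizer (D : Set X) := hRS.trans hSD
  have hC0 : ⁅D, Rb⁆ ≤ D := le_normalizer_iff_commutator_le_left.mp hRD
  have hC : D ≤ ⁅D, Rb⁆ := by
    have hSC : Sb ≤ normalizer ((⁅D, Rb⁆ : Subgroup X) : Set X) := by
      refine le_trans (le_inf hSD hSR) ?_
      intro x hx
      rw [mem_normalizer_iff_map_conj_eq, Subgroup.map_commutator]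
      rw [mem_inf, mem_normalizer_iff_map_conj_eq, mem_normalizer_iff_map_conj_eq] at hx
      rw [hx.1, hx.2]
    refine (hB _ (hC0.trans hDT) hSC).resolve_right fun hL => ?_
    have h1 := hA _ (hC0.trans hDT) hL hSC
    have h2 := comm_eq_one_of_comm_comm hne (hT.to_le hDT) (hS.to_le hRS) hRD h1
    refine hnR (hPD ▸ sup_le ?_ hSR)
    rw [le_normalizer_iff_commutator_le_right, h2]
    exact bot_le
  have hCeq : ⁅D, Rb⁆ = D := le_antisymm hC0 hC
  -- generation of `T`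
  have hgenT : T ≤ (T ⊓ Lb) ⊔ D := by
    have hSW : Sb ≤ normalizer (((T ⊓ Lb) ⊔ D : Subgroup X) : Set X) := by
      intro x hx
      rw [mem_normalizer_iff_map_conj_eq, Subgroup.map_sup,
        Subgroup.map_inf _ _ _ (MulAut.conj x).injective]
      rw [mem_normalizer_iff_map_conj_eq.mp (hSD hx),
        mem_normalizer_iff_map_conj_eq.mp ((hTn Sb) hx),
        mem_normalizer_iff_map_conj_eq.mp (le_normalizer (hSL hx))]
    intro x hx
    have hx2 := (hgen (T ⊔ Sb) le_sup_right).2 (mem_sup_left hx)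
    have hle : (T ⊔ Sb) ⊓ Lb ⊔ Pb ≤ ((T ⊓ Lb) ⊔ D) ⊔ Sb := by
      refine sup_le ?_ (hPD ▸ sup_le_sup_right le_sup_right Sb)
      rintro y ⟨hy1, hy2⟩
      obtain ⟨a, ha, s, hs, rfl⟩ := mem_sup_of_normal_left.mp hy1
      have haL : a ∈ Lb := by simpa using Lb.mul_mem hy2 (Lb.inv_mem (hSL hs))
      exact mul_mem (mem_sup_left (mem_sup_left ⟨ha, haL⟩)) (mem_sup_right hs)
    have hx3 : x ∈ ((((T ⊓ Lb) ⊔ D) ⊔ Sb : Subgroup X) : Set X) := hle hx2
    rw [coe_mul_of_right_le_normalizer_left _ Sb hSW] at hx3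
    obtain ⟨w, hw, s, hs, rfl⟩ := hx3
    have hwT : w ∈ T := (sup_le inf_le_left hDT : (T ⊓ Lb) ⊔ D ≤ T) hw
    have hs1 : s = 1 := hdis s (by simpa using mul_mem (inv_mem hwT) hx) hs
    simpa [hs1] using hw
  have hTeq : (T ⊓ Lb) ⊔ D = T := le_antisymm (sup_le inf_le_left hDT) hgenT
  have hDnL : ¬ D ≤ Lb := fun hL => hnR (hPD ▸ sup_le (hL.trans hLR) hSR)
  -- (D) the Frattini subgroup of `T`
  set Φ := (frattini ↥T).map T.subtype with hΦ
  have hΦn : Φ.Normal := inferInstance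
  have hΦT : Φ ≤ T := map_subtype_le _
  have hΦL : Φ ≤ Lb := by
    refine (hB Φ hΦT le_normalizer_of_normal).resolve_left fun hDΦ => ?_
    have h1 := Cores.eq_of_sup_map_frattini (A := T) (K := T ⊓ Lb) inf_le_left
      (le_antisymm (sup_le inf_le_left hΦT) (hgenT.trans (sup_le_sup_left hDΦ _)))
    exact hDnL (hDT.trans (h1.ge.trans inf_le_right))
  have hΦR : ⁅Φ, Rb⁆ = ⊥ := hA Φ hΦT hΦL le_normalizer_of_normal
  -- (E) `D` centralises `Φ`
  have hDΦ : ⁅D, Φ⁆ = ⊥ := by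
    have h1 : ⁅⁅Rb, Φ⁆, D⁆ = ⊥ := by rw [commutator_comm Rb, hΦR, commutator_bot_left]
    have h2 : ⁅⁅Φ, D⁆, Rb⁆ = ⊥ := by
      rw [eq_bot_iff, ← hΦR]
      exact commutator_mono (commutator_le_left _ _) le_rfl
    have h3 := commutator_commutator_eq_bot_of_rotate (H₁ := D) (H₂ := Rb) (H₃ := Φ) h1 h2
    rwa [hCeq] at h3
  have hTT : ⁅T, T⁆ ≤ Φ := by
    have : Group.IsNilpotent ↥T := hT.isNilpotent
    have h1 := Subgroup.map_mono (f := T.subtype) (Cores.commutator_le_frattini (G := ↥T))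
    rwa [_root_.commutator_def, Subgroup.map_commutator, ← MonoidHom.range_eq_map, range_subtype] at h1
  -- (F) `T ⊓ Lb` centralises `D`
  have hTLR : ⁅T ⊓ Lb, Rb⁆ = ⊥ := hA _ inf_le_left inf_le_right
    ((le_inf (hTn Sb) (hSL.trans le_normalizer)).trans inf_normalizer_le_normalizer_inf)
  have hF : ∀ c ∈ T ⊓ Lb, ∀ d ∈ D, c * d = d * c := by
    intro c hc d hd
    suffices hle : ⁅Rb, D⁆ ≤ centralizer ({c} : Set X) by
      have h1 : d ∈ centralizer ({c} : Set X) := hle (by rw [commutator_comm, hCeq]; exact hd)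
      exact mem_centralizer_singleton_iff.mp h1 |> fun h => h.symm
    rw [commutator_le]
    intro r hr d hd
    rw [mem_centralizer_singleton_iff]
    have hf : ∀ e ∈ D, ⁅e, c⁆ ∈ Φ := fun e he =>
      hTT (commutator_mem_commutator (hDT he) hc.1)
    have hrc : Commute r c :=
      ((commutatorElement_eq_one_iff_commute).mp (mem_bot.mp
        (hTLR ▸ commutator_mem_commutator hc hr))).symm
    have hrf : Commute r ⁅d, c⁆ :=
      ((commutatorElement_eq_one_iff_commute).mp (mem_bot.mp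
        (hΦR ▸ commutator_mem_commutator (hf d hd) hr))).symm
    set e := ⁅r, d⁆ with he
    have heD : e ∈ D := mul_mem ((le_normalizer_iff.mp hRD) r hr d hd) (inv_mem hd)
    have hef : Commute e ⁅d, c⁆ :=
      (commutatorElement_eq_one_iff_commute).mp (mem_bot.mp
        (hDΦ ▸ commutator_mem_commutator heD (hf d hd)))
    have h1 : ⁅r * d * r⁻¹, c⁆ = ⁅d, c⁆ := by
      calc ⁅r * d * r⁻¹, c⁆ = ⁅r * d * r⁻¹, r * c * r⁻¹⁆ := by
            rw [show r * c * r⁻¹ = c by rw [hrc.eq]; group]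
        _ = r * ⁅d, c⁆ * r⁻¹ := by simp only [commutatorElement_def]; group
        _ = ⁅d, c⁆ := by rw [hrf.eq]; group
    have h2 : ⁅r * d * r⁻¹, c⁆ = e * ⁅d, c⁆ * e⁻¹ * ⁅e, c⁆ := by
      rw [he]; simp only [commutatorElement_def]; group
    rw [h1, hef.eq, mul_inv_cancel_right, left_eq_mul] at h2
    exact (commutatorElement_eq_one_iff_mul_comm.mp h2)
  -- (G) `D` is normal
  have hTD : T ≤ normalizer (D : Set X) := by
    rw [← hTeq]
    refine sup_le (le_normalizer_iff.mpr fun c hc d hd => ?_) le_normalizer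
    rw [hF c hc d hd, mul_inv_cancel_right]; exact hd
  have hTR : ⁅T, Rb⁆ = D := by
    refine le_antisymm ?_ (hC.trans (commutator_mono hDT le_rfl))
    rw [commutator_le]
    intro u hu r hr
    have hu2 : u ∈ (((T ⊓ Lb) ⊔ D : Subgroup X) : Set X) := hgenT hu
    rw [coe_mul_of_left_le_normalizer_right _ D (inf_le_left.trans hTD)] at hu2
    obtain ⟨c, hc, d, hd, rfl⟩ := hu2
    have hdr : ⁅d, r⁆ ∈ D := hC0 (commutator_mem_commutator hd hr)
    have hcr : ⁅c, r⁆ = 1 := mem_bot.mp (hTLR ▸ commutator_mem_commutator hc hr)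
    have : ⁅c * d, r⁆ = c * ⁅d, r⁆ * c⁻¹ * ⁅c, r⁆ := by
      simp only [commutatorElement_def]; group
    show ⁅c * d, r⁆ ∈ D
    rw [this, hcr, mul_one, hF c hc _ hdr, mul_inv_cancel_right]
    exact hdr
  have hLD : Lb ≤ normalizer (D : Set X) := by
    intro x hx
    rw [← hTR, mem_normalizer_iff_map_conj_eq, Subgroup.map_commutator,
      mem_normalizer_iff_map_conj_eq.mp ((hTn Lb) hx),
      mem_normalizer_iff_map_conj_eq.mp (hLR hx)]
  refine ⟨?_, ?_⟩
  · rw [← normalizer_eq_top_iff, eq_top_iff]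
    refine ((hgen ⊤ le_top).2).trans (sup_le (inf_le_right.trans hLD) hPn)
  · rw [eq_bot_iff, ← hDΦ, commutator_comm D Φ]
    exact commutator_mono ((commutator_mono hDT hDT).trans hTT) le_rfl

end Cfsg.Agent.Lib.LocalEven2.Isolated
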