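import Cfsg.Agent.Lib.LocalEven2.IsolatedFitting
import Cfsg.Agent.Lib.LocalEven2.IsolatedTGroup
import Cfsg.Agent.Lib.Cores.Fitting

/-!
# Isolated p-minimal subgroups: the solvable case
-/

set_option autoImplicit false

namespace Cfsg.Agent.Lib.LocalEven2.Isolated

open Subgroup Cfsg.Agent.Lib
open scoped commutatorElement

/-- A solvable normal subgroup meets `F*` inside the Fitting subgroup. -/
theorem solvable_inf_genFitting_le {X : Type*} [Group X] [Finite X] (M : Subgroup X) [M.Normal]
    (hM : Group.IsSolvable ↥M) :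
    M ⊓ generalizedFittingSubgroup X ≤ fittingSubgroup X := by
  set N := M ⊓ generalizedFittingSubgroup X
  have hc : ⁅layer X, N⁆ = ⊥ :=
    Components.commutator_layer_eq_bot_of_solvable (Components.isSolvable_of_le inf_le_left hM)
  rintro x ⟨hxM, hxF⟩
  have hx : x ∈ layer X ⊔ fittingSubgroup X := hxF
  obtain ⟨e, he, f, hf, rfl⟩ := mem_sup_of_normal_right.mp hx
  refine mul_mem ?_ hf
  have h1 : e ∈ fittingSubgroup X ⊓ layer X := by
    rw [Components.fitting_inf_layer, Components.map_center_eq_inf]
    refine ⟨he, ?_⟩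
    show e ∈ centralizer _
    rw [mem_centralizer_iff]
    intro y hy
    have c1 : Commute y (e * f) := by
      have := Components.commute_of_commutator_eq_bot hc hy (show e * f ∈ N from ⟨hxM, hxF⟩)
      exact this
    have c2 : Commute y f :=
      Components.commute_of_commutator_eq_bot Components.commutator_layer_fittingSubgroup hy hf
    have c3 := c1.mul_right c2.inv_right
    rw [mul_inv_cancel_right] at c3
    exact c3
  exact h1.1

variable {G : Type*} [Group G] {p : ℕ} [Finite G] [Fact p.Prime]
  {S : Sylow p G} {P L : Subgroup G}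

namespace Isolated

variable (h : Isolated S P L)

include h

theorem normalClosure_residual_solvable
    (hsol : Group.IsSolvable ↥(normalClosure ((resIn p P : Subgroup G) : Set G))) :
    resIn p P = normalClosure ((resIn p P : Subgroup G) : Set G) ∧
      ∃ t : ℕ, t.Prime ∧ t ≠ p ∧
        IsPGroup t ↥((resIn p P).map (QuotientGroup.mk' (pCore p G))) ∧
        ⁅⁅(resIn p P).map (QuotientGroup.mk' (pCore p G)),
            (resIn p P).map (QuotientGroup.mk' (pCore p G))⁆,
          (resIn p P).map (QuotientGroup.mk' (pCore p G))⁆ = ⊥ := by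
  set π := QuotientGroup.mk' (pCore p G) with hπ
  have hπs : Function.Surjective π := QuotientGroup.mk'_surjective _
  set Op := resIn p P with hOp
  set Y := normalClosure ((Op : Subgroup G) : Set G) with hY
  set D := Op.map π with hD
  have hOpY : Op ≤ Y := le_normalClosure
  have hYm : (Y.map π).Normal := (inferInstance : Y.Normal).map π hπs
  have hDF : D ≤ fittingSubgroup (G ⧸ pCore p G) := by
    refine le_trans (le_inf (Subgroup.map_mono hOpY) ?_)
      (solvable_inf_genFitting_le (Y.map π) ?_)
    · exact Subgroup.map_le_iff_le_comap.mpr h.residual_le_genFitting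
    · exact Group.isSolvable_of_surjective (π.subgroupMap_surjective Y)
  -- the prime `t`
  have hex : ∃ t : ℕ, t.Prime ∧ P ≤ (pCore t (G ⧸ pCore p G)).comap π ⊔ (S : Subgroup G) := by
    by_contra hcon
    push Not at hcon
    have hle : fittingSubgroup (G ⧸ pCore p G) ≤ L.map π := by
      refine Cores.fittingSubgroup_le_of_pCore_le fun t ht => ?_
      have := h.genL ((pCore t (G ⧸ pCore p G)).comap π ⊔ (S : Subgroup G)) le_sup_right
      have h2 := Subgroup.map_mono (f := π) (le_sup_left.trans (this.1 (hcon t ht)))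
      rwa [map_comap_eq_self_of_surjective hπs] at h2
    have h3 : Op ≤ (L.map π).comap π := Subgroup.map_le_iff_le_comap.mp (hDF.trans hle)
    rw [comap_map_eq_self (by
      rw [hπ, QuotientGroup.ker_mk']; exact (Cores.pCore_le_sylow S).trans h.sylow_le_L)] at h3
    exact h.residual_not_le_L h3
  obtain ⟨t, ht, hPt⟩ := hex
  have htF : Fact t.Prime := ⟨ht⟩
  have hOpT : D ≤ pCore t (G ⧸ pCore p G) :=
    Subgroup.map_le_iff_le_comap.mpr (h.residual_le_of_le_sup hPt)
  have htp : t ≠ p := by
    rintro rfl
    rw [Cores.pCore_quotient_pCore, le_bot_iff, hD, Subgroup.map_eq_bot_iff, hπ,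
      QuotientGroup.ker_mk'] at hOpT
    exact h.residual_not_le_pCore hOpT
  have hker : π.ker ≤ (S : Subgroup G) := by
    rw [hπ, QuotientGroup.ker_mk']; exact Cores.pCore_le_sylow S
  have hPn : P ≤ normalizer ((Op : Subgroup G) : Set G) := by
    refine le_normalizer_iff.mpr ?_
    rintro x hx _ ⟨k, hk, rfl⟩
    exact ⟨⟨x, hx⟩ * k * ⟨x, hx⟩⁻¹,
      (inferInstance : (pResidual p ↥P).Normal).conj_mem k hk _, rfl⟩
  have hT : IsPGroup t ↥(pCore t (G ⧸ pCore p G)) := Cores.pCore_isPGroup t _
  obtain ⟨hDn, hD3⟩ := normal_of_tgroup (X := G ⧸ pCore p G) htp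
    (Sb := (S : Subgroup G).map π) (Pb := P.map π) (Lb := L.map π)
    (Rb := (coreIn p L).map π) (T := pCore t (G ⧸ pCore p G)) (D := D)
    hT (S.isPGroup'.map π) (Subgroup.map_mono h.sylow_le_L) (Subgroup.map_mono h.R_le_S)
    ((Subgroup.map_mono h.L_le_normalizer_R).trans (le_normalizer_map π))
    (fun H hH => by
      have hS : (S : Subgroup G) ≤ H.comap π := Subgroup.map_le_iff_le_comap.mp hH
      obtain ⟨h1, h2⟩ := h.genL _ hS
      constructor
      · intro hP
        have := Subgroup.map_mono (f := π) (h1 fun hc => hP (Subgroup.map_le_iff_le_comap.mpr hc))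
        rwa [map_comap_eq_self_of_surjective hπs] at this
      · have h3 := Subgroup.map_mono (f := π) h2
        rw [Subgroup.map_sup, map_comap_eq_self_of_surjective hπs] at h3
        refine h3.trans (sup_le_sup_right (le_inf ?_ (Subgroup.map_mono inf_le_right)) _)
        exact (Subgroup.map_mono inf_le_left).trans (map_comap_le _ _))
    hOpT (by rw [hD, ← Subgroup.map_sup, h.residual_sup_sylow])
    ((Subgroup.map_mono hPn).trans (le_normalizer_map π))
    (by
      intro hc
      have h4 := (Subgroup.map_le_iff_le_comap.mp hc).trans (le_normalizer_comap π)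
      refine h.not_normalizes (le_comap_map π _) ?_ h4
      rw [comap_map_eq, hπ, QuotientGroup.ker_mk']
      exact sup_le h.R_le_S (Cores.pCore_le_sylow S))
  refine ⟨le_antisymm hOpY ?_, t, ht, htp, hT.to_le hOpT, hD3⟩
  -- `O^p(P)` is normal in `G`
  set W := D.comap π with hW
  have hWn : W.Normal := hDn.comap π
  have hWP : W ≤ P := by
    rw [hW, hD, comap_map_eq]
    exact sup_le (map_subtype_le _) (hker.trans h.sylow_le)
  have hOpW : Op ≤ W := le_comap_map π Op
  have hres : resIn p W = Op := by
    refine le_antisymm (Cores.map_subtype_pResidual_mono hWP) ?_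
    refine le_trans ?_ (Cores.map_subtype_pResidual_mono hOpW)
    rw [Cores.map_subtype_pResidual, hOp, resIn, Cores.map_subtype_pResidual]
    exact (closure_le _).mpr fun g hg => subset_closure ⟨subset_closure hg, hg.2⟩
  have hOpn : Op.Normal := hres ▸ inferInstanceAs ((pResidual p ↥W).map W.subtype).Normal
  exact normalClosure_le_normal (subset_refl _)

end Isolated

end Cfsg.Agent.Lib.LocalEven2.Isolated
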