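import Cfsg.Agent.Lib.LocalEven2.JStruct

/-!
Blocks of `L` on `V` as subgroups of `G`, their canonical generators of order 3, and the
`J(T)`-components inside `L`.
-/

set_option autoImplicit false
set_option linter.unusedSectionVars false
set_option linter.style.haveILetI false

namespace Cfsg.Agent.Lib.LocalEven2

open scoped Pointwise commutatorElement

variable {G : Type*} [Group G] [Finite G]

namespace JCtx

variable {T L : Subgroup G}

/-- `W` is the block of the transvection induced by `a`. -/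
def IsTvOf (c : JCtx T L) (a : ↥L) (W : Subgroup G) : Prop :=
  Tv.IsTv ↥(c.V) (c.psi a) ∧ W = (Tv.blockOf ↥(c.V) (c.psi a)).map (c.V).subtype

def IsBlock (c : JCtx T L) (W : Subgroup G) : Prop := ∃ a, c.IsTvOf a W

/-- `k` is a generator of order 3 of the block `W`. -/
def IsGen (c : JCtx T L) (W : Subgroup G) (k : ↥L) : Prop :=
  k ^ 3 = 1 ∧ c.psi k ∈ Tv.tvGroup ↥c.act.range ↥(c.V) ∧
    (∀ W', c.IsBlock W' → W' ≠ W → ∀ x ∈ W', (k : G) * x * (k : G)⁻¹ = x) ∧ c.psi k ≠ 1 ∧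
    ∃ a : ↥L, (∃ m : ℕ, a ^ 2 ^ m = 1) ∧ c.IsTvOf a W ∧
      ((a * k * a⁻¹ * k : ↥L) : G) ∈ Cfsg.pCoreOf 2 L

/-- `O₂(L)⟨k⟩`. -/
def h0 (L : Subgroup G) (k : G) : Subgroup G := Cfsg.pCoreOf 2 L ⊔ Subgroup.zpowers k

/-- The subgroup generated by the elements of odd order of `O₂(L)⟨k⟩`. -/
def kOf (L : Subgroup G) (k : G) : Subgroup G :=
  Subgroup.closure {g : G | g ∈ h0 L k ∧ Odd (orderOf g)}

variable (c : JCtx T L)
include c

local notation "O" => Cfsg.pCoreOf 2 L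
local notation "J" => Cfsg.thompsonSubgroupOf 2 T

theorem mem_blockMap {a : ↥L} {W : Subgroup G} (h : c.IsTvOf a W) {x : G} (hx : x ∈ c.V) :
    x ∈ W ↔ (⟨x, hx⟩ : ↥(c.V)) ∈ Tv.blockOf ↥(c.V) (c.psi a) := by
  rw [h.2]
  constructor
  · rintro ⟨y, hy, hyx⟩
    rwa [show (⟨x, hx⟩ : ↥(c.V)) = y from Subtype.ext hyx.symm]
  · exact fun h => ⟨_, h, rfl⟩

theorem block_le_v {W : Subgroup G} (h : c.IsBlock W) : W ≤ c.V := by
  obtain ⟨a, -, rfl⟩ := h
  exact Subgroup.map_subtype_le _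

theorem block_ne_bot {W : Subgroup G} (h : c.IsBlock W) : ∃ x ∈ W, x ≠ 1 := by
  obtain ⟨a, ⟨d, hd⟩, rfl⟩ := h
  exact ⟨d, ⟨d, c.setting.cen_mem_block hd, rfl⟩, fun e => hd.1 (Subtype.ext e)⟩

theorem block_card {W : Subgroup G} (h : c.IsBlock W) :
    Nat.card ↥W = 4 ∧ ∀ w ∈ W, w * w = 1 := by
  classical
  obtain ⟨a, ⟨d, hd⟩, rfl⟩ := h
  refine ⟨?_, fun w hw => c.v_sq (Subgroup.map_subtype_le _ hw)⟩
  rw [Subgroup.card_map_of_injective (c.V).subtype_injective]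
  obtain ⟨s, e, hs, -, hde, -, -, -, -, hmem, -⟩ := c.setting.block_data hd
  have hset : (Tv.blockOf ↥(c.V) (c.psi a) : Set ↥(c.V)) = ↑({1, d, e, d * e} : Finset ↥(c.V)) := by
    ext w
    simp only [SetLike.mem_coe, hmem, Finset.mem_insert, Finset.mem_singleton]
  rw [show Nat.card ↥(Tv.blockOf ↥(c.V) (c.psi a)) =
    (Tv.blockOf ↥(c.V) (c.psi a) : Set ↥(c.V)).ncard from Nat.card_coe_set_eq _, hset,
    Set.ncard_coe_finset, Finset.card_insert_of_notMem, Finset.card_insert_of_notMem,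
    Finset.card_insert_of_notMem, Finset.card_singleton]
  · simpa using fun h : e = d * e => hd.1 (mul_eq_right.mp h.symm)
  · simp only [Finset.mem_insert, Finset.mem_singleton, not_or]
    exact ⟨hde, fun h => hs.1 (mul_eq_left.mp h.symm)⟩
  · simp only [Finset.mem_insert, Finset.mem_singleton, not_or]
    exact ⟨Ne.symm hd.1, Ne.symm hs.1, fun h => hde (by
      rw [eq_inv_of_mul_eq_one_left h.symm, c.setting.inv_eq])⟩

theorem block_conj {a : ↥L} {W : Subgroup G} (h : c.IsTvOf a W) (l : ↥L) :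
    c.IsTvOf (l * a * l⁻¹) (W.map (MulAut.conj (l : G)).toMonoidHom) := by
  obtain ⟨⟨d, hd⟩, rfl⟩ := h
  have hcen := c.setting.cen_conj hd (c.psi l)
  rw [← map_inv, ← map_mul, ← map_mul] at hcen
  refine ⟨⟨_, hcen⟩, ?_⟩
  ext x
  constructor
  · rintro ⟨_, ⟨w, hw, rfl⟩, rfl⟩
    refine ⟨c.psi l • w, ?_, rfl⟩
    rw [map_mul, map_mul, map_inv]
    exact c.setting.smul_block_mem _ _ hw
  · rintro ⟨w, hw, rfl⟩
    refine ⟨(((c.psi l)⁻¹ • w : ↥(c.V)) : G), ⟨(c.psi l)⁻¹ • w, ?_, rfl⟩, ?_⟩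
    · have := c.setting.smul_block_mem (c.psi l)⁻¹ _ hw
      rwa [map_mul, map_mul, map_inv,
        show (c.psi l)⁻¹ * (c.psi l * c.psi a * (c.psi l)⁻¹) * (c.psi l)⁻¹⁻¹ = c.psi a by group] at this
    · rw [← map_inv, MulEquiv.coe_toMonoidHom, MulAut.conj_apply, c.psi_smul]
      push_cast
      group
      rfl

theorem isBlock_conj {W : Subgroup G} (h : c.IsBlock W) (l : ↥L) :
    c.IsBlock (W.map (MulAut.conj (l : G)).toMonoidHom) := by
  obtain ⟨a, ha⟩ := h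
  exact ⟨_, c.block_conj ha l⟩

theorem block_eq_of_meet {W W' : Subgroup G} (h : c.IsBlock W) (h' : c.IsBlock W') {x : G}
    (hx : x ∈ W) (hx' : x ∈ W') (hx1 : x ≠ 1) : W = W' := by
  obtain ⟨a, ha⟩ := h
  obtain ⟨a', ha'⟩ := h'
  have hxV := c.block_le_v ⟨a, ha⟩ hx
  have := c.setting.block_eq_of_meet ha.1 ha'.1 ((c.mem_blockMap ha hxV).mp hx)
    ((c.mem_blockMap ha' hxV).mp hx') (fun e => hx1 (congrArg Subtype.val e))
  rw [ha.2, ha'.2, this]

theorem block_eq_of_moves {a : ↥L} {W W' : Subgroup G} (h : c.IsTvOf a W) (h' : c.IsBlock W')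
    {x : G} (hx : x ∈ W') (hmv : (a : G) * x * (a : G)⁻¹ ≠ x) : W = W' := by
  obtain ⟨a', ha'⟩ := h'
  have hxV := c.block_le_v ⟨a', ha'⟩ hx
  have := c.setting.block_eq_of_moves h.1 ha'.1 ((c.mem_blockMap ha' hxV).mp hx)
    (fun e => hmv ((c.psi_smul a ⟨x, hxV⟩).symm.trans (congrArg Subtype.val e)))
  rw [h.2, ha'.2, this]

theorem tvgroup_preserves {l : ↥L} (hl : c.psi l ∈ Tv.tvGroup ↥c.act.range ↥(c.V))
    {W : Subgroup G} (h : c.IsBlock W) {x : G} (hx : x ∈ W) :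
    (l : G) * x * (l : G)⁻¹ ∈ W := by
  obtain ⟨a, ha⟩ := h
  have hxV := c.block_le_v ⟨a, ha⟩ hx
  have := c.setting.tvGroup_smul_block hl ha.1 ((c.mem_blockMap ha hxV).mp hx)
  exact (c.mem_blockMap ha (c.v_conj l.2 hxV)).mpr this

theorem psi_ext {l m : ↥L} (hl : c.psi l ∈ Tv.tvGroup ↥c.act.range ↥(c.V))
    (hm : c.psi m ∈ Tv.tvGroup ↥c.act.range ↥(c.V))
    (h : ∀ W, c.IsBlock W → ∀ x ∈ W, (l : G) * x * (l : G)⁻¹ = m * x * (m : G)⁻¹) :
    c.psi l = c.psi m := by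
  refine c.setting.ext_blocks hl hm fun t ht w hw => ?_
  obtain ⟨a, rfl⟩ := c.psi_surj t
  refine Subtype.ext ?_
  rw [c.psi_smul, c.psi_smul]
  exact h _ ⟨a, ht, rfl⟩ w ⟨w, hw, rfl⟩

theorem psi_eq_one {l : ↥L} (hl : c.psi l ∈ Tv.tvGroup ↥c.act.range ↥(c.V))
    (h : ∀ W, c.IsBlock W → ∀ x ∈ W, (l : G) * x * (l : G)⁻¹ = x) : c.psi l = 1 := by
  have := c.psi_ext (m := 1) hl (by rw [map_one]; exact one_mem _) fun W hW x hx => by
    rw [h W hW x hx]; simp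
  rwa [map_one] at this

theorem odd_of_cube {k : ↥L} (h : k ^ 3 = 1) : Odd (orderOf (c.psi k)) :=
  Odd.of_dvd_nat (by decide) (orderOf_dvd_of_pow_eq_one (n := 3) (by rw [← map_pow, h, map_one]))

/-- An element of order dividing 3 fixing a nonidentity element of a block fixes the block. -/
theorem cube_fix {k : ↥L} (h3 : k ^ 3 = 1) (hk : c.psi k ∈ Tv.tvGroup ↥c.act.range ↥(c.V))
    {W : Subgroup G} (hW : c.IsBlock W) {x : G} (hx : x ∈ W) (hx1 : x ≠ 1)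
    (hfix : (k : G) * x * (k : G)⁻¹ = x) : ∀ y ∈ W, (k : G) * y * (k : G)⁻¹ = y := by
  obtain ⟨a, ha⟩ := hW
  intro y hy
  have hxV := c.block_le_v ⟨a, ha⟩ hx
  have hyV := c.block_le_v ⟨a, ha⟩ hy
  have := c.setting.odd_fix_block (c.odd_of_cube h3) ha.1
    (fun w hw => c.setting.tvGroup_smul_block hk ha.1 hw) ((c.mem_blockMap ha hxV).mp hx)
    (fun e => hx1 (congrArg Subtype.val e)) (Subtype.ext hfix) _ ((c.mem_blockMap ha hyV).mp hy)
  exact congrArg Subtype.val this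

theorem orbit {k : ↥L} (h3 : k ^ 3 = 1) (hk : c.psi k ∈ Tv.tvGroup ↥c.act.range ↥(c.V))
    {W : Subgroup G} (hW : c.IsBlock W) {x : G} (hx : x ∈ W)
    (hmv : (k : G) * x * (k : G)⁻¹ ≠ x) : ∀ y ∈ W, y = 1 ∨ y = x ∨ y = k * x * (k : G)⁻¹ ∨
      y = k * (k * x * (k : G)⁻¹) * (k : G)⁻¹ := by
  obtain ⟨a, ha⟩ := hW
  intro y hy
  have hxV := c.block_le_v ⟨a, ha⟩ hx
  have hyV := c.block_le_v ⟨a, ha⟩ hy
  rcases (c.setting.odd_orbit hk (c.odd_of_cube h3) ha.1 ((c.mem_blockMap ha hxV).mp hx)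
    (fun e => hmv (congrArg Subtype.val e))).2 _ ((c.mem_blockMap ha hyV).mp hy) with e | e | e | e
  · exact Or.inl (congrArg Subtype.val e)
  · exact Or.inr (Or.inl (congrArg Subtype.val e))
  · exact Or.inr (Or.inr (Or.inl (congrArg Subtype.val e)))
  · exact Or.inr (Or.inr (Or.inr (congrArg Subtype.val e)))

theorem gen_moves {W : Subgroup G} {k : ↥L} (h : c.IsGen W k) {x : G} (hx : x ∈ W) (hx1 : x ≠ 1) :
    (k : G) * x * (k : G)⁻¹ ≠ x := by
  obtain ⟨h3, hk, hoth, hne, a, -, ha, -⟩ := h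
  intro hfix
  refine hne (c.psi_eq_one hk fun W' hW' y hy => ?_)
  by_cases e : W' = W
  · subst e; exact c.cube_fix h3 hk hW' hx hx1 hfix y hy
  · exact hoth W' hW' e y hy

theorem gen_isBlock {W : Subgroup G} {k : ↥L} (h : c.IsGen W k) : c.IsBlock W := by
  obtain ⟨-, -, -, -, a, -, ha, -⟩ := h
  exact ⟨a, ha⟩

/-- Every block has a generator. -/
theorem exists_gen {a : ↥L} {W : Subgroup G} (h2 : ∃ m : ℕ, a ^ 2 ^ m = 1) (h : c.IsTvOf a W) :
    ∃ k, c.IsGen W k := by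
  haveI : Fact (Nat.Prime 2) := ⟨Nat.prime_two⟩
  obtain ⟨d, hd⟩ := h.1
  obtain ⟨s, e, hs, hF, hde, -, -, hsd, -, -, -⟩ := c.setting.block_data hd
  obtain ⟨x, hx⟩ := c.psi_surj (s * c.psi a)
  set f := c.psi x with hf
  have hfe : f = s * c.psi a := hx
  have hX : f ∈ Tv.tvGroup ↥c.act.range ↥(c.V) := by
    rw [hfe]; exact mul_mem (c.setting.tv_mem ⟨_, hs⟩) (c.setting.tv_mem h.1)
  have hfo : Odd (orderOf f) := by rw [hfe]; exact c.setting.odd_fitting hF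
  have hf3 : f ^ 3 = 1 := c.setting.odd_cube hX hfo
  have hfd : f • d = d * e := by rw [hfe]; exact hsd
  have hf1 : f ≠ 1 := fun hh => hs.1 (by rw [hh, one_smul] at hfd; exact mul_eq_left.mp hfd.symm)
  set y := a * x * a⁻¹ * x⁻¹ with hy
  have hpsiy : c.psi y = f := by
    have hss := c.setting.sq_one hs
    have hti := c.setting.tv_inv hd
    simp only [hy, map_mul, map_inv, ← hf]
    rw [hfe, mul_inv_rev, hti, c.setting.tv_inv hs]
    have hf3' : (s * c.psi a) ^ 3 = 1 := by rw [← hfe]; exact hf3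
    calc c.psi a * (s * c.psi a) * c.psi a * (c.psi a * s)
        = c.psi a * s * (c.psi a * c.psi a) * (c.psi a * s) := by group
      _ = c.psi a * s * (c.psi a * s) := by rw [c.setting.sq_one hd, mul_one]
      _ = ((s * c.psi a) ^ 2)⁻¹ := by
          rw [pow_two, mul_inv_rev, mul_inv_rev, c.setting.tv_inv hs, hti]
      _ = s * c.psi a := inv_eq_of_mul_eq_one_right (by rw [← pow_succ]; exact hf3')
  -- modulo `O₂(L)`
  set O' := (O).subgroupOf L with hO'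
  haveI : O'.Normal := ⟨fun m hm g => c.o_conj g.2 hm⟩
  set π := QuotientGroup.mk' O' with hπ
  have hπ1 : ∀ {l : ↥L}, π l = 1 ↔ (l : G) ∈ O := fun {l} => QuotientGroup.eq_one_iff l
  obtain ⟨ma, hma⟩ := h2
  have haa : π a * π a = 1 := by
    rw [← map_mul, hπ1]
    refine c.ker_two (by rw [map_mul]; exact c.setting.sq_one hd) ⟨ma, ?_⟩
    rw [← pow_two, ← pow_mul, mul_comm, pow_mul, hma, one_pow]
  have hinv : π a * π y * (π a)⁻¹ = (π y)⁻¹ := by
    have hai : (π a)⁻¹ = π a := inv_eq_of_mul_eq_one_right haa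
    simp only [hy, map_mul, map_inv, mul_inv_rev, inv_inv]
    calc π a * (π a * π x * (π a)⁻¹ * (π x)⁻¹) * (π a)⁻¹
        = (π a * π a) * π x * (π a)⁻¹ * (π x)⁻¹ * (π a)⁻¹ := by group
      _ = π x * (π a * ((π x)⁻¹ * (π a)⁻¹)) := by rw [haa, hai]; group
  have hy3 : π (y ^ 3) = 1 := by
    have hk1 : c.psi (y ^ 3) = 1 := by rw [map_pow, hpsiy, hf3]
    have hc := hπ1.mpr (c.comm_two hk1 ⟨ma, hma⟩)
    simp only [map_mul, map_inv, map_pow] at hc
    rw [← conj_pow, hinv, mul_inv_eq_one] at hc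
    -- `z⁻¹ = z`
    have hsq : π (y ^ 3) * π (y ^ 3) = 1 := by
      rw [map_pow]
      calc π y ^ 3 * π y ^ 3 = π y ^ 3 * (π y)⁻¹ ^ 3 := by rw [hc]
        _ = 1 := by rw [inv_pow, mul_inv_cancel]
    have h6 := hπ1.mp (show π (y ^ 3 * y ^ 3) = 1 by rw [map_mul]; exact hsq)
    obtain ⟨m, hm⟩ := pCoreOf_isPGroup (p := 2) L ⟨_, h6⟩
    refine hπ1.mpr (c.ker_two hk1 ⟨m + 1, Subtype.ext ?_⟩)
    rw [Subgroup.coe_pow, pow_succ' (2 : ℕ), pow_mul, pow_two, ← Subgroup.coe_mul, Subgroup.coe_one]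
    exact congrArg Subtype.val hm
  obtain ⟨m, hm⟩ := pCoreOf_isPGroup (p := 2) L ⟨_, hπ1.mp hy3⟩
  have hk3 : (y ^ 2 ^ m) ^ 3 = 1 := by
    rw [← pow_mul, mul_comm, pow_mul]
    refine Subtype.ext ?_
    rw [Subgroup.coe_pow, Subgroup.coe_one]
    exact congrArg Subtype.val hm
  refine ⟨y ^ 2 ^ m, hk3, ?_, fun W' hW' hne x' hx' => ?_, fun h0 => ?_, a, ⟨ma, hma⟩, h, ?_⟩
  · rw [map_pow, hpsiy]; exact pow_mem hX _
  · obtain ⟨s', hs'⟩ := c.psi_surj s
    have hsb : c.IsTvOf s' W := ⟨⟨_, hs'.symm ▸ hs⟩, by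
      rw [h.2, hs', c.setting.block_eq_of_class hd hF]⟩
    have f1 : ∀ z ∈ W', (a : G) * z * (a : G)⁻¹ = z := fun z hz => by
      by_contra hh; exact hne (c.block_eq_of_moves h hW' hz hh).symm
    have f2 : ∀ z ∈ W', (s' : G) * z * (s' : G)⁻¹ = z := fun z hz => by
      by_contra hh; exact hne (c.block_eq_of_moves hsb hW' hz hh).symm
    have hxV := c.block_le_v hW' hx'
    have e1 : c.psi a • (⟨x', hxV⟩ : ↥(c.V)) = ⟨x', hxV⟩ := Subtype.ext (f1 x' hx')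
    have e2 : s • (⟨x', hxV⟩ : ↥(c.V)) = ⟨x', hxV⟩ := by rw [← hs']; exact Subtype.ext (f2 x' hx')
    have ef : f • (⟨x', hxV⟩ : ↥(c.V)) = ⟨x', hxV⟩ := by rw [hfe, mul_smul, e1, e2]
    have : c.psi (y ^ 2 ^ m) • (⟨x', hxV⟩ : ↥(c.V)) = ⟨x', hxV⟩ := by
      rw [map_pow, hpsiy]
      exact Nat.recOn (2 ^ m) (by rw [pow_zero, one_smul]) fun n ih => by
        rw [pow_succ, mul_smul, ef, ih]
    exact congrArg Subtype.val this
  · rw [map_pow, hpsiy] at h0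
    exact hf1 (c.setting.eq_one_of_odd_pow hfo h0)
  · refine hπ1.mp ?_
    simp only [map_mul, map_inv, map_pow]
    rw [← conj_pow, hinv, inv_pow, inv_mul_cancel]

/-- The kernel centralizes a generator modulo `O₂(L)`. -/
theorem gen_comm {W : Subgroup G} {k l : ↥L} (hk : c.IsGen W k) (hl : c.psi l = 1) :
    ((k * l * k⁻¹ * l⁻¹ : ↥L) : G) ∈ O := by
  obtain ⟨h3, -, -, -, a, ⟨ma, hma⟩, -, hinv⟩ := hk
  set O' := (O).subgroupOf L with hO'
  haveI : O'.Normal := ⟨fun m hm g => c.o_conj g.2 hm⟩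
  set π := QuotientGroup.mk' O' with hπ
  have hπ1 : ∀ {l : ↥L}, π l = 1 ↔ (l : G) ∈ O := fun {l} => QuotientGroup.eq_one_iff l
  have e1 := hπ1.mpr (c.comm_two (a := a) hl ⟨ma, hma⟩)
  have e2 := hπ1.mpr (c.comm_two (a := k * a⁻¹ * k⁻¹) hl ⟨ma, by rw [conj_pow, inv_pow, hma]; group⟩)
  have e3 := hπ1.mpr hinv
  refine hπ1.mp ?_
  simp only [map_mul, map_inv] at e1 e2 e3 ⊢
  have ea : Commute (π a) (π l) := mul_inv_eq_iff_eq_mul.mp (mul_inv_eq_one.mp e1)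
  have ea' : Commute (π k * (π a)⁻¹ * (π k)⁻¹) (π l) :=
    mul_inv_eq_iff_eq_mul.mp (mul_inv_eq_one.mp e2)
  have hki : π a * π k * (π a)⁻¹ = (π k)⁻¹ := eq_inv_of_mul_eq_one_left e3
  have hkk : Commute (π k * π k) (π l) := by
    have h4 : π a * (π k * (π a)⁻¹ * (π k)⁻¹) = (π k)⁻¹ * (π k)⁻¹ := by
      calc π a * (π k * (π a)⁻¹ * (π k)⁻¹) = (π a * π k * (π a)⁻¹) * (π k)⁻¹ := by group
        _ = _ := by rw [hki]
    have h5 := (ea.mul_left ea').inv_left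
    rw [h4, mul_inv_rev, inv_inv] at h5
    exact h5
  have h6 : π k = (π k * π k) * (π k * π k) := by
    have : π k ^ 3 = 1 := by rw [← map_pow, h3, map_one]
    calc π k = π k * π k ^ 3 := by rw [this, mul_one]
      _ = _ := by simp only [pow_succ, pow_zero, one_mul, mul_assoc]
  rw [h6, (hkk.mul_left hkk).eq]
  group

theorem tv_conj_eq {a a' : ↥L} {W : Subgroup G} {k : ↥L} (hk : c.IsGen W k) (ha : c.IsTvOf a W)
    (ha' : c.IsTvOf a' W) : ∃ i : ℕ, c.psi a' = c.psi (k ^ i * a * (k ^ i)⁻¹) := by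
  obtain ⟨d, hd⟩ := ha.1
  obtain ⟨d', hd'⟩ := ha'.1
  have hdW : (d : G) ∈ W := (c.mem_blockMap ha d.2).mpr (c.setting.cen_mem_block hd)
  have hd'W : (d' : G) ∈ W := (c.mem_blockMap ha' d'.2).mpr (c.setting.cen_mem_block hd')
  have hd1 : (d : G) ≠ 1 := fun e => hd.1 (Subtype.ext e)
  obtain ⟨i, hi⟩ : ∃ i : ℕ, d' = c.psi (k ^ i) • d := by
    rcases c.orbit hk.1 hk.2.1 ⟨a, ha⟩ hdW (c.gen_moves hk hdW hd1) _ hd'W with e | e | e | e
    · exact absurd (Subtype.ext e) hd'.1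
    · exact ⟨0, by rw [pow_zero, map_one, one_smul]; exact Subtype.ext e⟩
    · exact ⟨1, Subtype.ext (by rw [e, pow_one, c.psi_smul])⟩
    · refine ⟨2, Subtype.ext ?_⟩
      rw [e, c.psi_smul, pow_two]
      push_cast
      group
  refine ⟨i, ?_⟩
  have hconj := c.setting.cen_conj hd (c.psi (k ^ i))
  rw [← hi, ← map_inv, ← map_mul, ← map_mul] at hconj
  refine c.setting.tv_eq hconj hd' ?_
  have hb : c.IsTvOf (k ^ i * a * (k ^ i)⁻¹) W := by
    have h1 := c.block_conj ha (k ^ i)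
    have e : W.map (MulAut.conj ((k ^ i : ↥L) : G)).toMonoidHom = W := by
      refine Subgroup.eq_of_le_of_card_ge ?_
        (Subgroup.card_map_of_injective (MulAut.conj ((k ^ i : ↥L) : G)).injective).ge
      rintro _ ⟨x, hx, rfl⟩
      exact c.tvgroup_preserves (by rw [map_pow]; exact pow_mem hk.2.1 i) ⟨a, ha⟩ hx
    rwa [e] at h1
  exact Subgroup.map_injective (c.V).subtype_injective (ha'.2.symm.trans hb.2)

/-- Every `2`-element inducing a transvection of the block inverts a generator modulo `O₂(L)`. -/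
theorem inv_any {W : Subgroup G} {k a' : ↥L} (hk : c.IsGen W k) (ha' : c.IsTvOf a' W) :
    ((a' * k * a'⁻¹ * k : ↥L) : G) ∈ O := by
  obtain ⟨a, -, ha, hinv⟩ := hk.2.2.2.2
  obtain ⟨i, hi⟩ := c.tv_conj_eq hk ha ha'
  set l := (k ^ i * a * (k ^ i)⁻¹)⁻¹ * a' with hldef
  have hl : c.psi l = 1 := by rw [hldef, map_mul, map_inv, hi, inv_mul_cancel]
  have hcomm := c.gen_comm hk hl
  set O' := (O).subgroupOf L with hO'
  haveI : O'.Normal := ⟨fun m hm g => c.o_conj g.2 hm⟩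
  set π := QuotientGroup.mk' O' with hπ
  have hπ1 : ∀ {l : ↥L}, π l = 1 ↔ (l : G) ∈ O := fun {l} => QuotientGroup.eq_one_iff l
  have e3 := hπ1.mpr hinv
  have e4 := hπ1.mpr hcomm
  refine hπ1.mp ?_
  simp only [map_mul, map_inv] at e3 e4
  have hkl : π k * π l = π l * π k := mul_inv_eq_iff_eq_mul.mp (mul_inv_eq_one.mp e4)
  have ea' : a' = k ^ i * a * (k ^ i)⁻¹ * l := by rw [hldef]; group
  simp only [ea', map_mul, map_inv, map_pow]
  have hki : π a * π k * (π a)⁻¹ = (π k)⁻¹ := eq_inv_of_mul_eq_one_left e3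
  calc π k ^ i * π a * (π k ^ i)⁻¹ * π l * π k * (π k ^ i * π a * (π k ^ i)⁻¹ * π l)⁻¹ * π k
      = π k ^ i * π a * (π k ^ i)⁻¹ * (π l * π k) * (π l)⁻¹ * π k ^ i * (π a)⁻¹ * (π k ^ i)⁻¹ * π k := by
        group
    _ = π k ^ i * (π a * π k * (π a)⁻¹) * (π k ^ i)⁻¹ * π k := by rw [← hkl]; group
    _ = 1 := by rw [hki]; group

/-- Two generators of a block give the same `O₂(L)⟨k⟩`. -/
theorem gen_unique {W : Subgroup G} {k k' : ↥L} (hk : c.IsGen W k) (hk' : c.IsGen W k') :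
    (k' : G) ∈ h0 L k := by
  obtain ⟨a, -, ha, hinv'⟩ := hk'.2.2.2.2
  have hinv := c.inv_any hk ha
  obtain ⟨x, hx, hx1⟩ := c.block_ne_bot ⟨a, ha⟩
  have hm := c.gen_moves hk hx hx1
  -- `k'` agrees with a power of `k`
  obtain ⟨e, he⟩ : ∃ e : ℕ, (k' : G) * x * (k' : G)⁻¹ = (k ^ e : ↥L) * x * ((k ^ e : ↥L) : G)⁻¹ := by
    rcases c.orbit hk.1 hk.2.1 ⟨a, ha⟩ hx hm _ (c.tvgroup_preserves hk'.2.1 ⟨a, ha⟩ hx)
      with h | h | h | h
    · exact absurd (conj_eq_one_iff.mp h) hx1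
    · exact absurd h (c.gen_moves hk' hx hx1)
    · exact ⟨1, by rw [h, pow_one]⟩
    · exact ⟨2, by rw [h, pow_two]; push_cast; group⟩
  have hkeX : c.psi (k ^ e) ∈ Tv.tvGroup ↥c.act.range ↥(c.V) := by
    rw [map_pow]; exact pow_mem hk.2.1 e
  have hpsi : c.psi k' = c.psi (k ^ e) := by
    -- the quotient is an element of odd order fixing `x`
    set g := (c.psi (k ^ e))⁻¹ * c.psi k' with hg
    have hgX : g ∈ Tv.tvGroup ↥c.act.range ↥(c.V) := mul_mem (inv_mem hkeX) hk'.2.1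
    have hg3 : g ^ 3 = 1 := by
      have hcom : Commute (c.psi (k ^ e))⁻¹ (c.psi k') := by
        refine (Commute.inv_left ?_)
        rw [map_pow]
        exact (Commute.pow_left (c.setting.odd_commute hk.2.1 hk'.2.1 (c.odd_of_cube hk.1)
          (c.odd_of_cube hk'.1)) e)
      rw [hg, hcom.mul_pow, inv_pow, ← map_pow, ← map_pow, hk'.1, ← pow_mul, mul_comm, pow_mul,
        hk.1, one_pow, map_one, inv_one, one_mul]
    refine (inv_mul_eq_one.mp (c.setting.eq_one_of_fix_blocks hgX fun t ht w hw => ?_)).symm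
    obtain ⟨b, rfl⟩ := c.psi_surj t
    have hbB : c.IsBlock ((Tv.blockOf ↥(c.V) (c.psi b)).map (c.V).subtype) := ⟨b, ht, rfl⟩
    by_cases hW : (Tv.blockOf ↥(c.V) (c.psi b)).map (c.V).subtype = W
    · have hxV := c.block_le_v ⟨a, ha⟩ hx
      have hxb : (⟨x, hxV⟩ : ↥(c.V)) ∈ Tv.blockOf ↥(c.V) (c.psi b) := by
        obtain ⟨z, hz, hzx⟩ := hW.ge hx
        rwa [show (⟨x, hxV⟩ : ↥(c.V)) = z from Subtype.ext hzx.symm]
      refine c.setting.odd_fix_block (Odd.of_dvd_nat (by decide) (orderOf_dvd_of_pow_eq_one hg3))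
        ht (fun u hu => c.setting.tvGroup_smul_block hgX ht hu) hxb
        (fun h => hx1 (congrArg Subtype.val h)) ?_ w hw
      rw [mul_smul, inv_smul_eq_iff]
      exact Subtype.ext he
    · rw [mul_smul, inv_smul_eq_iff]
      refine Subtype.ext ?_
      rw [c.psi_smul, c.psi_smul, hk'.2.2.1 _ hbB hW (w : G) ⟨w, hw, rfl⟩]
      have hfix : ∀ n : ℕ, ((k ^ n : ↥L) : G) * (w : G) * ((k ^ n : ↥L) : G)⁻¹ = w := fun n => by
        induction n with
        | zero => simp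
        | succ n ih =>
          rw [pow_succ]
          push_cast
          calc (k : G) ^ n * (k : G) * (w : G) * ((k : G) ^ n * (k : G))⁻¹
              = (k : G) ^ n * ((k : G) * (w : G) * (k : G)⁻¹) * ((k : G) ^ n)⁻¹ := by group
            _ = (w : G) := by
              rw [hk.2.2.1 _ hbB hW (w : G) ⟨w, hw, rfl⟩]
              simpa using ih
      exact (hfix e).symm
  set l := (k ^ e)⁻¹ * k' with hldef
  have hl : c.psi l = 1 := by rw [hldef, map_mul, map_inv, hpsi, inv_mul_cancel]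
  have hcomm := c.gen_comm hk hl
  obtain ⟨a₀, ⟨m₀, hm₀⟩, ha₀, hinv₀⟩ := hk'.2.2.2.2
  have hinv₁ := c.inv_any hk ha₀
  have hca := c.comm_two (a := a₀) hl ⟨m₀, hm₀⟩
  set O' := (O).subgroupOf L with hO'
  haveI : O'.Normal := ⟨fun m hm g => c.o_conj g.2 hm⟩
  set π := QuotientGroup.mk' O' with hπ
  have hπ1 : ∀ {l : ↥L}, π l = 1 ↔ (l : G) ∈ O := fun {l} => QuotientGroup.eq_one_iff l
  have e1 := hπ1.mpr hinv₀
  have e2 := hπ1.mpr hinv₁
  have e3 := hπ1.mpr hca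
  have e4 := hπ1.mpr hcomm
  simp only [map_mul, map_inv] at e1 e2 e3 e4
  have hk'e : π k' = π k ^ e * π l := by rw [hldef, map_mul, map_inv, map_pow]; group
  have hki : π a₀ * π k * (π a₀)⁻¹ = (π k)⁻¹ := eq_inv_of_mul_eq_one_left e2
  have hla : π a₀ * π l * (π a₀)⁻¹ = π l := mul_inv_eq_one.mp e3
  have hkl : Commute (π k) (π l) := mul_inv_eq_iff_eq_mul.mp (mul_inv_eq_one.mp e4)
  have hsq : π l * π l = 1 := by
    rw [hk'e] at e1
    have h1 : π a₀ * (π k ^ e * π l) * (π a₀)⁻¹ = (π k)⁻¹ ^ e * π l := by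
      rw [show π a₀ * (π k ^ e * π l) * (π a₀)⁻¹ =
        (π a₀ * π k ^ e * (π a₀)⁻¹) * (π a₀ * π l * (π a₀)⁻¹) by group, ← conj_pow, hki, hla]
    rw [h1] at e1
    calc π l * π l = (π k)⁻¹ ^ e * π l * (π k ^ e * π l) := by
          rw [← mul_assoc ((π k)⁻¹ ^ e * π l), mul_assoc ((π k)⁻¹ ^ e), ← (hkl.pow_left e).eq,
            ← mul_assoc ((π k)⁻¹ ^ e), inv_pow, inv_mul_cancel, one_mul]
      _ = 1 := e1
  have h6 := hπ1.mp (show π (l * l) = 1 by rw [map_mul]; exact hsq)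
  obtain ⟨m, hm⟩ := pCoreOf_isPGroup (p := 2) L ⟨_, h6⟩
  have hlO := c.ker_two hl ⟨m + 1, Subtype.ext (by
    rw [Subgroup.coe_pow, pow_succ' (2 : ℕ), pow_mul, pow_two, ← Subgroup.coe_mul, Subgroup.coe_one]
    exact congrArg Subtype.val hm)⟩
  rw [show (k' : G) = ((k : G) ^ e) * (l : G) by rw [hldef]; push_cast; group]
  exact mul_mem (pow_mem (Subgroup.mem_sup_right (Subgroup.mem_zpowers _)) e)
    (Subgroup.mem_sup_left hlO)

theorem gen_conj {W : Subgroup G} {k : ↥L} (hk : c.IsGen W k) (l : ↥L) :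
    c.IsGen (W.map (MulAut.conj (l : G)).toMonoidHom) (l * k * l⁻¹) := by
  obtain ⟨h3, hX, hoth, hne, a, ⟨m, hm⟩, ha, hinv⟩ := hk
  refine ⟨by rw [conj_pow, h3]; group, ?_, fun W' hW' hne' x hx => ?_, fun h => hne ?_,
    l * a * l⁻¹, ⟨m, by rw [conj_pow, hm]; group⟩, c.block_conj ha l, ?_⟩
  · rw [map_mul, map_mul, map_inv]
    exact c.setting.tvGroup_normal.conj_mem _ hX _
  · have hW'' := c.isBlock_conj hW' l⁻¹
    have hne'' : W'.map (MulAut.conj ((l⁻¹ : ↥L) : G)).toMonoidHom ≠ W := fun e => hne' (by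
      rw [← e]; ext z; simp only [mem_map_conj]; push_cast; simp [mul_assoc])
    have := hoth _ hW'' hne'' ((l : G)⁻¹ * x * l) (by
      rw [mem_map_conj]; push_cast; simpa [mul_assoc] using hx)
    calc ((l * k * l⁻¹ : ↥L) : G) * x * ((l * k * l⁻¹ : ↥L) : G)⁻¹
        = (l : G) * ((k : G) * ((l : G)⁻¹ * x * l) * (k : G)⁻¹) * (l : G)⁻¹ := by push_cast; group
      _ = x := by rw [this]; group
  · rw [map_mul, map_mul, map_inv, conj_eq_one_iff] at h; exact h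
  · rw [show ((l * a * l⁻¹ * (l * k * l⁻¹) * (l * a * l⁻¹)⁻¹ * (l * k * l⁻¹) : ↥L) : G) =
      (l : G) * ((a * k * a⁻¹ * k : ↥L) : G) * (l : G)⁻¹ by push_cast; group]
    exact c.o_conj l.2 hinv

theorem h0_le (k : ↥L) : h0 L (k : G) ≤ L :=
  sup_le (LocalEven.pCoreOf_le L) (Subgroup.zpowers_le.mpr k.2)

theorem kOf_le (k : ↥L) : kOf L (k : G) ≤ L :=
  (Subgroup.closure_le _).mpr fun _ hg => c.h0_le k hg.1

theorem kOf_map (f : G ≃* G) {k : ↥L} (hf : (h0 L (k : G)).map f.toMonoidHom ≤ h0 L k) :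
    (kOf L (k : G)).map f.toMonoidHom ≤ kOf L k := by
  rw [kOf, MonoidHom.map_closure, Subgroup.closure_le]
  rintro _ ⟨g, ⟨hg, ho⟩, rfl⟩
  exact Subgroup.subset_closure ⟨hf ⟨g, hg, rfl⟩, by
    rw [show orderOf (f.toMonoidHom g) = orderOf g from f.orderOf_eq g]; exact ho⟩

/-- An element of `L` normalizing a block normalizes its component. -/
theorem normalizes_kOf {W : Subgroup G} {k : ↥L} (hk : c.IsGen W k) {l : G} (hl : l ∈ L)
    (hn : l ∈ Subgroup.normalizer (W : Set G)) :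
    l ∈ Subgroup.normalizer (h0 L (k : G) : Set G) ∧
      l ∈ Subgroup.normalizer (kOf L (k : G) : Set G) := by
  have key : (h0 L (k : G)).map (MulAut.conj l).toMonoidHom ≤ h0 L k := by
    rw [h0, Subgroup.map_sup, sup_le_iff]
    constructor
    · rintro _ ⟨x, hx, rfl⟩
      exact Subgroup.mem_sup_left (c.o_conj hl hx)
    · rw [MonoidHom.map_zpowers, Subgroup.zpowers_le]
      have h1 := c.gen_conj hk ⟨l, hl⟩
      rw [show W.map (MulAut.conj ((⟨l, hl⟩ : ↥L) : G)).toMonoidHom = W from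
        Subgroup.mem_normalizer_iff_map_conj_eq.mp hn] at h1
      exact c.gen_unique hk h1
  refine ⟨mem_normalizer_of_map_le fun x hx => key ⟨x, hx, rfl⟩, ?_⟩
  exact mem_normalizer_of_map_le fun x hx => c.kOf_map _ key ⟨x, hx, rfl⟩

/-- The component of a block is subnormal. -/
theorem kOf_subnormal {W : Subgroup G} {k : ↥L} (hk : c.IsGen W k) :
    ((kOf L (k : G)).subgroupOf L).IsSubnormal := by
  set LX := (Tv.tvGroup ↥c.act.range ↥(c.V)).comap c.psi with hLX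
  haveI := c.setting.tvGroup_normal
  have hLXn : LX.IsSubnormal := Subgroup.Normal.isSubnormal inferInstance
  have hnormW : ∀ l ∈ LX, (l : G) ∈ Subgroup.normalizer (W : Set G) := fun l hl =>
    mem_normalizer_of_map_le fun x hx => c.tvgroup_preserves hl (c.gen_isBlock hk) hx
  set H0 := (h0 L (k : G)).subgroupOf L with hH0
  have hH0X : H0 ≤ LX := by
    intro l hl
    have hle : h0 L (k : G) ≤ LX.map L.subtype := by
      refine sup_le (fun x hx => ⟨⟨x, LocalEven.pCoreOf_le L hx⟩, ?_, rfl⟩)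
        (Subgroup.zpowers_le.mpr ⟨k, hk.2.1, rfl⟩)
      show c.psi _ ∈ Tv.tvGroup ↥c.act.range ↥(c.V)
      rw [c.psi_o (by exact hx)]
      exact one_mem _
    obtain ⟨z, hz, hzl⟩ := hle hl
    rwa [show l = z from Subtype.ext hzl.symm]
  have hH0n : LX ≤ Subgroup.normalizer (H0 : Set ↥L) := fun l hl => by
    rw [Subgroup.mem_normalizer_iff]
    intro x
    exact Subgroup.mem_normalizer_iff.mp (c.normalizes_kOf hk l.2 (hnormW l hl)).1 x
  have hH0s : H0.IsSubnormal := Subgroup.IsSubnormal.step H0 LX hH0X hLXn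
    (Subgroup.normal_subgroupOf_of_le_normalizer hH0n)
  refine Subgroup.IsSubnormal.step _ H0 (fun x hx => ?_) hH0s
    (Subgroup.normal_subgroupOf_of_le_normalizer fun l hl => ?_)
  · exact ((Subgroup.closure_le _).mpr fun g hg => hg.1 : kOf L (k : G) ≤ h0 L k) hx
  · rw [Subgroup.mem_normalizer_iff]
    intro x
    exact Subgroup.mem_normalizer_iff.mp (c.normalizes_kOf hk l.2 (hnormW l (hH0X hl))).2 x

end JCtx

end Cfsg.Agent.Lib.LocalEven2
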