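import Cfsg.Agent.Lib.LocalEven2.Thompson
import Cfsg.Agent.Lib.LocalEven2.Basic
import Cfsg.Agent.Lib.LocalEven.PCore
import Cfsg.Agent.Lib.PLocal.GZJ
import Cfsg.Agent.Lib.Solvable.Nilpotent
import Mathlib.Algebra.Group.Subgroup.Pointwise

/-!
`J(T)`-components: the action on the four-group `W_K` and the decomposition of `Ω₁(Z(J(T)))`.
-/

set_option autoImplicit false

namespace Cfsg.Agent.Lib.LocalEven2

open scoped Pointwise commutatorElement

variable {G : Type*} [Group G]

/-! ### Generalities -/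

theorem mem_omegaCenterOf_iff {X : Subgroup G} {x : G} :
    x ∈ Cfsg.omegaCenterOf X ↔ x ∈ X ∧ (∀ y ∈ X, y * x = x * y) ∧ x * x = 1 := by
  constructor
  · intro hx
    unfold Cfsg.omegaCenterOf Cfsg.omegaOne at hx
    induction hx using Subgroup.closure_induction with
    | mem y hy => exact ⟨hy.1.1, fun z hz => Subgroup.mem_centralizer_iff.mp hy.1.2 z hz,
        by rw [← pow_two]; exact hy.2⟩
    | one => exact ⟨one_mem _, by simp, mul_one 1⟩
    | mul y z _ _ hy hz =>
      refine ⟨mul_mem hy.1 hz.1, fun t ht => ?_, ?_⟩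
      · rw [← mul_assoc, hy.2.1 t ht, mul_assoc, hz.2.1 t ht, mul_assoc]
      · calc y * z * (y * z) = y * (z * y) * z := by group
          _ = (y * y) * (z * z) := by rw [← hz.2.1 y hy.1]; group
          _ = 1 := by rw [hy.2.2, hz.2.2, mul_one]
    | inv y _ hy =>
      refine ⟨inv_mem hy.1, fun t ht => ?_, by rw [← mul_inv_rev, hy.2.2, inv_one]⟩
      calc t * y⁻¹ = y⁻¹ * (y * t) * y⁻¹ := by group
        _ = y⁻¹ * t := by rw [← hy.2.1 t ht]; group
  · rintro ⟨h1, h2, h3⟩
    exact Subgroup.subset_closure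
      ⟨⟨h1, Subgroup.mem_centralizer_iff.mpr fun y hy => h2 y hy⟩, by rw [pow_two]; exact h3⟩

theorem omegaCenterOf_le (X : Subgroup G) : Cfsg.omegaCenterOf X ≤ X :=
  fun _ hx => (mem_omegaCenterOf_iff.mp hx).1

theorem mem_normalizer_of_map_le [Finite G] {H : Subgroup G} {g : G}
    (h : ∀ x ∈ H, g * x * g⁻¹ ∈ H) : g ∈ Subgroup.normalizer (H : Set G) := by
  rw [Subgroup.mem_normalizer_iff_map_conj_eq]
  refine Subgroup.eq_of_le_of_card_ge (fun x hx => ?_) ?_
  · obtain ⟨y, hy, rfl⟩ := hx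
    exact h y hy
  · exact (Subgroup.card_map_of_injective (MulAut.conj g).injective).ge

theorem conj_mem_of_normalizer {H : Subgroup G} {g x : G}
    (hg : g ∈ Subgroup.normalizer (H : Set G)) (hx : x ∈ H) : g * x * g⁻¹ ∈ H :=
  (Subgroup.mem_normalizer_iff.mp hg x).mp hx

theorem normalizer_le_normalizer_omegaCenterOf [Finite G] (X : Subgroup G) :
    Subgroup.normalizer (X : Set G) ≤ Subgroup.normalizer (Cfsg.omegaCenterOf X : Set G) := by
  intro g hg
  refine mem_normalizer_of_map_le fun x hx => ?_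
  obtain ⟨h1, h2, h3⟩ := mem_omegaCenterOf_iff.mp hx
  refine mem_omegaCenterOf_iff.mpr ⟨conj_mem_of_normalizer hg h1, fun y hy => ?_, ?_⟩
  · have h := h2 _ (conj_mem_of_normalizer (inv_mem hg) hy)
    calc y * (g * x * g⁻¹) = g * ((g⁻¹ * y * g⁻¹⁻¹) * x) * g⁻¹ := by group
      _ = g * x * g⁻¹ * y := by rw [h]; group
  · rw [show g * x * g⁻¹ * (g * x * g⁻¹) = g * (x * x) * g⁻¹ by group, h3]; group

theorem normalizer_le_normalizer_pCoreOf [Finite G] (p : ℕ) (H : Subgroup G) :
    Subgroup.normalizer (H : Set G) ≤ Subgroup.normalizer (Cfsg.pCoreOf p H : Set G) := by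
  intro g hg
  rw [Subgroup.mem_normalizer_iff_map_conj_eq] at hg ⊢
  exact (LocalEven.conjS_pCoreOf g H).trans (congrArg (Cfsg.pCoreOf p) hg)

/-- `(h q)ⁿ ≡ qⁿ` modulo a subgroup normalized by `q`. -/
theorem mul_pow_mul_inv_mem {H : Subgroup G} {h q : G} (hh : h ∈ H)
    (hq : q ∈ Subgroup.normalizer (H : Set G)) (n : ℕ) : (h * q) ^ n * (q ^ n)⁻¹ ∈ H := by
  induction n with
  | zero => simp
  | succ n ih =>
    have : (h * q) ^ (n + 1) * (q ^ (n + 1))⁻¹ = h * (q * ((h * q) ^ n * (q ^ n)⁻¹) * q⁻¹) := by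
      rw [pow_succ', pow_succ']; group
    rw [this]
    exact mul_mem hh (conj_mem_of_normalizer hq ih)

/-- An element of odd order in a product of `H` and a `2`-group normalizing it lies in `H`. -/
theorem mem_of_odd_of_mem_sup [Finite G] {H Q : Subgroup G}
    (hn : Q ≤ Subgroup.normalizer (H : Set G)) (hQ : IsPGroup 2 ↥Q) {g : G}
    (hg : g ∈ H ⊔ Q) (ho : Odd (orderOf g)) : g ∈ H := by
  have hset := Subgroup.coe_mul_of_right_le_normalizer_left H Q hn
  rw [← SetLike.mem_coe, hset] at hg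
  obtain ⟨h, hh, q, hq, rfl⟩ := hg
  obtain ⟨m, hm⟩ := hQ ⟨q, hq⟩
  have hm' : q ^ 2 ^ m = 1 := congrArg Subtype.val hm
  have h1 := mul_pow_mul_inv_mem hh (hn hq) (2 ^ m)
  rw [hm', inv_one, mul_one] at h1
  have hc : Nat.Coprime (2 ^ m) (orderOf (h * q)) :=
    (Nat.coprime_two_left.mpr ho).pow_left m
  obtain ⟨r, hr⟩ := exists_pow_eq_self_of_coprime hc
  have := pow_mem h1 r
  rw [hr] at this
  exact this

/-- The four elements of a four-group. -/
theorem four_cases [Finite G] {W : Subgroup G} (h4 : Nat.card ↥W = 4)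
    (hexp : ∀ w ∈ W, w * w = 1) {x y : G} (hx : x ∈ W) (hy : y ∈ W) (hx1 : x ≠ 1) (hy1 : y ≠ 1)
    (hxy : x ≠ y) : ∀ z ∈ W, z = 1 ∨ z = x ∨ z = y ∨ z = x * y := by
  classical
  have hinv : y⁻¹ = y := inv_eq_of_mul_eq_one_right (hexp y hy)
  have hxy1 : x * y ≠ 1 := fun h => hxy (by rw [eq_inv_of_mul_eq_one_left h, hinv])
  have hxyx : x * y ≠ x := fun h => hy1 (mul_eq_left.mp h)
  have hxyy : x * y ≠ y := fun h => hx1 (mul_eq_right.mp h)
  have hsub : ((({1, x, y, x * y} : Finset G)) : Set G) ⊆ (W : Set G) := by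
    intro z hz
    simp only [Finset.coe_insert, Finset.coe_singleton, Set.mem_insert_iff,
      Set.mem_singleton_iff] at hz
    rcases hz with rfl | rfl | rfl | rfl
    exacts [one_mem _, hx, hy, mul_mem hx hy]
  have hcard : ({1, x, y, x * y} : Finset G).card = 4 := by
    rw [Finset.card_insert_of_notMem, Finset.card_insert_of_notMem, Finset.card_insert_of_notMem,
      Finset.card_singleton]
    · simpa using hxyy.symm
    · simp only [Finset.mem_insert, Finset.mem_singleton, not_or]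
      exact ⟨hxy, hxyx.symm⟩
    · simpa using ⟨hx1.symm, hy1.symm, hxy1.symm⟩
  have hset : (W : Set G).ncard = 4 := by rw [← Nat.card_coe_set_eq]; exact h4
  have heq := Set.eq_of_subset_of_ncard_le hsub (by rw [Set.ncard_coe_finset, hcard, hset])
  intro z hz
  have : z ∈ ((({1, x, y, x * y} : Finset G)) : Set G) := heq ▸ hz
  simpa using this

theorem comm_of_exp_two {W : Subgroup G} (hexp : ∀ w ∈ W, w * w = 1) {x y : G} (hx : x ∈ W)
    (hy : y ∈ W) : x * y = y * x := by
  rw [eq_inv_of_mul_eq_one_left (hexp _ (mul_mem hx hy)), mul_inv_rev,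
    inv_eq_of_mul_eq_one_right (hexp x hx), inv_eq_of_mul_eq_one_right (hexp y hy)]

/-- An element of odd order fixing a nontrivial element of a four-group it normalizes
centralizes the four-group. -/
theorem four_odd_fix [Finite G] {W : Subgroup G} (h4 : Nat.card ↥W = 4)
    (hexp : ∀ w ∈ W, w * w = 1) {g w : G} (ho : Odd (orderOf g))
    (hg : g ∈ Subgroup.normalizer (W : Set G)) (hw : w ∈ W) (hw1 : w ≠ 1)
    (hfix : g * w * g⁻¹ = w) : g ∈ Subgroup.centralizer (W : Set G) := by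
  rw [Subgroup.mem_centralizer_iff]
  intro x hx
  suffices h : g * x * g⁻¹ = x by
    calc x * g = (g * x * g⁻¹) * g := by rw [h]
      _ = g * x := by group
  by_cases hx1 : x = 1
  · simp [hx1]
  by_cases hxw : x = w
  · rwa [hxw]
  rcases four_cases h4 hexp hx hw hx1 hw1 hxw _ (conj_mem_of_normalizer hg hx) with h | h | h | h
  · exact absurd (conj_eq_one_iff.mp h) hx1
  · exact h
  · exact absurd (mul_left_cancel (mul_right_cancel (h.trans hfix.symm))) hxw
  · have h2 : g ^ 2 * x * (g ^ 2)⁻¹ = x := by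
      calc g ^ 2 * x * (g ^ 2)⁻¹ = g * (g * x * g⁻¹) * g⁻¹ := by rw [pow_two]; group
        _ = g * (x * w) * g⁻¹ := by rw [h]
        _ = (g * x * g⁻¹) * (g * w * g⁻¹) := by group
        _ = x * (w * w) := by rw [h, hfix, mul_assoc]
        _ = x := by rw [hexp w hw, mul_one]
    obtain ⟨m, hm⟩ := exists_pow_eq_self_of_coprime (Nat.coprime_two_left.mpr ho)
    have hc : Commute (g ^ 2) x := by
      calc g ^ 2 * x = g ^ 2 * x * (g ^ 2)⁻¹ * g ^ 2 := by group
        _ = x * g ^ 2 := by rw [h2]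
    have := (hc.pow_left m)
    rw [hm] at this
    rw [this.eq]; group

/-! ### Basic properties of a `J(T)`-component -/

set_option linter.unusedSectionVars false

section JComp

variable [Finite G] {T K : Subgroup G}

local notation "J" => Cfsg.thompsonSubgroupOf 2 T
local notation "Q" => Cfsg.pCoreOf 2 K
local notation "W" => Cfsg.wOf K

theorem jc_j_le_normalizer (hK : Cfsg.IsJComponent T K) :
    J ≤ Subgroup.normalizer (K : Set G) := by
  intro j hj
  refine mem_normalizer_of_map_le ?_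
  have hle : K ≤ K.comap (MulAut.conj j).toMonoidHom := by
    conv_lhs => rw [← hK.2.1]
    rw [Subgroup.commutator_le]
    intro x hx j₁ hj₁
    rw [Subgroup.mem_comap]
    have e : (MulAut.conj j).toMonoidHom ⁅x, j₁⁆ = ⁅x, j⁆⁻¹ * ⁅x, j * j₁⁆ := by
      simp only [MulEquiv.toMonoidHom_eq_coe, MonoidHom.coe_coe, MulAut.conj_apply,
        commutatorElement_def]
      group
    rw [e]
    have hm : ∀ t ∈ J, ⁅x, t⁆ ∈ K := fun t ht => hK.2.1.le (Subgroup.commutator_mem_commutator hx ht)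
    exact mul_mem (inv_mem (hm j hj)) (hm _ (mul_mem hj hj₁))
  exact fun x hx => hle hx

theorem jc_k_le_normalizer_q : K ≤ Subgroup.normalizer (Q : Set G) :=
  LocalEven.le_normalizer_pCoreOf K

theorem jc_normalizer_le_normalizer_w :
    Subgroup.normalizer (K : Set G) ≤ Subgroup.normalizer (W : Set G) := by
  intro g hg
  have hz := normalizer_le_normalizer_omegaCenterOf _ (normalizer_le_normalizer_pCoreOf 2 K hg)
  rw [Subgroup.mem_normalizer_iff_map_conj_eq] at hg hz ⊢
  change (W).map (MulAut.conj g).toMonoidHom = W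
  rw [Cfsg.wOf, Subgroup.map_commutator]
  exact congrArg₂ (fun a b : Subgroup G => ⁅a, b⁆) hz hg

theorem jc_sup_le_normalizer (hK : Cfsg.IsJComponent T K) :
    K ⊔ J ≤ Subgroup.normalizer (K : Set G) :=
  sup_le Subgroup.le_normalizer (jc_j_le_normalizer hK)

theorem jc_w_le_z : W ≤ Cfsg.omegaCenterOf (Q) := by
  rw [Cfsg.wOf, Subgroup.commutator_le]
  intro z hz x hx
  have hn := normalizer_le_normalizer_omegaCenterOf _ (jc_k_le_normalizer_q (K := K) hx)
  rw [commutatorElement_def, show z * x * z⁻¹ * x⁻¹ = z * (x * z⁻¹ * x⁻¹) by group]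
  exact mul_mem hz (conj_mem_of_normalizer hn (inv_mem hz))

theorem jc_w_le_q : W ≤ Q := jc_w_le_z.trans (omegaCenterOf_le _)

theorem jc_q_le_centralizer_w : Q ≤ Subgroup.centralizer (W : Set G) := fun _ hq =>
  Subgroup.mem_centralizer_iff.mpr fun _ hw =>
    ((mem_omegaCenterOf_iff.mp (jc_w_le_z hw)).2.1 _ hq).symm

/-- A subgroup above `O₂(K)` meeting `K` outside `O₂(K)` contains `K`. -/
theorem jc_le_of_mem (hK : Cfsg.IsJComponent T K) {H : Subgroup G} (hQH : Q ≤ H) {x : G}
    (hxH : x ∈ H) (hxK : x ∈ K) (hxQ : x ∉ Q) : K ≤ H := by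
  have h1 : (Q).relIndex (H ⊓ K) * (H ⊓ K).relIndex K = 3 :=
    (Subgroup.relIndex_mul_relIndex _ _ _ (le_inf hQH (LocalEven.pCoreOf_le K)) inf_le_right).trans
      hK.2.2.1
  rcases (Nat.prime_three.eq_one_or_self_of_dvd _ (Dvd.intro _ h1)) with h | h
  · exact absurd (Subgroup.relIndex_eq_one.mp h ⟨hxH, hxK⟩) hxQ
  · rw [h, mul_eq_left₀ (by norm_num)] at h1
    exact (Subgroup.relIndex_eq_one.mp h1).trans inf_le_left

theorem jc_k_not_centralizes_w (hK : Cfsg.IsJComponent T K) :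
    ¬ K ≤ Subgroup.centralizer (W : Set G) := by
  haveI : Fact (Nat.Prime 2) := ⟨Nat.prime_two⟩
  intro h
  have hZ : IsPGroup 2 ↥(Cfsg.omegaCenterOf (Q)) :=
    (pCoreOf_isPGroup K).to_le (omegaCenterOf_le _)
  have hb : W = ⊥ := by
    rw [eq_bot_iff, Cfsg.wOf, Subgroup.commutator_le]
    intro z hz x hx
    have hcz : K ≤ Subgroup.centralizer ({z} : Set G) := by
      rw [← hK.1, Subgroup.closure_le]
      rintro g ⟨hgK, hgo⟩
      have hcW : g * z * g⁻¹ * z⁻¹ ∈ W := by
        have := inv_mem (Subgroup.commutator_mem_commutator (H₁ := Cfsg.omegaCenterOf (Q))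
          (H₂ := K) hz hgK)
        rw [commutatorElement_inv, commutatorElement_def] at this
        exact this
      have := commute_of_stabilizes hZ (Nat.coprime_two_right.mpr hgo) (jc_w_le_z hcW)
        (Subgroup.mem_centralizer_iff.mp (h hgK) _ hcW).symm
      rw [SetLike.mem_coe, Subgroup.mem_centralizer_singleton_iff]
      exact this
    have := Subgroup.mem_centralizer_singleton_iff.mp (hcz hx)
    rw [Subgroup.mem_bot, commutatorElement_eq_one_iff_mul_comm]
    exact this.symm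
  have := hK.2.2.2.2.1
  rw [hb, Subgroup.card_bot] at this
  norm_num at this

theorem jc_centralizer_w (hK : Cfsg.IsJComponent T K) {x : G} (hxK : x ∈ K)
    (hx : x ∈ Subgroup.centralizer (W : Set G)) : x ∈ Q := by
  by_contra hxQ
  exact jc_k_not_centralizes_w hK (jc_le_of_mem hK jc_q_le_centralizer_w hx hxK hxQ)

/-- A subgroup normalized by `K` meeting `K` outside `O₂(K)` contains `K`. -/
theorem jc_le_of_normalized (hK : Cfsg.IsJComponent T K) {H : Subgroup G}
    (hn : K ≤ Subgroup.normalizer (H : Set G)) {x : G} (hxH : x ∈ H) (hxK : x ∈ K) (hxQ : x ∉ Q) :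
    K ≤ H := by
  have h1 : K ≤ H ⊔ Q := jc_le_of_mem hK le_sup_right (Subgroup.mem_sup_left hxH) hxK hxQ
  conv_lhs => rw [← hK.1]
  rw [Subgroup.closure_le]
  rintro g ⟨hgK, hgo⟩
  exact mem_of_odd_of_mem_sup ((LocalEven.pCoreOf_le K).trans hn) (pCoreOf_isPGroup K) (h1 hgK) hgo

theorem jc_j_not_centralizes_w (hK : Cfsg.IsJComponent T K) :
    ¬ J ≤ Subgroup.centralizer (W : Set G) := by
  intro h
  refine jc_k_not_centralizes_w hK ?_
  conv_lhs => rw [← hK.2.1]
  rw [Subgroup.commutator_le]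
  intro x hx j hj
  have hxW : x ∈ Subgroup.normalizer (W : Set G) :=
    jc_normalizer_le_normalizer_w (Subgroup.le_normalizer hx)
  rw [commutatorElement_def]
  refine mul_mem ?_ (inv_mem (h hj))
  rw [Subgroup.mem_centralizer_iff]
  intro w hw
  have := Subgroup.mem_centralizer_iff.mp (h hj) _ (conj_mem_of_normalizer (inv_mem hxW) hw)
  calc w * (x * j * x⁻¹) = x * (x⁻¹ * w * x⁻¹⁻¹ * j) * x⁻¹ := by group
    _ = x * j * x⁻¹ * w := by rw [this]; group

end JComp

end Cfsg.Agent.Lib.LocalEven2
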