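import Cfsg.Agent.Lib.LocalEven2.JMember

/-!
# A component outside the subgroup `M`
-/

set_option autoImplicit false

namespace Cfsg.Agent.Lib.LocalEven2

open scoped Pointwise

namespace JCtx

variable {G : Type*} [Group G] [Finite G] {T L : Subgroup G} (c : JCtx T L)
include c

local notation "O" => Cfsg.pCoreOf 2 L
local notation "J" => Cfsg.thompsonSubgroupOf 2 T

/-- If `L` is not inside `M`, some component of a block moved by `J(T)` is not inside `M`. -/
theorem exists_outside {M : Subgroup G} (hLM : ¬ L ≤ M)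
    (hN : Subgroup.normalizer (J : Set G) ≤ M)
    (hstr : ∀ R : Subgroup G, IsPGroup 2 ↥R → J ≤ R → R ≤ L →
      R ≤ M ∧ Cfsg.thompsonSubgroupOf 2 R = J) :
    ∃ W k, c.IsGen W k ∧ ¬ J ≤ Subgroup.centralizer (W : Set G) ∧ ¬ kOf L (k : G) ≤ M := by
  haveI : Fact (Nat.Prime 2) := ⟨Nat.prime_two⟩
  haveI := c.setting.tvGroup_normal
  by_contra hcon
  push Not at hcon
  apply hLM
  have hker : ∀ l : ↥L, c.psi l = 1 → (l : G) ∈ M := fun l hl =>
    hN (normalizer_le_normalizer_thompson 2 T (c.ker_normalizes hl))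
  set LX := (Tv.tvGroup ↥c.act.range ↥(c.V)).comap c.psi with hLX
  -- a Sylow subgroup of the transvection part containing `J(T)`
  have hJT := thompsonSubgroupOf_le 2 T
  have hJp : IsPGroup 2 ↥J := c.syl.2.1.to_le hJT
  obtain ⟨P, hP⟩ := ((hJp.comap_subtype (K := L)).comap_subtype (K := LX)).exists_le_sylow
  set R := ((P : Subgroup ↥LX).map LX.subtype).map L.subtype with hR
  have hJR : J ≤ R := fun j hj =>
    ⟨⟨j, c.j_le_l hj⟩, ⟨⟨⟨j, c.j_le_l hj⟩, c.j_psi_mem hj⟩, hP hj, rfl⟩, rfl⟩
  obtain ⟨hRM, hRJ⟩ := hstr R ((P.isPGroup'.map _).map _) hJR (Subgroup.map_subtype_le _)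
  -- every transvection comes from `M`
  have htv : ∀ t, Tv.IsTv ↥(c.V) t → ∃ m : ↥L, (m : G) ∈ M ∧ c.psi m = t := by
    intro t ht
    obtain ⟨a₁, ha₁⟩ := c.psi_surj t
    obtain ⟨e, q, hq, hn⟩ := Nat.exists_eq_pow_mul_and_not_dvd
      (orderOf_pos a₁).ne' 2 (by norm_num)
    set a := a₁ ^ q with ha
    have hpa : c.psi a = t := by
      obtain ⟨d, hd⟩ := ht
      obtain ⟨r, hr⟩ : Odd q := Nat.odd_iff.mpr (Nat.two_dvd_ne_zero.mp hq)
      rw [ha, map_pow, ha₁, hr, pow_succ, pow_mul, sq, c.setting.sq_one hd, one_pow, one_mul]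
    have ha2 : ∃ m : ℕ, a ^ 2 ^ m = 1 :=
      ⟨e, by rw [ha, ← pow_mul, mul_comm, ← hn, pow_orderOf_eq_one]⟩
    have haX : a ∈ LX := by
      show c.psi a ∈ Tv.tvGroup ↥c.act.range ↥(c.V)
      rw [hpa]
      exact Subgroup.subset_closure ht
    set W := (Tv.blockOf ↥(c.V) (c.psi a)).map (c.V).subtype with hW
    have haW : c.IsTvOf a W := ⟨hpa ▸ ht, rfl⟩
    -- a conjugate of `a` inside `R`
    have hap : IsPGroup 2 ↥(Subgroup.zpowers (⟨a, haX⟩ : ↥LX)) := by
      obtain ⟨m, hm⟩ := ha2
      rintro ⟨y, i, rfl⟩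
      refine ⟨m, Subtype.ext ?_⟩
      show ((⟨a, haX⟩ : ↥LX) ^ i) ^ 2 ^ m = 1
      rw [← zpow_natCast ((⟨a, haX⟩ : ↥LX) ^ i), ← zpow_mul, mul_comm, zpow_mul, zpow_natCast,
        show ((⟨a, haX⟩ : ↥LX) ^ 2 ^ m) = 1 from Subtype.ext (by simpa using hm), one_zpow]
    obtain ⟨Q, hQ⟩ := hap.exists_le_sylow
    obtain ⟨x, hx⟩ := MulAction.exists_smul_eq ↥LX P Q
    have hax := hQ (Subgroup.mem_zpowers _)
    rw [← hx, mem_smul_sylow] at hax
    set a' : ↥L := (x : ↥L)⁻¹ * a * ((x : ↥L)⁻¹)⁻¹ with ha'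
    have ha'M : (a' : G) ∈ M := by
      refine hRM ⟨a', ⟨_, hax, ?_⟩, rfl⟩
      simp [ha']
    have hxW : W.map (MulAut.conj (((x : ↥L)⁻¹ : ↥L) : G)).toMonoidHom = W := by
      refine Subgroup.mem_normalizer_iff_map_conj_eq.mp (mem_normalizer_of_map_le fun y hy => ?_)
      exact c.tvgroup_preserves (l := (x : ↥L)⁻¹) (inv_mem (s := LX) x.2) ⟨a, haW⟩ hy
    have ha'W : c.IsTvOf a' W := by
      have := c.block_conj haW (x : ↥L)⁻¹
      rwa [hxW] at this
    obtain ⟨k, hk⟩ := c.exists_gen ha2 haW
    have hkM : (k : G) ∈ M := by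
      by_cases hJW : J ≤ Subgroup.centralizer (W : Set G)
      · -- `k` commutes with `J` modulo `O`
        set R' := O ⊔ J with hR'
        have hR'T : R' ≤ T := sup_le c.o_le_t hJT
        have hJ' := thompsonSubgroupOf_eq_of_between (p := 2) (le_sup_right : J ≤ R') hR'T
        have hkO := LocalEven.le_normalizer_pCoreOf (p := 2) L k.2
        have hkR : (k : G) ∈ Subgroup.normalizer (R' : Set G) := by
          refine mem_normalizer_of_map_le fun y hy => ?_
          have hle : R' ≤ R'.comap (MulAut.conj (k : G)).toMonoidHom := by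
            refine sup_le (fun o ho => Subgroup.mem_sup_left (conj_mem_of_normalizer hkO ho))
              fun j hj => ?_
            show (k : G) * j * (k : G)⁻¹ ∈ R'
            set jL : ↥L := ⟨j, c.j_le_l hj⟩ with hjL
            have hjX : c.psi jL ∈ Tv.tvGroup ↥c.act.range ↥(c.V) := c.j_psi_mem hj
            have hpsi : c.psi (k * jL) = c.psi (jL * k) := by
              refine c.psi_ext (by rw [map_mul]; exact mul_mem hk.2.1 hjX)
                (by rw [map_mul]; exact mul_mem hjX hk.2.1) fun W' hW' z hz => ?_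
              show (k : G) * j * z * ((k : G) * j)⁻¹ = j * k * z * (j * (k : G))⁻¹
              rw [show (k : G) * j * z * ((k : G) * j)⁻¹ = k * (j * z * j⁻¹) * (k : G)⁻¹ by group,
                show j * k * z * (j * (k : G))⁻¹ = j * (k * z * (k : G)⁻¹) * j⁻¹ by group]
              by_cases hWW : W' = W
              · rw [hWW] at hW' hz
                have hjfix : ∀ w ∈ W, j * w * j⁻¹ = w := fun w hw => by
                  rw [← Subgroup.mem_centralizer_iff.mp (hJW hj) w hw]; group
                rw [hjfix z hz, hjfix _ (c.tvgroup_preserves hk.2.1 hW' hz)]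
              · rw [hk.2.2.1 W' hW' hWW z hz, hk.2.2.1 W' hW' hWW (j * z * j⁻¹)
                  (c.tvgroup_preserves (l := jL) hjX hW' hz)]
            set u : ↥L := k * jL * k⁻¹ * jL⁻¹ with hu
            have hu1 : c.psi u = 1 := by
              have he : c.psi u = c.psi (k * jL) * (c.psi (jL * k))⁻¹ := by
                simp only [hu, map_mul, map_inv]; group
              rw [he, hpsi, mul_inv_cancel]
            have hjn : j ∈ Subgroup.normalizer (W : Set G) :=
              Subgroup.centralizer_le_normalizer _ (hJW hj)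
            have huh : (u : G) ∈ h0 L k := by
              have hkh : (k : G) ∈ h0 L k := Subgroup.mem_sup_right (Subgroup.mem_zpowers _)
              have := mul_mem hkh (conj_mem_of_normalizer
                (c.normalizes_kOf hk (c.j_le_l hj) hjn).1 (inv_mem hkh))
              simpa [hu, hjL, mul_assoc] using this
            have hh : (u : G) ∈ (O : Set G) * (Subgroup.zpowers (k : G) : Set G) := by
              rw [← Subgroup.coe_mul_of_right_le_normalizer_left O _
                (Subgroup.zpowers_le.mpr hkO)]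
              exact huh
            obtain ⟨o, ho, p', ⟨i, rfl⟩, hop⟩ := hh
            set oL : ↥L := ⟨o, LocalEven.pCoreOf_le L ho⟩ with hoL
            have huo : u = oL * k ^ i :=
              Subtype.ext ((show (u : G) = o * (k : G) ^ i from hop.symm).trans (by simp [hoL]))
            have hki : k ^ i = 1 := by
              have h1 : c.psi k ^ i = 1 := by
                rw [huo, map_mul, c.psi_o (l := oL) ho, one_mul, map_zpow] at hu1; exact hu1
              have h3 : orderOf (c.psi k) = 3 :=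
                orderOf_eq_prime (by rw [← map_pow, hk.1, map_one]) hk.2.2.2.1
              obtain ⟨i', rfl⟩ : (3 : ℤ) ∣ i := by
                have := orderOf_dvd_iff_zpow_eq_one.mpr h1
                rwa [h3] at this
              rw [zpow_mul, show (3 : ℤ) = ((3 : ℕ) : ℤ) from rfl, zpow_natCast, hk.1, one_zpow]
            have huO : (u : G) ∈ O := by
              rw [huo, hki, mul_one]; exact ho
            have := mul_mem (Subgroup.mem_sup_left huO : (u : G) ∈ R') (Subgroup.mem_sup_right hj)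
            simpa [hu, hjL, mul_assoc] using this
          exact hle hy
        refine hN ?_
        have := normalizer_le_normalizer_thompson 2 R' hkR
        rwa [hJ'] at this
      · refine hcon W k hk hJW (Subgroup.subset_closure
          ⟨Subgroup.mem_sup_right (Subgroup.mem_zpowers _), ?_⟩)
        rw [Subgroup.orderOf_coe]
        exact Odd.of_dvd_nat (by decide) (orderOf_dvd_of_pow_eq_one hk.1)
    obtain ⟨i, hi⟩ := c.tv_conj_eq hk ha'W haW
    refine ⟨k ^ i * a' * (k ^ i)⁻¹, ?_, hi.symm.trans hpa⟩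
    simp only [Subgroup.coe_mul, Subgroup.coe_inv, Subgroup.coe_pow]
    exact mul_mem (mul_mem (pow_mem hkM i) ha'M) (inv_mem (pow_mem hkM i))
  have hXM : ∀ l : ↥L, l ∈ LX → (l : G) ∈ M := by
    intro l hl
    have hle : Tv.tvGroup ↥c.act.range ↥(c.V) ≤ (M.subgroupOf L).map c.psi :=
      (Subgroup.closure_le _).mpr fun t ht => by
        obtain ⟨m, hm, hmt⟩ := htv t ht
        exact ⟨m, hm, hmt⟩
    obtain ⟨m, hm, hmt⟩ := hle hl
    have := mul_mem (hker (l * m⁻¹) (by rw [map_mul, map_inv, hmt, mul_inv_cancel]))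
      (show (m : G) ∈ M from hm)
    simpa [mul_assoc] using this
  intro l hl
  have htop := Sylow.normalizer_sup_eq_top P
  have hle : Subgroup.normalizer ((((P : Subgroup ↥LX).map LX.subtype) : Subgroup ↥L) : Set ↥L) ⊔ LX
      ≤ M.subgroupOf L := by
    refine sup_le (fun n hn => ?_) (fun n hn => hXM n hn)
    show (n : G) ∈ M
    refine hN ?_
    have h1 : (n : G) ∈ Subgroup.normalizer (R : Set G) :=
      Subgroup.le_normalizer_map _ ⟨n, hn, rfl⟩
    have := normalizer_le_normalizer_thompson 2 R h1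
    rwa [hRJ] at this
  rw [htop] at hle
  exact hle (show (⟨l, hl⟩ : ↥L) ∈ ⊤ from Subgroup.mem_top _)

end JCtx

end Cfsg.Agent.Lib.LocalEven2
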