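import Cfsg.Agent.Lib.LocalEven2.JBlocks

/-!
The `J(T)`-components contained in a member `L` of the family of `T` are the components of the
blocks moved by `J(T)`.
-/

set_option autoImplicit false
set_option linter.unusedSectionVars false
set_option linter.style.haveILetI false

namespace Cfsg.Agent.Lib.LocalEven2

open scoped Pointwise commutatorElement

variable {G : Type*} [Group G] [Finite G]

namespace JCtx

variable {T L : Subgroup G} (c : JCtx T L)
include c

local notation "O" => Cfsg.pCoreOf 2 L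
local notation "J" => Cfsg.thompsonSubgroupOf 2 T

theorem j_le_l : J ≤ L := (thompsonSubgroupOf_le 2 T).trans c.syl.1

theorem j_psi_mem {l : ↥L} (hl : (l : G) ∈ J) :
    c.psi l ∈ Tv.tvGroup ↥c.act.range ↥(c.V) := by
  have hle : J ≤ ((Tv.tvGroup ↥c.act.range ↥(c.V)).comap c.psi).map L.subtype := by
    refine thompsonSubgroupOf_le_of fun A hA x hx => ?_
    refine ⟨⟨x, c.syl.1 (hA.1 hx)⟩, ?_, rfl⟩
    exact ((c.maxEA_gen hA).trans (Subgroup.closure_mono fun t ht => ht.2))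
      ⟨⟨x, c.syl.1 (hA.1 hx)⟩, hx, rfl⟩
  obtain ⟨z, hz, hzl⟩ := hle hl
  rwa [show l = z from Subtype.ext hzl.symm]

theorem j_preserves {W : Subgroup G} (hW : c.IsBlock W) :
    J ≤ Subgroup.normalizer (W : Set G) := fun j hj =>
  mem_normalizer_of_map_le fun _ hx =>
    c.tvgroup_preserves (l := ⟨j, c.j_le_l hj⟩) (c.j_psi_mem hj) hW hx

/-- A block moved by `J(T)` is the block of a transvection induced by a member of `J(T)`. -/
theorem j_moves {W : Subgroup G} (hW : c.IsBlock W)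
    (h : ¬ J ≤ Subgroup.centralizer (W : Set G)) :
    ∃ a : ↥L, (a : G) ∈ J ∧ (∃ m : ℕ, a ^ 2 ^ m = 1) ∧ c.IsTvOf a W := by
  by_contra hcon
  refine h (thompsonSubgroupOf_le_of fun A hA x hx => ?_)
  obtain ⟨hAc, hAe⟩ := isElementaryAbelian_iff.mp hA.2.1
  have key : ∀ t ∈ (A.subgroupOf L).map c.psi, Tv.IsTv ↥(c.V) t →
      ∀ w : ↥(c.V), (w : G) ∈ W → t • w = w := by
    rintro _ ⟨a, ha, rfl⟩ ht w hw
    by_contra hne
    have hb : c.IsTvOf a ((Tv.blockOf ↥(c.V) (c.psi a)).map (c.V).subtype) := ⟨ht, rfl⟩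
    have hbW := c.block_eq_of_moves hb hW hw fun e => hne (Subtype.ext e)
    exact hcon ⟨a, le_thompsonSubgroupOf hA ha, ⟨1, Subtype.ext (by
      rw [pow_one, Subgroup.coe_pow, Subgroup.coe_one]; exact hAe _ ha)⟩, hbW ▸ hb⟩
  rw [Subgroup.mem_centralizer_iff]
  intro w hw
  have hwV := c.block_le_v hW hw
  have hmem := (c.maxEA_gen hA) ⟨⟨x, c.syl.1 (hA.1 hx)⟩, hx, rfl⟩
  have hfix : ∀ t ∈ Subgroup.closure {t | t ∈ (A.subgroupOf L).map c.psi ∧ Tv.IsTv ↥(c.V) t},
      t • (⟨w, hwV⟩ : ↥(c.V)) = ⟨w, hwV⟩ := by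
    intro t ht
    induction ht using Subgroup.closure_induction with
    | mem s hs => exact key s hs.1 hs.2 _ hw
    | one => exact one_smul _ _
    | mul p q _ _ hp hq => rw [mul_smul, hq, hp]
    | inv p _ hp => exact inv_smul_eq_iff.mpr hp.symm
  have h1 : x * w * x⁻¹ = w := congrArg Subtype.val (hfix _ hmem)
  calc w * x = (x * w * x⁻¹) * x := by rw [h1]
    _ = x * w := by group

theorem exists_moved (hJ : ¬ J ≤ O) :
    ∃ W, c.IsBlock W ∧ ¬ J ≤ Subgroup.centralizer (W : Set G) := by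
  haveI : Fact (Nat.Prime 2) := ⟨Nat.prime_two⟩
  by_contra hcon
  push Not at hcon
  refine hJ fun j hj => ?_
  set l : ↥L := ⟨j, c.j_le_l hj⟩
  obtain ⟨m, hm⟩ := c.syl.2.1 ⟨j, thompsonSubgroupOf_le 2 T hj⟩
  refine c.ker_two (l := l) ?_ ⟨m, Subtype.ext (by
    rw [Subgroup.coe_pow, Subgroup.coe_one]; exact congrArg Subtype.val hm)⟩
  refine c.psi_eq_one (c.j_psi_mem hj) fun W hW x hx => ?_
  have h := Subgroup.mem_centralizer_iff.mp (hcon W hW hj) x hx
  show j * x * j⁻¹ = x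
  rw [← h]; group

/-- A component contained in `L` is the component of its block. -/
theorem component_gen {K : Subgroup G} (hK : Cfsg.IsJComponent T K) (hKL : K ≤ L)
    (hOK : O ≤ Subgroup.normalizer (K : Set G)) :
    ∃ k : ↥L, c.IsGen (Cfsg.wOf K) k ∧ (k : G) ∈ K ∧ K = kOf L (k : G) := by
  haveI : Fact (Nat.Prime 2) := ⟨Nat.prime_two⟩
  haveI := c.setting.tvGroup_normal
  set Q := Cfsg.pCoreOf 2 K with hQ
  set W := Cfsg.wOf K with hWdef
  have hQK : Q ≤ K := LocalEven.pCoreOf_le K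
  have hQ2 : IsPGroup 2 ↥Q := pCoreOf_isPGroup K
  have hgenK := hK.1
  -- the image of `K`
  set Pset := ((Tv.tvGroup ↥c.act.range ↥(c.V)).comap c.psi).map L.subtype with hPset
  have hKX : K ≤ Pset := by
    conv_lhs => rw [← hK.2.1]
    rw [Subgroup.commutator_le]
    intro x hx j hj
    refine ⟨⁅(⟨x, hKL hx⟩ : ↥L), (⟨j, c.j_le_l hj⟩ : ↥L)⁆, ?_, rfl⟩
    show c.psi _ ∈ Tv.tvGroup ↥c.act.range ↥(c.V)
    rw [map_commutatorElement, commutatorElement_def]
    exact mul_mem ((inferInstance : (Tv.tvGroup ↥c.act.range ↥(c.V)).Normal).conj_mem _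
      (c.j_psi_mem (by exact hj)) _) (inv_mem (c.j_psi_mem (by exact hj)))
  have hKXl : ∀ l : ↥L, (l : G) ∈ K → c.psi l ∈ Tv.tvGroup ↥c.act.range ↥(c.V) := by
    intro l hl
    obtain ⟨z, hz, hzl⟩ := hKX hl
    rwa [show l = z from Subtype.ext hzl.symm]
  have hcube : ∀ g : G, g ∈ K → ∀ hg : g ∈ L, c.psi ⟨g, hg⟩ ^ 3 = 1 := by
    have hall : ∀ g : G, g ∈ K → g ∈ Subgroup.closure {g : G | g ∈ K ∧ Odd (orderOf g)} := fun g hg =>
      hgenK.ge hg
    intro g hg
    have hg' := hall g hg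
    clear hg
    induction hg' using Subgroup.closure_induction with
    | mem x hx =>
      intro hxL
      refine c.setting.odd_cube (hKXl _ hx.1) ?_
      refine Odd.of_dvd_nat ?_ (orderOf_map_dvd _ _)
      rw [Subgroup.orderOf_mk]; exact hx.2
    | one => intro h; rw [show (⟨1, h⟩ : ↥L) = 1 from rfl, map_one, one_pow]
    | mul x y hx hy ihx ihy =>
      intro h
      have hxL : x ∈ L := hKL (hgenK.le hx)
      have hyL : y ∈ L := hKL (hgenK.le hy)
      have ho : ∀ {z : G} (hz : z ∈ L), c.psi ⟨z, hz⟩ ^ 3 = 1 → Odd (orderOf (c.psi ⟨z, hz⟩)) :=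
        fun _ h => Odd.of_dvd_nat (by decide) (orderOf_dvd_of_pow_eq_one h)
      have hc : Commute (c.psi ⟨x, hxL⟩) (c.psi ⟨y, hyL⟩) := c.setting.odd_commute
        (hKXl _ (hgenK.le hx)) (hKXl _ (hgenK.le hy)) (ho hxL (ihx hxL)) (ho hyL (ihy hyL))
      rw [show (⟨x * y, h⟩ : ↥L) = ⟨x, hxL⟩ * ⟨y, hyL⟩ from rfl, map_mul, hc.mul_pow, ihx hxL,
        ihy hyL, one_mul]
    | inv x hx ihx =>
      intro h
      have hxL : x ∈ L := hKL (hgenK.le hx)
      rw [show (⟨x⁻¹, h⟩ : ↥L) = ⟨x, hxL⟩⁻¹ from rfl, map_inv, inv_pow, ihx hxL, inv_one]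
  have hQO : Q ≤ O := by
    intro q hq
    obtain ⟨m, hm⟩ := hQ2 ⟨q, hq⟩
    have hm' : (⟨q, hKL (hQK hq)⟩ : ↥L) ^ 2 ^ m = 1 := Subtype.ext (by
      rw [Subgroup.coe_pow, Subgroup.coe_one]; exact congrArg Subtype.val hm)
    refine c.ker_two (l := ⟨q, hKL (hQK hq)⟩) ?_ ⟨m, hm'⟩
    refine c.setting.eq_one_of_odd_pow (m := m) ?_ (by rw [← map_pow, hm', map_one])
    exact Odd.of_dvd_nat (by decide) (orderOf_dvd_of_pow_eq_one (hcube q (hQK hq) _))
  have hQker : ∀ l : ↥L, (l : G) ∈ Q → c.psi l = 1 := fun l hl => c.psi_o (hQO hl)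
  -- some element of odd order acts nontrivially
  obtain ⟨g, hgK, hgo, hg1⟩ : ∃ g, ∃ hgK : g ∈ K, Odd (orderOf g) ∧ c.psi ⟨g, hKL hgK⟩ ≠ 1 := by
    by_contra hcon
    push Not at hcon
    have hKT : K ≤ Subgroup.normalizer (T : Set G) := by
      conv_lhs => rw [← hgenK]
      rw [Subgroup.closure_le]
      rintro g ⟨hg, ho⟩
      exact c.ker_normalizes (hcon g hg ho)
    have hKJ : K ≤ J := by
      conv_lhs => rw [← hK.2.1]
      rw [Subgroup.commutator_le]
      intro x hx j hj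
      rw [commutatorElement_def]
      exact mul_mem (conj_mem_of_normalizer (normalizer_le_normalizer_thompson 2 T (hKT hx)) hj)
        (inv_mem hj)
    have hK2 : IsPGroup 2 ↥K := c.syl.2.1.to_le (hKJ.trans (thompsonSubgroupOf_le 2 T))
    have h3 : Q = K := le_antisymm hQK
      (le_pCoreOf le_rfl hK2 fun g hg x hx => mul_mem (mul_mem hg hx) (inv_mem hg))
    have := hK.2.2.1
    rw [← hQ, h3, Subgroup.relIndex_self] at this
    norm_num at this
  set k : ↥L := ⟨g, hKL hgK⟩ with hk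
  have hgQ : g ∉ Q := fun h => hg1 (hQker k h)
  have hk3 : k ^ 3 = 1 := by
    haveI : (Q.subgroupOf K).Normal :=
      ⟨fun m hm x => show (x : G) * m * (x : G)⁻¹ ∈ Q from
        conj_mem_of_normalizer (jc_k_le_normalizer_q x.2) hm⟩
    have h3 := Subgroup.pow_index_mem (Q.subgroupOf K) (⟨g, hgK⟩ : ↥K)
    rw [show (Q.subgroupOf K).index = 3 from hK.2.2.1] at h3
    refine Subtype.ext ?_
    rw [Subgroup.coe_pow, Subgroup.coe_one]
    exact eq_one_of_isPGroup hQ2 h3 (Nat.coprime_two_right.mpr (hgo.of_dvd_nat (orderOf_pow_dvd 3)))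
  have hkX : c.psi k ∈ Tv.tvGroup ↥c.act.range ↥(c.V) := hKXl k hgK
  -- a moved block lies in `W`
  have hmoved : ∀ W' x, c.IsBlock W' → x ∈ W' → g * x * g⁻¹ ≠ x → W' = W := by
    intro W' x hW' hx hmv
    have hZ : ∀ v ∈ W', g * v * g⁻¹ * v⁻¹ ∈ Cfsg.omegaCenterOf Q := by
      intro v hv
      have hvV := c.block_le_v hW' hv
      have hgv : g * v * g⁻¹ ∈ c.V := c.v_conj (hKL hgK) hvV
      have hm : g * v * g⁻¹ * v⁻¹ ∈ c.V := mul_mem hgv (inv_mem hvV)
      refine mem_omegaCenterOf_iff.mpr ⟨?_, fun q hq => ?_, c.v_sq hm⟩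
      · refine (le_pCoreOf (inf_le_left : K ⊓ O ≤ K) (pCoreOf_isPGroup L).to_inf_right
          fun y hy z hz => ⟨(mul_mem (mul_mem hy (show z ∈ K from hz.1)) (inv_mem hy) : y * z * y⁻¹ ∈ K),
      c.o_conj (hKL hy) hz.2⟩)
          ⟨?_, c.v_le_o hm⟩
        rw [show g * v * g⁻¹ * v⁻¹ = g * (v * g⁻¹ * v⁻¹) by group]
        exact mul_mem hgK (conj_mem_of_normalizer (hOK (c.v_le_o hvV)) (inv_mem hgK))
      · exact (mem_omegaCenterOf_iff.mp (c.v_le_zo hm)).2.1 q (hQO hq)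
    have horb := c.orbit hk3 hkX hW' hx hmv
    have hsq := (c.block_card hW').2
    have hxW : ∀ v ∈ W', g * v * g⁻¹ ∈ W' := fun v hv =>
      c.tvgroup_preserves (l := k) hkX hW' hv
    have hWW : W' ≤ W := by
      intro y hy
      -- every element of `W'` is a double commutator
      obtain ⟨v, hv, rfl⟩ : ∃ v ∈ W', y = g * (g * v * g⁻¹ * v⁻¹) * g⁻¹ * (g * v * g⁻¹ * v⁻¹)⁻¹ := by
        let f : ↥W' → ↥W' := fun v => ⟨g * (g * v * g⁻¹ * (v : G)⁻¹) * g⁻¹ *
          (g * v * g⁻¹ * (v : G)⁻¹)⁻¹, mul_mem (hxW _ (mul_mem (hxW _ v.2) (inv_mem v.2)))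
            (inv_mem (mul_mem (hxW _ v.2) (inv_mem v.2)))⟩
        have hfpf : ∀ u ∈ W', g * u * g⁻¹ = u → u = 1 := fun u hu he => by
          by_contra hu1
          exact hmv (c.cube_fix hk3 hkX hW' hu hu1 he x hx)
        have hcomm : ∀ u ∈ W', ∀ u' ∈ W', u * u' = u' * u := fun u hu u' hu' =>
          c.v_comm (c.block_le_v hW' hu) (c.block_le_v hW' hu')
        have key : ∀ u ∈ W', ∀ u' ∈ W', g * u * g⁻¹ * u⁻¹ = g * u' * g⁻¹ * u'⁻¹ → u = u' := by
          intro u hu u' hu' he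
          refine (inv_mul_eq_one.mp (hfpf _ (mul_mem (inv_mem hu') hu) ?_ : u'⁻¹ * u = 1)).symm
          calc g * (u'⁻¹ * u) * g⁻¹ = (g * u'⁻¹ * g⁻¹) * (g * u * g⁻¹ * u⁻¹) * u := by group
            _ = (g * u'⁻¹ * g⁻¹) * (g * u' * g⁻¹ * u'⁻¹) * u := by rw [he]
            _ = u'⁻¹ * u := by group
        have hf : Function.Injective f := fun u u' h =>
          Subtype.ext (key _ u.2 _ u'.2 (key _ (mul_mem (hxW _ u.2) (inv_mem u.2)) _
            (mul_mem (hxW _ u'.2) (inv_mem u'.2)) (congrArg Subtype.val h)))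
        obtain ⟨v, hv⟩ := Finite.injective_iff_surjective.mp hf ⟨y, hy⟩
        exact ⟨v, v.2, (congrArg Subtype.val hv).symm⟩
      have := inv_mem (Subgroup.commutator_mem_commutator (H₁ := Cfsg.omegaCenterOf Q) (H₂ := K)
        (hZ v hv) hgK)
      rw [commutatorElement_inv, commutatorElement_def] at this
      exact this
    refine Subgroup.eq_of_le_of_card_ge hWW ?_
    rw [(c.block_card hW').1, hWdef, hK.2.2.2.2.1]
  obtain ⟨W₁, hW₁, x₁, hx₁, hmv₁⟩ : ∃ W', c.IsBlock W' ∧ ∃ x ∈ W', g * x * g⁻¹ ≠ x := by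
    by_contra hcon
    push Not at hcon
    exact hg1 (c.psi_eq_one hkX hcon)
  have hWb : c.IsBlock W := hmoved W₁ x₁ hW₁ hx₁ hmv₁ ▸ hW₁
  obtain ⟨a, haJ, ha2, ha⟩ := c.j_moves hWb (jc_j_not_centralizes_w hK)
  have hanK : (a : G) ∈ Subgroup.normalizer (K : Set G) := jc_j_le_normalizer hK haJ
  -- `a` inverts `k` modulo `O₂(L)`
  have hak : (a : G) * g * (a : G)⁻¹ * g ∈ Q := by
    have hmemK : (a : G) * g * (a : G)⁻¹ * g ∈ K := mul_mem (conj_mem_of_normalizer hanK hgK) hgK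
    have hpsi : c.psi (a * k * a⁻¹ * k) = 1 := by
      refine c.psi_eq_one (hKXl _ hmemK) fun W' hW' y hy => ?_
      by_cases hWW : W' = W
      · subst hWW
        obtain ⟨d, hd⟩ := ha.1
        have hdW : (d : G) ∈ W := (c.mem_blockMap ha d.2).mpr (c.setting.cen_mem_block hd)
        have hd1 : (d : G) ≠ 1 := fun e => hd.1 (Subtype.ext e)
        have hfd : (a : G) * d * (a : G)⁻¹ = d := congrArg Subtype.val (c.setting.cen_fix hd)
        have hmvd : g * (d : G) * g⁻¹ ≠ d := fun e => hmv₁ (by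
          have hW1 := hmoved W₁ x₁ hW₁ hx₁ hmv₁
          subst hW1
          exact c.cube_fix hk3 hkX hW₁ hdW hd1 e x₁ hx₁)
        have horb := c.orbit hk3 hkX hW' hdW hmvd
        have hu : g * (d : G) * g⁻¹ ∈ W := c.tvgroup_preserves (l := k) hkX hW' hdW
        have hw : g * (g * (d : G) * g⁻¹) * g⁻¹ ∈ W := c.tvgroup_preserves (l := k) hkX hW' hu
        have hfix_u : (a : G) * (g * d * g⁻¹) * (a : G)⁻¹ = g * (g * (d : G) * g⁻¹) * g⁻¹ := by
          have hmva : ∀ z ∈ W, z = d ∨ (a : G) * z * (a : G)⁻¹ ≠ z ∨ z = 1 := by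
            intro z hz
            obtain ⟨s, e, hs, -, hde, hte, -, -, -, hmem, -⟩ := c.setting.block_data hd
            have hzV := c.block_le_v hWb hz
            rcases (hmem _).mp ((c.mem_blockMap ha hzV).mp hz) with h | h | h | h
            · exact Or.inr (Or.inr (congrArg Subtype.val h))
            · exact Or.inl (congrArg Subtype.val h)
            · refine Or.inr (Or.inl fun e' => ?_)
              have : c.psi a • (⟨z, hzV⟩ : ↥(c.V)) = ⟨z, hzV⟩ := Subtype.ext e'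
              rw [h, hte] at this
              exact hd.1 (mul_eq_left.mp this)
            · refine Or.inr (Or.inl fun e' => ?_)
              have : c.psi a • (⟨z, hzV⟩ : ↥(c.V)) = ⟨z, hzV⟩ := Subtype.ext e'
              rw [h, smul_mul', c.setting.cen_fix hd, hte, ← mul_assoc] at this
              exact hd.1 (mul_eq_left.mp this)
          have hau := c.tvgroup_preserves (l := a) (c.j_psi_mem haJ) hW' hu
          rcases horb _ hau with h | h | h | h
          · exact absurd (conj_eq_one_iff.mp (conj_eq_one_iff.mp h)) hd1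
          · exact absurd (mul_left_cancel (mul_right_cancel (h.trans hfd.symm))) hmvd
          · rcases hmva _ hu with h' | h' | h'
            · exact absurd h' hmvd
            · exact absurd h h'
            · exact absurd (conj_eq_one_iff.mp h') hd1
          · exact h
        have haa : (a : G) * a = (a : G) ^ 2 := (pow_two _).symm
        -- evaluate at `d` and `g d g⁻¹`
        have hgw : g * (g * (g * (d : G) * g⁻¹) * g⁻¹) * g⁻¹ = d := by
          have h3 : g ^ 3 = 1 := by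
            have := congrArg Subtype.val hk3
            simpa using this
          calc g * (g * (g * (d : G) * g⁻¹) * g⁻¹) * g⁻¹ = g ^ 3 * d * (g ^ 3)⁻¹ := by
                simp only [pow_succ, pow_zero, one_mul]; group
            _ = d := by rw [h3]; group
        have hpd : (a : G) * g * (a : G)⁻¹ * g * d * ((a : G) * g * (a : G)⁻¹ * g)⁻¹ = d := by
          have h2 : (a : G)⁻¹ * (g * (d : G) * g⁻¹) * a = g * (g * (d : G) * g⁻¹) * g⁻¹ := by
            have hsq : c.psi a * c.psi a = 1 := c.setting.sq_one hd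
            have h3 := congrArg Subtype.val (show c.psi (a⁻¹) • (⟨_, c.block_le_v hWb hu⟩ : ↥(c.V)) =
              c.psi a • ⟨_, c.block_le_v hWb hu⟩ by
                rw [map_inv, inv_eq_of_mul_eq_one_right hsq])
            rw [c.psi_smul, c.psi_smul] at h3
            simp only [InvMemClass.coe_inv, inv_inv] at h3
            exact h3.trans hfix_u
          calc (a : G) * g * (a : G)⁻¹ * g * d * ((a : G) * g * (a : G)⁻¹ * g)⁻¹
              = (a : G) * (g * ((a : G)⁻¹ * (g * d * g⁻¹) * a) * g⁻¹) * (a : G)⁻¹ := by group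
            _ = (a : G) * d * (a : G)⁻¹ := by rw [h2, hgw]
            _ = d := hfd
        have hodd : Odd (orderOf (c.psi (a * k * a⁻¹ * k))) :=
          Odd.of_dvd_nat (by decide) (orderOf_dvd_of_pow_eq_one (hcube _ hmemK _))
        exact congrArg Subtype.val (c.setting.odd_fix_block hodd ha.1
          (fun u hu => c.setting.tvGroup_smul_block (hKXl (a * k * a⁻¹ * k) hmemK) ha.1 hu)
          ((c.mem_blockMap ha d.2).mp hdW) hd.1 (Subtype.ext hpd) ⟨y, c.block_le_v hWb hy⟩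
          ((c.mem_blockMap ha _).mp hy))
      · have f1 : ∀ z ∈ W', g * z * g⁻¹ = z := fun z hz => by
          by_contra hh; exact hWW (hmoved W' z hW' hz hh)
        have f2 : ∀ z ∈ W', (a : G) * z * (a : G)⁻¹ = z := fun z hz => by
          by_contra hh; exact hWW (c.block_eq_of_moves ha hW' hz hh).symm
        show (a : G) * g * (a : G)⁻¹ * g * y * ((a : G) * g * (a : G)⁻¹ * g)⁻¹ = y
        calc (a : G) * g * (a : G)⁻¹ * g * y * ((a : G) * g * (a : G)⁻¹ * g)⁻¹
            = (a : G) * (g * ((a : G)⁻¹ * (g * y * g⁻¹) * a) * g⁻¹) * (a : G)⁻¹ := by group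
          _ = (a : G) * (g * ((a : G)⁻¹ * ((a : G) * y * (a : G)⁻¹) * a) * g⁻¹) * (a : G)⁻¹ := by
              rw [f1 y hy, f2 y hy]
          _ = (a : G) * (g * y * g⁻¹) * (a : G)⁻¹ := by group
          _ = y := by rw [f1 y hy, f2 y hy]
    by_contra hnQ
    obtain ⟨z, hz, hz'⟩ : ∃ z, ∃ hz : z ∈ K, c.psi ⟨z, hKL hz⟩ ≠ 1 := ⟨g, hgK, hg1⟩
    have hle : K ≤ c.psi.ker.map L.subtype := jc_le_of_mem hK
      (fun q hq => ⟨⟨q, hKL (hQK hq)⟩, hQker _ hq, rfl⟩) ⟨_, hpsi, rfl⟩ hmemK hnQ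
    obtain ⟨l, hl, hlz⟩ := hle hz
    exact hz' (by rw [show (⟨z, hKL hz⟩ : ↥L) = l from Subtype.ext hlz.symm]; exact hl)
  have hgen : c.IsGen W k := ⟨hk3, hkX, fun W' hW' hne y hy => by
      by_contra hh; exact hne (hmoved W' y hW' hy hh), hg1, a, ha2, ha, hQO hak⟩
  refine ⟨k, hgen, hgK, le_antisymm ?_ ?_⟩
  · conv_lhs => rw [← hgenK]
    rw [Subgroup.closure_le]
    rintro y ⟨hy, ho⟩
    refine Subgroup.subset_closure ⟨?_, ho⟩
    have : K ≤ Q ⊔ Subgroup.zpowers g :=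
      jc_le_of_mem hK le_sup_left (Subgroup.mem_sup_right (Subgroup.mem_zpowers g)) hgK hgQ
    exact (sup_le (hQO.trans le_sup_left) le_sup_right : Q ⊔ Subgroup.zpowers g ≤ h0 L g) (this hy)
  · rw [kOf, Subgroup.closure_le]
    rintro y ⟨hy, ho⟩
    refine mem_of_odd_of_mem_sup hOK (pCoreOf_isPGroup L) ?_ ho
    exact (sup_le le_sup_right ((Subgroup.zpowers_le.mpr hgK).trans le_sup_left) :
      h0 L g ≤ K ⊔ O) hy

/-- The component of a block moved by `J(T)`. -/
theorem kOf_component {W : Subgroup G} {k : ↥L} (hk : c.IsGen W k)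
    (hJW : ¬ J ≤ Subgroup.centralizer (W : Set G))
    (hJS : ∀ S : Subgroup G, Cfsg.IsSylowTwoIn S (kOf L (k : G) ⊔ J) → J ≤ S →
      Cfsg.thompsonSubgroupOf 2 S = J) :
    Cfsg.IsJComponent T (kOf L (k : G)) ∧ Cfsg.wOf (kOf L (k : G)) = W := by
  haveI : Fact (Nat.Prime 2) := ⟨Nat.prime_two⟩
  set K := kOf L (k : G) with hKdef
  have hKL : K ≤ L := c.kOf_le k
  have hkK : (k : G) ∈ K := Subgroup.subset_closure
    ⟨Subgroup.mem_sup_right (Subgroup.mem_zpowers _), Odd.of_dvd_nat (by decide)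
      (orderOf_dvd_of_pow_eq_one (n := 3) (by rw [← Subgroup.coe_pow, hk.1, Subgroup.coe_one]))⟩
  have hgenK : Subgroup.closure {g : G | g ∈ K ∧ Odd (orderOf g)} = K :=
    le_antisymm ((Subgroup.closure_le _).mpr fun g hg => hg.1)
      ((Subgroup.closure_le _).mpr fun g hg =>
        Subgroup.subset_closure ⟨Subgroup.subset_closure hg, hg.2⟩)
  have hK0 : K ≤ h0 L (k : G) := (Subgroup.closure_le _).mpr fun g hg => hg.1
  have hWb := c.gen_isBlock hk
  have hJK : J ≤ Subgroup.normalizer (K : Set G) := fun j hj =>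
    (c.normalizes_kOf hk (c.j_le_l hj) (c.j_preserves hWb hj)).2
  have hOW : O ≤ Subgroup.normalizer (W : Set G) := fun o ho =>
    mem_normalizer_of_map_le fun x hx => by rw [c.o_fix_v ho (c.block_le_v hWb hx)]; exact hx
  have hOK : O ≤ Subgroup.normalizer (K : Set G) := fun o ho =>
    (c.normalizes_kOf hk (LocalEven.pCoreOf_le L ho) (hOW ho)).2
  have hOk : Subgroup.zpowers (k : G) ≤ Subgroup.normalizer (O : Set G) :=
    (Subgroup.zpowers_le.mpr k.2).trans (LocalEven.le_normalizer_pCoreOf L)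
  have hk3G : (k : G) ^ 3 = 1 := by rw [← Subgroup.coe_pow, hk.1, Subgroup.coe_one]
  have hkO : (k : G) ∉ O := fun h => hk.2.2.2.1 (c.psi_o h)
  -- `O₂(K) = K ∩ O`
  set Q := Cfsg.pCoreOf 2 K with hQ
  have hQle : K ⊓ O ≤ Q := le_pCoreOf inf_le_left (pCoreOf_isPGroup L).to_inf_right
    fun y hy z hz => ⟨(mul_mem (mul_mem hy (show z ∈ K from hz.1)) (inv_mem hy) : y * z * y⁻¹ ∈ K),
      c.o_conj (hKL hy) hz.2⟩
  have hpow : ∀ x ∈ h0 L (k : G), ∃ (i : ℤ) (o : G), o ∈ O ∧ x = o * (k : G) ^ i := by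
    intro x hx
    rw [h0, ← SetLike.mem_coe, Subgroup.coe_mul_of_right_le_normalizer_left _ _ hOk] at hx
    obtain ⟨o, ho, _, ⟨i, rfl⟩, rfl⟩ := hx
    exact ⟨i, o, ho, rfl⟩
  have hQeq : Q = K ⊓ O := by
    refine le_antisymm (fun q hq => ⟨LocalEven.pCoreOf_le K hq, ?_⟩) hQle
    have hqK : q ∈ K := LocalEven.pCoreOf_le K hq
    obtain ⟨i, o, ho, hqe⟩ := hpow q (hK0 hqK)
    obtain ⟨m, hm⟩ := pCoreOf_isPGroup (p := 2) K ⟨q, hq⟩
    have hm' : q ^ 2 ^ m = 1 := congrArg Subtype.val hm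
    set l : ↥L := ⟨q, hKL hqK⟩
    have hl2 : l ^ 2 ^ m = 1 := Subtype.ext (by
      rw [Subgroup.coe_pow, Subgroup.coe_one]; exact hm')
    have hpsi : c.psi l = c.psi k ^ i := by
      rw [show l = ⟨o, LocalEven.pCoreOf_le L ho⟩ * k ^ i from Subtype.ext (by
        rw [Subgroup.coe_mul, Subgroup.coe_zpow]; exact hqe), map_mul, map_zpow,
        c.psi_o (by exact ho), one_mul]
    have hodd : Odd (orderOf (c.psi l)) := Odd.of_dvd_nat (by decide)
      (orderOf_dvd_of_pow_eq_one (n := 3) (by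
        rw [hpsi, ← zpow_natCast, ← zpow_mul, mul_comm, zpow_mul, zpow_natCast, ← map_pow, hk.1,
          map_one, one_zpow]))
    exact c.ker_two (l := l)
      (c.setting.eq_one_of_odd_pow hodd (m := m) (by rw [← map_pow, hl2, map_one])) ⟨m, hl2⟩
  -- the index
  have hrel : (Cfsg.pCoreOf 2 K).relIndex K = 3 := by
    rw [← hQ, hQeq, Subgroup.inf_relIndex_left]
    have h1 : (O).relIndex K = (O).relIndex (h0 L (k : G)) := by
      refine le_antisymm (Subgroup.relIndex_le_of_le_right hK0 Subgroup.FiniteIndex.index_ne_zero) ?_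
      have hle : h0 L (k : G) ≤ O ⊔ K := sup_le le_sup_left
        ((Subgroup.zpowers_le.mpr hkK).trans le_sup_right)
      refine le_trans (Subgroup.relIndex_le_of_le_right hle Subgroup.FiniteIndex.index_ne_zero) (le_of_eq ?_)
      have hKn : K ≤ Subgroup.normalizer (O : Set G) :=
        hKL.trans (LocalEven.le_normalizer_pCoreOf L)
      have h := Cfsg.Agent.Lib.Coprime.card_sup_mul_card_inf hKn
      have e1 := Cfsg.Agent.Lib.Coprime.relIndex_mul_card (le_sup_left : O ≤ O ⊔ K)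
      have e2 := Cfsg.Agent.Lib.Coprime.relIndex_mul_card (inf_le_right : O ⊓ K ≤ K)
      rw [← e1, ← e2] at h
      rw [← Subgroup.inf_relIndex_right O K]
      have : Nat.card ↥(O) * (O).relIndex (O ⊔ K) * Nat.card ↥(O ⊓ K : Subgroup G) =
          Nat.card ↥(O) * ((O ⊓ K).relIndex K) * Nat.card ↥(O ⊓ K : Subgroup G) := by
        rw [h]; ring
      exact Nat.eq_of_mul_eq_mul_left Nat.card_pos (Nat.eq_of_mul_eq_mul_right Nat.card_pos this)
    rw [h1, h0]
    have h := Cfsg.Agent.Lib.Coprime.card_sup_mul_card_inf hOk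
    have e1 := Cfsg.Agent.Lib.Coprime.relIndex_mul_card
      (le_sup_left : O ≤ O ⊔ Subgroup.zpowers (k : G))
    have hbot : O ⊓ Subgroup.zpowers (k : G) = ⊥ := by
      rw [eq_bot_iff]
      rintro _ ⟨ho, i, rfl⟩
      refine Subgroup.mem_bot.mpr (eq_one_of_isPGroup (pCoreOf_isPGroup (p := 2) L) ho ?_)
      have : orderOf ((k : G) ^ i) ∣ 3 := orderOf_dvd_of_pow_eq_one (by
        rw [← zpow_natCast, ← zpow_mul, mul_comm, zpow_mul, zpow_natCast, hk3G, one_zpow])
      exact Nat.Coprime.coprime_dvd_left this (by decide)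
    have hord : orderOf (k : G) = 3 := orderOf_eq_prime hk3G fun e => hkO (e ▸ one_mem _)
    rw [hbot, Subgroup.card_bot, mul_one, Nat.card_zpowers, hord, ← e1] at h
    exact Nat.eq_of_mul_eq_mul_left Nat.card_pos h
  have hQn : K ≤ Subgroup.normalizer (Q : Set G) := jc_k_le_normalizer_q
  have hQK : Q ≤ K := LocalEven.pCoreOf_le K
  have hmid : ∀ {H : Subgroup G}, Q ≤ H → (k : G) ∈ H → K ≤ H := by
    intro H hQH hkH
    have h1 : Q.relIndex (H ⊓ K) * (H ⊓ K).relIndex K = 3 :=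
      (Subgroup.relIndex_mul_relIndex _ _ _ (le_inf hQH hQK) inf_le_right).trans hrel
    rcases (Nat.prime_three.eq_one_or_self_of_dvd _ (Dvd.intro _ h1)) with h | h
    · exact absurd (show (k : G) ∈ O from (hQeq.le
        (Subgroup.relIndex_eq_one.mp h ⟨hkH, hkK⟩)).2) hkO
    · rw [h, mul_eq_left₀ (by norm_num)] at h1
      exact (Subgroup.relIndex_eq_one.mp h1).trans inf_le_left
  -- a transvection in `J(T)`
  obtain ⟨A, hA, hAW⟩ : ∃ A, IsMaxEA 2 T A ∧ ¬ A ≤ Subgroup.centralizer (W : Set G) := by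
    by_contra hcon
    push Not at hcon
    exact hJW (thompsonSubgroupOf_le_of hcon)
  obtain ⟨hAc, hAe⟩ := isElementaryAbelian_iff.mp hA.2.1
  obtain ⟨aG, haA, haW⟩ := SetLike.not_le_iff_exists.mp hAW
  have hAJ : A ≤ J := le_thompsonSubgroupOf hA
  set a : ↥L := ⟨aG, c.j_le_l (hAJ haA)⟩
  have haX : c.psi a ∈ Tv.tvGroup ↥c.act.range ↥(c.V) := c.j_psi_mem (hAJ haA)
  have ha2 : ∃ m : ℕ, a ^ 2 ^ m = 1 := ⟨1, Subtype.ext (by
    rw [pow_one, Subgroup.coe_pow, Subgroup.coe_one]; exact hAe aG haA)⟩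
  have haa : aG * aG = 1 := by rw [← pow_two]; exact hAe aG haA
  -- `a` acts on `W` as a transvection inverting `k`
  obtain ⟨x, hx, hax⟩ : ∃ x ∈ W, aG * x * aG⁻¹ ≠ x := by
    by_contra hcon
    push Not at hcon
    refine haW (Subgroup.mem_centralizer_iff.mpr fun w hw => ?_)
    calc w * aG = (aG * w * aG⁻¹) * aG := by rw [hcon w hw]
      _ = aG * w := by group
  have hx1 : x ≠ 1 := fun h => hax (by rw [h]; group)
  have hconjW : ∀ {g : ↥L}, c.psi g ∈ Tv.tvGroup ↥c.act.range ↥(c.V) → ∀ {y}, y ∈ W →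
      (g : G) * y * (g : G)⁻¹ ∈ W := fun hg _ hy => c.tvgroup_preserves hg hWb hy
  have hy : aG * x * aG⁻¹ ∈ W := hconjW (g := a) haX hx
  have hy1 : aG * x * aG⁻¹ ≠ 1 := fun h => hx1 (conj_eq_one_iff.mp h)
  have h4 := c.block_card hWb
  have hfour := four_cases h4.1 h4.2 hx hy hx1 hy1 (Ne.symm hax)
  have hfixw : ∀ b : G, b ∈ A → b * (x * (aG * x * aG⁻¹)) * b⁻¹ = x * (aG * x * aG⁻¹) := by
    intro b hb
    have hbn : b * (x * (aG * x * aG⁻¹)) * b⁻¹ ∈ W :=
      hconjW (g := ⟨b, c.j_le_l (hAJ hb)⟩) (c.j_psi_mem (hAJ hb)) (mul_mem hx hy)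
    have hafix : aG * (x * (aG * x * aG⁻¹)) * aG⁻¹ = x * (aG * x * aG⁻¹) := by
      calc aG * (x * (aG * x * aG⁻¹)) * aG⁻¹
          = (aG * x * aG⁻¹) * ((aG * aG) * x * (aG * aG)⁻¹) := by group
        _ = (aG * x * aG⁻¹) * x := by rw [haa]; group
        _ = x * (aG * x * aG⁻¹) := comm_of_exp_two h4.2 hy hx
    have hab : aG * (b * (x * (aG * x * aG⁻¹)) * b⁻¹) * aG⁻¹ =
        b * (x * (aG * x * aG⁻¹)) * b⁻¹ := by
      calc aG * (b * (x * (aG * x * aG⁻¹)) * b⁻¹) * aG⁻¹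
          = (aG * b) * (x * (aG * x * aG⁻¹)) * (aG * b)⁻¹ := by group
        _ = (b * aG) * (x * (aG * x * aG⁻¹)) * (b * aG)⁻¹ := by rw [hAc aG haA b hb]
        _ = b * (aG * (x * (aG * x * aG⁻¹)) * aG⁻¹) * b⁻¹ := by group
        _ = _ := by rw [hafix]
    rcases hfour _ hbn with h | h | h | h
    · exact absurd (conj_eq_one_iff.mp h) fun h' => hax (by
        rw [eq_inv_of_mul_eq_one_right h', inv_eq_of_mul_eq_one_right (h4.2 x hx)])
    · rw [h] at hab; exact absurd hab hax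
    · rw [h] at hab
      exact absurd (mul_left_cancel (mul_right_cancel hab)) hax
    · exact h
  set B := A ⊓ Subgroup.centralizer (W : Set G) with hB
  have hplane : ∀ b ∈ A, b ∈ B ∨ aG * b ∈ B := by
    intro b hb
    have key : ∀ g ∈ A, g * x * g⁻¹ = x → g ∈ B := by
      intro g hg hgx
      refine ⟨hg, Subgroup.mem_centralizer_iff.mpr fun w hw => ?_⟩
      have hgy : g * (aG * x * aG⁻¹) * g⁻¹ = aG * x * aG⁻¹ := by
        calc g * (aG * x * aG⁻¹) * g⁻¹ = (g * aG) * x * (g * aG)⁻¹ := by group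
          _ = (aG * g) * x * (aG * g)⁻¹ := by rw [hAc aG haA g hg]
          _ = aG * (g * x * g⁻¹) * aG⁻¹ := by group
          _ = _ := by rw [hgx]
      suffices h : g * w * g⁻¹ = w by
        calc w * g = (g * w * g⁻¹) * g := by rw [h]
          _ = g * w := by group
      rcases hfour w hw with rfl | rfl | rfl | rfl
      · group
      · exact hgx
      · exact hgy
      · exact hfixw g hg
    have hbn : b * x * b⁻¹ ∈ W :=
      hconjW (g := ⟨b, c.j_le_l (hAJ hb)⟩) (c.j_psi_mem (hAJ hb)) hx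
    rcases hfour _ hbn with h | h | h | h
    · exact absurd (conj_eq_one_iff.mp h) hx1
    · exact Or.inl (key b hb h)
    · refine Or.inr (key _ (mul_mem haA hb) ?_)
      calc aG * b * x * (aG * b)⁻¹ = aG * (b * x * b⁻¹) * aG⁻¹ := by group
        _ = (aG * aG) * x * (aG * aG)⁻¹ := by rw [h]; group
        _ = x := by rw [haa]; group
    · exfalso
      have hh := mul_left_cancel (mul_right_cancel ((hfixw b hb).trans h.symm))
      exact hy1 (mul_eq_left.mp hh)
  -- `B` commutes with `k` and `a` inverts it, modulo `Q`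
  have hAimg := c.maxEA_gen hA
  obtain ⟨t, htA, httv, htmv⟩ : ∃ t : ↥L, (t : G) ∈ A ∧ Tv.IsTv ↥(c.V) (c.psi t) ∧
      (t : G) * x * (t : G)⁻¹ ≠ x := by
    by_contra hcon
    push Not at hcon
    have hmem := hAimg ⟨a, haA, rfl⟩
    have hxV := c.block_le_v hWb hx
    have hfix : ∀ s ∈ Subgroup.closure {s | s ∈ (A.subgroupOf L).map c.psi ∧ Tv.IsTv ↥(c.V) s},
        s • (⟨x, hxV⟩ : ↥(c.V)) = ⟨x, hxV⟩ := by
      intro s hs
      induction hs using Subgroup.closure_induction with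
      | mem r hr =>
        obtain ⟨t, ht, rfl⟩ := hr.1
        exact Subtype.ext (hcon t ht hr.2)
      | one => exact one_smul _ _
      | mul p q _ _ hp hq => rw [mul_smul, hq, hp]
      | inv p _ hp => exact inv_smul_eq_iff.mpr hp.symm
    exact hax (congrArg Subtype.val (hfix _ hmem))
  have htW : c.IsTvOf t W := by
    have hb : c.IsTvOf t ((Tv.blockOf ↥(c.V) (c.psi t)).map (c.V).subtype) := ⟨httv, rfl⟩
    exact c.block_eq_of_moves hb hWb hx htmv ▸ hb
  have htO := c.inv_any hk htW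
  have hmemKO : ∀ {g : G}, g ∈ K → g ∈ O → g ∈ Q := fun h1 h2 => hQeq.ge ⟨h1, h2⟩
  have hbcomm : ∀ b ∈ B, b * (k : G) * b⁻¹ * (k : G)⁻¹ ∈ Q := by
    intro b hb
    have hbL := c.j_le_l (hAJ hb.1)
    set l : ↥L := ⟨b, hbL⟩
    refine hmemKO (mul_mem (conj_mem_of_normalizer (hJK (hAJ hb.1)) hkK) (inv_mem hkK)) ?_
    have hpsi : c.psi l * c.psi k = c.psi k * c.psi l := by
      refine c.setting.ext_blocks (mul_mem (c.j_psi_mem (hAJ hb.1)) hk.2.1)
        (mul_mem hk.2.1 (c.j_psi_mem (hAJ hb.1))) fun r hr w hw => ?_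
      obtain ⟨r', rfl⟩ := c.psi_surj r
      have hrB : c.IsBlock ((Tv.blockOf ↥(c.V) (c.psi r')).map (c.V).subtype) := ⟨r', hr, rfl⟩
      refine Subtype.ext ?_
      rw [mul_smul, mul_smul, c.psi_smul, c.psi_smul, c.psi_smul, c.psi_smul]
      have hwm : (w : G) ∈ (Tv.blockOf ↥(c.V) (c.psi r')).map (c.V).subtype := ⟨w, hw, rfl⟩
      by_cases hWW : (Tv.blockOf ↥(c.V) (c.psi r')).map (c.V).subtype = W
      · have hwW : (w : G) ∈ W := hWW ▸ hwm
        have f1 : ∀ z ∈ W, b * z * b⁻¹ = z := fun z hz => by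
          rw [← Subgroup.mem_centralizer_iff.mp hb.2 z hz]; group
        show b * ((k : G) * w * (k : G)⁻¹) * b⁻¹ = (k : G) * (b * w * b⁻¹) * (k : G)⁻¹
        rw [f1 _ hwW, f1 _ (hconjW hk.2.1 hwW)]
      · have hkfix : ∀ z ∈ (Tv.blockOf ↥(c.V) (c.psi r')).map (c.V).subtype,
            (k : G) * z * (k : G)⁻¹ = z := fun z hz => hk.2.2.1 _ hrB hWW z hz
        show b * ((k : G) * w * (k : G)⁻¹) * b⁻¹ = (k : G) * (b * w * b⁻¹) * (k : G)⁻¹
        rw [hkfix _ hwm, hkfix _ (c.tvgroup_preserves (l := l) (c.j_psi_mem (hAJ hb.1)) hrB hwm)]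
    -- commutator in the kernel and inverted
    obtain ⟨i, o, ho, hbe⟩ := hpow _ (hK0 (conj_mem_of_normalizer (hJK (hAJ hb.1)) hkK))
    have h1 : c.psi k ^ i = c.psi k := by
      have : c.psi (l * k * l⁻¹) = c.psi k ^ i := by
        rw [show l * k * l⁻¹ = ⟨o, LocalEven.pCoreOf_le L ho⟩ * k ^ i from Subtype.ext
          (show b * (k : G) * b⁻¹ = o * ((k ^ i : ↥L) : G) by rw [Subgroup.coe_zpow]; exact hbe),
          map_mul, map_zpow,
          c.psi_o (by exact ho), one_mul]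
      rw [← this, map_mul, map_mul, map_inv, hpsi, mul_inv_cancel_right]
    have h3 : orderOf (c.psi k) = 3 := orderOf_eq_prime (by rw [← map_pow, hk.1, map_one]) hk.2.2.2.1
    have h2 : (3 : ℤ) ∣ i - 1 := by
      rw [show (3 : ℤ) = ((orderOf (c.psi k) : ℕ) : ℤ) by rw [h3]; rfl, orderOf_dvd_iff_zpow_eq_one,
        zpow_sub, h1, zpow_one, mul_inv_cancel]
    obtain ⟨j, hj⟩ := h2
    have e : (k : G) ^ i = k := by
      rw [show i = 3 * j + 1 by omega, zpow_add, zpow_mul, zpow_one,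
        show (3 : ℤ) = ((3 : ℕ) : ℤ) from rfl, zpow_natCast, hk3G, one_zpow, one_mul]
    rw [hbe, e, mul_inv_cancel_right]
    exact ho
  have hainv : aG * (k : G) * aG⁻¹ * (k : G) ∈ Q := by
    -- `a t` lies in `B`
    have hat : aG * (t : G) ∈ B := by
      rcases hplane _ htA with h | h
      · exact absurd (show (t : G) * x * (t : G)⁻¹ = x by
          rw [← Subgroup.mem_centralizer_iff.mp h.2 x hx]; group) htmv
      · exact h
    have h1 := hbcomm _ hat
    have htQ : (t : G) * (k : G) * (t : G)⁻¹ * (k : G) ∈ Q :=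
      hmemKO (mul_mem (conj_mem_of_normalizer (hJK (hAJ htA)) hkK) hkK) (by simpa using htO)
    have e : aG * (k : G) * aG⁻¹ * (k : G) =
        (aG * t * (k : G) * (aG * t)⁻¹ * (k : G)⁻¹) * ((k : G) *
          ((aG * t) * (((k : G)⁻¹ * ((t : G)⁻¹ * k * t)) ) * (aG * t)⁻¹) * (k : G)) := by group
    have ht2 : (t : G)⁻¹ = t := inv_eq_of_mul_eq_one_right (by rw [← pow_two]; exact hAe _ htA)
    have hbn : aG * (t : G) ∈ Subgroup.normalizer (Q : Set G) :=
      normalizer_le_normalizer_pCoreOf 2 K (hJK (hAJ hat.1))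
    rw [e]
    refine mul_mem h1 ?_
    have h5 : (k : G)⁻¹ * ((t : G)⁻¹ * k * t) =
        ((k : G)⁻¹ * ((t : G) * k * (t : G)⁻¹ * k) * (k : G)⁻¹⁻¹) * ((k : G)⁻¹ * (k : G)⁻¹) := by
      rw [ht2]; group
    rw [h5, show (k : G) * ((aG * t) * (((k : G)⁻¹ * ((t : G) * k * (t : G)⁻¹ * k) * (k : G)⁻¹⁻¹) *
        ((k : G)⁻¹ * (k : G)⁻¹)) * (aG * t)⁻¹) * (k : G) =
      ((k : G) * ((aG * t) * ((k : G)⁻¹ * ((t : G) * k * (t : G)⁻¹ * k) * (k : G)⁻¹⁻¹) *
        (aG * t)⁻¹) * (k : G)⁻¹) *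
      ((k : G) * ((aG * t * k * (aG * t)⁻¹ * (k : G)⁻¹) * k)⁻¹ *
        ((aG * t * k * (aG * t)⁻¹ * (k : G)⁻¹) * k)⁻¹ * k) by group]
    refine mul_mem (conj_mem_of_normalizer (hQn hkK) (conj_mem_of_normalizer hbn
      (conj_mem_of_normalizer (hQn (inv_mem hkK)) htQ))) ?_
    set q := aG * t * k * (aG * t)⁻¹ * (k : G)⁻¹ with hq
    rw [show (k : G) * (q * k)⁻¹ * (q * k)⁻¹ * k =
      q⁻¹ * ((k : G)⁻¹ * q⁻¹ * (k : G)⁻¹⁻¹) by group]
    exact mul_mem (inv_mem h1) (conj_mem_of_normalizer (hQn (inv_mem hkK)) (inv_mem h1))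
  -- `K = [K, J]`
  have hKJ : ⁅K, J⁆ = K := by
    refine le_antisymm (Subgroup.commutator_le.mpr fun g hg j hj => ?_) ?_
    · rw [commutatorElement_def, mul_assoc, mul_assoc, ← mul_assoc j]
      exact mul_mem hg (conj_mem_of_normalizer (hJK hj) (inv_mem hg))
    · have hn : K ≤ Subgroup.normalizer ((⁅K, J⁆ : Subgroup G) : Set G) :=
        Subgroup.normalizer_commutator_ge_left K J
      have hmem : ⁅(k : G), aG⁆ ∈ ⁅K, J⁆ := Subgroup.commutator_mem_commutator hkK (hAJ haA)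
      have hnQ : ⁅(k : G), aG⁆ ∉ Q := by
        intro h
        have hai : aG⁻¹ = aG := inv_eq_of_mul_eq_one_right haa
        have e : (k : G) * k = ⁅(k : G), aG⁆ * (aG * (k : G) * aG⁻¹ * k) := by
          rw [commutatorElement_def]; group
        have hkk : (k : G) * k ∈ Q := e ▸ mul_mem h hainv
        refine hkO ((hQeq.le ?_).2)
        have : (k : G) = (k * k) * (k * k) := by
          calc (k : G) = k * (k : G) ^ 3 := by rw [hk3G, mul_one]
            _ = _ := by simp only [pow_succ, pow_zero, one_mul, mul_assoc]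
        rw [this]; exact mul_mem hkk hkk
      have hmemK : ⁅(k : G), aG⁆ ∈ K := by
        rw [commutatorElement_def, mul_assoc, mul_assoc, ← mul_assoc aG]
        exact mul_mem hkK (conj_mem_of_normalizer (hJK (hAJ haA)) (inv_mem hkK))
      have h1 : K ≤ ⁅K, J⁆ ⊔ Q := by
        have h1 : Q.relIndex ((⁅K, J⁆ ⊔ Q) ⊓ K) * ((⁅K, J⁆ ⊔ Q) ⊓ K).relIndex K = 3 :=
          (Subgroup.relIndex_mul_relIndex _ _ _ (le_inf le_sup_right hQK) inf_le_right).trans hrel
        rcases (Nat.prime_three.eq_one_or_self_of_dvd _ (Dvd.intro _ h1)) with h | h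
        · exact absurd (Subgroup.relIndex_eq_one.mp h ⟨Subgroup.mem_sup_left hmem, hmemK⟩) hnQ
        · rw [h, mul_eq_left₀ (by norm_num)] at h1
          exact (Subgroup.relIndex_eq_one.mp h1).trans inf_le_left
      conv_lhs => rw [← hgenK]
      rw [Subgroup.closure_le]
      rintro g ⟨hgK, hgo⟩
      exact mem_of_odd_of_mem_sup (hQK.trans hn) (pCoreOf_isPGroup K) (h1 hgK) hgo
  -- the four-group
  set Z := Cfsg.omegaCenterOf Q with hZdef
  have hQZ : ∀ q ∈ Q, ∀ z ∈ Z, q * z * q⁻¹ = z := fun q hq z hz => by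
    rw [(mem_omegaCenterOf_iff.mp hz).2.1 q hq]; group
  have hKZ : K ≤ Subgroup.normalizer (Z : Set G) :=
    hQn.trans (normalizer_le_normalizer_omegaCenterOf Q)
  have hAZ : ∀ b ∈ A, ∀ z ∈ Z, b * z * b⁻¹ ∈ Z := fun b hb z hz =>
    conj_mem_of_normalizer (normalizer_le_normalizer_omegaCenterOf Q
      (normalizer_le_normalizer_pCoreOf 2 K (hJK (hAJ hb)))) hz
  have hZc : ∀ y ∈ Z, ∀ z ∈ Z, y * z = z * y := fun y hy z hz =>
    (mem_omegaCenterOf_iff.mp hz).2.1 y (omegaCenterOf_le _ hy)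
  have hZ2 : ∀ z ∈ Z, z * z = 1 := fun z hz => (mem_omegaCenterOf_iff.mp hz).2.2
  have hbound := moveBy_card_le_four (T := T) (B := B) (Z := Z) (k := (k : G)) hA haA inf_le_left
    hplane ((omegaCenterOf_le _).trans ((hQeq.le.trans inf_le_right).trans c.o_le_t)) hZc hZ2
    (fun z hz => conj_mem_of_normalizer (hKZ hkK) hz) hAZ hk3G
    (fun z hz => by
      calc aG * ((k : G) * z * (k : G)⁻¹) * aG⁻¹
          = (aG * (k : G) * aG⁻¹ * k) * ((k : G)⁻¹ * (aG * z * aG⁻¹) * (k : G)⁻¹⁻¹) *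
              (aG * (k : G) * aG⁻¹ * k)⁻¹ := by group
        _ = (k : G)⁻¹ * (aG * z * aG⁻¹) * k := by
            rw [hQZ _ hainv _ (conj_mem_of_normalizer (hKZ (inv_mem hkK)) (hAZ aG haA z hz)),
              inv_inv])
    (fun b hb z hz => by
      calc b * ((k : G) * z * (k : G)⁻¹) * b⁻¹
          = (b * (k : G) * b⁻¹ * (k : G)⁻¹) * ((k : G) * (b * z * b⁻¹) * (k : G)⁻¹) *
              (b * (k : G) * b⁻¹ * (k : G)⁻¹)⁻¹ := by group
        _ = _ := hQZ _ (hbcomm b hb) _ (conj_mem_of_normalizer (hKZ hkK) (hAZ b hb.1 z hz)))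
  have hfpf : ∀ u ∈ W, (k : G) * u * (k : G)⁻¹ = u → u = 1 := fun u hu h => by
    by_contra hu1; exact c.gen_moves hk hu hu1 h
  have hWM : (W : Set G) ⊆ moveBy (k : G) Z := by
    let f : ↥W → ↥W := fun v => ⟨(k : G) * v * (k : G)⁻¹ * (v : G)⁻¹,
      mul_mem (hconjW hk.2.1 v.2) (inv_mem v.2)⟩
    have hf : Function.Injective f := fun u u' h => by
      have he : (k : G) * u * (k : G)⁻¹ * (u : G)⁻¹ = k * u' * (k : G)⁻¹ * (u' : G)⁻¹ :=
        congrArg Subtype.val h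
      refine Subtype.ext (inv_mul_eq_one.mp
        (hfpf _ (mul_mem (inv_mem u'.2) u.2) ?_ : (u' : G)⁻¹ * u = 1)).symm
      calc (k : G) * ((u' : G)⁻¹ * u) * (k : G)⁻¹
          = ((k : G) * (u' : G)⁻¹ * (k : G)⁻¹) * ((k : G) * u * (k : G)⁻¹ * (u : G)⁻¹) * u := by group
        _ = ((k : G) * (u' : G)⁻¹ * (k : G)⁻¹) * ((k : G) * u' * (k : G)⁻¹ * (u' : G)⁻¹) * u := by
            rw [he]
        _ = (u' : G)⁻¹ * u := by group
    have hWK : W ≤ K := by
      intro w hw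
      obtain ⟨v, hv⟩ := Finite.injective_iff_surjective.mp hf ⟨w, hw⟩
      have hv' : (k : G) * v * (k : G)⁻¹ * (v : G)⁻¹ = w := congrArg Subtype.val hv
      rw [← hv', show (k : G) * v * (k : G)⁻¹ * (v : G)⁻¹ =
        (k : G) * ((v : G) * (k : G)⁻¹ * (v : G)⁻¹) by group]
      exact mul_mem hkK (conj_mem_of_normalizer (hOK (c.v_le_o (c.block_le_v hWb v.2))) (inv_mem hkK))
    intro w hw
    obtain ⟨v, hv⟩ := Finite.injective_iff_surjective.mp hf ⟨w, hw⟩
    refine ⟨v, ?_, congrArg Subtype.val hv⟩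
    have hvV := c.block_le_v hWb v.2
    exact mem_omegaCenterOf_iff.mpr ⟨hmemKO (hWK v.2) (c.v_le_o hvV),
      fun q hq => (mem_omegaCenterOf_iff.mp (c.v_le_zo hvV)).2.1 q (hQeq.le hq).2, c.v_sq hvV⟩
  have hcardW : (W : Set G).ncard = 4 := by rw [← Nat.card_coe_set_eq]; exact h4.1
  have heq : (W : Set G) = moveBy (k : G) Z :=
    Set.eq_of_subset_of_ncard_le hWM (by rw [hcardW]; exact hbound)
  have hwof : Cfsg.wOf K = W := by
    refine le_antisymm ?_ ?_
    · rw [Cfsg.wOf, Subgroup.commutator_le]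
      intro z hz g hg
      -- commutators with `z` land in `W`
      let N : Subgroup G :=
        { carrier := {g | g ∈ Subgroup.normalizer (W : Set G) ∧ g ∈ Subgroup.normalizer (Z : Set G) ∧
            ∀ z ∈ Z, g * z * g⁻¹ * z⁻¹ ∈ W}
          one_mem' := ⟨one_mem _, one_mem _, fun z _ => by simp⟩
          mul_mem' := fun {g h} hg hh => ⟨mul_mem hg.1 hh.1, mul_mem hg.2.1 hh.2.1, fun z hz => by
            rw [show g * h * z * (g * h)⁻¹ * z⁻¹ =
              g * (h * z * h⁻¹ * z⁻¹) * g⁻¹ * (g * z * g⁻¹ * z⁻¹) by group]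
            exact mul_mem (conj_mem_of_normalizer hg.1 (hh.2.2 z hz)) (hg.2.2 z hz)⟩
          inv_mem' := fun {g} hg => ⟨inv_mem hg.1, inv_mem hg.2.1, fun z hz => by
            have := inv_mem (hg.2.2 _ (conj_mem_of_normalizer (inv_mem hg.2.1) hz))
            convert this using 1
            group⟩ }
      have hKN : K ≤ N := hmid
        (fun q hq => ⟨hOW (hQeq.le hq).2, hKZ (hQK hq), fun z hz => by
          rw [hQZ q hq z hz, mul_inv_cancel]; exact one_mem _⟩)
        ⟨mem_normalizer_of_map_le fun w hw => hconjW hk.2.1 hw, hKZ hkK, fun z hz =>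
          heq.ge ⟨z, hz, rfl⟩⟩
      rw [← commutatorElement_inv, commutatorElement_def]
      exact inv_mem ((hKN hg).2.2 z hz)
    · intro w hw
      obtain ⟨z, hz, hzw⟩ := heq.le hw
      have := inv_mem (Subgroup.commutator_mem_commutator hz hkK (H₁ := Z) (H₂ := K))
      rw [commutatorElement_inv, commutatorElement_def] at this
      rw [← hzw]
      exact this
  refine ⟨⟨hgenK, hKJ, hrel, hJS, ?_, ?_⟩, hwof⟩
  · rw [hwof]; exact h4.1
  · rw [hwof]; exact h4.2

end JCtx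

end Cfsg.Agent.Lib.LocalEven2
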