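import Cfsg.Agent.Lib.LocalEven2.JOver
import Cfsg.Agent.Lib.LocalEven.StronglyEmbedded

/-!
# Maximal straddling 2-subgroups
-/

set_option autoImplicit false

namespace Cfsg.Agent.Lib.LocalEven2

variable {G : Type*} [Group G] [Finite G] {M T : Subgroup G}

local notation "J" => Cfsg.thompsonSubgroupOf 2 T

/-- The Thompson subgroup of a nontrivial 2-subgroup is nontrivial. -/
theorem thompson_ne_bot (hT : IsPGroup 2 ↥T) (hT1 : T ≠ ⊥) : J ≠ ⊥ := by
  haveI : Fact (Nat.Prime 2) := ⟨Nat.prime_two⟩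
  intro h
  obtain ⟨A, hA⟩ := exists_isMaxEA 2 T
  have hA1 : A = ⊥ := le_bot_iff.mp (h ▸ le_thompsonSubgroupOf hA)
  obtain ⟨n, hn⟩ := IsPGroup.iff_card.mp hT
  have h2 : 2 ∣ Nat.card ↥T := by
    rcases n with _ | n
    · exact absurd (Subgroup.card_eq_one.mp (by simpa using hn)) hT1
    · exact ⟨2 ^ n, by rw [hn, pow_succ']⟩
  obtain ⟨t, ht⟩ := exists_prime_orderOf_dvd_card' 2 h2
  have hto : orderOf (t : G) = 2 := by rw [Subgroup.orderOf_coe, ht]
  have hle : Subgroup.zpowers (t : G) ≤ T := Subgroup.zpowers_le.mpr t.2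
  have hE : Cfsg.IsElementaryAbelian 2 (Subgroup.zpowers (t : G)) := by
    rw [isElementaryAbelian_iff]
    refine ⟨?_, ?_⟩
    · intro x hx y hy
      obtain ⟨i, rfl⟩ := hx
      obtain ⟨j, rfl⟩ := hy
      exact zpow_mul_comm _ i j
    · intro x hx
      obtain ⟨i, rfl⟩ := hx
      show ((t : G) ^ i) ^ 2 = 1
      rw [← zpow_natCast ((t : G) ^ i) 2, ← zpow_mul, mul_comm, zpow_mul, zpow_natCast, ← hto,
        pow_orderOf_eq_one, one_zpow]
  have := hA.2.2 _ hle hE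
  rw [hA1, Subgroup.card_bot, Nat.card_zpowers, hto] at this
  omega

theorem straddle_eq (hT : T ∈ Cfsg.maxStraddlingTwoSubgroups M) {R : Subgroup G}
    (hR : R ∈ Cfsg.straddlingTwoSubgroups M) (hJR : J ≤ R) :
    Cfsg.thompsonSubgroupOf 2 R = J ∧ Nat.card ↥R ≤ Nat.card ↥T := by
  obtain ⟨A, hA⟩ := exists_isMaxEA 2 T
  obtain ⟨B, hB⟩ := exists_isMaxEA 2 R
  obtain ⟨h1, h2⟩ := hT.2 R hR
  have hAR : A ≤ R := (le_thompsonSubgroupOf hA).trans hJR
  have hAB : Nat.card ↥A ≤ Nat.card ↥B := hB.2.2 A hAR hA.2.1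
  rw [maxElemAbelianOrder_eq hA, maxElemAbelianOrder_eq hB] at h1 h2
  have hab : Nat.card ↥B = Nat.card ↥A := le_antisymm h1 hAB
  obtain ⟨h3, h4⟩ := h2 hab
  have hle : J ≤ Cfsg.thompsonSubgroupOf 2 R := thompsonSubgroupOf_le_of fun A' hA' =>
    le_thompsonSubgroupOf ⟨(le_thompsonSubgroupOf hA').trans hJR, hA'.2.1, fun C hC hCe =>
      (hB.2.2 C hC hCe).trans (hab.le.trans (hA.card_eq hA').le)⟩
  have heq : J = Cfsg.thompsonSubgroupOf 2 R := Subgroup.eq_of_le_of_card_ge hle h3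
  exact ⟨heq.symm, h4 (by rw [heq])⟩

/-- For a maximal straddling `T` the normalizer of `J(T)` lies in `M`. -/
theorem straddle_normalizer_le (S : Sylow 2 G)
    (hMJ : Subgroup.normalizer (Cfsg.thompsonSubgroupOf 2 (S : Subgroup G) : Set G) ≤ M)
    (hT : T ∈ Cfsg.maxStraddlingTwoSubgroups M) :
    Subgroup.normalizer (J : Set G) ≤ M := by
  haveI : Fact (Nat.Prime 2) := ⟨Nat.prime_two⟩
  obtain ⟨hT2, hT1, hTM, -⟩ := hT.1
  by_contra hN
  set N := Subgroup.normalizer (J : Set G) with hNdef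
  have hJ1 := thompson_ne_bot hT2 hT1
  have hNloc : Cfsg.IsTwoLocal N := ⟨J, hT2.to_le (thompsonSubgroupOf_le 2 T), hJ1, rfl⟩
  have hTN : T ≤ N := Subgroup.le_normalizer.trans (normalizer_le_normalizer_thompson 2 T)
  have hsyl : LocalEven.IsSylowOf 2 T M := by
    refine LocalEven.isSylowOf_of_normalizer hTM hT2 fun Q hQ hQ2 hTQ => ?_
    have hR : Q ∈ Cfsg.straddlingTwoSubgroups M :=
      ⟨hQ2, fun h => hT1 (le_bot_iff.mp (h ▸ hTQ)), hQ.trans inf_le_left, N, hNloc,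
        hQ.trans (inf_le_right.trans (normalizer_le_normalizer_thompson 2 T)), hN⟩
    exact (Subgroup.eq_of_le_of_card_ge hTQ
      (straddle_eq hT hR ((thompsonSubgroupOf_le 2 T).trans hTQ)).2).symm
  have hSM : (S : Subgroup G) ≤ M :=
    (Subgroup.le_normalizer.trans (normalizer_le_normalizer_thompson 2 _)).trans hMJ
  have hS : LocalEven.IsSylowOf 2 (S : Subgroup G) M :=
    (LocalEven.isSylowOf_top S).mono hSM le_top
  obtain ⟨x, hx, hxS⟩ := hS.exists_conj hsyl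
  have hJx : J = (Cfsg.thompsonSubgroupOf 2 (S : Subgroup G)).map (MulAut.conj x).toMonoidHom := by
    rw [← thompsonSubgroupOf_map_conj]
    exact congrArg _ hxS.symm
  refine hN fun n hn => ?_
  have hmem : x⁻¹ * n * x ∈
      Subgroup.normalizer (Cfsg.thompsonSubgroupOf 2 (S : Subgroup G) : Set G) := by
    rw [Subgroup.mem_normalizer_iff]
    intro y
    have := Subgroup.mem_normalizer_iff.mp hn (x * y * x⁻¹)
    rw [hJx, mem_map_conj, mem_map_conj] at this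
    simpa [mul_assoc] using this
  have := mul_mem (mul_mem hx (hMJ hmem)) (inv_mem hx)
  simpa [mul_assoc] using this

/-- A 2-subgroup of a 2-local subgroup outside `M` containing `J(T)` lies in `M`. -/
theorem straddle_over (S : Sylow 2 G)
    (hMJ : Subgroup.normalizer (Cfsg.thompsonSubgroupOf 2 (S : Subgroup G) : Set G) ≤ M)
    (hT : T ∈ Cfsg.maxStraddlingTwoSubgroups M) {R L : Subgroup G} (hR : IsPGroup 2 ↥R)
    (hJR : J ≤ R) (hRL : R ≤ L) (hL : Cfsg.IsTwoLocal L) (hLM : ¬ L ≤ M) :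
    R ∈ Cfsg.straddlingTwoSubgroups M ∧ Cfsg.thompsonSubgroupOf 2 R = J ∧
      Nat.card ↥R ≤ Nat.card ↥T := by
  haveI : Fact (Nat.Prime 2) := ⟨Nat.prime_two⟩
  obtain ⟨hT2, hT1, hTM, -⟩ := hT.1
  have hN := straddle_normalizer_le S hMJ hT
  have hJ1 := thompson_ne_bot hT2 hT1
  suffices hRM : R ≤ M by
    have hs : R ∈ Cfsg.straddlingTwoSubgroups M :=
      ⟨hR, fun h => hJ1 (le_bot_iff.mp (h ▸ hJR)), hRM, L, hL, hRL, hLM⟩
    exact ⟨hs, straddle_eq hT hs hJR⟩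
  set R1 := R ⊓ M with hR1
  have hJR1 : J ≤ R1 := le_inf hJR ((thompsonSubgroupOf_le 2 T).trans hTM)
  have hs : R1 ∈ Cfsg.straddlingTwoSubgroups M :=
    ⟨hR.to_le inf_le_left, fun h => hJ1 (le_bot_iff.mp (h ▸ hJR1)), inf_le_right, L, hL,
      inf_le_left.trans hRL, hLM⟩
  have hJ := (straddle_eq hT hs hJR1).1
  by_contra hne
  have hlt : R1.subgroupOf R < ⊤ := by
    rw [lt_top_iff_ne_top, ne_eq, Subgroup.subgroupOf_eq_top]
    exact fun h' => hne (h'.trans inf_le_right)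
  have := hR.isNilpotent
  obtain ⟨y, hyn, hy⟩ := SetLike.exists_of_lt (Group.normalizerCondition_of_isNilpotent _ hlt)
  have hy' : (y : G) ∈ Subgroup.normalizer (R1 : Set G) := by
    have h1 : (R1.subgroupOf R).map R.subtype = R1 :=
      Subgroup.map_subgroupOf_eq_of_le inf_le_left
    rw [← h1]
    exact Subgroup.le_normalizer_map _ ⟨y, hyn, rfl⟩
  have hyJ := normalizer_le_normalizer_thompson 2 R1 hy'
  rw [hJ] at hyJ
  exact hy (Subgroup.mem_subgroupOf.2 ⟨y.2, hN hyJ⟩)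

end Cfsg.Agent.Lib.LocalEven2
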