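import Cfsg.Agent.Lib.LocalEven2.JMember
import Cfsg.Agent.S2941

/-!
Components inside members of the family of `T`, in groups all whose `2`-locals are solvable.
-/

set_option autoImplicit false
set_option linter.style.haveILetI false

namespace Cfsg.Agent.Lib.LocalEven2

variable {G : Type*} [Group G] [Finite G]

/-- A `2`-local subgroup has characteristic 2 inside `G`. -/
theorem twoLocal_charp (hL : Cfsg.IsCharacteristicTwoType G) {N : Subgroup G}
    (hN : Cfsg.IsTwoLocal N) :
    Subgroup.centralizer (Cfsg.pCoreOf 2 N : Set G) ≤ Cfsg.pCoreOf 2 N := by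
  haveI : Fact (Nat.Prime 2) := ⟨Nat.prime_two⟩
  obtain ⟨R, hR, hR1, rfl⟩ := hN
  set N := Subgroup.normalizer (R : Set G) with hNdef
  have hch : Subgroup.centralizer (Cfsg.pCore 2 ↥N : Set ↥N) ≤ Cfsg.pCore 2 ↥N := hL.2 R hR hR1
  have hRO : R ≤ Cfsg.pCoreOf 2 N := le_pCoreOf Subgroup.le_normalizer hR fun g hg x hx =>
    conj_mem_of_normalizer hg hx
  intro x hx
  have hxN : x ∈ N := by
    refine mem_normalizer_of_map_le fun y hy => ?_
    rw [← Subgroup.mem_centralizer_iff.mp hx y (hRO hy)]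
    simpa using hy
  exact coe_mem_pCoreOf.mpr (hch (x := ⟨x, hxN⟩) (Subgroup.mem_centralizer_iff.mpr fun y hy =>
    Subtype.ext (Subgroup.mem_centralizer_iff.mp hx y (coe_mem_pCoreOf.mpr hy))))

section

variable (hL : Cfsg.IsCharacteristicTwoType G)
  (hN : ∀ N : Subgroup G, Cfsg.IsTwoLocal N → Group.IsSolvable ↥N)
  (hZ : ∀ S : Sylow 2 G, Subgroup.centralizer (Cfsg.omegaCenterOf (S : Subgroup G) : Set G) ≤
    Subgroup.normalizer ((S : Subgroup G) : Set G))

include hL hN hZ

/-- A component inside a member is the component of its block. -/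
theorem member_component {T L : Subgroup G} (hT1 : T ≠ ⊥) (c : JCtx T L) {K : Subgroup G}
    (hK : Cfsg.IsJComponent T K) (hKL : K ≤ L) :
    ∃ k : ↥L, c.IsGen (Cfsg.wOf K) k ∧ (k : G) ∈ K ∧ K = JCtx.kOf L (k : G) := by
  refine c.component_gen hK hKL ?_
  exact Cfsg.Agent.S2941.result hL hN hZ T c.syl.2.1 hT1 K hK _
    ((sup_le hKL c.j_le_l).trans (LocalEven.le_normalizer_pCoreOf L))
    ((c.o_le_t.trans Subgroup.le_normalizer).trans (normalizer_le_normalizer_thompson 2 T))

theorem jOver_ctx {T L : Subgroup G} (hT1 : T ≠ ⊥) (h : L ∈ Cfsg.jOvergroups T) : JCtx T L :=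
  jctx_mk hN hZ hT1 h.1 h.2.2

end

end Cfsg.Agent.Lib.LocalEven2

namespace Cfsg.Agent.Lib.LocalEven2

variable {G : Type*} [Group G] [Finite G]

theorem isJComponent_congr {T T' K : Subgroup G}
    (h : Cfsg.thompsonSubgroupOf 2 T' = Cfsg.thompsonSubgroupOf 2 T)
    (hK : Cfsg.IsJComponent T K) : Cfsg.IsJComponent T' K := by
  unfold Cfsg.IsJComponent at hK ⊢
  rw [h]
  exact hK

theorem sylowTwo_map_conj {S L : Subgroup G} (h : Cfsg.IsSylowTwoIn S L) (x : G) :
    Cfsg.IsSylowTwoIn (S.map (MulAut.conj x).toMonoidHom) (L.map (MulAut.conj x).toMonoidHom) :=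
  ⟨Subgroup.map_mono h.1, h.2.1.map _, by
    rw [Subgroup.relIndex_map_map_of_injective _ _ (MulAut.conj x).injective]; exact h.2.2⟩

theorem map_conj_map_conj (H : Subgroup G) (x y : G) :
    (H.map (MulAut.conj y).toMonoidHom).map (MulAut.conj x).toMonoidHom =
      H.map (MulAut.conj (x * y)).toMonoidHom := by
  ext z; simp only [mem_map_conj]; simp [mul_assoc]

theorem map_conj_one (H : Subgroup G) : H.map (MulAut.conj (1 : G)).toMonoidHom = H := by
  ext z; simp [mem_map_conj]

theorem isJComponent_map_conj {T K : Subgroup G} (hK : Cfsg.IsJComponent T K) {x : G}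
    (hx : x ∈ Subgroup.normalizer (K : Set G)) :
    Cfsg.IsJComponent (T.map (MulAut.conj x).toMonoidHom) K := by
  have hKx : K.map (MulAut.conj x).toMonoidHom = K := Subgroup.mem_normalizer_iff_map_conj_eq.mp hx
  obtain ⟨h1, h2, h3, h4, h5, h6⟩ := hK
  refine ⟨h1, ?_, h3, fun S hS hJS => ?_, h5, h6⟩
  · rw [thompsonSubgroupOf_map_conj]
    conv_lhs => rw [← hKx, ← Subgroup.map_commutator, h2]
    exact hKx
  · have hS' := sylowTwo_map_conj hS x⁻¹
    have hKx' : K.map (MulAut.conj x⁻¹).toMonoidHom = K :=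
      Subgroup.mem_normalizer_iff_map_conj_eq.mp (inv_mem hx)
    rw [Subgroup.map_sup, hKx', thompsonSubgroupOf_map_conj, map_conj_map_conj, inv_mul_cancel,
      map_conj_one] at hS'
    have hJ' := Subgroup.map_mono (f := (MulAut.conj x⁻¹).toMonoidHom) hJS
    rw [thompsonSubgroupOf_map_conj, map_conj_map_conj, inv_mul_cancel, map_conj_one] at hJ'
    have := congrArg (Subgroup.map (MulAut.conj x).toMonoidHom) (h4 _ hS' hJ')
    rwa [← thompsonSubgroupOf_map_conj, map_conj_map_conj, mul_inv_cancel, map_conj_one,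
      ← thompsonSubgroupOf_map_conj] at this

end Cfsg.Agent.Lib.LocalEven2
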