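import Cfsg.Agent.Lib.LocalEven2.Straddle
import Cfsg.Agent.Lib.LocalEven2.JOver
import Cfsg.Agent.Lib.LocalEven2.JMember
import Cfsg.Agent.S2948

/-!
# Uniqueness of the maximal 2-local overgroup of a component
-/

set_option autoImplicit false

namespace Cfsg.Agent.Lib.LocalEven2

variable {G : Type*} [Group G] [Finite G]

theorem omegaCenterOf_map_conj (X : Subgroup G) (g : G) :
    Cfsg.omegaCenterOf (X.map (MulAut.conj g).toMonoidHom) =
      (Cfsg.omegaCenterOf X).map (MulAut.conj g).toMonoidHom := by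
  ext z
  rw [mem_map_conj, mem_omegaCenterOf_iff, mem_omegaCenterOf_iff, mem_map_conj]
  have e1 : g⁻¹ * z * g * (g⁻¹ * z * g) = g⁻¹ * (z * z) * g := by group
  constructor
  · rintro ⟨h1, h2, h3⟩
    refine ⟨h1, fun y hy => ?_, by rw [e1, h3]; group⟩
    have h := h2 (g * y * g⁻¹) (mem_map_conj.mpr (by simpa [mul_assoc] using hy))
    calc y * (g⁻¹ * z * g) = g⁻¹ * (g * y * g⁻¹ * z) * g := by group
      _ = g⁻¹ * z * g * y := by rw [h]; group
  · rintro ⟨h1, h2, h3⟩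
    refine ⟨h1, fun y hy => ?_, ?_⟩
    · have h := h2 (g⁻¹ * y * g) (mem_map_conj.mp hy)
      calc y * z = g * (g⁻¹ * y * g * (g⁻¹ * z * g)) * g⁻¹ := by group
        _ = z * y := by rw [h]; group
    · have : g * (g⁻¹ * z * g * (g⁻¹ * z * g)) * g⁻¹ = 1 := by rw [h3]; group
      rw [← this]; group

theorem pCoreOf_map_conj (p : ℕ) (H : Subgroup G) (g : G) :
    Cfsg.pCoreOf p (H.map (MulAut.conj g).toMonoidHom) =
      (Cfsg.pCoreOf p H).map (MulAut.conj g).toMonoidHom :=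
  (LocalEven.conjS_pCoreOf g H).symm

theorem wOf_map_conj (K : Subgroup G) (g : G) :
    Cfsg.wOf (K.map (MulAut.conj g).toMonoidHom) =
      (Cfsg.wOf K).map (MulAut.conj g).toMonoidHom := by
  unfold Cfsg.wOf
  rw [pCoreOf_map_conj, omegaCenterOf_map_conj, Subgroup.map_commutator]

theorem isJComponent_conj {T K : Subgroup G} (hK : Cfsg.IsJComponent T K) (x : G) :
    Cfsg.IsJComponent (T.map (MulAut.conj x).toMonoidHom) (K.map (MulAut.conj x).toMonoidHom) := by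
  obtain ⟨h1, h2, h3, h4, h5, h6⟩ := hK
  refine ⟨?_, ?_, ?_, fun S hS hJS => ?_, ?_, ?_⟩
  · refine le_antisymm ((Subgroup.closure_le _).mpr fun g hg => hg.1) ?_
    conv_lhs => rw [← h1, MonoidHom.map_closure]
    refine Subgroup.closure_mono ?_
    rintro _ ⟨g, ⟨hg, ho⟩, rfl⟩
    refine ⟨⟨g, hg, rfl⟩, ?_⟩
    show Odd (orderOf (MulAut.conj x g))
    rw [MulEquiv.orderOf_eq]
    exact ho
  · rw [thompsonSubgroupOf_map_conj, ← Subgroup.map_commutator, h2]
  · rw [pCoreOf_map_conj, Subgroup.relIndex_map_map_of_injective _ _ (MulAut.conj x).injective, h3]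
  · have hS' := sylowTwo_map_conj hS x⁻¹
    rw [Subgroup.map_sup, map_conj_map_conj, thompsonSubgroupOf_map_conj, map_conj_map_conj,
      inv_mul_cancel, map_conj_one, map_conj_one] at hS'
    have hJ' := Subgroup.map_mono (f := (MulAut.conj x⁻¹).toMonoidHom) hJS
    rw [thompsonSubgroupOf_map_conj, map_conj_map_conj, inv_mul_cancel, map_conj_one] at hJ'
    have := congrArg (Subgroup.map (MulAut.conj x).toMonoidHom) (h4 _ hS' hJ')
    rwa [← thompsonSubgroupOf_map_conj, map_conj_map_conj, mul_inv_cancel, map_conj_one,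
      ← thompsonSubgroupOf_map_conj] at this
  · rw [wOf_map_conj, Subgroup.card_map_of_injective (MulAut.conj x).injective, h5]
  · rw [wOf_map_conj]
    intro w hw
    obtain ⟨v, hv, rfl⟩ := hw
    rw [← map_mul, h6 v hv, map_one]

namespace JCtx

variable {T L : Subgroup G} (c : JCtx T L)
include c

/-- Elements of the component of a block normalize every block. -/
theorem kOf_le_normalizer_block {W W' : Subgroup G} {k : ↥L} (hk : c.IsGen W k)
    (hW' : c.IsBlock W') : kOf L (k : G) ≤ Subgroup.normalizer (W' : Set G) := by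
  refine (Subgroup.closure_le _).mpr fun g hg => ?_
  refine (sup_le (fun o ho => ?_) (Subgroup.zpowers_le.mpr ?_) : h0 L (k : G) ≤ _) hg.1
  · exact mem_normalizer_of_map_le fun x hx => by
      rw [c.o_fix_v ho (c.block_le_v hW' hx)]; exact hx
  · exact mem_normalizer_of_map_le fun x hx => c.tvgroup_preserves hk.2.1 hW' hx

/-- Modulo the transvection part `L` is covered by the normalizer of `J(T)`. -/
theorem exists_mul_normalizer (hJ : ∀ R : Subgroup G, IsPGroup 2 ↥R →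
      Cfsg.thompsonSubgroupOf 2 T ≤ R → R ≤ L →
      Cfsg.thompsonSubgroupOf 2 R = Cfsg.thompsonSubgroupOf 2 T)
    {l : G} (hl : l ∈ L) :
    ∃ x : ↥L, c.psi x ∈ Tv.tvGroup ↥c.act.range ↥(c.V) ∧ ∃ n : G, n ∈ L ∧
      n ∈ Subgroup.normalizer (Cfsg.thompsonSubgroupOf 2 T : Set G) ∧ l = x * n := by
  haveI : Fact (Nat.Prime 2) := ⟨Nat.prime_two⟩
  haveI := c.setting.tvGroup_normal
  set LX := (Tv.tvGroup ↥c.act.range ↥(c.V)).comap c.psi with hLX
  have hJp : IsPGroup 2 ↥(Cfsg.thompsonSubgroupOf 2 T) := c.syl.2.1.to_le (thompsonSubgroupOf_le 2 T)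
  obtain ⟨P, hP⟩ := ((hJp.comap_subtype (K := L)).comap_subtype (K := LX)).exists_le_sylow
  set R := ((P : Subgroup ↥LX).map LX.subtype).map L.subtype with hR
  have hJR : Cfsg.thompsonSubgroupOf 2 T ≤ R := fun j hj =>
    ⟨⟨j, c.j_le_l hj⟩, ⟨⟨⟨j, c.j_le_l hj⟩, c.j_psi_mem hj⟩, hP hj, rfl⟩, rfl⟩
  have hRJ := hJ R ((P.isPGroup'.map _).map _) hJR (Subgroup.map_subtype_le _)
  have htop := Sylow.normalizer_sup_eq_top P
  have hmem : (⟨l, hl⟩ : ↥L) ∈ LX ⊔
      Subgroup.normalizer ((((P : Subgroup ↥LX).map LX.subtype) : Subgroup ↥L) : Set ↥L) := by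
    rw [sup_comm, htop]; exact Subgroup.mem_top _
  obtain ⟨x, hx, n, hn, hxn⟩ := Subgroup.mem_sup_of_normal_left.mp hmem
  refine ⟨x, hx, n, n.2, ?_, (congrArg Subtype.val hxn).symm⟩
  have h1 : (n : G) ∈ Subgroup.normalizer (R : Set G) := Subgroup.le_normalizer_map _ ⟨n, hn, rfl⟩
  have := normalizer_le_normalizer_thompson 2 R h1
  rwa [hRJ] at this

end JCtx

section

variable (hL : Cfsg.IsCharacteristicTwoType G)
  (hN : ∀ N : Subgroup G, Cfsg.IsTwoLocal N → Group.IsSolvable ↥N)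
  (hZ : ∀ S : Sylow 2 G, Subgroup.centralizer (Cfsg.omegaCenterOf (S : Subgroup G) : Set G) ≤
    Subgroup.normalizer ((S : Subgroup G) : Set G))
  (hO : Cfsg.pCore 2 G = ⊥) (S : Sylow 2 G) {M : Subgroup G} (hM : Cfsg.IsTwoLocal M)
  (hMJ : Subgroup.normalizer (Cfsg.thompsonSubgroupOf 2 (S : Subgroup G) : Set G) ≤ M)
  {T : Subgroup G} (hT : T ∈ Cfsg.maxStraddlingTwoSubgroups M)

include hL hN hZ hO hM hMJ hT

/-- The context of a 2-local subgroup outside `M` containing `J(T)`. -/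
theorem ctx_of_local {H : Subgroup G} (hH : Cfsg.IsTwoLocal H) (hHM : ¬ H ≤ M)
    (hJH : Cfsg.thompsonSubgroupOf 2 T ≤ H) :
    ∃ R, R ≠ ⊥ ∧ JCtx R H ∧
      Cfsg.thompsonSubgroupOf 2 R = Cfsg.thompsonSubgroupOf 2 T ∧
      ∀ R' : Subgroup G, IsPGroup 2 ↥R' → Cfsg.thompsonSubgroupOf 2 R ≤ R' → R' ≤ H →
        Cfsg.thompsonSubgroupOf 2 R' = Cfsg.thompsonSubgroupOf 2 R := by
  haveI : Fact (Nat.Prime 2) := ⟨Nat.prime_two⟩
  obtain ⟨R, hR, hJR⟩ := LocalEven.exists_isSylowOf_le (p := 2) hJH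
    (hT.1.1.to_le (thompsonSubgroupOf_le 2 T))
  obtain ⟨h1, h2, h3, -⟩ := Cfsg.Agent.S2948.result hL hN hZ hO S M hM hMJ T hT H hH hHM R
    (sylowTwo_of_isSylowOf hR) hJR
  exact ⟨R, h2.2.1, jOver_ctx hL hN hZ h2.2.1 h3, h1.symm, fun R' hR' hJR' hle => by
    rw [← h1] at hJR' ⊢
    exact (straddle_over S hMJ hT hR' hJR' hle hH hHM).2.1⟩

/-- Components in a 2-local subgroup outside `M` normalize each other's four-groups. -/
theorem component_le_normalizer_w {H : Subgroup G} (hH : Cfsg.IsTwoLocal H) (hHM : ¬ H ≤ M)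
    (hJH : Cfsg.thompsonSubgroupOf 2 T ≤ H) {K K' : Subgroup G} (hK : Cfsg.IsJComponent T K)
    (hKH : K ≤ H) (hK' : Cfsg.IsJComponent T K') (hK'H : K' ≤ H) :
    K ≤ Subgroup.normalizer (Cfsg.wOf K' : Set G) := by
  obtain ⟨R, hR1, c, hJ, -⟩ := ctx_of_local hL hN hZ hO S hM hMJ hT hH hHM hJH
  obtain ⟨k, hk, -, rfl⟩ := member_component hL hN hZ hR1 c (isJComponent_congr hJ hK) hKH
  obtain ⟨k', hk', -, -⟩ := member_component hL hN hZ hR1 c (isJComponent_congr hJ hK') hK'H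
  exact c.kOf_le_normalizer_block hk (c.gen_isBlock hk')

omit hL hN hZ hO hM hMJ hT in
/-- The product of the four-groups of the components inside `H`. -/
def wStar (T H : Subgroup G) : Subgroup G :=
  ⨆ K : {K : Subgroup G // Cfsg.IsJComponent T K ∧ K ≤ H}, Cfsg.wOf K.1

theorem le_normalizer_wStar {H : Subgroup G} (hH : Cfsg.IsTwoLocal H) (hHM : ¬ H ≤ M)
    (hJH : Cfsg.thompsonSubgroupOf 2 T ≤ H) :
    H ≤ Subgroup.normalizer (wStar T H : Set G) := by
  obtain ⟨R, hR1, c, hJ, hstr⟩ := ctx_of_local hL hN hZ hO S hM hMJ hT hH hHM hJH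
  intro l hl
  obtain ⟨x, hx, n, hnH, hn, rfl⟩ := c.exists_mul_normalizer hstr hl
  refine mul_mem (mem_normalizer_of_map_le fun y hy => ?_) (mem_normalizer_of_map_le fun y hy => ?_)
  · have hle : wStar T H ≤ (wStar T H).comap (MulAut.conj (x : G)).toMonoidHom := by
      refine iSup_le fun K y hy => ?_
      obtain ⟨k, hk, -, -⟩ :=
        member_component hL hN hZ hR1 c (isJComponent_congr hJ K.2.1) K.2.2
      exact le_iSup (fun K : {K : Subgroup G // Cfsg.IsJComponent T K ∧ K ≤ H} => Cfsg.wOf K.1) K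
        (c.tvgroup_preserves hx (c.gen_isBlock hk) hy)
    exact hle hy
  · rw [hJ] at hn
    have hle : wStar T H ≤ (wStar T H).comap (MulAut.conj n).toMonoidHom := by
      refine iSup_le fun K y hy => ?_
      have hKn : Cfsg.IsJComponent T (K.1.map (MulAut.conj n).toMonoidHom) := by
        refine isJComponent_congr ?_ (isJComponent_conj K.2.1 n)
        rw [thompsonSubgroupOf_map_conj]
        exact (Subgroup.mem_normalizer_iff_map_conj_eq.mp hn).symm
      have hKnH : K.1.map (MulAut.conj n).toMonoidHom ≤ H := by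
        rintro _ ⟨g, hg, rfl⟩
        exact mul_mem (mul_mem hnH (K.2.2 hg)) (inv_mem hnH)
      refine le_iSup (fun K : {K : Subgroup G // Cfsg.IsJComponent T K ∧ K ≤ H} => Cfsg.wOf K.1)
        ⟨_, hKn, hKnH⟩ ?_
      rw [wOf_map_conj]
      exact ⟨y, hy, rfl⟩
    exact hle hy

/-- A maximal 2-local subgroup above a component outside `M` is the normalizer of `wStar`. -/
theorem maximal_eq_normalizer_wStar {H : Subgroup G} (hH : Cfsg.IsMaximalTwoLocal H)
    (hJH : Cfsg.thompsonSubgroupOf 2 T ≤ H) {K : Subgroup G} (hK : Cfsg.IsJComponent T K)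
    (hKH : K ≤ H) (hKM : ¬ K ≤ M) :
    Subgroup.normalizer (wStar T H : Set G) = H := by
  have hHM : ¬ H ≤ M := fun h => hKM (hKH.trans h)
  obtain ⟨R, hR1, c, hJ, -⟩ := ctx_of_local hL hN hZ hO S hM hMJ hT hH.1 hHM hJH
  have hle : wStar T H ≤ c.V := iSup_le fun K => by
    obtain ⟨k, hk, -, -⟩ :=
      member_component hL hN hZ hR1 c (isJComponent_congr hJ K.2.1) K.2.2
    exact c.block_le_v (c.gen_isBlock hk)
  have hne : wStar T H ≠ ⊥ := fun h => by
    have hW : Cfsg.wOf K ≤ wStar T H :=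
      le_iSup (fun K : {K : Subgroup G // Cfsg.IsJComponent T K ∧ K ≤ H} => Cfsg.wOf K.1)
        ⟨K, hK, hKH⟩
    rw [h, le_bot_iff] at hW
    have h4 := hK.2.2.2.2.1
    rw [hW, Subgroup.card_bot] at h4
    norm_num at h4
  exact hH.2 _ ⟨wStar T H, c.syl.2.1.to_le (hle.trans c.v_le_t), hne, rfl⟩
    (le_normalizer_wStar hL hN hZ hO S hM hMJ hT hH.1 hHM hJH)

/-- The components of two maximal 2-local subgroups above `K` and `J(T)` agree. -/
theorem component_le_of_component_le {H H' : Subgroup G} (hH : Cfsg.IsMaximalTwoLocal H)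
    (hH' : Cfsg.IsMaximalTwoLocal H') {K : Subgroup G} (hK : Cfsg.IsJComponent T K)
    (hKM : ¬ K ≤ M) (hKH : K ≤ H) (hKH' : K ≤ H')
    (hJH : Cfsg.thompsonSubgroupOf 2 T ≤ H) (hJH' : Cfsg.thompsonSubgroupOf 2 T ≤ H')
    {K' : Subgroup G} (hK' : Cfsg.IsJComponent T K') (hK'H' : K' ≤ H') : K' ≤ H := by
  set N := Subgroup.normalizer (Cfsg.wOf K : Set G) with hNdef
  have hW2 : IsPGroup 2 ↥(Cfsg.wOf K) := (pCoreOf_isPGroup K).to_le jc_w_le_q
  have hW1 : Cfsg.wOf K ≠ ⊥ := fun h => by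
    have h4 := hK.2.2.2.2.1
    rw [h, Subgroup.card_bot] at h4
    norm_num at h4
  have hKN : K ≤ N := Subgroup.le_normalizer.trans jc_normalizer_le_normalizer_w
  have hNloc : Cfsg.IsTwoLocal N := ⟨_, hW2, hW1, rfl⟩
  have hNM : ¬ N ≤ M := fun h => hKM (hKN.trans h)
  have hJN : Cfsg.thompsonSubgroupOf 2 T ≤ N :=
    (jc_j_le_normalizer hK).trans jc_normalizer_le_normalizer_w
  have hHM : ¬ H ≤ M := fun h => hKM (hKH.trans h)
  have hHM' : ¬ H' ≤ M := fun h => hKM (hKH'.trans h)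
  have hK'N : K' ≤ N :=
    component_le_normalizer_w hL hN hZ hO S hM hMJ hT hH'.1 hHM' hJH' hK' hK'H' hK hKH'
  rw [← maximal_eq_normalizer_wStar hL hN hZ hO S hM hMJ hT hH hJH hK hKH hKM]
  intro g hg
  refine mem_normalizer_of_map_le fun y hy => ?_
  have hle : wStar T H ≤ (wStar T H).comap (MulAut.conj g).toMonoidHom := by
    refine iSup_le fun C y hy => ?_
    have hCN : C.1 ≤ N :=
      component_le_normalizer_w hL hN hZ hO S hM hMJ hT hH.1 hHM hJH C.2.1 C.2.2 hK hKH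
    have hgC := component_le_normalizer_w hL hN hZ hO S hM hMJ hT hNloc hNM hJN hK' hK'N C.2.1 hCN hg
    exact le_iSup (fun K : {K : Subgroup G // Cfsg.IsJComponent T K ∧ K ≤ H} => Cfsg.wOf K.1) C
      (conj_mem_of_normalizer hgC hy)
  exact hle hy

theorem maximal_unique {H H' : Subgroup G} (hH : Cfsg.IsMaximalTwoLocal H)
    (hH' : Cfsg.IsMaximalTwoLocal H') {K : Subgroup G} (hK : Cfsg.IsJComponent T K)
    (hKM : ¬ K ≤ M) (hKH : K ⊔ Cfsg.thompsonSubgroupOf 2 T ≤ H)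
    (hKH' : K ⊔ Cfsg.thompsonSubgroupOf 2 T ≤ H') : H' = H := by
  obtain ⟨hKH, hJH⟩ := sup_le_iff.mp hKH
  obtain ⟨hKH', hJH'⟩ := sup_le_iff.mp hKH'
  have heq : wStar T H' = wStar T H := by
    refine le_antisymm (iSup_le fun C => ?_) (iSup_le fun C => ?_)
    · exact le_iSup (fun K : {K : Subgroup G // Cfsg.IsJComponent T K ∧ K ≤ H} => Cfsg.wOf K.1)
        ⟨C.1, C.2.1, component_le_of_component_le hL hN hZ hO S hM hMJ hT hH hH' hK hKM hKH hKH'
          hJH hJH' C.2.1 C.2.2⟩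
    · exact le_iSup (fun K : {K : Subgroup G // Cfsg.IsJComponent T K ∧ K ≤ H'} => Cfsg.wOf K.1)
        ⟨C.1, C.2.1, component_le_of_component_le hL hN hZ hO S hM hMJ hT hH' hH hK hKM hKH' hKH
          hJH' hJH C.2.1 C.2.2⟩
  rw [← maximal_eq_normalizer_wStar hL hN hZ hO S hM hMJ hT hH hJH hK hKH hKM,
    ← maximal_eq_normalizer_wStar hL hN hZ hO S hM hMJ hT hH' hJH' hK hKH' hKM, heq]

omit hL hN hZ hO hM hMJ hT in
theorem exists_maximalTwoLocal {H : Subgroup G} (hH : Cfsg.IsTwoLocal H) :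
    ∃ L, Cfsg.IsMaximalTwoLocal L ∧ H ≤ L := by
  obtain ⟨L, hle, hmax⟩ :=
    Finite.exists_le_maximal (p := fun L : Subgroup G => Cfsg.IsTwoLocal L) hH
  exact ⟨L, ⟨hmax.1, fun N hN' hLN => le_antisymm (hmax.2 hN' hLN) hLN⟩, hle⟩

end

end Cfsg.Agent.Lib.LocalEven2
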