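import Cfsg.Agent.Lib.LocalEven2.JStep
import Cfsg.Agent.Lib.Solvable.Nilpotent
import Cfsg.Agent.Lib.Involutions.SEAction
import Cfsg.Agent.S2947
import Cfsg.Agent.S2949
import Cfsg.Agent.S2950

/-!
# A second overgroup for a maximal straddling subgroup

Every maximal straddling `T` is Sylow in two different maximal 2-local subgroups, each containing a
component outside some 2-local subgroup containing the normalizer of `J(S)`.
-/

set_option autoImplicit false
set_option linter.unusedSectionVars false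
set_option linter.style.haveILetI false

namespace Cfsg.Agent.Lib.LocalEven2

variable {G : Type*} [Group G] [Finite G]

/-! ### Generalities -/

theorem exists_central_mod {T O W : Subgroup G} (hT : IsPGroup 2 ↥T) (hOT : O ≤ T) (hWO : W ≤ O)
    (hne : ¬ O ≤ W) (hW : T ≤ Subgroup.normalizer (W : Set G))
    (hO : T ≤ Subgroup.normalizer (O : Set G)) :
    ∃ o ∈ O, o ∉ W ∧ ∀ t ∈ T, o * t * o⁻¹ * t⁻¹ ∈ W := by
  haveI : Fact (Nat.Prime 2) := ⟨Nat.prime_two⟩
  haveI := hT.isNilpotent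
  haveI : (W.subgroupOf T).Normal :=
    (Subgroup.normal_subgroupOf_iff_le_normalizer (hWO.trans hOT)).mpr hW
  haveI : (O.subgroupOf T).Normal := (Subgroup.normal_subgroupOf_iff_le_normalizer hOT).mpr hO
  set π := QuotientGroup.mk' (W.subgroupOf T) with hπ
  haveI : ((O.subgroupOf T).map π).Normal :=
    Subgroup.Normal.map inferInstance π (QuotientGroup.mk'_surjective _)
  have h1 : (O.subgroupOf T).map π ≠ ⊥ := by
    obtain ⟨o, ho, how⟩ := SetLike.not_le_iff_exists.mp hne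
    intro h
    have hmem : π ⟨o, hOT ho⟩ ∈ (O.subgroupOf T).map π := ⟨_, ho, rfl⟩
    rw [h, Subgroup.mem_bot, hπ, QuotientGroup.mk'_apply, QuotientGroup.eq_one_iff] at hmem
    exact how hmem
  obtain ⟨x, ⟨⟨o, ho, rfl⟩, hc⟩, hx1⟩ :=
    (Subgroup.bot_or_exists_ne_one _).resolve_left (Cfsg.Agent.Lib.Solvable.inf_center_ne_bot h1)
  refine ⟨o, ho, fun h => hx1 ((QuotientGroup.eq_one_iff _).mpr h), fun t ht => ?_⟩
  have h2 := Subgroup.mem_center_iff.mp hc (π ⟨t, ht⟩)
  have h3 : π (o * ⟨t, ht⟩ * o⁻¹ * ⟨t, ht⟩⁻¹) = 1 := by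
    rw [map_mul, map_mul, map_mul, map_inv, map_inv, ← h2]
    group
  have h4 := (QuotientGroup.eq_one_iff _).mp h3
  exact h4

theorem exists_central_invol {T : Subgroup G} (hT : IsPGroup 2 ↥T) (hT1 : T ≠ ⊥) :
    ∃ z ∈ T, z ≠ 1 ∧ z * z = 1 ∧ ∀ t ∈ T, t * z = z * t := by
  haveI : Fact (Nat.Prime 2) := ⟨Nat.prime_two⟩
  obtain ⟨o, ho, ho1, hc⟩ := exists_central_mod hT le_rfl bot_le (fun h => hT1 (le_bot_iff.mp h))
    (fun t _ => mem_normalizer_of_map_le fun x hx => by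
      rw [Subgroup.mem_bot] at hx ⊢; rw [hx]; group)
    Subgroup.le_normalizer
  set C := T ⊓ Subgroup.centralizer (T : Set G) with hC
  have hoC : o ∈ C := ⟨ho, mem_cent_iff.mpr fun t ht => by
    have := Subgroup.mem_bot.mp (hc t ht)
    rw [mul_inv_eq_one, mul_inv_eq_iff_eq_mul] at this
    exact this.symm⟩
  have hC1 : C ≠ ⊥ := fun h => ho1 (h ▸ hoC)
  obtain ⟨n, hn⟩ := IsPGroup.iff_card.mp (hT.to_le (inf_le_left : C ≤ T))
  have h2 : 2 ∣ Nat.card ↥C := by
    rcases n with _ | n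
    · exact absurd (Subgroup.card_eq_one.mp (by rw [hn, pow_zero])) hC1
    · exact ⟨2 ^ n, by rw [hn, pow_succ']⟩
  obtain ⟨z, hz⟩ := exists_prime_orderOf_dvd_card' 2 h2
  have hzo : orderOf (z : G) = 2 := by rw [Subgroup.orderOf_coe, hz]
  refine ⟨z, z.2.1, fun e => by rw [e, orderOf_one] at hzo; omega, ?_, mem_cent_iff.mp z.2.2⟩
  rw [← pow_two, ← hzo, pow_orderOf_eq_one]

theorem exists_mem_ne_ne {W : Subgroup G} (h : 2 < Nat.card ↥W) (a b : G) :
    ∃ x ∈ W, x ≠ a ∧ x ≠ b := by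
  by_contra hcon
  push Not at hcon
  have hsub : (W : Set G) ⊆ {a, b} := fun x hx => by
    by_cases hxa : x = a
    · exact Or.inl hxa
    · exact Or.inr (hcon x hx hxa)
  have h1 := Set.ncard_le_ncard hsub (Set.toFinite _)
  have h2 : Set.ncard ({a, b} : Set G) ≤ 2 :=
    (Set.ncard_insert_le a {b}).trans (by rw [Set.ncard_singleton])
  rw [← Nat.card_coe_set_eq] at h1
  have h3 : Nat.card ↥(W : Set G) = Nat.card ↥W := rfl
  omega

/-- The straddling subgroups are permuted by conjugation inside `M`. -/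
theorem straddling_map_conj {M R : Subgroup G} (h : R ∈ Cfsg.straddlingTwoSubgroups M) {c : G}
    (hc : c ∈ M) : R.map (MulAut.conj c).toMonoidHom ∈ Cfsg.straddlingTwoSubgroups M := by
  obtain ⟨h1, h2, h3, N, hN, hRN, hNM⟩ := h
  refine ⟨h1.map _, ?_, ?_, N.map (MulAut.conj c).toMonoidHom, isTwoLocal_map_conj hN c,
    Subgroup.map_mono hRN, fun hle => hNM fun n hn => ?_⟩
  · rw [ne_eq, Subgroup.map_eq_bot_iff_of_injective _ (MulAut.conj c).injective]
    exact h2
  · rintro _ ⟨x, hx, rfl⟩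
    exact mul_mem (mul_mem hc (h3 hx)) (inv_mem hc)
  · have := mul_mem (mul_mem (inv_mem hc) (hle ⟨n, hn, rfl⟩)) hc
    simpa [mul_assoc] using this

theorem maxElemAbelianOrder_map_conj (R : Subgroup G) (c : G) :
    Cfsg.maxElemAbelianOrder (R.map (MulAut.conj c).toMonoidHom) = Cfsg.maxElemAbelianOrder R := by
  obtain ⟨A, hA⟩ := exists_isMaxEA 2 R
  rw [maxElemAbelianOrder_eq (hA.map_conj c), maxElemAbelianOrder_eq hA,
    Subgroup.card_map_of_injective (MulAut.conj c).injective]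

theorem maxStraddling_map_conj {M R : Subgroup G} (h : R ∈ Cfsg.maxStraddlingTwoSubgroups M)
    {c : G} (hc : c ∈ M) :
    R.map (MulAut.conj c).toMonoidHom ∈ Cfsg.maxStraddlingTwoSubgroups M := by
  refine ⟨straddling_map_conj h.1 hc, fun T hT => ?_⟩
  rw [maxElemAbelianOrder_map_conj, thompsonSubgroupOf_map_conj,
    Subgroup.card_map_of_injective (MulAut.conj c).injective,
    Subgroup.card_map_of_injective (MulAut.conj c).injective]
  exact h.2 T hT

theorem exists_maxStraddling {M : Subgroup G} (h : (Cfsg.straddlingTwoSubgroups M).Nonempty) :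
    ∃ R, R ∈ Cfsg.maxStraddlingTwoSubgroups M := by
  obtain ⟨A, hA, hAmax⟩ := Set.exists_max_image _ Cfsg.maxElemAbelianOrder (Set.toFinite _) h
  obtain ⟨B, ⟨hB, hBa⟩, hBmax⟩ := Set.exists_max_image
    {R | R ∈ Cfsg.straddlingTwoSubgroups M ∧
      Cfsg.maxElemAbelianOrder R = Cfsg.maxElemAbelianOrder A}
    (fun R => Nat.card ↥(Cfsg.thompsonSubgroupOf 2 R)) (Set.toFinite _) ⟨A, hA, rfl⟩
  obtain ⟨C, ⟨hC, hCa, hCj⟩, hCmax⟩ := Set.exists_max_image
    {R | R ∈ Cfsg.straddlingTwoSubgroups M ∧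
      Cfsg.maxElemAbelianOrder R = Cfsg.maxElemAbelianOrder A ∧
      Nat.card ↥(Cfsg.thompsonSubgroupOf 2 R) = Nat.card ↥(Cfsg.thompsonSubgroupOf 2 B)}
    (fun R => Nat.card ↥R) (Set.toFinite _) ⟨B, hB, hBa, rfl⟩
  refine ⟨C, hC, fun R hR => ⟨hCa ▸ hAmax R hR, fun ha => ?_⟩⟩
  rw [hCa] at ha
  refine ⟨hCj ▸ hBmax R ⟨hR, ha⟩, fun hj => hCmax R ⟨hR, ha, hj.trans hCj⟩⟩

theorem exists_out_of_component (zn : ZN G) {M T K : Subgroup G} (loc : Cfsg.IsTwoLocal M)
    (nj : ∃ S : Sylow 2 G,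
      Subgroup.normalizer (Cfsg.thompsonSubgroupOf 2 (S : Subgroup G) : Set G) ≤ M)
    (hT : T ∈ Cfsg.maxStraddlingTwoSubgroups M) (hK : K ∈ Cfsg.jComponentsOutside M T) :
    ∃ L, Out M T K L := by
  obtain ⟨S, hS⟩ := nj
  obtain ⟨L, hmax, hle, -, -, hsyl⟩ :=
    Cfsg.Agent.S2950.result zn.hL zn.hN zn.hZ zn.hO S M loc hS T hT K hK
  exact ⟨L, zn, loc, ⟨S, hS⟩, hT, hK.1.1, hK.2.1, hmax, le_sup_left.trans hle, hsyl⟩

theorem exists_out (zn : ZN G) {M T : Subgroup G} (loc : Cfsg.IsTwoLocal M)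
    (nj : ∃ S : Sylow 2 G,
      Subgroup.normalizer (Cfsg.thompsonSubgroupOf 2 (S : Subgroup G) : Set G) ≤ M)
    (hT : T ∈ Cfsg.maxStraddlingTwoSubgroups M) : ∃ K L, Out M T K L := by
  obtain ⟨S, hS⟩ := nj
  obtain ⟨K, hK⟩ := Cfsg.Agent.S2949.result zn.hL zn.hN zn.hZ zn.hO S M loc hS T hT
  exact ⟨K, exists_out_of_component zn loc ⟨S, hS⟩ hT hK⟩

namespace Out

variable {M T K L R₀ K'' L'' : Subgroup G} (o : Out M T K L)
include o

local notation "J" => Cfsg.thompsonSubgroupOf 2 T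

theorem conj {g : G} (hg : g ∈ Subgroup.normalizer (T : Set G)) :
    Out M T (K.map (MulAut.conj g).toMonoidHom) (L.map (MulAut.conj g).toMonoidHom) := by
  have hgT : T.map (MulAut.conj g).toMonoidHom = T :=
    Subgroup.mem_normalizer_iff_map_conj_eq.mp hg
  have hgM : g ∈ M := o.nj_le (normalizer_le_normalizer_thompson 2 T hg)
  refine ⟨o.zn, o.loc, o.nj, o.tmax, ?_, fun hle => o.outside fun k hk => ?_,
    isMaximalTwoLocal_map_conj o.max g, Subgroup.map_mono o.k_le, ?_⟩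
  · have := isJComponent_conj o.comp g
    rwa [hgT] at this
  · have := mul_mem (mul_mem (inv_mem hgM) (hle ⟨k, hk, rfl⟩)) hgM
    simpa [mul_assoc] using this
  · have := sylowTwo_map_conj o.syl g
    rwa [hgT] at this

theorem conj_ne {g : G} (hgL : g ∉ L) : L.map (MulAut.conj g).toMonoidHom ≠ L := fun e =>
  hgL (normalizer_le_of_maximal o.max (Subgroup.mem_normalizer_iff_map_conj_eq.mpr e))

/-- An element outside `L` normalizing `T`, for every 2-group properly above `T`. -/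
theorem exists_moved {R : Subgroup G} (hR : IsPGroup 2 ↥R) (hlt : T < R) :
    ∃ g ∈ R, g ∉ T ∧ g ∈ Subgroup.normalizer (T : Set G) ∧ g ∉ L := by
  haveI : Fact (Nat.Prime 2) := ⟨Nat.prime_two⟩
  obtain ⟨g, hgR, hgT, hgn⟩ := exists_normalizer_not_mem hR hlt
  refine ⟨g, hgR, hgT, hgn, fun hgL => hgT (two_elem_mem o.syl hgL hgn ?_)⟩
  obtain ⟨m, hm⟩ := hR ⟨g, hgR⟩
  exact ⟨m, congrArg Subtype.val hm⟩

/-- The 2-core of `L` is elementary abelian when it has order at most eight. -/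
theorem core_exp (h8 : Nat.card ↥(Cfsg.pCoreOf 2 L) ≤ 8) :
    ∀ e ∈ Cfsg.pCoreOf 2 L, e * e = 1 := by
  set O := Cfsg.pCoreOf 2 L with hO
  set W := Cfsg.wOf K with hW
  obtain ⟨k, hk, hkK, -⟩ := o.gen
  have hkn : (k : G) ∈ Subgroup.normalizer (W : Set G) :=
    jc_normalizer_le_normalizer_w (Subgroup.le_normalizer hkK)
  have h4 : Nat.card ↥W = 4 := o.comp.2.2.2.2.1
  have hidx : W.relIndex O ≤ 2 := by
    have h := Cfsg.Agent.Lib.Coprime.relIndex_mul_card (o.w_le_o)
    rw [h4] at h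
    change 4 * W.relIndex O = Nat.card ↥O at h
    omega
  have hmul : ∀ a ∈ O, a ∉ W → ∀ b ∈ O, b ∉ W → a * b ∈ W := by
    intro a ha haW b hb hbW
    have hne0 : W.relIndex O ≠ 0 := Subgroup.FiniteIndex.index_ne_zero
    interval_cases hr : W.relIndex O
    · exact absurd rfl hne0
    · exact absurd (Subgroup.relIndex_eq_one.mp hr ha) haW
    · have := Subgroup.mul_mem_iff_of_index_two (H := W.subgroupOf O) hr (a := ⟨a, ha⟩) (b := ⟨b, hb⟩)
      exact this.mpr (iff_of_false haW hbW)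
  intro e he
  by_cases heW : e ∈ W
  · exact o.comp.2.2.2.2.2 e heW
  set f := (k : G) * e * (k : G)⁻¹ with hf
  have hfO : f ∈ O := o.ctx.o_conj k.2 he
  have hfW : f ∉ W := fun h => heW (by
    have h' := conj_mem_of_normalizer (inv_mem hkn) h
    rwa [show (k : G)⁻¹ * f * (k : G)⁻¹⁻¹ = e by rw [hf]; group] at h')
  set d := e * f with hd
  have hdW : d ∈ W := hmul e he heW f hfO hfW
  have heeW : e * e ∈ W := hmul e he heW e he heW
  have hdV : d ∈ o.ctx.V := o.ctx.block_le_v (o.ctx.gen_isBlock hk) hdW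
  have hde : e⁻¹ * d * e = d := by
    have := o.ctx.o_fix_v (inv_mem he) hdV
    rwa [inv_inv] at this
  by_contra hee
  refine o.ctx.gen_moves hk heeW hee ?_
  have hfd : f = e⁻¹ * d := by rw [hd]; group
  calc (k : G) * (e * e) * (k : G)⁻¹ = f * f := by rw [hf]; group
    _ = e⁻¹ * e⁻¹ * (e * (e⁻¹ * d * e) * e⁻¹) * (e⁻¹ * d * e) := by rw [hde, hfd]; group
    _ = e⁻¹ * e⁻¹ * (d * d) := by rw [hde]; nth_rewrite 1 [← hde]; group
    _ = (e * e)⁻¹ := by rw [o.comp.2.2.2.2.2 d hdW]; group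
    _ = e * e := inv_eq_of_mul_eq_one_right (o.comp.2.2.2.2.2 _ heeW)

/-! ### No maximal straddling subgroup of `L` is properly inside `T` -/


/-- The case of a four-group core. -/
theorem no_four (hR₀ : R₀ ≤ T) {g : G} (hg : g ∈ T) (hgR : g ∉ R₀)
    (h4 : Nat.card ↥(Cfsg.pCoreOf 2 L'') = 4)
    (hR8 : Nat.card ↥R₀ = 8)
    (hexp : ∀ e ∈ Cfsg.pCoreOf 2 L'', e * e = 1)
    (hNE : ∀ t ∈ T, t ∈ Subgroup.normalizer (Cfsg.pCoreOf 2 L'' : Set G) → t ∈ R₀)
    (o'' : Out L R₀ K'' L'') : False := by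
  set E := Cfsg.pCoreOf 2 L'' with hE
  have hER : E ≤ R₀ := o''.ctx.o_le_t
  have hCE : ∀ x, (∀ y ∈ E, y * x = x * y) → x ∈ E := fun x hx =>
    o''.ctx.charp (mem_cent_iff.mpr hx)
  obtain ⟨z, hzT, hz1, hzz, hzc⟩ := exists_central_invol o.t_two o.t_ne
  have hzE : z ∈ E := hCE z fun y hy => hzc y (hR₀ (hER hy))
  obtain ⟨e, he, he1, hez⟩ := exists_mem_ne_ne (W := E) (by omega) 1 z
  have hcases := four_cases h4 hexp hzE he hz1 he1 (Ne.symm hez)
  have hCe : ∀ x ∈ T, e * x = x * e → x ∈ E := by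
    intro x hx hxe
    refine hCE x fun y hy => ?_
    rcases hcases y hy with rfl | rfl | rfl | rfl
    · simp
    · exact (hzc x hx).symm
    · exact hxe
    · calc z * e * x = z * (x * e) := by rw [mul_assoc, hxe]
        _ = x * z * e := by rw [← mul_assoc, ← hzc x hx]
        _ = x * (z * e) := mul_assoc _ _ _
  set V := o.ctx.V with hV
  have hVc : ∀ t ∈ T, ∀ v ∈ V, t * v * t⁻¹ ∈ V := fun t ht v hv => o.ctx.v_conj (o.syl.1 ht) hv
  have hV4 : 4 ≤ Nat.card ↥V := by
    obtain ⟨k, hk, -, -⟩ := o.gen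
    have := Subgroup.card_le_of_le (o.ctx.block_le_v (o.ctx.gen_isBlock hk))
    rwa [o.comp.2.2.2.2.1] at this
  obtain ⟨v₀, hv₀, hv₀e⟩ : ∃ v ∈ V, e * v ≠ v * e := by
    by_contra hcon
    push Not at hcon
    have hle : V ≤ E := fun v hv => hCe v (o.ctx.v_le_t hv) (hcon v hv)
    have hVE : V = E := Subgroup.eq_of_le_of_card_ge hle (by omega)
    refine hgR (hNE g hg ?_)
    rw [← hVE]
    exact mem_normalizer_of_map_le fun v hv => hVc g hg v hv
  have heV : e ∉ V := fun h => hv₀e (o.ctx.v_comm h hv₀)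
  have hzV : z ∈ V := by
    obtain ⟨c, hc, hc1, hcc⟩ := exists_central_mod o.t_two o.ctx.v_le_t bot_le
      (fun h => by
        have h' : V = ⊥ := le_bot_iff.mp h
        rw [h', Subgroup.card_bot] at hV4; omega)
      (fun t _ => mem_normalizer_of_map_le fun x hx => by
        rw [Subgroup.mem_bot] at hx ⊢; rw [hx]; group)
      (fun t ht => mem_normalizer_of_map_le fun v hv => hVc t ht v hv)
    have hcT : ∀ t ∈ T, c * t = t * c := fun t ht => by
      have := Subgroup.mem_bot.mp (hcc t ht)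
      rwa [mul_inv_eq_one, mul_inv_eq_iff_eq_mul] at this
    have hall : e ∈ Subgroup.centralizer (T : Set G) → False := fun hec => by
      have hle : T ≤ E := fun x hx => hCe x hx (mem_cent_iff.mp hec x hx).symm
      exact hgR (hER (hle hg))
    rcases hcases c (hCe c (o.ctx.v_le_t hc) (hcT e (hR₀ (hER he))).symm) with h | h | h | h
    · exact absurd (h ▸ one_mem _) hc1
    · exact h ▸ hc
    · exact (hall (mem_cent_iff.mpr fun t ht => by rw [← h]; exact (hcT t ht).symm)).elim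
    · refine (hall (mem_cent_iff.mpr fun t ht => ?_)).elim
      have e1 : e = z * c := by rw [h, ← mul_assoc, hzz, one_mul]
      rw [e1, ← mul_assoc, hzc t ht, mul_assoc, ← hcT t ht, mul_assoc]
  have hzeV : z * e ∉ V := fun h => heV (by
    have := mul_mem hzV h
    rwa [← mul_assoc, hzz, one_mul] at this)
  have hF : ∀ f ∈ V, e * f = f * e → f = 1 ∨ f = z := by
    intro f hf hfe
    rcases hcases f (hCe f (o.ctx.v_le_t hf) hfe) with h | h | h | h
    · exact Or.inl h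
    · exact Or.inr h
    · exact absurd (h ▸ hf) heV
    · exact absurd (h ▸ hf) hzeV
  have heT : e ∈ T := hR₀ (hER he)
  have hei : e⁻¹ = e := inv_eq_of_mul_eq_one_right (hexp e he)
  have hze : e * z = z * e := hzc e heT
  have hmove : ∀ v ∈ V, e * v ≠ v * e → e * v * e⁻¹ = v * z := by
    intro v hv hve
    set d := v * (e * v * e⁻¹) with hd
    have hvv := o.ctx.v_sq hv
    have hw := hVc e heT v hv
    rcases hF d (mul_mem hv hw) (by
      rw [← mul_inv_eq_iff_eq_mul]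
      calc e * d * e⁻¹ = (e * v * e⁻¹) * (e * e * v * (e * e)⁻¹) := by rw [hd]; group
        _ = (e * v * e⁻¹) * v := by rw [hexp e he]; group
        _ = d := by rw [hd, o.ctx.v_comm hw hv]) with h | h
    · refine absurd ?_ hve
      have : e * v * e⁻¹ = v := by
        rw [← inv_eq_of_mul_eq_one_right h, inv_eq_of_mul_eq_one_right hvv]
      calc e * v = (e * v * e⁻¹) * e := by group
        _ = v * e := by rw [this]
    · rw [← h, hd, ← mul_assoc v v, hvv, one_mul]
  have hm₀ := hmove v₀ hv₀ hv₀e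
  have hVset : ∀ v ∈ V, v = 1 ∨ v = z ∨ v = v₀ ∨ v = v₀ * z := by
    intro v hv
    by_cases hve : e * v = v * e
    · rcases hF v hv hve with h | h
      · exact Or.inl h
      · exact Or.inr (Or.inl h)
    · rcases hF (v₀ * v) (mul_mem hv₀ hv) (by
        rw [← mul_inv_eq_iff_eq_mul]
        calc e * (v₀ * v) * e⁻¹ = (e * v₀ * e⁻¹) * (e * v * e⁻¹) := by group
          _ = v₀ * z * (v * z) := by rw [hm₀, hmove v hv hve]
          _ = v₀ * (v * z * z) := by
              rw [mul_assoc v₀ z, show z * (v * z) = v * z * z by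
                rw [← mul_assoc, o.ctx.v_comm hzV hv], mul_assoc]
          _ = v₀ * v := by rw [mul_assoc v z z, hzz, mul_one]) with h | h
      · refine Or.inr (Or.inr (Or.inl ?_))
        rw [← inv_eq_of_mul_eq_one_right h, inv_eq_of_mul_eq_one_right (o.ctx.v_sq hv₀)]
      · refine Or.inr (Or.inr (Or.inr ?_))
        rw [← h, ← mul_assoc, o.ctx.v_sq hv₀, one_mul]
  -- the centralizer of `V`
  set O := T ⊓ Subgroup.centralizer (V : Set G) with hO
  have hOn : T ≤ Subgroup.normalizer (O : Set G) := fun t ht => mem_normalizer_of_map_le fun x hx =>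
    ⟨T.mul_mem (T.mul_mem ht hx.1) (T.inv_mem ht), mem_cent_iff.mpr fun v hv => by
      have := mem_cent_iff.mp hx.2 _ (hVc t⁻¹ (inv_mem ht) v hv)
      calc v * (t * x * t⁻¹) = t * ((t⁻¹ * v * t⁻¹⁻¹) * x) * t⁻¹ := by group
        _ = t * (x * (t⁻¹ * v * t⁻¹⁻¹)) * t⁻¹ := by rw [this]
        _ = t * x * t⁻¹ * v := by group⟩
  have hVO : V ≤ O := le_inf o.ctx.v_le_t fun v hv => mem_cent_iff.mpr fun w hw => o.ctx.v_comm hw hv
  have hCO : ∀ x ∈ O, e * x = x * e → x ∈ V := by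
    intro x hx hxe
    have heO : e ∉ O := fun h => hv₀e (mem_cent_iff.mp h.2 v₀ hv₀).symm
    rcases hcases x (hCe x hx.1 hxe) with h | h | h | h
    · exact h ▸ one_mem _
    · exact h ▸ hzV
    · exact absurd (h ▸ hx) heO
    · refine absurd ?_ heO
      have := mul_mem (hVO hzV) (h ▸ hx)
      rwa [← mul_assoc, hzz, one_mul] at this
  have hOV : O ≤ V := by
    by_contra hne
    obtain ⟨c, hc, hcV, hcc⟩ := exists_central_mod o.t_two inf_le_left hVO hne
      (fun t ht => mem_normalizer_of_map_le fun v hv => hVc t ht v hv) hOn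
    set d := c * e * c⁻¹ * e⁻¹ with hd
    have hdV : d ∈ V := hcc e heT
    have hde : e * d = d * e := by
      rw [← mul_inv_eq_iff_eq_mul]
      calc e * d * e⁻¹ = e * c * e * c⁻¹ * (e * e)⁻¹ := by rw [hd]; group
        _ = d⁻¹ := by rw [hexp e he, hd]; nth_rewrite 3 [← hei]; group
        _ = d := inv_eq_of_mul_eq_one_right (o.ctx.v_sq hdV)
    rcases hF d hdV hde with h | h
    · rw [hd, mul_inv_eq_one, mul_inv_eq_iff_eq_mul] at h
      exact hcV (hCO c hc h.symm)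
    · have hece : e * c * e⁻¹ = z * c := by
        have h1 : c * e * c⁻¹ = z * e := by rw [← h, hd]; group
        have h2 : c * e = z * e * c := by rw [← h1]; group
        calc e * c * e⁻¹ = e * (c * e⁻¹) := mul_assoc _ _ _
          _ = e * (z * e * c) := by rw [hei, h2]
          _ = z * (e * e) * c := by rw [← mul_assoc, ← mul_assoc, hze]; group
          _ = z * c := by rw [hexp e he, mul_one]
      refine hcV ?_
      have hmem : v₀ * c ∈ V := hCO _ (mul_mem (hVO hv₀) hc) (by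
        rw [← mul_inv_eq_iff_eq_mul]
        calc e * (v₀ * c) * e⁻¹ = (e * v₀ * e⁻¹) * (e * c * e⁻¹) := by group
          _ = v₀ * (z * z) * c := by rw [hm₀, hece]; group
          _ = v₀ * c := by rw [hzz, mul_one])
      have := mul_mem hv₀ hmem
      rwa [← mul_assoc, o.ctx.v_sq hv₀, one_mul] at this
  -- count
  classical
  have hstep : ∀ t ∈ T, t * v₀ * t⁻¹ = v₀ ∨ (e * t) * v₀ * (e * t)⁻¹ = v₀ := by
    intro t ht
    rcases hVset _ (hVc t ht v₀ hv₀) with h | h | h | h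
    · refine absurd ?_ hv₀e
      rw [conj_eq_one_iff.mp h]; simp
    · refine absurd ?_ hv₀e
      have hv : v₀ = z := by
        calc v₀ = t⁻¹ * (t * v₀ * t⁻¹) * t := by group
          _ = z := by rw [h, mul_assoc, ← hzc t ht]; group
      rw [hv]; exact hze
    · exact Or.inl h
    · refine Or.inr ?_
      calc e * t * v₀ * (e * t)⁻¹ = e * (t * v₀ * t⁻¹) * e⁻¹ := by group
        _ = (e * v₀ * e⁻¹) * (e * z * e⁻¹) := by rw [h]; group
        _ = v₀ * (z * z) := by rw [hm₀, hze]; group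
        _ = v₀ := by rw [hzz, mul_one]
  have hmemV : ∀ t ∈ T, t * v₀ * t⁻¹ = v₀ → t ∈ V := by
    intro t ht hfix
    have hv₀t : v₀ * t = t * v₀ := by
      calc v₀ * t = (t * v₀ * t⁻¹) * t := by rw [hfix]
        _ = t * v₀ := by group
    have hzt : z * t = t * z := (hzc t ht).symm
    refine hOV ⟨ht, mem_cent_iff.mpr fun v hv => ?_⟩
    rcases hVset v hv with rfl | rfl | rfl | rfl
    · simp
    · exact hzt
    · exact hv₀t
    · rw [mul_assoc, hzt, ← mul_assoc, hv₀t, mul_assoc]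
  let f : ↥T → ↥V × Bool := fun t =>
    if h : (t : G) * v₀ * (t : G)⁻¹ = v₀ then (⟨t, hmemV t t.2 h⟩, true)
    else (⟨e * t, hmemV _ (mul_mem heT t.2) ((hstep t t.2).resolve_left h)⟩, false)
  have hf : Function.Injective f := fun x y h => by
    simp only [f] at h
    split_ifs at h with h1 h2 h2
    · exact Subtype.ext (congrArg (fun p : ↥V × Bool => (p.1 : G)) h)
    · exact absurd (congrArg Prod.snd h) (by simp)
    · exact absurd (congrArg Prod.snd h) (by simp)
    · exact Subtype.ext (mul_left_cancel (congrArg (fun p : ↥V × Bool => (p.1 : G)) h))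
  have hV4' : Nat.card ↥V ≤ 4 := by
    have hsub : (V : Set G) ⊆ (({1, z, v₀, v₀ * z} : Finset G) : Set G) := fun v hv => by
      simpa using hVset v hv
    have h1 := Set.ncard_le_ncard hsub (Finset.finite_toSet _)
    rw [Set.ncard_coe_finset, ← Nat.card_coe_set_eq] at h1
    exact h1.trans Finset.card_le_four
  have hT8 : Nat.card ↥T ≤ 8 := by
    have := Nat.card_le_card_of_injective f hf
    rw [Nat.card_prod, Nat.card_eq_fintype_card (α := Bool), Fintype.card_bool] at this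
    omega
  exact hgR ((Subgroup.eq_of_le_of_card_ge hR₀ (by omega)).ge hg)

/-- The case of a core of order eight. -/
theorem no_eight (hR₀ : R₀ ≤ T) {g : G} (hg : g ∈ T) (hgn : g ∈ Subgroup.normalizer (R₀ : Set G))
    (hgR : g ∉ R₀) (hne : L'' ≠ L)
    (h8 : Nat.card ↥(Cfsg.pCoreOf 2 L'') = 8)
    (hR16 : Nat.card ↥R₀ = 16)
    (hexp : ∀ e ∈ Cfsg.pCoreOf 2 L'', e * e = 1)
    (hz4 : Nat.card ↥(z0 R₀) ≤ 4)
    (hNE : ∀ t ∈ T, t ∈ Subgroup.normalizer (Cfsg.pCoreOf 2 L'' : Set G) → t ∈ R₀)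
    (o'' : Out L R₀ K'' L'') : False := by
  classical
  haveI : Fact (Nat.Prime 2) := ⟨Nat.prime_two⟩
  set E := Cfsg.pCoreOf 2 L'' with hE
  set E' := E.map (MulAut.conj g).toMonoidHom with hE'
  have hER : E ≤ R₀ := o''.ctx.o_le_t
  have hgR0 : R₀.map (MulAut.conj g).toMonoidHom = R₀ :=
    Subgroup.mem_normalizer_iff_map_conj_eq.mp hgn
  have hE'R : E' ≤ R₀ := hgR0 ▸ Subgroup.map_mono hER
  have hE'8 : Nat.card ↥E' = 8 := by
    rw [hE', Subgroup.card_map_of_injective (MulAut.conj g).injective, h8]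
  have hexp' : ∀ e ∈ E', e * e = 1 := by
    rintro _ ⟨e, he, rfl⟩
    rw [← map_mul, hexp e he, map_one]
  have hcomm : ∀ {X : Subgroup G}, (∀ e ∈ X, e * e = 1) → ∀ a ∈ X, ∀ b ∈ X, a * b = b * a := by
    intro X hX a ha b hb
    have hinv : ∀ x ∈ X, x⁻¹ = x := fun x hx => inv_eq_of_mul_eq_one_right (hX x hx)
    rw [← hinv _ (mul_mem ha hb), mul_inv_rev, hinv a ha, hinv b hb]
  have hCE : ∀ x, (∀ y ∈ E, y * x = x * y) → x ∈ E := fun x hx =>
    o''.ctx.charp (mem_cent_iff.mpr hx)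
  have hNE' : ∀ t ∈ T, E.map (MulAut.conj t).toMonoidHom = E → t ∈ R₀ := fun t ht h =>
    hNE t ht (Subgroup.mem_normalizer_iff_map_conj_eq.mpr h)
  have hEne : E' ≠ E := fun h => hgR (hNE' g hg h)
  set F := E ⊓ E' with hF
  have hEn : E' ≤ Subgroup.normalizer (E : Set G) :=
    (hE'R.trans o''.syl.1).trans (normalizer_pCoreOf_of_maximal o''.max).ge
  have hsup16 : Nat.card ↥(E ⊔ E' : Subgroup G) ≤ 16 := hR16 ▸ Subgroup.card_le_of_le (sup_le hER hE'R)
  have hprod : Nat.card ↥(E ⊔ E' : Subgroup G) * Nat.card ↥F = 64 := by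
    rw [hF, Cfsg.Agent.Lib.Coprime.card_sup_mul_card_inf hEn, h8, hE'8]
  have hF4 : Nat.card ↥F = 4 := by
    have hge : 4 ≤ Nat.card ↥F := by
      by_contra hlt
      have := Nat.mul_le_mul hsup16 (Nat.le_of_lt_succ (Nat.not_le.mp hlt))
      omega
    have hdvd : Nat.card ↥F ∣ 8 := h8 ▸ Subgroup.card_dvd_of_le inf_le_left
    have hne8 : Nat.card ↥F ≠ 8 := fun h => hEne (by
      have h1 : F = E := Subgroup.eq_of_le_of_card_ge inf_le_left (by omega)
      exact (Subgroup.eq_of_le_of_card_ge (h1 ▸ inf_le_right : E ≤ E') (by omega)).symm)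
    have hle := Nat.le_of_dvd (by norm_num) hdvd
    obtain ⟨q, hq⟩ := hdvd
    rcases q with _ | _ | _ | q
    · omega
    · omega
    · omega
    · have := Nat.mul_le_mul hge (show 3 ≤ q + 1 + 1 + 1 by omega)
      omega
  have hsup : E ⊔ E' = R₀ := Subgroup.eq_of_le_of_card_ge (sup_le hER hE'R) (by
    rw [hF4] at hprod; omega)
  have hFcent : ∀ f ∈ F, ∀ x ∈ R₀, x * f = f * x := by
    intro f hf x hx
    rw [← hsup, ← SetLike.mem_coe, Subgroup.coe_mul_of_right_le_normalizer_left _ _ hEn] at hx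
    obtain ⟨a, ha, b, hb, rfl⟩ := hx
    show a * b * f = f * (a * b)
    rw [mul_assoc, hcomm hexp' b hb f hf.2, ← mul_assoc, hcomm hexp a ha f hf.1, mul_assoc]
  have hidx : F.relIndex E = 2 := by
    have h := Cfsg.Agent.Lib.Coprime.relIndex_mul_card (inf_le_left : F ≤ E)
    change Nat.card ↥F * F.relIndex E = Nat.card ↥E at h
    rw [h8, hF4] at h
    omega
  -- an involution lies in `E` or `E'`
  have hinvol : ∀ y ∈ R₀, y * y = 1 → y ∈ E ∨ y ∈ E' := by
    intro y hy hyy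
    rw [← hsup, ← SetLike.mem_coe, Subgroup.coe_mul_of_right_le_normalizer_left _ _ hEn] at hy
    obtain ⟨a, ha, b, hb, rfl⟩ := hy
    by_cases haE : a ∈ E'
    · exact Or.inr (mul_mem haE hb)
    by_cases hbE : b ∈ E
    · exact Or.inl (mul_mem ha hbE)
    refine absurd (hCE b fun c hc => ?_) hbE
    have hab : a * b = b * a := by
      have h1 : (a * b)⁻¹ = a * b := inv_eq_of_mul_eq_one_right hyy
      rw [← h1, mul_inv_rev, inv_eq_of_mul_eq_one_right (hexp a ha),
        inv_eq_of_mul_eq_one_right (hexp' b hb)]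
    by_cases hcE : c ∈ E'
    · exact hcomm hexp' c hcE b hb
    have hac : a * c ∈ E' :=
      ((Subgroup.mul_mem_iff_of_index_two (H := F.subgroupOf E) hidx (a := ⟨a, ha⟩)
        (b := ⟨c, hc⟩)).mpr (iff_of_false (fun h => haE h.2) fun h => hcE h.2)).2
    have hc' : c = a * (a * c) := by rw [← mul_assoc, hexp a ha, one_mul]
    rw [hc', mul_assoc, hcomm hexp' _ hac b hb, ← mul_assoc, hab, mul_assoc]
  -- the large elementary subgroups of `R₀`
  have hEA : ∀ A : Subgroup G, A ≤ R₀ → (∀ a ∈ A, a * a = 1) → 8 ≤ Nat.card ↥A →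
      A = E ∨ A = E' := by
    intro A hA hAe hA8
    by_cases h1 : A ≤ E
    · exact Or.inl (Subgroup.eq_of_le_of_card_ge h1 (by omega))
    refine Or.inr (Subgroup.eq_of_le_of_card_ge (fun a ha => ?_) (by omega))
    obtain ⟨b, hb, hbE⟩ := SetLike.not_le_iff_exists.mp h1
    have hbE' := (hinvol b (hA hb) (hAe b hb)).resolve_left hbE
    rcases hinvol a (hA ha) (hAe a ha) with haE | haE
    · by_contra haE'
      rcases hinvol _ (hA (mul_mem ha hb)) (hAe _ (mul_mem ha hb)) with h | h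
      · exact hbE ((Subgroup.mul_mem_cancel_left _ haE).mp h)
      · exact haE' ((Subgroup.mul_mem_cancel_right _ hbE').mp h)
    · exact haE
  have hmapEA : ∀ x ∈ T, x ∈ Subgroup.normalizer (R₀ : Set G) → ∀ A : Subgroup G,
      (A = E ∨ A = E') → A.map (MulAut.conj x).toMonoidHom = E ∨
        A.map (MulAut.conj x).toMonoidHom = E' := by
    intro x _ hxn A hA
    refine hEA _ ?_ ?_ ?_
    · rw [← Subgroup.mem_normalizer_iff_map_conj_eq.mp hxn]
      exact Subgroup.map_mono (hA.elim (fun h => h ▸ hER) (fun h => h ▸ hE'R))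
    · rintro _ ⟨a, ha, rfl⟩
      rw [← map_mul, show a * a = 1 from hA.elim (fun h => hexp a (h ▸ ha)) fun h => hexp' a (h ▸ ha),
        map_one]
    · rw [Subgroup.card_map_of_injective (MulAut.conj x).injective]
      rcases hA with rfl | rfl <;> omega
  have hswap : ∀ x ∈ T, x ∈ Subgroup.normalizer (R₀ : Set G) → x ∉ R₀ →
      E.map (MulAut.conj x).toMonoidHom = E' ∧ E'.map (MulAut.conj x).toMonoidHom = E := by
    intro x hx hxn hxR
    have h1 := (hmapEA x hx hxn E (Or.inl rfl)).resolve_left fun h => hxR (hNE' x hx h)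
    refine ⟨h1, (hmapEA x hx hxn E' (Or.inr rfl)).resolve_right fun h => hEne ?_⟩
    exact (Subgroup.map_injective (MulAut.conj x).injective (h1.trans h.symm)).symm
  have hgF : ∀ x ∈ T, x ∈ Subgroup.normalizer (R₀ : Set G) → x ∉ R₀ → ∀ f ∈ F,
      x * f * x⁻¹ ∈ F := fun x hx hxn hxR f hf => by
    obtain ⟨h1, h2⟩ := hswap x hx hxn hxR
    exact ⟨h2.le ⟨f, hf.2, rfl⟩, h1.le ⟨f, hf.1, rfl⟩⟩
  -- an element of `F` attached to `L''`
  have hFz : F ≤ z0 R₀ := fun f hf => o''.omega_le_z0 (mem_omegaCenterOf_iff.mpr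
    ⟨hER hf.1, fun y hy => hFcent f hf y hy, hexp f hf.1⟩)
  have hz0F : z0 R₀ = F := (Subgroup.eq_of_le_of_card_ge hFz (by omega)).symm
  obtain ⟨u, hu, hu1, hatt⟩ : ∃ u ∈ F, u ≠ 1 ∧ Att L'' u := by
    obtain ⟨w, hw, -, hw1, -, hK⟩ := o''.exists_w
    obtain ⟨x, hx, hx1, hxw⟩ := exists_mem_ne_ne (W := F) (by omega) 1 w
    rcases hK x (hFz hx) with h | h
    · exact ⟨x, hx, hx1, o''.att (hFz hx) hx1 h⟩
    · have hx1' : x * w ≠ 1 := fun e => hxw (by
        rw [eq_inv_of_mul_eq_one_left e, inv_eq_of_mul_eq_one_right (z0_mul_self hw)])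
      exact ⟨x * w, mul_mem hx (hz0F ▸ hw), hx1', o''.att (mul_mem (hFz hx) hw) hx1' h⟩
  have hTL : ∀ t ∈ T, t ∈ L'' → t ∈ R₀ := fun t ht htL =>
    hNE t ht ((normalizer_pCoreOf_of_maximal o''.max).ge htL)
  -- `R₀` is normal in `T`
  set R := T ⊓ Subgroup.normalizer (R₀ : Set G) with hR
  have hEAR : ∀ A : Subgroup G, A ≤ R → (∀ a ∈ A, a * a = 1) → 8 ≤ Nat.card ↥A →
      A = E ∨ A = E' := by
    intro A hA hAe hA8
    refine hEA A (fun x hxA => ?_) hAe hA8
    by_contra hxR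
    obtain ⟨h1, h2⟩ := hswap x (hA hxA).1 (hA hxA).2 hxR
    have hfl : ∀ a ∈ A, a ∉ R₀ → x * a ∈ R₀ := fun a ha haR => by
      refine hNE' _ (mul_mem (hA hxA).1 (hA ha).1) ?_
      rw [← map_conj_map_conj, (hswap a (hA ha).1 (hA ha).2 haR).1, h2]
    set B := A ⊓ R₀ with hB
    let φ : ↥A → ↥B × Bool := fun a =>
      if h : (a : G) ∈ R₀ then (⟨a, a.2, h⟩, true)
      else (⟨x * a, mul_mem hxA a.2, hfl a a.2 h⟩, false)
    have hφ : Function.Injective φ := fun p q h => by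
      simp only [φ] at h
      split_ifs at h with h1 h2 h2
      · exact Subtype.ext (congrArg (fun t : ↥B × Bool => (t.1 : G)) h)
      · exact absurd (congrArg Prod.snd h) (by simp)
      · exact absurd (congrArg Prod.snd h) (by simp)
      · exact Subtype.ext (mul_left_cancel (congrArg (fun t : ↥B × Bool => (t.1 : G)) h))
    have hc := Nat.card_le_card_of_injective φ hφ
    rw [Nat.card_prod, Nat.card_eq_fintype_card (α := Bool), Fintype.card_bool] at hc
    have hBF : B ≤ F := fun b hb => by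
      have hfix : x * b * x⁻¹ = b := by rw [hcomm hAe x hxA b hb.1]; group
      rcases hinvol b hb.2 (hAe b hb.1) with h | h
      · exact ⟨h, hfix ▸ h1.le ⟨b, h, rfl⟩⟩
      · exact ⟨hfix ▸ h2.le ⟨b, h, rfl⟩, h⟩
    have hBeq : B = F := Subgroup.eq_of_le_of_card_ge hBF (by omega)
    refine hxR (hTL x (hA hxA).1 (hatt.1 (Subgroup.mem_centralizer_singleton_iff.mpr ?_)))
    exact hcomm hAe x hxA u (hBeq.ge hu).1
  have hRT : R = T := by
    by_contra hne'
    obtain ⟨y, hy, hyR, hyn⟩ := exists_normalizer_not_mem o.t_two (lt_of_le_of_ne inf_le_left hne')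
    have hR₀R : R₀ ≤ R := le_inf hR₀ Subgroup.le_normalizer
    have hmapR : R.map (MulAut.conj y).toMonoidHom = R :=
      Subgroup.mem_normalizer_iff_map_conj_eq.mp hyn
    rcases hEAR (E.map (MulAut.conj y).toMonoidHom)
      (hmapR ▸ Subgroup.map_mono (hER.trans hR₀R))
      (by rintro _ ⟨a, ha, rfl⟩; rw [← map_mul, hexp a ha, map_one])
      (by rw [Subgroup.card_map_of_injective (MulAut.conj y).injective, h8]) with h | h
    · exact hyR (hR₀R (hNE' y hy h))
    · refine hyR ?_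
      have h' : g⁻¹ * y ∈ R₀ := by
        refine hNE' _ (mul_mem (inv_mem hg) hy) ?_
        rw [← map_conj_map_conj, h, hE', map_conj_map_conj, inv_mul_cancel, map_conj_one]
      have := mul_mem (show g ∈ R from ⟨hg, hgn⟩) (hR₀R h')
      rwa [mul_inv_cancel_left] at this
  -- `Ω₁(Z(J(T))) = F`
  have hEmax : IsMaxEA 2 T E := by
    refine ⟨hR₀.trans' hER, isElementaryAbelian_iff.mpr
      ⟨hcomm hexp, fun e he => by rw [pow_two]; exact hexp e he⟩, fun C hC hCe => ?_⟩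
    by_contra hlt
    have hC' : ∀ a ∈ C, a * a = 1 := fun a ha => by
      rw [← pow_two]; exact (isElementaryAbelian_iff.mp hCe).2 a ha
    rcases hEAR C (hRT.ge.trans' hC) hC' (by omega) with h | h
    · exact hlt (h ▸ le_rfl)
    · rw [h] at hlt; omega
  have hEJ : E ≤ J := le_thompsonSubgroupOf hEmax
  have hE'J : E' ≤ J := by
    have := (hEmax.map_conj g)
    rw [show T.map (MulAut.conj g).toMonoidHom = T from
      Subgroup.mem_normalizer_iff_map_conj_eq.mp (Subgroup.le_normalizer hg), ← hE'] at this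
    exact le_thompsonSubgroupOf this
  have hJR₀ : J ≤ R₀ := thompsonSubgroupOf_le_of fun A hA => by
    have h8' : 8 ≤ Nat.card ↥A := h8 ▸ hA.2.2 E hEmax.1 hEmax.2.1
    rcases hEAR A (hRT.ge.trans' hA.1) (fun a ha => by
      rw [← pow_two]; exact (isElementaryAbelian_iff.mp hA.2.1).2 a ha) h8' with rfl | rfl
    · exact hER
    · exact hE'R
  have hFz0 : F ≤ z0 T := fun f hf => mem_omegaCenterOf_iff.mpr
    ⟨hEJ hf.1, fun y hy => hFcent f hf y (hJR₀ hy), hexp f hf.1⟩
  have hzF : z0 T ≤ F := fun x hx => by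
    obtain ⟨-, hxc, -⟩ := mem_omegaCenterOf_iff.mp hx
    refine ⟨hCE x fun y hy => hxc y (hEJ hy), ?_⟩
    refine ⟨g⁻¹ * x * g, hCE _ fun y hy => ?_, by simp [mul_assoc]⟩
    have h := hxc (g * y * g⁻¹) (hE'J ⟨y, hy, rfl⟩)
    calc y * (g⁻¹ * x * g) = g⁻¹ * ((g * y * g⁻¹) * x) * g := by group
      _ = g⁻¹ * (x * (g * y * g⁻¹)) * g := by rw [h]
      _ = g⁻¹ * x * g * y := by group
  -- two elements of `F` attached to other overgroups
  set u' := g * u * g⁻¹ with hu'
  have hgL'' : g ∉ L'' := fun h => hgR (hTL g hg h)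
  have hu'F : u' ∈ F := hgF g hg hgn hgR u hu
  have hu'1 : u' ≠ 1 := fun e => hu1 (conj_eq_one_iff.mp e)
  have hatt' := hatt.conj g
  rw [← hu'] at hatt'
  have huu : u ≠ u' := fun e => o''.conj_ne hgL'' (att_eq (isMaximalTwoLocal_map_conj o''.max g)
    hatt (e ▸ hatt'))
  have hcasesF := four_cases hF4 (fun f hf => hexp f hf.1) hu hu'F hu1 hu'1 huu
  have hnu : u ∉ Subgroup.centralizer (K : Set G) := fun h =>
    hne (att_eq o''.max (o.att (hFz0 hu) hu1 h) hatt)
  have hnu' : u' ∉ Subgroup.centralizer (K : Set G) := fun h => by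
    have h1 := att_eq (isMaximalTwoLocal_map_conj o''.max g) (o.att (hFz0 hu'F) hu'1 h) hatt'
    refine hne ?_
    have h2 := congrArg (Subgroup.map (MulAut.conj g⁻¹).toMonoidHom) h1
    rwa [map_conj_map_conj, inv_mul_cancel, map_conj_one,
      show L.map (MulAut.conj g⁻¹).toMonoidHom = L from Subgroup.mem_normalizer_iff_map_conj_eq.mp
        (Subgroup.le_normalizer (inv_mem (o.syl.1 hg)))] at h2
  have hgg : g * u' * g⁻¹ = u := by
    have hgR0' : g * g ∈ R₀ := hNE' _ (mul_mem hg hg) (by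
      obtain ⟨h1, h2⟩ := hswap g hg hgn hgR
      rw [← map_conj_map_conj, h1, h2])
    calc g * u' * g⁻¹ = (g * g) * u * (g * g)⁻¹ := by rw [hu']; group
      _ = u := by rw [hFcent u hu _ hgR0']; group
  obtain ⟨w, hw, hwW, hw1, huniq, hK⟩ := o.exists_w
  rcases hcasesF w (hzF hw) with h | h | h | h
  · exact hw1 h
  · subst h
    exact hnu' (o.orbit hwW hw1 hw huniq hg huu.symm)
  · rw [h] at hwW hw1 hw huniq
    have := o.orbit hwW hw1 hw huniq hg (by rw [hgg]; exact huu)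
    exact hnu (hgg ▸ this)
  · refine hnu' ?_
    have := (hK u (hFz0 hu)).resolve_left hnu
    rwa [h, ← mul_assoc, hexp u hu.1, one_mul] at this

/-- The subgroup `T` is maximal straddling for a second 2-local subgroup, or it is moved. -/
theorem companion : ∃ M' K' L' : Subgroup G, Out M' T K' L' ∧ L' ≠ L := by
  haveI : Fact (Nat.Prime 2) := ⟨Nat.prime_two⟩
  have hmv : ∀ g ∈ Subgroup.normalizer (T : Set G), g ∉ L →
      ∃ M' K' L' : Subgroup G, Out M' T K' L' ∧ L' ≠ L :=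
    fun g hg hgL => ⟨M, _, _, o.conj hg, o.conj_ne hgL⟩
  obtain ⟨S, hTS⟩ := o.t_two.exists_le_sylow
  rcases lt_or_eq_of_le hTS with hlt | heq
  · obtain ⟨g, -, -, hgn, hgL⟩ := o.exists_moved S.isPGroup' hlt
    exact hmv g hgn hgL
  by_cases hJL : Subgroup.normalizer (J : Set G) ≤ L
  swap
  · obtain ⟨g, hgJ, hgL⟩ := SetLike.not_le_iff_exists.mp hJL
    obtain ⟨-, hC⟩ := o.small_of_moved hgJ hgL
    refine hmv g ?_ hgL
    have hgT : T.map (MulAut.conj g).toMonoidHom ≤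
        Subgroup.centralizer (Cfsg.omegaCenterOf (S : Subgroup G) : Set G) := by
      rintro _ ⟨t, ht, rfl⟩
      refine mem_cent_iff.mpr fun x hx => ?_
      rw [← heq, o.omega_eq hC] at hx
      have hx' := conj_mem_of_normalizer (inv_mem (normalizer_le_normalizer_z0 T hgJ)) hx
      have h := mem_cent_iff.mp (hC ht) _ hx'
      show x * (g * t * g⁻¹) = g * t * g⁻¹ * x
      calc x * (g * t * g⁻¹) = g * ((g⁻¹ * x * g⁻¹⁻¹) * t) * g⁻¹ := by group
        _ = g * (t * (g⁻¹ * x * g⁻¹⁻¹)) * g⁻¹ := by rw [h]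
        _ = g * t * g⁻¹ * x := by group
    have hn := hgT.trans (o.zn.hZ S)
    have hp : IsPGroup 2 ↥((S : Subgroup G) ⊔ T.map (MulAut.conj g).toMonoidHom) :=
      S.isPGroup'.to_sup_of_normal_left' (o.t_two.map _) hn
    have hle : T.map (MulAut.conj g).toMonoidHom ≤ (S : Subgroup G) :=
      le_sup_right.trans (S.is_maximal' hp le_sup_left).le
    rw [← heq] at hle
    exact Subgroup.mem_normalizer_iff_map_conj_eq.mpr (Subgroup.eq_of_le_of_card_ge hle
      (by rw [Subgroup.card_map_of_injective (MulAut.conj g).injective]))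
  have hnjL : ∃ S : Sylow 2 G,
      Subgroup.normalizer (Cfsg.thompsonSubgroupOf 2 (S : Subgroup G) : Set G) ≤ L :=
    ⟨S, heq ▸ hJL⟩
  obtain ⟨S', hS'⟩ := hnjL
  rcases Set.eq_empty_or_nonempty (Cfsg.straddlingTwoSubgroups L) with hemp | hne
  · have hse := (Cfsg.Agent.S2947.result o.zn.hL o.zn.hN o.zn.hZ o.zn.hO S' L o.max.1 hS').mpr hemp
    obtain ⟨z, hzT, hz1, hzz, hzc⟩ := exists_central_invol o.t_two o.t_ne
    have hzo : orderOf z = 2 := orderOf_eq_prime (by rw [pow_two, hzz]) hz1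
    have hzO : z ∈ Cfsg.pCoreOf 2 L := o.ctx.charp (mem_cent_iff.mpr fun y hy =>
      hzc y (o.ctx.o_le_t hy))
    refine absurd (thompsonSubgroupOf_le_of fun A hA x hx => ?_) o.jover.2.1
    by_cases hx1 : x = 1
    · exact hx1 ▸ one_mem _
    have hxo : orderOf x = 2 := orderOf_eq_prime ((isElementaryAbelian_iff.mp hA.2.1).2 x hx) hx1
    obtain ⟨c, hc⟩ := isConj_iff.mp (Cfsg.Agent.Lib.Involutions.se_all_conj hse hzo hxo)
    have hcL : c ∈ L := Cfsg.Agent.Lib.Involutions.mem_of_conj_mem hse hzo (o.syl.1 hzT)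
      (hc ▸ o.syl.1 (hA.1 hx))
    exact hc ▸ o.ctx.o_conj hcL hzO
  obtain ⟨R', hR'⟩ := exists_maxStraddling hne
  obtain ⟨P, hP⟩ := (isSylowOf_of_sylowTwo o.syl).exists_sylow
  obtain ⟨c, hcL, hc⟩ := Cfsg.Agent.Lib.Involutions.exists_conj_le_sylow_of_le P hR'.1.1 hR'.1.2.2.1
  have hmax₀ := maxStraddling_map_conj hR' hcL
  have hR₀T := hc.trans hP.le
  generalize R'.map (MulAut.conj c).toMonoidHom = R₀ at hmax₀ hR₀T
  obtain ⟨K'', L'', o''⟩ := exists_out o.zn o.max.1 ⟨S', hS'⟩ hmax₀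
  have hneL : L'' ≠ L := fun e => o''.l_not_le e.le
  rcases lt_or_eq_of_le hR₀T with hlt | heq'
  swap
  · exact ⟨L, K'', L'', heq' ▸ o'', hneL⟩
  exfalso
  obtain ⟨g, hg, hgR, hgn, hgL''⟩ := o''.exists_moved o.t_two hlt
  have oc := o''.conj hgn
  have hcne := o''.conj_ne hgL''
  obtain ⟨hz4, hC⟩ := o''.small_of_pair oc hcne
  obtain ⟨hcard, hcardT, -⟩ := o''.step_eq oc hcne hC
  have hexp := o''.core_exp (by rcases hcard with h | h <;> omega)
  have hNE : ∀ t ∈ T, t ∈ Subgroup.normalizer (Cfsg.pCoreOf 2 L'' : Set G) → t ∈ R₀ := by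
    intro t ht htn
    rw [normalizer_pCoreOf_of_maximal o''.max] at htn
    have h := eq_of_sylowTwo o''.syl (le_inf hR₀T o''.syl.1 : R₀ ≤ T ⊓ L'') inf_le_right
      (o.t_two.to_le inf_le_left)
    exact h.le ⟨ht, htn⟩
  rcases hcard with h | h
  · exact o.no_four hR₀T hg hgR h (by omega) hexp hNE o''
  · exact o.no_eight hR₀T hg hgn hgR hneL h (by omega) hexp hz4 hNE o''

end Out

end Cfsg.Agent.Lib.LocalEven2
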