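import Cfsg.Agent.Lib.LocalEven2.JCompanion

/-!
# The centre of `J(T)` and the two steps attached to a maximal straddling `T`
-/

set_option autoImplicit false
set_option linter.unusedSectionVars false

namespace Cfsg.Agent.Lib.LocalEven2

variable {G : Type*} [Group G] [Finite G]

namespace Out

variable {M T K L : Subgroup G} (o : Out M T K L)
include o

theorem small : Nat.card ↥(z0 T) ≤ 4 ∧ T ≤ Subgroup.centralizer (z0 T : Set G) := by
  obtain ⟨M', K', L', o', hne⟩ := o.companion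
  exact o.small_of_pair o' hne

theorem step_data :
    Subgroup.centralizer (Cfsg.pCoreOf 2 (K ⊔ T) : Set G) ≤ Cfsg.pCoreOf 2 (K ⊔ T) ∧
      Cfsg.IsSylowTwoIn T (K ⊔ T) ∧ (Cfsg.pCoreOf 2 (K ⊔ T)).relIndex (K ⊔ T) = 6 ∧
      ¬ ⁅K ⊔ T, K ⊔ T⁆ ≤ Cfsg.pCoreOf 2 (K ⊔ T) ∧ ⁅Cfsg.omegaCenterOf T, K ⊔ T⁆ ≠ ⊥ ∧
      ∃ L : Subgroup G, Cfsg.IsMaximalTwoLocal L ∧ K ⊔ T ≤ L ∧ Cfsg.IsSylowTwoIn T L ∧
        ∀ L' : Subgroup G, Cfsg.IsMaximalTwoLocal L' → K ⊔ T ≤ L' → L' = L := by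
  have hC := o.small.2
  refine ⟨o.step_charp, o.sylow_step, o.relIndex_core hC, o.core_noncomm hC, fun h => ?_,
    L, o.max, o.step_le, o.syl, fun L' hL' hle => o.unique hL' (le_sup_left.trans hle)
      ((thompsonSubgroupOf_le 2 T).trans (le_sup_right.trans hle))⟩
  refine o.omega_moved hC fun k hk => mem_cent_iff.mpr fun x hx => ?_
  exact (mem_cent_iff.mp (Subgroup.commutator_eq_bot_iff_le_centralizer.mp h hx) k
    (Subgroup.mem_sup_left hk)).symm

/-- The possibilities for `Ω₁(Z(J(T)))` and `Ω₁(Z(S))`. -/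
theorem centre_cases (S : Sylow 2 G) (hTS : T ≤ (S : Subgroup G)) :
    z0 T ⊓ Cfsg.wOf K ≠ ⊥ ∧
      ((Cfsg.omegaCenterOf (S : Subgroup G) = z0 T ∧ Nat.card ↥(z0 T) = 2) ∨
        (Cfsg.omegaCenterOf (S : Subgroup G) = z0 T ∧ Nat.card ↥(z0 T) = 4 ∧
          T = (S : Subgroup G)) ∨
        (Cfsg.omegaCenterOf T = z0 T ∧ Nat.card ↥(z0 T) = 4 ∧
          (L ⊓ Subgroup.centralizer (z0 T : Set G)).relIndex
            (Subgroup.normalizer (z0 T : Set G)) = 2)) := by
  haveI : Fact (Nat.Prime 2) := ⟨Nat.prime_two⟩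
  obtain ⟨hc4, hC⟩ := o.small
  obtain ⟨w, hw, hwW, hw1, -, hK⟩ := o.exists_w
  refine ⟨fun h => hw1 (Subgroup.mem_bot.mp (h ▸ ⟨hw, hwW⟩)), ?_⟩
  have hZle := o.omega_sylow_le (S : Subgroup G) hTS
  have hS1 : (S : Subgroup G) ≠ ⊥ := fun h => o.t_ne (le_bot_iff.mp (h ▸ hTS))
  obtain ⟨z, hzS, hz1, hzz, hzc⟩ := exists_central_invol S.isPGroup' hS1
  have hzZ : z ∈ Cfsg.omegaCenterOf (S : Subgroup G) := mem_omegaCenterOf_iff.mpr ⟨hzS, hzc, hzz⟩
  have hz0 := hZle hzZ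
  have h2 := o.two_le_card
  have hne3 : Nat.card ↥(z0 T) ≠ 3 := fun h => by
    obtain ⟨n, hn⟩ := IsPGroup.iff_card.mp (o.t_two.to_le o.z0_le_t)
    rw [h] at hn
    rcases n with _ | n
    · simp at hn
    · rw [pow_succ] at hn; omega
  rcases (show Nat.card ↥(z0 T) = 2 ∨ Nat.card ↥(z0 T) = 4 by omega) with hc | hc
  · refine Or.inl ⟨Subgroup.eq_of_le_of_card_ge hZle ?_, hc⟩
    have : Nontrivial ↥(Cfsg.omegaCenterOf (S : Subgroup G)) :=
      ⟨⟨⟨z, hzZ⟩, 1, fun e => hz1 (congrArg Subtype.val e)⟩⟩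
    have := Finite.one_lt_card (α := ↥(Cfsg.omegaCenterOf (S : Subgroup G)))
    omega
  refine Or.inr ?_
  rcases lt_or_eq_of_le hTS with hlt | heq
  swap
  · exact Or.inl ⟨heq ▸ o.omega_eq hC, hc, heq⟩
  refine Or.inr ⟨o.omega_eq hC, hc, ?_⟩
  -- an element of `Ω₁(Z(J(T)))` attached to `L`
  obtain ⟨u, hu, hu1, hatt⟩ : ∃ u ∈ z0 T, u ≠ 1 ∧ Att L u := by
    obtain ⟨x, hx, hx1, hxw⟩ := exists_mem_ne_ne (W := z0 T) (by omega) 1 w
    rcases hK x hx with h | h
    · exact ⟨x, hx, hx1, o.att hx hx1 h⟩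
    · have hx1' : x * w ≠ 1 := fun e => hxw (by
        rw [eq_inv_of_mul_eq_one_left e, inv_eq_of_mul_eq_one_right (z0_mul_self hw)])
      exact ⟨x * w, mul_mem hx hw, hx1', o.att (mul_mem hx hw) hx1' h⟩
  obtain ⟨g, hgS, -, hgn, hgL⟩ := o.exists_moved S.isPGroup' hlt
  have hgz := normalizer_le_normalizer_z0 T (normalizer_le_normalizer_thompson 2 T hgn)
  set u' := g * u * g⁻¹ with hu'
  have hu'0 : u' ∈ z0 T := conj_mem_of_normalizer hgz hu
  have hu'1 : u' ≠ 1 := fun e => hu1 (conj_eq_one_iff.mp e)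
  have oc := o.conj hgn
  have hatt' : Att (L.map (MulAut.conj g).toMonoidHom) u' := hatt.conj g
  have huu : u ≠ u' := fun e => o.conj_ne hgL (att_eq oc.max hatt (e ▸ hatt'))
  have hall := four_cases hc (fun x hx => z0_mul_self hx) hu hu'0 hu1 hu'1 huu
  have hgzfix : g * z * g⁻¹ = z := by rw [hzc g hgS]; group
  have hnot : ∀ {L₀ : Subgroup G}, Cfsg.IsSylowTwoIn T L₀ → ∀ {x : G},
      Subgroup.centralizer ({x} : Set G) ≤ L₀ → ∀ n : G, n * z * n⁻¹ ≠ x := by
    intro L₀ hsyl x hx n e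
    have hle : (S : Subgroup G).map (MulAut.conj n).toMonoidHom ≤ L₀ := by
      rintro _ ⟨s, hs, rfl⟩
      refine hx (Subgroup.mem_centralizer_singleton_iff.mpr ?_)
      show n * s * n⁻¹ * x = x * (n * s * n⁻¹)
      rw [← e]
      calc n * s * n⁻¹ * (n * z * n⁻¹) = n * (s * z) * n⁻¹ := by group
        _ = n * (z * s) * n⁻¹ := by rw [hzc s hs]
        _ = n * z * n⁻¹ * (n * s * n⁻¹) := by group
    obtain ⟨P, hP⟩ := (isSylowOf_of_sylowTwo hsyl).exists_sylow
    obtain ⟨c, -, hc'⟩ := Cfsg.Agent.Lib.Involutions.exists_conj_le_sylow_of_le P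
      (S.isPGroup'.map _) hle
    have h := Subgroup.card_le_of_le (hc'.trans hP.le)
    rw [Subgroup.card_map_of_injective (MulAut.conj c).injective,
      Subgroup.card_map_of_injective (MulAut.conj n).injective] at h
    exact hlt.ne (Subgroup.eq_of_le_of_card_ge hlt.le h)
  have hfix : ∀ n ∈ Subgroup.normalizer (z0 T : Set G), n * z * n⁻¹ = u * u' := by
    intro n hn
    rcases hall _ (conj_mem_of_normalizer hn hz0) with h | h | h | h
    · exact absurd (conj_eq_one_iff.mp h) hz1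
    · exact absurd h (hnot o.syl hatt.1 n)
    · exact absurd h (hnot oc.syl hatt'.1 n)
    · exact h
  have hz : z = u * u' := by simpa using hfix 1 (one_mem _)
  have hcent : ∀ n, n * u * n⁻¹ = u → n * z * n⁻¹ = z →
      n ∈ L ⊓ Subgroup.centralizer (z0 T : Set G) := by
    intro n h1 h2
    have hnu : u * n = n * u := by
      calc u * n = (n * u * n⁻¹) * n := by rw [h1]
        _ = n * u := by group
    have hnu' : u' * n = n * u' := by
      have e : u' = u * z := by rw [hz, ← mul_assoc, z0_mul_self hu, one_mul]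
      rw [e]
      calc u * z * n = u * ((n * z * n⁻¹) * n) := by rw [h2, mul_assoc]
        _ = (u * n) * z := by group
        _ = n * (u * z) := by rw [hnu, mul_assoc]
    refine ⟨hatt.1 (Subgroup.mem_centralizer_singleton_iff.mpr hnu.symm), mem_cent_iff.mpr fun y hy => ?_⟩
    rcases hall y hy with rfl | rfl | rfl | rfl
    · simp
    · exact hnu
    · exact hnu'
    · rw [mul_assoc, hnu', ← mul_assoc, hnu, mul_assoc]
  rw [Subgroup.relIndex_eq_two_iff_exists_notMem_and]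
  refine ⟨g, hgz, fun h => hgL h.1, fun b hb => ?_⟩
  have hbz : b * z * b⁻¹ = z := (hfix b hb).trans hz.symm
  rcases hall _ (conj_mem_of_normalizer hb hu) with h | h | h | h
  · exact absurd (conj_eq_one_iff.mp h) hu1
  · exact Or.inr (hcent b h hbz)
  · refine Or.inl (hcent _ ?_ ?_)
    · have h1 : b * u' * b⁻¹ = u := by
        have e : u' = u * z := by rw [hz, ← mul_assoc, z0_mul_self hu, one_mul]
        calc b * u' * b⁻¹ = (b * u * b⁻¹) * (b * z * b⁻¹) := by rw [e]; group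
          _ = u * (u' * u') := by rw [h, hbz, hz, ← mul_assoc, z0_comm hu'0 hu, mul_assoc]
          _ = u := by rw [z0_mul_self hu'0, mul_one]
      calc b * g * u * (b * g)⁻¹ = b * u' * b⁻¹ := by rw [hu']; group
        _ = u := h1
    · calc b * g * z * (b * g)⁻¹ = b * (g * z * g⁻¹) * b⁻¹ := by group
        _ = z := by rw [hgzfix, hbz]
  · refine absurd ?_ hu1
    rw [← hz] at h
    have : u = z := mul_left_cancel (mul_right_cancel (h.trans hbz.symm))
    exact absurd (mul_eq_left.mp (hz.symm.trans this.symm)) hu'1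

end Out

end Cfsg.Agent.Lib.LocalEven2
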