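import Cfsg.Agent.Lib.LocalEven2.JUnique
import Cfsg.Agent.S2946
import Cfsg.Agent.S2950

/-!
# The centre of `J(T)` for a maximal straddling subgroup `T`

For a component `K` outside `M` with maximal 2-local overgroup `L`, every nontrivial element of
`Ω₁(Z(J(T)))` centralized by `K` is attached to `L`.  Two overgroups share no such element, which
bounds `Ω₁(Z(J(T)))` by four.
-/

set_option autoImplicit false
set_option linter.unusedSectionVars false

namespace Cfsg.Agent.Lib.LocalEven2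

variable {G : Type*} [Group G] [Finite G]

/-- A group all whose 2-locals are solvable and of characteristic 2, with the centre condition. -/
structure ZN (G : Type*) [Group G] : Prop where
  hL : Cfsg.IsCharacteristicTwoType G
  hN : ∀ N : Subgroup G, Cfsg.IsTwoLocal N → Group.IsSolvable ↥N
  hZ : ∀ S : Sylow 2 G, Subgroup.centralizer (Cfsg.omegaCenterOf (S : Subgroup G) : Set G) ≤
    Subgroup.normalizer ((S : Subgroup G) : Set G)
  hO : Cfsg.pCore 2 G = ⊥

/-- A component `K` outside `M`, with the maximal 2-local subgroup `L` above `⟨K, T⟩`. -/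
structure Out (M T K L : Subgroup G) : Prop where
  zn : ZN G
  loc : Cfsg.IsTwoLocal M
  nj : ∃ S : Sylow 2 G, Subgroup.normalizer (Cfsg.thompsonSubgroupOf 2 (S : Subgroup G) : Set G) ≤ M
  tmax : T ∈ Cfsg.maxStraddlingTwoSubgroups M
  comp : Cfsg.IsJComponent T K
  outside : ¬ K ≤ M
  max : Cfsg.IsMaximalTwoLocal L
  k_le : K ≤ L
  syl : Cfsg.IsSylowTwoIn T L

/-- `x` is attached to `L`: `L` is the only maximal 2-local subgroup containing `C(x)`. -/
def Att (L : Subgroup G) (x : G) : Prop :=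
  Subgroup.centralizer ({x} : Set G) ≤ L ∧
    ∀ H : Subgroup G, Cfsg.IsMaximalTwoLocal H → Subgroup.centralizer ({x} : Set G) ≤ H → H = L

theorem att_eq {L L' : Subgroup G} (hL' : Cfsg.IsMaximalTwoLocal L') {x : G} (h : Att L x)
    (h' : Att L' x) : L' = L := h.2 L' hL' h'.1

theorem isTwoLocal_map_conj {H : Subgroup G} (h : Cfsg.IsTwoLocal H) (g : G) :
    Cfsg.IsTwoLocal (H.map (MulAut.conj g).toMonoidHom) := by
  obtain ⟨R, hR, hR1, rfl⟩ := h
  refine ⟨R.map (MulAut.conj g).toMonoidHom, hR.map _, ?_, ?_⟩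
  · rw [ne_eq, Subgroup.map_eq_bot_iff_of_injective _ (MulAut.conj g).injective]
    exact hR1
  · exact (Subgroup.map_equiv_normalizer_eq R (MulAut.conj g))

theorem isMaximalTwoLocal_map_conj {H : Subgroup G} (h : Cfsg.IsMaximalTwoLocal H) (g : G) :
    Cfsg.IsMaximalTwoLocal (H.map (MulAut.conj g).toMonoidHom) := by
  refine ⟨isTwoLocal_map_conj h.1 g, fun N hN hle => ?_⟩
  have h1 := Subgroup.map_mono (f := (MulAut.conj g⁻¹).toMonoidHom) hle
  rw [map_conj_map_conj, inv_mul_cancel, map_conj_one] at h1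
  have := congrArg (Subgroup.map (MulAut.conj g).toMonoidHom) (h.2 _ (isTwoLocal_map_conj hN g⁻¹) h1)
  rwa [map_conj_map_conj, mul_inv_cancel, map_conj_one] at this

theorem centralizer_singleton_conj (g x : G) :
    Subgroup.centralizer ({g * x * g⁻¹} : Set G) =
      (Subgroup.centralizer ({x} : Set G)).map (MulAut.conj g).toMonoidHom := by
  ext y
  rw [mem_map_conj, Subgroup.mem_centralizer_singleton_iff, Subgroup.mem_centralizer_singleton_iff]
  constructor
  · intro h
    calc g⁻¹ * y * g * x = g⁻¹ * (y * (g * x * g⁻¹)) * g := by group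
      _ = x * (g⁻¹ * y * g) := by rw [h]; group
  · intro h
    calc y * (g * x * g⁻¹) = g * (g⁻¹ * y * g * x) * g⁻¹ := by group
      _ = g * x * g⁻¹ * y := by rw [h]; group

theorem Att.conj {L : Subgroup G} {x : G} (h : Att L x) (g : G) :
    Att (L.map (MulAut.conj g).toMonoidHom) (g * x * g⁻¹) := by
  refine ⟨by rw [centralizer_singleton_conj]; exact Subgroup.map_mono h.1, fun H hH hle => ?_⟩
  rw [centralizer_singleton_conj] at hle
  have h1 := Subgroup.map_mono (f := (MulAut.conj g⁻¹).toMonoidHom) hle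
  rw [map_conj_map_conj, inv_mul_cancel, map_conj_one] at h1
  have := congrArg (Subgroup.map (MulAut.conj g).toMonoidHom)
    (h.2 _ (isMaximalTwoLocal_map_conj hH g⁻¹) h1)
  rwa [map_conj_map_conj, mul_inv_cancel, map_conj_one] at this

theorem pCoreOf_twoLocal_ne_bot {N : Subgroup G} (h : Cfsg.IsTwoLocal N) :
    Cfsg.pCoreOf 2 N ≠ ⊥ := by
  obtain ⟨R, hR, hR1, rfl⟩ := h
  intro hb
  exact hR1 (le_bot_iff.mp (hb ▸ le_pCoreOf Subgroup.le_normalizer hR fun g hg x hx =>
    conj_mem_of_normalizer hg hx))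

theorem normalizer_le_of_maximal {L : Subgroup G} (hL : Cfsg.IsMaximalTwoLocal L) :
    Subgroup.normalizer (L : Set G) ≤ L := by
  have := hL.2 (Subgroup.normalizer (Cfsg.pCoreOf 2 L : Set G))
    ⟨_, pCoreOf_isPGroup L, pCoreOf_twoLocal_ne_bot hL.1, rfl⟩
    (LocalEven.le_normalizer_pCoreOf L)
  exact (normalizer_le_normalizer_pCoreOf 2 L).trans this.le

theorem normalizer_pCoreOf_of_maximal {L : Subgroup G} (hL : Cfsg.IsMaximalTwoLocal L) :
    Subgroup.normalizer (Cfsg.pCoreOf 2 L : Set G) = L :=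
  hL.2 _ ⟨_, pCoreOf_isPGroup L, pCoreOf_twoLocal_ne_bot hL.1, rfl⟩
    (LocalEven.le_normalizer_pCoreOf L)

/-- The centre of `J(T)`, elements of order dividing two. -/
abbrev z0 (T : Subgroup G) : Subgroup G := Cfsg.omegaCenterOf (Cfsg.thompsonSubgroupOf 2 T)

theorem z0_mul_self {T : Subgroup G} {x : G} (hx : x ∈ z0 T) : x * x = 1 :=
  (mem_omegaCenterOf_iff.mp hx).2.2

theorem z0_comm {T : Subgroup G} {x y : G} (hx : x ∈ z0 T) (hy : y ∈ z0 T) : x * y = y * x :=
  (mem_omegaCenterOf_iff.mp hy).2.1 x (mem_omegaCenterOf_iff.mp hx).1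

theorem normalizer_le_normalizer_z0 (T : Subgroup G) :
    Subgroup.normalizer (Cfsg.thompsonSubgroupOf 2 T : Set G) ≤ Subgroup.normalizer (z0 T : Set G) :=
  normalizer_le_normalizer_omegaCenterOf _

theorem t_le_normalizer_j (T : Subgroup G) :
    T ≤ Subgroup.normalizer (Cfsg.thompsonSubgroupOf 2 T : Set G) :=
  Subgroup.le_normalizer.trans (normalizer_le_normalizer_thompson 2 T)

/-- An element centralizes a subgroup when it commutes with all its members. -/
theorem mem_cent_iff {K : Subgroup G} {x : G} :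
    x ∈ Subgroup.centralizer (K : Set G) ↔ ∀ y ∈ K, y * x = x * y := Subgroup.mem_centralizer_iff

namespace Out

variable {M T K L : Subgroup G} (o : Out M T K L)
include o

local notation "J" => Cfsg.thompsonSubgroupOf 2 T

theorem t_two : IsPGroup 2 ↥T := o.tmax.1.1

theorem t_ne : T ≠ ⊥ := o.tmax.1.2.1

theorem t_le_m : T ≤ M := o.tmax.1.2.2.1

theorem l_not_le : ¬ L ≤ M := fun h => o.outside (o.k_le.trans h)

theorem j_le : J ≤ L := (thompsonSubgroupOf_le 2 T).trans o.syl.1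

theorem nj_le : Subgroup.normalizer (J : Set G) ≤ M := by
  obtain ⟨S, hS⟩ := o.nj
  exact straddle_normalizer_le S hS o.tmax

theorem unique {H : Subgroup G} (hH : Cfsg.IsMaximalTwoLocal H) (hKH : K ≤ H) (hJH : J ≤ H) :
    H = L := by
  obtain ⟨S, hS⟩ := o.nj
  exact maximal_unique o.zn.hL o.zn.hN o.zn.hZ o.zn.hO S o.loc hS o.tmax o.max hH o.comp
    o.outside (sup_le o.k_le o.j_le) (sup_le hKH hJH)

theorem jover : L ∈ Cfsg.jOvergroups T := by
  obtain ⟨S, hS⟩ := o.nj
  obtain ⟨-, -, -, hd⟩ := Cfsg.Agent.S2948.result o.zn.hL o.zn.hN o.zn.hZ o.zn.hO S M o.loc hS T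
    o.tmax L o.max.1 o.l_not_le T o.syl (thompsonSubgroupOf_le 2 T)
  exact (hd o.syl.1).1

theorem ctx : JCtx T L := jOver_ctx o.zn.hL o.zn.hN o.zn.hZ o.t_ne o.jover

theorem gen : ∃ k : ↥L, o.ctx.IsGen (Cfsg.wOf K) k ∧ (k : G) ∈ K ∧ K = JCtx.kOf L (k : G) :=
  member_component o.zn.hL o.zn.hN o.zn.hZ o.t_ne o.ctx o.comp o.k_le

/-- Nothing nontrivial of `W_K` is centralized by `K`. -/
theorem w_not_cent {x : G} (hx : x ∈ Cfsg.wOf K) (hx1 : x ≠ 1) :
    x ∉ Subgroup.centralizer (K : Set G) := by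
  obtain ⟨k, hk, hkK, -⟩ := o.gen
  intro h
  refine o.ctx.gen_moves hk hx hx1 ?_
  rw [mem_cent_iff.mp h _ hkK]; group

theorem att {x : G} (hx : x ∈ z0 T) (hx1 : x ≠ 1) (hK : x ∈ Subgroup.centralizer (K : Set G)) :
    Att L x := by
  have hxx := z0_mul_self hx
  have hKx : K ≤ Subgroup.centralizer ({x} : Set G) := fun y hy =>
    Subgroup.mem_centralizer_singleton_iff.mpr (mem_cent_iff.mp hK y hy)
  have hJx : J ≤ Subgroup.centralizer ({x} : Set G) := fun y hy =>
    Subgroup.mem_centralizer_singleton_iff.mpr ((mem_omegaCenterOf_iff.mp hx).2.1 y hy)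
  refine ⟨?_, fun H hH hle => o.unique hH (hKx.trans hle) (hJx.trans hle)⟩
  have hle : Subgroup.centralizer ({x} : Set G) ≤
      Subgroup.normalizer (Subgroup.zpowers x : Set G) := by
    rw [Subgroup.zpowers_eq_closure, ← Subgroup.centralizer_closure]
    exact Subgroup.centralizer_le_normalizer _
  have hloc : Cfsg.IsTwoLocal (Subgroup.normalizer (Subgroup.zpowers x : Set G)) := by
    refine ⟨_, ?_, by simpa [Subgroup.zpowers_eq_bot] using hx1, rfl⟩
    exact o.t_two.to_le (Subgroup.zpowers_le.mpr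
      (thompsonSubgroupOf_le 2 T (mem_omegaCenterOf_iff.mp hx).1))
  obtain ⟨H, hH, hHle⟩ := exists_maximalTwoLocal hloc
  exact (hle.trans hHle).trans (o.unique hH (hKx.trans (hle.trans hHle)) (hJx.trans (hle.trans hHle))).le

theorem att_t {x : G} (h : Att L x) {t : G} (ht : t ∈ T) : Att L (t * x * t⁻¹) := by
  have := h.conj t
  rwa [show L.map (MulAut.conj t).toMonoidHom = L from
    Subgroup.mem_normalizer_iff_map_conj_eq.mp (Subgroup.le_normalizer (o.syl.1 ht))] at this

/-- `Ω₁(Z(J(T)))` has the hyperplane centralized by `K` and one element of `W_K` outside it. -/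
theorem exists_w : ∃ w : G, w ∈ z0 T ∧ w ∈ Cfsg.wOf K ∧ w ≠ 1 ∧
    (∀ v ∈ z0 T, v ∈ Cfsg.wOf K → v = 1 ∨ v = w) ∧
    ∀ x ∈ z0 T, x ∈ Subgroup.centralizer (K : Set G) ∨ x * w ∈ Subgroup.centralizer (K : Set G) := by
  obtain ⟨h2, hsup⟩ := Cfsg.Agent.S2946.result o.zn.hL o.zn.hN o.zn.hZ T o.t_two o.t_ne K o.comp
    (z0 T) rfl
  obtain ⟨a, b, hab, hall⟩ := Nat.card_eq_two_iff.mp h2
  have key : ∀ v, v ∈ z0 T ⊓ Cfsg.wOf K → v = (a : G) ∨ v = (b : G) := fun v hv => by
    have : (⟨v, hv⟩ : ↥(z0 T ⊓ Cfsg.wOf K)) ∈ ({a, b} : Set ↥(z0 T ⊓ Cfsg.wOf K)) :=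
      hall ▸ Set.mem_univ _
    rcases this with h | h
    · exact Or.inl (congrArg Subtype.val h)
    · exact Or.inr (congrArg Subtype.val h)
  obtain ⟨w, hw, hw1, hwu⟩ : ∃ w : G, w ∈ z0 T ⊓ Cfsg.wOf K ∧ w ≠ 1 ∧
      ∀ v, v ∈ z0 T ⊓ Cfsg.wOf K → v = 1 ∨ v = w := by
    rcases key 1 (one_mem _) with h | h
    · refine ⟨b, b.2, fun e => hab (Subtype.ext (h.symm.trans e.symm)), fun v hv => ?_⟩
      rcases key v hv with e | e
      · exact Or.inl (e.trans h.symm)
      · exact Or.inr e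
    · refine ⟨a, a.2, fun e => hab (Subtype.ext (e.trans h)), fun v hv => ?_⟩
      rcases key v hv with e | e
      · exact Or.inr e
      · exact Or.inl (e.trans h.symm)
  refine ⟨w, hw.1, hw.2, hw1, fun v hv hvW => hwu v ⟨hv, hvW⟩, fun x hx => ?_⟩
  rw [← hsup] at hx
  have hcomm : ∀ p ∈ z0 T ⊓ ((K ⊔ J) ⊓ Subgroup.centralizer ((K : Set G) ⊔ (J : Set G))),
      p ∈ Subgroup.centralizer (K : Set G) := fun p hp =>
    Subgroup.centralizer_le (le_sup_left : (K : Set G) ≤ _) hp.2.2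
  have hmul := Subgroup.coe_mul_of_right_le_normalizer_left
    (z0 T ⊓ ((K ⊔ J) ⊓ Subgroup.centralizer ((K : Set G) ⊔ (J : Set G)))) (z0 T ⊓ Cfsg.wOf K)
    (fun v hv => mem_normalizer_of_map_le fun p hp => by
      rw [z0_comm hv.1 hp.1]; simpa using hp)
  rw [← SetLike.mem_coe, hmul] at hx
  obtain ⟨p, hp, v, hv, rfl⟩ := hx
  rcases hwu v hv with rfl | rfl
  · exact Or.inl (by simpa using hcomm p hp)
  · refine Or.inr ?_
    show p * v * v ∈ _
    rw [mul_assoc, z0_mul_self hv.1, mul_one]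
    exact hcomm p hp

/-- A conjugate of `w` under `T` different from `w` is centralized by `K`. -/
theorem orbit {w : G} (hwW : w ∈ Cfsg.wOf K) (hw1 : w ≠ 1) (hw : w ∈ z0 T)
    (huniq : ∀ v ∈ z0 T, v ∈ Cfsg.wOf K → v = 1 ∨ v = w) {t : G} (ht : t ∈ T)
    (hne : t * w * t⁻¹ ≠ w) : t * w * t⁻¹ ∈ Subgroup.centralizer (K : Set G) := by
  obtain ⟨k, hk, -, hKeq⟩ := o.gen
  set W' := (Cfsg.wOf K).map (MulAut.conj t).toMonoidHom with hW'
  have hblock : o.ctx.IsBlock W' := o.ctx.isBlock_conj (o.ctx.gen_isBlock hk) ⟨t, o.syl.1 ht⟩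
  have hmem : t * w * t⁻¹ ∈ W' := ⟨w, hwW, rfl⟩
  have hneW : W' ≠ Cfsg.wOf K := fun e => by
    rcases huniq _ (conj_mem_of_normalizer
      (normalizer_le_normalizer_z0 T (t_le_normalizer_j T ht)) hw) (e ▸ hmem) with h | h
    · exact hw1 (conj_eq_one_iff.mp h)
    · exact hne h
  set x := t * w * t⁻¹ with hx
  have hh0 : JCtx.h0 L (k : G) ≤ Subgroup.centralizer ({x} : Set G) := by
    refine sup_le (fun o' ho' => ?_) (Subgroup.zpowers_le.mpr ?_) <;>
      rw [Subgroup.mem_centralizer_singleton_iff]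
    · have h := o.ctx.o_fix_v ho' (o.ctx.block_le_v hblock hmem)
      calc o' * x = (o' * x * o'⁻¹) * o' := by group
        _ = x * o' := by rw [h]
    · have h := hk.2.2.1 W' hblock hneW x hmem
      calc (k : G) * x = ((k : G) * x * (k : G)⁻¹) * k := by group
        _ = x * k := by rw [h]
  rw [mem_cent_iff]
  intro y hy
  have hy' : y ∈ JCtx.kOf L (k : G) := hKeq ▸ hy
  exact Subgroup.mem_centralizer_singleton_iff.mp
    (hh0 ((Subgroup.closure_le _).mpr (fun g hg => hg.1) hy'))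

/-- If another family is attached elsewhere, `Ω₁(Z(J(T)))` has at most four elements. -/
theorem card_le {U : Subgroup G} (hU : U ≤ z0 T)
    (hidx : ∃ w' : G, w' ∈ z0 T ∧ ∀ x ∈ z0 T, x ∈ U ∨ x * w' ∈ U)
    (hdisj : ∀ x ∈ U, x ≠ 1 → x ∉ Subgroup.centralizer (K : Set G)) :
    Nat.card ↥(z0 T) ≤ 4 := by
  classical
  obtain ⟨w, hw, -, -, -, hK⟩ := o.exists_w
  obtain ⟨w', hw', hU'⟩ := hidx
  have hkey : ∀ x ∈ U, ∀ y ∈ U, x ≠ 1 → y ≠ 1 → x = y := by
    intro x hx y hy hx1 hy1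
    by_contra hxy
    have hinv : y⁻¹ = y := inv_eq_of_mul_eq_one_right (z0_mul_self (hU hy))
    refine hdisj (x * y) (mul_mem hx hy) (fun e => hxy (by
      rw [← hinv, eq_inv_of_mul_eq_one_left e])) ?_
    have e : x * w * (y * w) = x * y := by
      rw [z0_comm (hU hy) hw, show x * w * (w * y) = x * (w * w) * y by group, z0_mul_self hw,
        mul_one]
    rw [← e]
    exact mul_mem ((hK x (hU hx)).resolve_left (hdisj x hx hx1))
      ((hK y (hU hy)).resolve_left (hdisj y hy hy1))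
  have hU2 : Nat.card ↥U ≤ 2 := by
    let f : ↥U → Bool := fun x => decide ((x : G) = 1)
    have hf : Function.Injective f := fun x y h => by
      simp only [f, decide_eq_decide] at h
      by_cases hx : (x : G) = 1
      · exact Subtype.ext (hx.trans (h.mp hx).symm)
      · exact Subtype.ext (hkey x x.2 y y.2 hx fun e => hx (h.mpr e))
    simpa using Nat.card_le_card_of_injective f hf
  let g : ↥(z0 T) → ↥U × Bool := fun x =>
    if h : (x : G) ∈ U then (⟨x, h⟩, true) else (⟨x * w', (hU' x x.2).resolve_left h⟩, false)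
  have hg : Function.Injective g := fun x y h => by
    simp only [g] at h
    split_ifs at h with h1 h2 h2
    · exact Subtype.ext (congrArg (fun p : ↥U × Bool => (p.1 : G)) h)
    · exact absurd (congrArg Prod.snd h) (by simp)
    · exact absurd (congrArg Prod.snd h) (by simp)
    · exact Subtype.ext (mul_right_cancel (congrArg (fun p : ↥U × Bool => (p.1 : G)) h))
  have := Nat.card_le_card_of_injective g hg
  rw [Nat.card_prod, Nat.card_eq_fintype_card (α := Bool), Fintype.card_bool] at this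
  omega

theorem two_le_card : 2 ≤ Nat.card ↥(z0 T) := by
  obtain ⟨w, hw, -, hw1, -, -⟩ := o.exists_w
  have : Nontrivial ↥(z0 T) := ⟨⟨⟨w, hw⟩, 1, fun e => hw1 (congrArg Subtype.val e)⟩⟩
  exact Finite.one_lt_card

/-- If `T` acts nontrivially on `Ω₁(Z(J(T)))` of order at most four, then there are two
elements interchanged by `T` and attached to `L`. -/
theorem exists_pair (h4 : Nat.card ↥(z0 T) ≤ 4) (hT : ¬ T ≤ Subgroup.centralizer (z0 T : Set G)) :
    ∃ p q : G, p ∈ z0 T ∧ q ∈ z0 T ∧ p ≠ 1 ∧ q ≠ 1 ∧ p ≠ q ∧ Att L p ∧ Att L q ∧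
      ∀ x ∈ z0 T, x = 1 ∨ x = p ∨ x = q ∨ x = p * q := by
  obtain ⟨w, hw, hwW, hw1, huniq, hK⟩ := o.exists_w
  obtain ⟨t, ht, htx⟩ := SetLike.not_le_iff_exists.mp hT
  rw [mem_cent_iff] at htx
  push Not at htx
  obtain ⟨x, hx, hxt⟩ := htx
  have hn := normalizer_le_normalizer_z0 T (t_le_normalizer_j T ht)
  have hmove : t * x * t⁻¹ ≠ x := fun e => hxt (by
    calc x * t = (t * x * t⁻¹) * t := by rw [e]
      _ = t * x := by group)
  -- an element centralized by `K` and moved by `t`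
  obtain ⟨u, hu, huK, hum⟩ : ∃ u ∈ z0 T, u ∈ Subgroup.centralizer (K : Set G) ∧
      t * u * t⁻¹ ≠ u := by
    by_cases hwt : t * w * t⁻¹ = w
    · rcases hK x hx with h | h
      · exact ⟨x, hx, h, hmove⟩
      · refine ⟨x * w, mul_mem hx hw, h, fun e => hmove ?_⟩
        rw [show t * (x * w) * t⁻¹ = (t * x * t⁻¹) * (t * w * t⁻¹) by group, hwt] at e
        exact mul_right_cancel e
    · refine ⟨t * w * t⁻¹, conj_mem_of_normalizer hn hw, o.orbit hwW hw1 hw huniq ht hwt,
        fun e => hwt ?_⟩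
      calc t * w * t⁻¹ = t⁻¹ * (t * (t * w * t⁻¹) * t⁻¹) * t := by group
        _ = w := by rw [e]; group
  have hu1 : u ≠ 1 := fun e => hum (by rw [e]; group)
  set q := t * u * t⁻¹ with hq
  have hqZ : q ∈ z0 T := conj_mem_of_normalizer hn hu
  have hq1 : q ≠ 1 := fun e => hu1 (conj_eq_one_iff.mp e)
  have hatt := o.att hu hu1 huK
  refine ⟨u, q, hu, hqZ, hu1, hq1, Ne.symm hum, hatt, o.att_t hatt ht, ?_⟩
  have hexp : ∀ a ∈ z0 T, a * a = 1 := fun a ha => z0_mul_self ha
  have hc4 : Nat.card ↥(z0 T) = 4 := by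
    refine le_antisymm h4 ?_
    classical
    have hsub : (({1, u, q, u * q} : Finset G) : Set G) ⊆ (z0 T : Set G) := by
      intro y hy
      simp only [Finset.coe_insert, Finset.coe_singleton, Set.mem_insert_iff,
        Set.mem_singleton_iff] at hy
      rcases hy with rfl | rfl | rfl | rfl
      exacts [one_mem _, hu, hqZ, mul_mem hu hqZ]
    have huq : u * q ≠ 1 := fun e => hum (by
      rw [eq_inv_of_mul_eq_one_right e, inv_eq_of_mul_eq_one_right (hexp u hu)])
    have h1 : u * q ≠ u := fun e => hq1 (mul_eq_left.mp e)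
    have h2 : u * q ≠ q := fun e => hu1 (mul_eq_right.mp e)
    have hc : ({1, u, q, u * q} : Finset G).card = 4 := by
      rw [Finset.card_insert_of_notMem, Finset.card_insert_of_notMem, Finset.card_insert_of_notMem,
        Finset.card_singleton]
      · simpa using h2.symm
      · simp only [Finset.mem_insert, Finset.mem_singleton, not_or]
        exact ⟨Ne.symm hum, h1.symm⟩
      · simp only [Finset.mem_insert, Finset.mem_singleton, not_or]
        exact ⟨hu1.symm, hq1.symm, huq.symm⟩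
    have := Set.ncard_le_ncard hsub
    rw [Set.ncard_coe_finset, hc, ← Nat.card_coe_set_eq] at this
    exact this
  exact four_cases hc4 hexp hu hqZ hu1 hq1 (Ne.symm hum)

/-- Two different overgroups for the same `T`. -/
theorem small_of_pair {M' K' L' : Subgroup G} (o' : Out M' T K' L') (hne : L' ≠ L) :
    Nat.card ↥(z0 T) ≤ 4 ∧ T ≤ Subgroup.centralizer (z0 T : Set G) := by
  obtain ⟨w', hw', -, -, -, hK'⟩ := o'.exists_w
  have hcard : Nat.card ↥(z0 T) ≤ 4 := by
    refine o.card_le (U := z0 T ⊓ Subgroup.centralizer (K' : Set G)) inf_le_left ⟨w', hw', fun x hx =>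
      (hK' x hx).imp (fun h => ⟨hx, h⟩) fun h => ⟨mul_mem hx hw', h⟩⟩ fun x hx hx1 hxK => ?_
    exact hne (att_eq o'.max (o.att hx.1 hx1 hxK) (o'.att hx.1 hx1 hx.2))
  refine ⟨hcard, by_contra fun hT => ?_⟩
  obtain ⟨p, q, hp, hq, hp1, hq1, hpq, hap, haq, hall⟩ := o.exists_pair hcard hT
  obtain ⟨p', q', hp', hq', hp1', hq1', hpq', hap', haq', -⟩ := o'.exists_pair hcard hT
  have key : ∀ x ∈ z0 T, x ≠ 1 → Att L' x → x = p * q := fun x hx hx1 hax => by
    rcases hall x hx with rfl | rfl | rfl | rfl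
    · exact absurd rfl hx1
    · exact absurd (att_eq o'.max hap hax) hne
    · exact absurd (att_eq o'.max haq hax) hne
    · rfl
  exact hpq' ((key p' hp' hp1' hap').trans (key q' hq' hq1' haq').symm)

/-- An element normalizing `J(T)` outside `L`. -/
theorem small_of_moved {g : G} (hgJ : g ∈ Subgroup.normalizer (J : Set G)) (hgL : g ∉ L) :
    Nat.card ↥(z0 T) ≤ 4 ∧ T ≤ Subgroup.centralizer (z0 T : Set G) := by
  have hgZ := normalizer_le_normalizer_z0 T hgJ
  have hne : L.map (MulAut.conj g).toMonoidHom ≠ L := fun e =>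
    hgL (normalizer_le_of_maximal o.max (Subgroup.mem_normalizer_iff_map_conj_eq.mpr e))
  have hmax := isMaximalTwoLocal_map_conj o.max g
  obtain ⟨w, hw, -, -, -, hK⟩ := o.exists_w
  have hback : ∀ x ∈ z0 T, g⁻¹ * x * g ∈ z0 T := fun x hx => by
    have := conj_mem_of_normalizer (inv_mem hgZ) hx
    rwa [inv_inv] at this
  have hcard : Nat.card ↥(z0 T) ≤ 4 := by
    refine o.card_le (U := (z0 T ⊓ Subgroup.centralizer (K : Set G)).map (MulAut.conj g).toMonoidHom)
      ?_ ⟨g * w * g⁻¹, conj_mem_of_normalizer hgZ hw, fun x hx => ?_⟩ fun x hx hx1 hxK => ?_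
    · rintro _ ⟨x, hx, rfl⟩
      exact conj_mem_of_normalizer hgZ hx.1
    · rcases hK _ (hback x hx) with h | h
      · exact Or.inl ⟨_, ⟨hback x hx, h⟩, by simp [mul_assoc]⟩
      · exact Or.inr ⟨_, ⟨mul_mem (hback x hx) hw, h⟩, by simp [mul_assoc]⟩
    · obtain ⟨y, hy, rfl⟩ := hx
      have hy1 : y ≠ 1 := fun e => hx1 (by rw [e, map_one])
      exact hne (att_eq hmax (o.att (conj_mem_of_normalizer hgZ hy.1) hx1 hxK)
        ((o.att hy.1 hy1 hy.2).conj g))
  refine ⟨hcard, by_contra fun hT => ?_⟩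
  obtain ⟨p, q, hp, hq, hp1, hq1, hpq, hap, haq, hall⟩ := o.exists_pair hcard hT
  have key : ∀ x ∈ z0 T, x ≠ 1 → Att L x → g * x * g⁻¹ = p * q := fun x hx hx1 hax => by
    have hg := hax.conj g
    rcases hall _ (conj_mem_of_normalizer hgZ hx) with h | h | h | h
    · exact absurd (conj_eq_one_iff.mp h) hx1
    · rw [h] at hg; exact absurd (att_eq hmax hap hg) hne
    · rw [h] at hg; exact absurd (att_eq hmax haq hg) hne
    · exact h
  exact hpq (mul_left_cancel (mul_right_cancel ((key p hp hp1 hap).trans (key q hq hq1 haq).symm)))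

end Out

end Cfsg.Agent.Lib.LocalEven2
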