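import Cfsg.Agent.Lib.LocalEven2.JSmall
import Cfsg.Agent.Lib.LocalEven2.CharPLocal
import Cfsg.Agent.Lib.LocalEven.S3AmalgamBuild

/-!
# The group `⟨K, T⟩` for a component `K` when `T` fixes `Ω₁(Z(J(T)))`
-/

set_option autoImplicit false
set_option linter.unusedSectionVars false
set_option linter.style.haveILetI false

namespace Cfsg.Agent.Lib.LocalEven2

variable {G : Type*} [Group G] [Finite G]

theorem perm_three_no_normal_two :
    ∀ a : Equiv.Perm (Fin 3), a * a = 1 → (∀ g, g * a * g⁻¹ = a) → a = 1 := by decide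

theorem perm_three_noncomm : ¬ ∀ a b : Equiv.Perm (Fin 3), a * b = b * a := by decide

theorem eq_one_of_two_power_of_odd {H : Type*} [Monoid H] {x : H} {m : ℕ} (h2 : x ^ 2 ^ m = 1)
    {n : ℕ} (hn : Odd n) (hx : x ^ n = 1) : x = 1 := by
  have h1 := pow_gcd_eq_one.mpr ⟨h2, hx⟩
  rwa [show Nat.gcd (2 ^ m) n = 1 from Nat.coprime_two_left.mpr hn |>.pow_left m, pow_one] at h1

namespace Out

variable {M T K L : Subgroup G} (o : Out M T K L)
include o

local notation "J" => Cfsg.thompsonSubgroupOf 2 T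

theorem z0_le_t : z0 T ≤ T :=
  (omegaCenterOf_le _).trans (thompsonSubgroupOf_le 2 T)

/-- Any element of `Ω₁(Z(T))` lies in `Ω₁(Z(J(T)))`. -/
theorem omega_le_z0 : Cfsg.omegaCenterOf T ≤ z0 T := by
  intro x hx
  obtain ⟨hxT, hxc, hxx⟩ := mem_omegaCenterOf_iff.mp hx
  have hxJ : x ∈ J := by
    obtain ⟨A, hA⟩ := exists_isMaxEA 2 T
    obtain ⟨hAc, hAe⟩ := isElementaryAbelian_iff.mp hA.2.1
    have hE : Cfsg.IsElementaryAbelian 2 (A ⊔ Subgroup.zpowers x) := by
      rw [Subgroup.sup_eq_closure]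
      have hz : ∀ y ∈ Subgroup.zpowers x, (∀ a ∈ T, a * y = y * a) ∧ y * y = 1 := by
        intro y hy
        obtain ⟨i, rfl⟩ := hy
        refine ⟨fun a ha => ((show Commute a x from hxc a ha).zpow_right i).eq, ?_⟩
        show x ^ i * x ^ i = 1
        rw [← (Commute.refl x).mul_zpow, hxx, one_zpow]
      refine Cfsg.Agent.Lib.PLocal.elemAb_closure ?_ ?_
      · rintro a (ha | ha) b (hb | hb)
        · exact hAc a ha b hb
        · exact (hz b hb).1 a (hA.1 ha)
        · exact ((hz a ha).1 b (hA.1 hb)).symm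
        · exact ((hz b hb).1 a (Subgroup.zpowers_le.mpr hxT ha))
      · rintro a (ha | ha)
        · exact hAe a ha
        · rw [pow_two]; exact (hz a ha).2
    have hle : A ⊔ Subgroup.zpowers x ≤ T := sup_le hA.1 (Subgroup.zpowers_le.mpr hxT)
    have := Subgroup.eq_of_le_of_card_ge (le_sup_left : A ≤ A ⊔ Subgroup.zpowers x) (hA.2.2 _ hle hE)
    exact le_thompsonSubgroupOf hA (this.ge (Subgroup.mem_sup_right (Subgroup.mem_zpowers x)))
  exact mem_omegaCenterOf_iff.mpr ⟨hxJ, fun y hy => hxc y (thompsonSubgroupOf_le 2 T hy), hxx⟩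

theorem omega_eq (hC : T ≤ Subgroup.centralizer (z0 T : Set G)) : Cfsg.omegaCenterOf T = z0 T := by
  refine le_antisymm o.omega_le_z0 fun x hx => ?_
  exact mem_omegaCenterOf_iff.mpr ⟨o.z0_le_t hx,
    fun y hy => (mem_cent_iff.mp (hC hy) x hx).symm, z0_mul_self hx⟩

/-- `Ω₁(Z(S))` lies in `Ω₁(Z(J(T)))` for every Sylow subgroup `S` above `T`. -/
theorem omega_sylow_le (S : Subgroup G) (hTS : T ≤ S) : Cfsg.omegaCenterOf S ≤ z0 T := by
  intro x hx
  obtain ⟨-, hxc, hxx⟩ := mem_omegaCenterOf_iff.mp hx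
  refine o.omega_le_z0 (mem_omegaCenterOf_iff.mpr ⟨o.ctx.o_le_t (o.ctx.charp ?_),
    fun y hy => hxc y (hTS hy), hxx⟩)
  exact Subgroup.mem_centralizer_iff.mpr fun y hy => hxc y (hTS (o.ctx.o_le_t hy))

theorem t_le_normalizer (hC : T ≤ Subgroup.centralizer (z0 T : Set G)) :
    T ≤ Subgroup.normalizer (K : Set G) := by
  obtain ⟨w, hw, hwW, hw1, -, -⟩ := o.exists_w
  obtain ⟨k, hk, -, hKeq⟩ := o.gen
  intro t ht
  have hb := o.ctx.gen_isBlock hk
  have heq : (Cfsg.wOf K).map (MulAut.conj t).toMonoidHom = Cfsg.wOf K := by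
    refine o.ctx.block_eq_of_meet (o.ctx.isBlock_conj hb ⟨t, o.syl.1 ht⟩) hb (x := w) ⟨w, hwW, ?_⟩
      hwW hw1
    show t * w * t⁻¹ = w
    rw [← mem_cent_iff.mp (hC ht) w hw]; group
  have := (o.ctx.normalizes_kOf hk (o.syl.1 ht) (Subgroup.mem_normalizer_iff_map_conj_eq.mpr heq)).2
  rwa [← hKeq] at this

theorem step_le : K ⊔ T ≤ L := sup_le o.k_le o.syl.1

theorem sylow_step : Cfsg.IsSylowTwoIn T (K ⊔ T) :=
  ⟨le_sup_right, o.t_two, o.syl.2.2.of_dvd_nat
    (Dvd.intro _ (Subgroup.relIndex_mul_relIndex T (K ⊔ T) L le_sup_right o.step_le))⟩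

theorem w_le_o : Cfsg.wOf K ≤ Cfsg.pCoreOf 2 L := by
  obtain ⟨k, hk, -, -⟩ := o.gen
  exact (o.ctx.block_le_v (o.ctx.gen_isBlock hk)).trans o.ctx.v_le_o

theorem card_step (hC : T ≤ Subgroup.centralizer (z0 T : Set G)) :
    Nat.card ↥(K ⊔ T) = 3 * Nat.card ↥T := by
  haveI : Fact (Nat.Prime 2) := ⟨Nat.prime_two⟩
  have hTK := o.t_le_normalizer hC
  set Q := Cfsg.pCoreOf 2 K with hQ
  have hQT : Q ≤ T := by
    have hn : T ≤ Subgroup.normalizer (Q : Set G) := hTK.trans (normalizer_le_normalizer_pCoreOf 2 K)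
    have := eq_of_sylowTwo o.sylow_step (le_sup_right : T ≤ Q ⊔ T)
      (sup_le ((LocalEven.pCoreOf_le K).trans le_sup_left) le_sup_right)
      ((pCoreOf_isPGroup K).to_sup_of_normal_left' o.t_two hn)
    exact le_sup_left.trans this.le
  have hKQ : Nat.card ↥K = 3 * Nat.card ↥Q := by
    rw [← Cfsg.Agent.Lib.Coprime.relIndex_mul_card (LocalEven.pCoreOf_le (p := 2) K),
      o.comp.2.2.1, mul_comm]
  have hinf : Nat.card ↥(K ⊓ T : Subgroup G) = Nat.card ↥Q := by
    obtain ⟨a, ha⟩ : Nat.card ↥Q ∣ Nat.card ↥(K ⊓ T : Subgroup G) :=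
      Subgroup.card_dvd_of_le (le_inf (LocalEven.pCoreOf_le K) hQT)
    have h3 : a ∣ 3 := by
      have := Subgroup.card_dvd_of_le (inf_le_left : K ⊓ T ≤ K)
      rw [hKQ, ha, mul_comm 3] at this
      exact Nat.dvd_of_mul_dvd_mul_left Nat.card_pos this
    obtain ⟨m, hm⟩ := IsPGroup.iff_card.mp (o.t_two.to_le (inf_le_right : K ⊓ T ≤ T))
    rcases (Nat.dvd_prime Nat.prime_three).mp h3 with rfl | rfl
    · rw [ha, mul_one]
    · exfalso
      have h32 : 3 ∣ 2 ^ m := ⟨Nat.card ↥Q, by rw [← hm, ha, mul_comm]⟩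
      exact absurd (Nat.prime_three.dvd_of_dvd_pow h32) (by norm_num)
  have h := Cfsg.Agent.Lib.Coprime.card_sup_mul_card_inf hTK
  rw [hinf, hKQ, show 3 * Nat.card ↥Q * Nat.card ↥T = 3 * Nat.card ↥T * Nat.card ↥Q by ring] at h
  exact Nat.eq_of_mul_eq_mul_right Nat.card_pos h

/-- `⟨K, T⟩` induces `S₃` on `W_K`, with kernel its 2-core. -/
theorem exists_step_hom (hC : T ≤ Subgroup.centralizer (z0 T : Set G)) :
    ∃ φ : ↥(K ⊔ T) →* Equiv.Perm (Fin 3), Function.Surjective φ ∧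
      φ.ker = Cfsg.pCore 2 ↥(K ⊔ T) ∧
      ∀ x : ↥(K ⊔ T), x ∈ φ.ker ↔ (x : G) ∈ Subgroup.centralizer (Cfsg.wOf K : Set G) := by
  classical
  haveI : Fact (Nat.Prime 2) := ⟨Nat.prime_two⟩
  set W := Cfsg.wOf K with hW
  set P := K ⊔ T with hP
  have h4 : Nat.card ↥W = 4 := o.comp.2.2.2.2.1
  have hPW : P ≤ Subgroup.normalizer (W : Set G) :=
    (sup_le Subgroup.le_normalizer (o.t_le_normalizer hC)).trans jc_normalizer_le_normalizer_w
  let X := {x : ↥W // x ≠ 1}
  let act : ↥P → X → X := fun p x => ⟨⟨(p : G) * (x.1 : G) * (p : G)⁻¹,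
    conj_mem_of_normalizer (hPW p.2) x.1.2⟩, fun e => x.2 (Subtype.ext
      (conj_eq_one_iff.mp (congrArg Subtype.val e)))⟩
  have hact : ∀ (p q : ↥P) (x : X), act (p * q) x = act p (act q x) := fun p q x => by
    refine Subtype.ext (Subtype.ext ?_)
    show ((p : G) * q) * (x.1 : G) * ((p : G) * q)⁻¹ = p * (q * (x.1 : G) * (q : G)⁻¹) * (p : G)⁻¹
    group
  have hact1 : ∀ x : X, act 1 x = x := fun x => by
    refine Subtype.ext (Subtype.ext ?_)
    show (1 : G) * (x.1 : G) * (1 : G)⁻¹ = _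
    group
  let ψ : ↥P →* Equiv.Perm X := MonoidHom.mk'
    (fun p => ⟨act p, act p⁻¹, fun x => by rw [← hact, inv_mul_cancel, hact1],
      fun x => by rw [← hact, mul_inv_cancel, hact1]⟩)
    (fun p q => Equiv.ext fun x => hact p q x)
  have hX : Nat.card X = 3 := by
    haveI : Fintype ↥W := Fintype.ofFinite _
    rw [Nat.card_eq_fintype_card, Fintype.card_subtype_compl, Fintype.card_subtype_eq,
      ← Nat.card_eq_fintype_card, h4]
  haveI : Fintype X := Fintype.ofFinite _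
  let e : X ≃ Fin 3 := Finite.equivFinOfCardEq hX
  let φ : ↥P →* Equiv.Perm (Fin 3) := e.permCongrHom.toMonoidHom.comp ψ
  have hker : ∀ x : ↥P, x ∈ φ.ker ↔ (x : G) ∈ Subgroup.centralizer (W : Set G) := by
    intro x
    rw [MonoidHom.mem_ker]
    constructor
    · intro h
      have h' : ψ x = 1 := e.permCongrHom.injective (h.trans (map_one _).symm)
      refine mem_cent_iff.mpr fun w hw => ?_
      by_cases hw1 : w = 1
      · rw [hw1]; group
      have := congrArg (fun σ : Equiv.Perm X => ((σ ⟨⟨w, hw⟩, fun e' => hw1 (congrArg Subtype.val e')⟩).1 : G)) h'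
      change (x : G) * w * (x : G)⁻¹ = w at this
      calc w * (x : G) = ((x : G) * w * (x : G)⁻¹) * x := by rw [this]
        _ = x * w := by group
    · intro h
      have h' : ψ x = 1 := Equiv.ext fun y => Subtype.ext (Subtype.ext (by
        show (x : G) * (y.1 : G) * (x : G)⁻¹ = y.1
        rw [← mem_cent_iff.mp h _ y.1.2]; group))
      show e.permCongrHom (ψ x) = 1
      rw [h', map_one]
  -- the image
  obtain ⟨k, hk, hkK, -⟩ := o.gen
  obtain ⟨w, hw, hwW, hw1, -, -⟩ := o.exists_w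
  set k' : ↥P := ⟨k, Subgroup.mem_sup_left hkK⟩ with hk'
  have hk1 : φ k' ≠ 1 := fun e' => by
    have hc := (hker k').mp e'
    exact o.ctx.gen_moves hk hwW hw1 (by
      show (k' : G) * w * (k' : G)⁻¹ = w
      rw [← mem_cent_iff.mp hc w hwW]; group)
  have hk3 : orderOf (φ k') = 3 := by
    haveI : Fact (Nat.Prime 3) := ⟨Nat.prime_three⟩
    refine orderOf_eq_prime ?_ hk1
    rw [← map_pow, show k' ^ 3 = 1 from Subtype.ext (show (k : G) ^ 3 = 1 by
      rw [← Subgroup.coe_pow, hk.1, Subgroup.coe_one]), map_one]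
  obtain ⟨j, hj, hjW⟩ := SetLike.not_le_iff_exists.mp
    (jc_j_not_centralizes_w o.comp : ¬ J ≤ Subgroup.centralizer (W : Set G))
  set j' : ↥P := ⟨j, Subgroup.mem_sup_right (thompsonSubgroupOf_le 2 T hj)⟩ with hj'
  have hj1 : φ j' ≠ 1 := fun e' => hjW ((hker j').mp e')
  have h2 : 2 ∣ orderOf (φ j') := by
    obtain ⟨m, hm⟩ := o.t_two ⟨j, thompsonSubgroupOf_le 2 T hj⟩
    have hm' : φ j' ^ 2 ^ m = 1 := by
      rw [← map_pow, show j' ^ 2 ^ m = 1 from Subtype.ext (by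
        rw [Subgroup.coe_pow, Subgroup.coe_one]; exact congrArg Subtype.val hm), map_one]
    obtain ⟨i, -, hi⟩ := (Nat.dvd_prime_pow Nat.prime_two).mp (orderOf_dvd_of_pow_eq_one hm')
    rcases i with _ | i
    · exact absurd (orderOf_eq_one_iff.mp (by simpa using hi)) hj1
    · exact ⟨2 ^ i, by rw [hi, pow_succ']⟩
  have hS3 : Nat.card (Equiv.Perm (Fin 3)) = 6 := by
    rw [Nat.card_perm, Nat.card_fin]; rfl
  have hsurj : Function.Surjective φ := by
    rw [← MonoidHom.range_eq_top]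
    refine Subgroup.eq_top_of_card_eq _ (le_antisymm (Subgroup.card_le_card_group _) ?_)
    rw [hS3]
    refine Nat.le_of_dvd Nat.card_pos (Nat.Coprime.mul_dvd_of_dvd_of_dvd (by norm_num : Nat.Coprime 2 3)
      (h2.trans (Subgroup.orderOf_dvd_natCard _ (MonoidHom.mem_range.mpr ⟨j', rfl⟩)))
      (hk3.symm.dvd.trans (Subgroup.orderOf_dvd_natCard _ (MonoidHom.mem_range.mpr ⟨k', rfl⟩))))
  refine ⟨φ, hsurj, ?_, hker⟩
  have hcard : 6 * Nat.card ↥φ.ker = 3 * Nat.card ↥T := by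
    rw [← o.card_step hC, Subgroup.card_eq_card_quotient_mul_card_subgroup φ.ker,
      Nat.card_congr (QuotientGroup.quotientKerEquivOfSurjective φ hsurj).toEquiv, hS3]
  obtain ⟨m, hm⟩ := IsPGroup.iff_card.mp o.t_two
  refine le_antisymm (le_pCore (MonoidHom.normal_ker φ) ?_) fun x hx => ?_
  · obtain ⟨i, -, hi⟩ := (Nat.dvd_prime_pow Nat.prime_two).mp
      (show Nat.card ↥φ.ker ∣ 2 ^ m from ⟨2, by omega⟩)
    exact IsPGroup.of_card hi
  · haveI := pCore_normal 2 ↥P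
    have hn : ((Cfsg.pCore 2 ↥P).map φ).Normal := Subgroup.Normal.map inferInstance φ hsurj
    have hp : IsPGroup 2 ↥((Cfsg.pCore 2 ↥P).map φ) := (pCore_isPGroup 2 ↥P).map φ
    rw [MonoidHom.mem_ker]
    by_contra hx1
    -- a normal 2-subgroup of `S₃` is trivial
    obtain ⟨n, hn'⟩ := IsPGroup.iff_card.mp hp
    have hd : 2 ^ n ∣ 6 := by
      rw [← hn', ← hS3]; exact Subgroup.card_subgroup_dvd_card _
    have hle2 : Nat.card ↥((Cfsg.pCore 2 ↥P).map φ) ≤ 2 := by
      rw [hn']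
      have h6 : 2 ^ n ≤ 6 := Nat.le_of_dvd (by norm_num) hd
      rcases n with _ | _ | _ | n
      · simp
      · simp
      · norm_num at hd
      · rw [pow_succ, pow_succ, pow_succ] at h6
        have := Nat.one_le_two_pow (n := n)
        omega
    have huniq : ∀ y ∈ (Cfsg.pCore 2 ↥P).map φ, y ≠ 1 → y = φ x := by
      intro y hy hy1
      by_contra hne
      have hsub : (({1, y, φ x} : Finset (Equiv.Perm (Fin 3))) : Set (Equiv.Perm (Fin 3))) ⊆
          ((Cfsg.pCore 2 ↥P).map φ : Subgroup _) := by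
        intro z hz
        simp only [Finset.coe_insert, Finset.coe_singleton, Set.mem_insert_iff,
          Set.mem_singleton_iff] at hz
        rcases hz with rfl | rfl | rfl
        exacts [one_mem _, hy, ⟨x, hx, rfl⟩]
      have := Set.ncard_le_ncard hsub
      rw [Set.ncard_coe_finset, Finset.card_insert_of_notMem (by simp [Ne.symm hy1, Ne.symm hx1]),
        Finset.card_insert_of_notMem (by simpa using hne), Finset.card_singleton,
        ← Nat.card_coe_set_eq] at this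
      exact absurd (this.trans hle2) (by norm_num)
    refine hx1 (perm_three_no_normal_two (φ x) ?_ fun g => ?_)
    · by_contra hsq
      have := huniq _ (mul_mem ⟨x, hx, rfl⟩ ⟨x, hx, rfl⟩) hsq
      exact hx1 (mul_eq_left.mp this)
    · exact huniq _ (hn.conj_mem _ ⟨x, hx, rfl⟩ g) fun h => hx1 (conj_eq_one_iff.mp h)

theorem card_core (hC : T ≤ Subgroup.centralizer (z0 T : Set G)) :
    2 * Nat.card ↥(Cfsg.pCoreOf 2 (K ⊔ T)) = Nat.card ↥T := by
  obtain ⟨φ, hs, hk, -⟩ := o.exists_step_hom hC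
  have h := Subgroup.card_eq_card_quotient_mul_card_subgroup φ.ker
  rw [o.card_step hC, Nat.card_congr (QuotientGroup.quotientKerEquivOfSurjective φ hs).toEquiv,
    Nat.card_perm, Nat.card_fin, hk, ← LocalEven.S3Am.card_pCoreOf, show Nat.factorial 3 = 6 from rfl] at h
  omega

theorem relIndex_core (hC : T ≤ Subgroup.centralizer (z0 T : Set G)) :
    (Cfsg.pCoreOf 2 (K ⊔ T)).relIndex (K ⊔ T) = 6 := by
  have h := Cfsg.Agent.Lib.Coprime.relIndex_mul_card (LocalEven.pCoreOf_le (p := 2) (K ⊔ T))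
  rw [o.card_step hC, ← o.card_core hC] at h
  have : 0 < Nat.card ↥(Cfsg.pCoreOf 2 (K ⊔ T)) := Nat.card_pos
  nlinarith

theorem core_noncomm (hC : T ≤ Subgroup.centralizer (z0 T : Set G)) :
    ¬ ⁅K ⊔ T, K ⊔ T⁆ ≤ Cfsg.pCoreOf 2 (K ⊔ T) := by
  obtain ⟨φ, hs, hk, -⟩ := o.exists_step_hom hC
  intro h
  refine perm_three_noncomm fun a b => ?_
  obtain ⟨x, rfl⟩ := hs a
  obtain ⟨y, rfl⟩ := hs b
  have hmem : x * y * x⁻¹ * y⁻¹ ∈ φ.ker := by
    rw [hk, ← coe_mem_pCoreOf]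
    have := h (Subgroup.commutator_mem_commutator x.2 y.2)
    simpa [commutatorElement_def] using this
  rw [MonoidHom.mem_ker, map_mul, map_mul, map_mul, map_inv, map_inv, mul_inv_eq_one,
    mul_inv_eq_iff_eq_mul] at hmem
  exact hmem

theorem omega_moved (hC : T ≤ Subgroup.centralizer (z0 T : Set G)) :
    ¬ K ≤ Subgroup.centralizer (Cfsg.omegaCenterOf T : Set G) := by
  obtain ⟨w, hw, hwW, hw1, -, -⟩ := o.exists_w
  intro h
  refine o.w_not_cent hwW hw1 (mem_cent_iff.mpr fun y hy => ?_)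
  exact (mem_cent_iff.mp (h hy) w ((o.omega_eq hC).ge hw)).symm

theorem o_le_core : Cfsg.pCoreOf 2 L ≤ Cfsg.pCoreOf 2 (K ⊔ T) :=
  le_pCoreOf (o.ctx.o_le_t.trans le_sup_right) (pCoreOf_isPGroup L)
    fun _ hg _ hx => o.ctx.o_conj (o.step_le hg) hx

theorem step_charp : Subgroup.centralizer (Cfsg.pCoreOf 2 (K ⊔ T) : Set G) ≤
    Cfsg.pCoreOf 2 (K ⊔ T) :=
  ((Subgroup.centralizer_le (SetLike.coe_subset_coe.mpr o.o_le_core)).trans o.ctx.charp).trans
    o.o_le_core

/-- A 2-group normal in two different steps is trivial. -/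
theorem pair_core {M' K' L' : Subgroup G} (o' : Out M' T K' L') (hne : L' ≠ L) {R H : Subgroup G}
    (hR : IsPGroup 2 ↥R) (hKH : K ⊔ T ≤ H) (hKH' : K' ⊔ T ≤ H)
    (hH : H ≤ Subgroup.normalizer (R : Set G)) : R = ⊥ := by
  by_contra hR1
  obtain ⟨H', hH', hle⟩ := exists_maximalTwoLocal (⟨R, hR, hR1, rfl⟩ : Cfsg.IsTwoLocal _)
  have hT' : T ≤ H' := (le_sup_right.trans hKH).trans (hH.trans hle)
  have hJ' : J ≤ H' := (thompsonSubgroupOf_le 2 T).trans hT'
  have e1 := o.unique hH' ((le_sup_left.trans hKH).trans (hH.trans hle)) hJ'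
  have e2 := o'.unique hH' ((le_sup_left.trans hKH').trans (hH.trans hle)) hJ'
  exact hne (e2.symm.trans e1)

theorem step_inf {M' K' L' : Subgroup G} (o' : Out M' T K' L') (hne : L' ≠ L)
    (hC : T ≤ Subgroup.centralizer (z0 T : Set G)) : (K ⊔ T) ⊓ (K' ⊔ T) = T := by
  refine (Subgroup.eq_of_le_of_card_ge (le_inf le_sup_right le_sup_right) ?_).symm
  obtain ⟨a, ha⟩ := Subgroup.card_dvd_of_le (le_inf le_sup_right le_sup_right : T ≤ (K ⊔ T) ⊓ (K' ⊔ T))
  have h3 : a ∣ 3 := by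
    have := Subgroup.card_dvd_of_le (inf_le_left : (K ⊔ T) ⊓ (K' ⊔ T) ≤ K ⊔ T)
    rw [o.card_step hC, ha, mul_comm 3] at this
    exact Nat.dvd_of_mul_dvd_mul_left Nat.card_pos this
  rcases (Nat.dvd_prime Nat.prime_three).mp h3 with rfl | rfl
  · rw [ha, mul_one]
  · exfalso
    have heq : (K ⊔ T) ⊓ (K' ⊔ T) = K ⊔ T :=
      Subgroup.eq_of_le_of_card_ge inf_le_left (by rw [o.card_step hC, ha, mul_comm])
    have hle : K ⊔ T ≤ L' := (inf_eq_left.mp heq).trans o'.step_le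
    exact hne (o.unique o'.max (le_sup_left.trans hle) o'.j_le)

/-- The amalgam of two steps. -/
theorem amalgam {M' K' L' : Subgroup G} (o' : Out M' T K' L') (hne : L' ≠ L)
    (hC : T ≤ Subgroup.centralizer (z0 T : Set G)) :
    (Nonempty (↥(K ⊔ T) ≃* Equiv.Perm (Fin 4)) ∧ Nonempty (↥(K' ⊔ T) ≃* Equiv.Perm (Fin 4))) ∨
      (Nonempty (↥(K ⊔ T) ≃* Multiplicative (ZMod 2) × Equiv.Perm (Fin 4)) ∧
        Nonempty (↥(K' ⊔ T) ≃* Multiplicative (ZMod 2) × Equiv.Perm (Fin 4))) := by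
  haveI : Fact (Nat.Prime 2) := ⟨Nat.prime_two⟩
  set P := K ⊔ T with hP
  set P' := K' ⊔ T with hP'
  set H := P ⊔ P' with hH
  have hinf : P.subgroupOf H ⊓ P'.subgroupOf H = T.subgroupOf H := by
    rw [← o.step_inf o' hne hC]; rfl
  have hTH : T ≤ H := le_sup_right.trans le_sup_left
  have hcore : ∀ Y : Subgroup G, Y ≤ H →
      Cfsg.pCoreOf 2 (Y.subgroupOf H) = (Cfsg.pCoreOf 2 Y).subgroupOf H := fun Y hY => by
    apply Subgroup.map_injective H.subtype_injective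
    rw [← pCoreOf_map H.subtype H.subtype_injective, Subgroup.map_subgroupOf_eq_of_le hY,
      Subgroup.map_subgroupOf_eq_of_le ((LocalEven.pCoreOf_le Y).trans hY)]
  have hcard : ∀ Y : Subgroup G, Y ≤ H → Nat.card ↥(Y.subgroupOf H) = Nat.card ↥Y := fun Y hY =>
    Nat.card_congr (Subgroup.subgroupOfEquivOfLe hY).toEquiv
  have hom : ∀ x : G, ∀ hx : x ∈ Cfsg.omegaCenterOf T,
      (⟨x, hTH (omegaCenterOf_le T hx)⟩ : ↥H) ∈ LocalEven.omZ 2 (T.subgroupOf H) := by
    intro x hx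
    obtain ⟨h1, h2, h3⟩ := mem_omegaCenterOf_iff.mp hx
    refine Subgroup.subset_closure ⟨⟨h1, Subgroup.mem_centralizer_iff.mpr fun y hy =>
      Subtype.ext (h2 _ hy)⟩, Subtype.ext ?_⟩
    show x ^ 2 = 1
    rw [pow_two, h3]
  have hdata : ∀ {M₀ K₀ L₀ : Subgroup G}, Out M₀ T K₀ L₀ → K₀ ⊔ T ≤ H →
      (K₀ ⊔ T).subgroupOf H ⊓ Subgroup.centralizer (Cfsg.pCoreOf 2 ((K₀ ⊔ T).subgroupOf H) : Set ↥H) ≤
          Cfsg.pCoreOf 2 ((K₀ ⊔ T).subgroupOf H) ∧
        Nat.card ↥((K₀ ⊔ T).subgroupOf H) = 2 * 3 * Nat.card ↥(Cfsg.pCoreOf 2 ((K₀ ⊔ T).subgroupOf H)) ∧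
        Nat.card ↥(P.subgroupOf H ⊓ P'.subgroupOf H) =
          2 * Nat.card ↥(Cfsg.pCoreOf 2 ((K₀ ⊔ T).subgroupOf H)) ∧
        ¬ (K₀ ⊔ T).subgroupOf H ≤
          Subgroup.centralizer (LocalEven.omZ 2 (P.subgroupOf H ⊓ P'.subgroupOf H) : Set ↥H) := by
    intro M₀ K₀ L₀ o₀ hle
    rw [hinf, hcore _ hle, hcard _ hle, hcard _ ((LocalEven.pCoreOf_le _).trans hle), hcard _ hTH,
      o₀.card_step hC, ← o₀.card_core hC]
    refine ⟨?_, by ring, rfl, fun hbad => o₀.omega_moved hC fun y hy => mem_cent_iff.mpr fun x hx => ?_⟩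
    · rintro x ⟨-, hxc⟩
      refine o₀.step_charp (mem_cent_iff.mpr fun y hy => ?_)
      exact congrArg Subtype.val (Subgroup.mem_centralizer_iff.mp hxc
        ⟨y, hle (LocalEven.pCoreOf_le _ hy)⟩ hy)
    · exact congrArg Subtype.val (Subgroup.mem_centralizer_iff.mp
        (hbad (x := ⟨y, hle (Subgroup.mem_sup_left hy)⟩) (Subgroup.mem_sup_left hy))
          _ (hom x hx))
  have h := LocalEven.S3Am.amalgam_s4 (P.subgroupOf H) (P'.subgroupOf H) ?_ 3 Nat.prime_three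
    (by norm_num) (fun Y hY => ?_) (by rw [hinf]; exact o.t_two.comap_subtype)
    (fun N hN hle => ?_)
  · have e := Subgroup.subgroupOfEquivOfLe (le_sup_left : P ≤ H)
    have e' := Subgroup.subgroupOfEquivOfLe (le_sup_right : P' ≤ H)
    rcases h with ⟨⟨a⟩, ⟨b⟩⟩ | ⟨⟨a⟩, ⟨b⟩⟩
    · exact Or.inl ⟨⟨e.symm.trans a⟩, ⟨e'.symm.trans b⟩⟩
    · exact Or.inr ⟨⟨e.symm.trans a⟩, ⟨e'.symm.trans b⟩⟩
  · rw [← Subgroup.subgroupOf_sup le_sup_left le_sup_right]
    exact Subgroup.subgroupOf_self H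
  · rcases hY with rfl | rfl
    · exact hdata o le_sup_left
    · exact hdata o' le_sup_right
  · rw [hinf] at hle
    have hb : N.map H.subtype = ⊥ := o.pair_core o' hne
      ((o.t_two.comap_subtype.to_le hle).map _) le_sup_left le_sup_right
      (fun x hx => mem_normalizer_of_map_le fun y hy => by
        obtain ⟨n, hn, rfl⟩ := hy
        exact ⟨_, hN.conj_mem n hn ⟨x, hx⟩, rfl⟩)
    exact (Subgroup.map_eq_bot_iff_of_injective N H.subtype_injective).mp hb

/-- The two 2-cores have order four or eight, and `⟨K, T⟩ = L`. -/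
theorem step_eq {M' K' L' : Subgroup G} (o' : Out M' T K' L') (hne : L' ≠ L)
    (hC : T ≤ Subgroup.centralizer (z0 T : Set G)) :
    (Nat.card ↥(Cfsg.pCoreOf 2 L) = 4 ∨ Nat.card ↥(Cfsg.pCoreOf 2 L) = 8) ∧
      2 * Nat.card ↥(Cfsg.pCoreOf 2 L) = Nat.card ↥T ∧ K ⊔ T = L := by
  haveI : Fact (Nat.Prime 2) := ⟨Nat.prime_two⟩
  have hP := o.card_step hC
  have hcore := o.card_core hC
  have h8 : Nat.card ↥(Cfsg.pCoreOf 2 (K ⊔ T)) = 4 ∨ Nat.card ↥(Cfsg.pCoreOf 2 (K ⊔ T)) = 8 := by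
    have h24 : Nat.card (Equiv.Perm (Fin 4)) = 24 := by rw [Nat.card_perm, Nat.card_fin]; rfl
    rcases o.amalgam o' hne hC with ⟨⟨a⟩, -⟩ | ⟨⟨a⟩, -⟩
    · have := (Nat.card_congr a.toEquiv).trans h24
      omega
    · have := (Nat.card_congr a.toEquiv).trans (Nat.card_prod _ _)
      rw [h24, show Nat.card (Multiplicative (ZMod 2)) = 2 by
        rw [Nat.card_congr Multiplicative.toAdd, Nat.card_zmod]] at this
      omega
  -- the centralizer of `W` in `L` is a 2-group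
  set O := Cfsg.pCoreOf 2 L with hO
  set W := Cfsg.wOf K with hW
  have hO8 : Nat.card ↥O ≤ 8 := (Subgroup.card_le_of_le o.o_le_core).trans (by omega)
  obtain ⟨k, hk, -, hKeq⟩ := o.gen
  have hb := o.ctx.gen_isBlock hk
  have h4 : Nat.card ↥W = 4 := o.comp.2.2.2.2.1
  have hWn : L ≤ Subgroup.normalizer (W : Set G) := by
    intro l hl
    rw [Subgroup.mem_normalizer_iff_map_conj_eq]
    set W' := W.map (MulAut.conj l).toMonoidHom with hW'
    have hb' : o.ctx.IsBlock W' := o.ctx.isBlock_conj hb ⟨l, hl⟩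
    have hW'O : W' ≤ O := (o.ctx.block_le_v hb').trans o.ctx.v_le_o
    have hinf : W ⊓ W' ≠ ⊥ := by
      intro hbot
      have hWW : W' ≤ Subgroup.normalizer (W : Set G) := fun x hx =>
        mem_normalizer_of_map_le fun y hy => by
          rw [o.ctx.o_fix_v (hW'O hx) (o.ctx.block_le_v hb hy)]; exact hy
      have h := Cfsg.Agent.Lib.Coprime.card_sup_mul_card_inf hWW
      rw [hbot, Subgroup.card_bot, mul_one, h4, hW', Subgroup.card_map_of_injective
        (MulAut.conj l).injective, h4, ← hW'] at h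
      have : Nat.card ↥(W ⊔ W') ≤ Nat.card ↥O := Subgroup.card_le_of_le (sup_le o.w_le_o hW'O)
      omega
    obtain ⟨⟨x, hx, hx'⟩, hx1⟩ := Subgroup.ne_bot_iff_exists_ne_one.mp hinf
    exact (o.ctx.block_eq_of_meet hb hb' hx hx' fun e => hx1 (Subtype.ext e)).symm
  set C := L ⊓ Subgroup.centralizer (W : Set G) with hCdef
  have hC2 : IsPGroup 2 ↥C := by
    rintro ⟨x, hxL, hxC⟩
    obtain ⟨e, q, hq, hn⟩ := Nat.exists_eq_pow_mul_and_not_dvd (orderOf_pos x).ne' 2 (by norm_num)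
    refine ⟨e, Subtype.ext ?_⟩
    show x ^ 2 ^ e = 1
    set y := x ^ 2 ^ e with hy
    have hyL : y ∈ L := pow_mem hxL _
    have hyC : y ∈ Subgroup.centralizer (W : Set G) := pow_mem hxC _
    have hodd : Odd q := Nat.odd_iff.mpr (Nat.two_dvd_ne_zero.mp hq)
    have hyq : y ^ q = 1 := by rw [hy, ← pow_mul, ← hn, pow_orderOf_eq_one]
    have hWc : ∀ o₁ ∈ O, ∀ o₂ ∈ O, o₁⁻¹ * o₂ ∈ W ∨ o₁ ∈ W ∨ o₂ ∈ W := by
      intro o₁ h₁ o₂ h₂
      have hidx : W.relIndex O ≤ 2 := by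
        have : Nat.card ↥W * W.relIndex O = Nat.card ↥O :=
          Cfsg.Agent.Lib.Coprime.relIndex_mul_card o.w_le_o
        rw [h4] at this
        omega
      by_contra hcon
      push Not at hcon
      obtain ⟨h12, hn1, hn2⟩ := hcon
      have hne0 : W.relIndex O ≠ 0 := Subgroup.FiniteIndex.index_ne_zero
      interval_cases hr : W.relIndex O
      · exact absurd rfl hne0
      · exact hn1 (Subgroup.relIndex_eq_one.mp hr h₁)
      · have := (Subgroup.mul_mem_iff_of_index_two (H := W.subgroupOf O) hr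
          (a := ⟨o₁, h₁⟩⁻¹) (b := ⟨o₂, h₂⟩))
        rw [inv_mem_iff, Subgroup.mem_subgroupOf, Subgroup.mem_subgroupOf, Subgroup.mem_subgroupOf] at this
        exact h12 (this.mpr (iff_of_false hn1 hn2))
    have hfix : ∀ z ∈ O, y * z * y⁻¹ = z := by
      intro z hz
      by_cases hzW : z ∈ W
      · rw [← mem_cent_iff.mp hyC z hzW]; group
      set d := z⁻¹ * (y * z * y⁻¹) with hd
      have hdW : d ∈ W := by
        rcases hWc z hz _ (o.ctx.o_conj hyL hz) with h | h | h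
        · exact h
        · exact absurd h hzW
        · refine absurd ?_ hzW
          have : y⁻¹ * (y * z * y⁻¹) * y⁻¹⁻¹ ∈ W :=
            conj_mem_of_normalizer (inv_mem (hWn hyL)) h
          rwa [show y⁻¹ * (y * z * y⁻¹) * y⁻¹⁻¹ = z by group] at this
      have hyd : y * d * y⁻¹ = d := by rw [← mem_cent_iff.mp hyC d hdW]; group
      have hpow : ∀ n : ℕ, y ^ n * z * (y ^ n)⁻¹ = z * d ^ n := by
        intro n
        induction n with
        | zero => simp
        | succ n ih =>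
          calc y ^ (n + 1) * z * (y ^ (n + 1))⁻¹ = y * (y ^ n * z * (y ^ n)⁻¹) * y⁻¹ := by
                rw [pow_succ']; group
            _ = (y * z * y⁻¹) * (y * d ^ n * y⁻¹) := by rw [ih]; group
            _ = z * d * d ^ n := by
                rw [← conj_pow, hyd, hd]; group
            _ = z * d ^ (n + 1) := by rw [pow_succ', mul_assoc]
      have hd2 : d ^ 2 ^ 1 = 1 := by rw [pow_one, pow_two, o.comp.2.2.2.2.2 d hdW]
      have hdq : d ^ q = 1 := by
        have := hpow q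
        rw [hyq] at this
        simpa using this.symm
      have := eq_one_of_two_power_of_odd hd2 hodd hdq
      rw [hd, inv_mul_eq_one] at this
      exact this.symm
    have hyO : y ∈ O := o.ctx.charp (mem_cent_iff.mpr fun z hz => by
      calc z * y = (y * z * y⁻¹) * y := by rw [hfix z hz]
        _ = y * z := by group)
    obtain ⟨m, hm⟩ := pCoreOf_isPGroup (p := 2) L ⟨y, hyO⟩
    exact eq_one_of_two_power_of_odd (congrArg Subtype.val hm) hodd hyq
  have hCO : C ≤ O := le_pCoreOf inf_le_left hC2 fun g hg x hx =>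
    ⟨L.mul_mem (L.mul_mem hg hx.1) (L.inv_mem hg), mem_cent_iff.mpr fun w hw => by
      have h := mem_cent_iff.mp hx.2 _ (conj_mem_of_normalizer (inv_mem (hWn hg)) hw)
      calc w * (g * x * g⁻¹) = g * ((g⁻¹ * w * g⁻¹⁻¹) * x) * g⁻¹ := by group
        _ = g * (x * (g⁻¹ * w * g⁻¹⁻¹)) * g⁻¹ := by rw [h]
        _ = g * x * g⁻¹ * w := by group⟩
  -- the action on the three involutions of `W`
  have hidx : (C.subgroupOf L).index ≤ 6 := by
    classical
    let X := {x : ↥W // x ≠ 1}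
    have hX : Nat.card X = 3 := by
      haveI : Fintype ↥W := Fintype.ofFinite _
      rw [Nat.card_eq_fintype_card, Fintype.card_subtype_compl, Fintype.card_subtype_eq,
        ← Nat.card_eq_fintype_card, h4]
    let act : ↥L → X → X := fun p x => ⟨⟨(p : G) * (x.1 : G) * (p : G)⁻¹,
      conj_mem_of_normalizer (hWn p.2) x.1.2⟩, fun e => x.2 (Subtype.ext
        (conj_eq_one_iff.mp (congrArg Subtype.val e)))⟩
    let f : ↥L ⧸ C.subgroupOf L → (X ↪ X) := fun l => ⟨act l.out, fun a b h => by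
      have := congrArg (fun z : X => (z.1 : G)) h
      exact Subtype.ext (Subtype.ext (mul_left_cancel (mul_right_cancel this)))⟩
    have hf : Function.Injective f := by
      intro a b h
      rw [← QuotientGroup.out_eq' a, ← QuotientGroup.out_eq' b, QuotientGroup.eq,
        Subgroup.mem_subgroupOf]
      refine ⟨(a.out⁻¹ * b.out).2, mem_cent_iff.mpr fun w hw => ?_⟩
      by_cases hw1 : w = 1
      · rw [hw1]; group
      have h1 := congrArg (fun F : X ↪ X => ((F ⟨⟨w, hw⟩, fun e => hw1 (congrArg Subtype.val e)⟩).1 : G)) h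
      change (a.out : G) * w * (a.out : G)⁻¹ = (b.out : G) * w * (b.out : G)⁻¹ at h1
      show w * ((a.out : G)⁻¹ * b.out) = (a.out : G)⁻¹ * b.out * w
      calc w * ((a.out : G)⁻¹ * b.out) = (a.out : G)⁻¹ * ((a.out : G) * w * (a.out : G)⁻¹) * b.out := by group
        _ = (a.out : G)⁻¹ * b.out * w := by rw [h1]; group
    haveI : Fintype X := Fintype.ofFinite _
    have := Nat.card_le_card_of_injective f hf
    rwa [← Subgroup.index_eq_card, Nat.card_eq_fintype_card (α := X ↪ X), Fintype.card_embedding_eq,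
      ← Nat.card_eq_fintype_card, hX, show Nat.descFactorial 3 3 = 6 from rfl] at this
  have hLcard : Nat.card ↥L ≤ 6 * Nat.card ↥O := by
    rw [← Subgroup.index_mul_card (C.subgroupOf L),
      Nat.card_congr (Subgroup.subgroupOfEquivOfLe (inf_le_left : C ≤ L)).toEquiv]
    exact Nat.mul_le_mul hidx (Subgroup.card_le_of_le hCO)
  have hle : Nat.card ↥(K ⊔ T) ≤ Nat.card ↥L := Subgroup.card_le_of_le o.step_le
  have hOc : Nat.card ↥O ≤ Nat.card ↥(Cfsg.pCoreOf 2 (K ⊔ T)) := Subgroup.card_le_of_le o.o_le_core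
  have hOeq : Nat.card ↥O = Nat.card ↥(Cfsg.pCoreOf 2 (K ⊔ T)) := by omega
  refine ⟨hOeq ▸ h8, by omega, Subgroup.eq_of_le_of_card_ge o.step_le (by omega)⟩

end Out

end Cfsg.Agent.Lib.LocalEven2
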