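import Cfsg.Agent.Lib.LocalEven2.TvBlocks

/-!
The group generated by the transvections, and offenders: an elementary abelian `2`-group moving no
more than its order is generated by transvections.
-/

set_option autoImplicit false
set_option linter.unusedSectionVars false

namespace Cfsg.Agent.Lib.LocalEven2.Tv

variable {Y V : Type*} [Group Y] [CommGroup V] [MulDistribMulAction Y V]

/-- The span of all the blocks. -/
def blockSpan (Y V : Type*) [Group Y] [CommGroup V] [MulDistribMulAction Y V] : Subgroup V :=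
  Subgroup.closure {v : V | ∃ t : Y, IsTv V t ∧ v ∈ blockOf V t}

namespace Setting

variable (S : Setting Y V)
include S

local notation "F" => Cfsg.fittingSubgroup Y
local notation "X" => tvGroup Y V

theorem tv_mem {t : Y} (h : IsTv V t) : t ∈ X := Subgroup.subset_closure h

theorem tvGroup_normal : (X).Normal := by
  refine ⟨fun x hx g => ?_⟩
  unfold tvGroup at hx
  induction hx using Subgroup.closure_induction with
  | mem t ht =>
    obtain ⟨d, hd⟩ := ht
    exact S.tv_mem ⟨_, S.cen_conj hd g⟩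
  | one => simp
  | mul a b _ _ ha hb => simpa [mul_assoc] using mul_mem ha hb
  | inv a _ ha => simpa [mul_assoc] using inv_mem ha

theorem tvGroup_smul_block {x t : Y} (hx : x ∈ X) (ht : IsTv V t) {w : V}
    (hw : w ∈ blockOf V t) : x • w ∈ blockOf V t := by
  unfold tvGroup at hx
  induction hx using Subgroup.closure_induction generalizing w with
  | mem s hs => exact S.tv_smul_block hs ht hw
  | one => rwa [one_smul]
  | mul a b _ _ ha hb => rw [mul_smul]; exact ha (hb hw)
  | inv a _ ha =>
    haveI := S.finiteV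
    let f : ↥(blockOf V t) → ↥(blockOf V t) := fun u => ⟨a • (u : V), ha u.2⟩
    have hf : Function.Injective f := fun u u' h =>
      Subtype.ext ((smul_left_cancel_iff a).mp (congrArg Subtype.val h))
    obtain ⟨u, hu⟩ := Finite.injective_iff_surjective.mp hf ⟨w, hw⟩
    have hu' : a • (u : V) = w := congrArg Subtype.val hu
    rw [← hu', inv_smul_smul]
    exact u.2

theorem smul_span (y : Y) {v : V} (hv : v ∈ blockSpan Y V) : y • v ∈ blockSpan Y V := by
  unfold blockSpan at hv
  induction hv using Subgroup.closure_induction with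
  | mem w hw =>
    obtain ⟨t, ⟨d, hd⟩, hwt⟩ := hw
    exact Subgroup.subset_closure ⟨_, ⟨_, S.cen_conj hd y⟩, S.smul_block_mem y t hwt⟩
  | one => rw [smul_one]; exact one_mem _
  | mul a b _ _ ha hb => rw [smul_mul']; exact mul_mem ha hb
  | inv a _ ha => rw [smul_inv']; exact inv_mem ha

theorem tvGroup_moves {x : Y} (hx : x ∈ X) : ∀ v : V, x • v * v ∈ blockSpan Y V := by
  unfold tvGroup at hx
  induction hx using Subgroup.closure_induction with
  | mem s hs =>
    intro v
    obtain ⟨d, hd⟩ := hs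
    rcases hd.2.1 v with h | h
    · rw [h, S.exp2]; exact one_mem _
    · rw [h, mul_comm v d, S.mul_mul_cancel]
      exact Subgroup.subset_closure ⟨s, ⟨d, hd⟩, S.cen_mem_block hd⟩
  | one => intro v; rw [one_smul, S.exp2]; exact one_mem _
  | mul a b _ _ ha hb =>
    intro v
    have := mul_mem (S.smul_span a (hb v)) (ha v)
    rw [mul_smul]
    rwa [smul_mul', ← mul_assoc, S.mul_mul_cancel] at this
  | inv a _ ha =>
    intro v
    have := S.smul_span a⁻¹ (ha v)
    rwa [smul_mul', inv_smul_smul, mul_comm] at this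

/-- `X` acts faithfully on the blocks. -/
theorem eq_one_of_fix_blocks {x : Y} (hx : x ∈ X)
    (h : ∀ t : Y, IsTv V t → ∀ w ∈ blockOf V t, x • w = w) : x = 1 := by
  haveI := S.finiteY
  haveI := S.tvGroup_normal
  let E : Subgroup Y :=
    { carrier := {y | y ∈ X ∧ ∀ u ∈ blockSpan Y V, y • u = u}
      one_mem' := ⟨one_mem _, fun u _ => one_smul _ u⟩
      mul_mem' := fun {a b} ha hb => ⟨mul_mem ha.1 hb.1, fun u hu => by
        rw [mul_smul, hb.2 u hu, ha.2 u hu]⟩
      inv_mem' := fun {a} ha => ⟨inv_mem ha.1, fun u hu => inv_smul_eq_iff.mpr (ha.2 u hu).symm⟩ }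
  have hEn : E.Normal := ⟨fun a ha g => ⟨(inferInstance : (X).Normal).conj_mem _ ha.1 g,
    fun u hu => by
      rw [mul_smul, mul_smul, ha.2 _ (S.smul_span g⁻¹ hu), smul_inv_smul]⟩⟩
  have hE2 : IsPGroup 2 ↥E := fun a => ⟨1, Subtype.ext (S.faithful _ fun v => by
    have hm := S.tvGroup_moves a.2.1 v
    have h2 := a.2.2 _ hm
    rw [smul_mul'] at h2
    rw [pow_one, pow_two, Subgroup.coe_mul, mul_smul]
    calc (a : Y) • (a : Y) • v = ((a : Y) • (a : Y) • v * (a : Y) • v) * (a : Y) • v :=
          (S.mul_mul_cancel _ _).symm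
      _ = (a : Y) • v * v * (a : Y) • v := by rw [h2]
      _ = v := by rw [mul_comm ((a : Y) • v) v, S.mul_mul_cancel])⟩
  have hbot : E = ⊥ := by
    rw [eq_bot_iff, ← S.core]
    exact le_pCore hEn hE2
  have : x ∈ E := ⟨hx, fun u hu => by
    unfold blockSpan at hu
    induction hu using Subgroup.closure_induction with
    | mem w hw => obtain ⟨t, ht, hwt⟩ := hw; exact h t ht w hwt
    | one => exact smul_one x
    | mul a b _ _ ha hb => rw [smul_mul', ha, hb]
    | inv a _ ha => rw [smul_inv', ha]⟩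
  rwa [hbot, Subgroup.mem_bot] at this

theorem ext_blocks {x y : Y} (hx : x ∈ X) (hy : y ∈ X)
    (h : ∀ t : Y, IsTv V t → ∀ w ∈ blockOf V t, x • w = y • w) : x = y := by
  have := S.eq_one_of_fix_blocks (mul_mem (inv_mem hy) hx) fun t ht w hw => by
    rw [mul_smul, h t ht w hw, inv_smul_smul]
  exact (inv_mul_eq_one.mp this).symm

/-- An element of odd order preserving a block and fixing one of its nonidentity elements fixes
all of them. -/
theorem odd_fix_block {x t : Y} (ho : Odd (orderOf x)) (ht : IsTv V t)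
    (hx : ∀ w ∈ blockOf V t, x • w ∈ blockOf V t) {w : V} (hw : w ∈ blockOf V t) (hw1 : w ≠ 1)
    (hfix : x • w = w) : ∀ u ∈ blockOf V t, x • u = u := by
  obtain ⟨d, hd⟩ := ht
  obtain ⟨s, e, hs, -, hde, -, -, -, -, hmem, -⟩ := S.block_data hd
  intro u hu
  by_cases hu1 : u = 1
  · rw [hu1, smul_one]
  by_cases huw : u = w
  · rw [huw, hfix]
  have hcanc : ∀ p q : V, p * (p * q) = q := fun p q => by rw [← mul_assoc, S.exp2, one_mul]
  have four : ∀ z ∈ blockOf V t, z = 1 ∨ z = u ∨ z = w ∨ z = u * w := by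
    intro z hz
    rcases (hmem z).mp hz with rfl | rfl | rfl | rfl <;>
      rcases (hmem u).mp hu with rfl | rfl | rfl | rfl <;>
        rcases (hmem w).mp hw with rfl | rfl | rfl | rfl <;>
          first
          | exact absurd rfl hu1
          | exact absurd rfl hw1
          | exact absurd rfl huw
          | exact Or.inl rfl
          | exact Or.inr (Or.inl rfl)
          | exact Or.inr (Or.inr (Or.inl rfl))
          | (refine Or.inr (Or.inr (Or.inr ?_)); simp [mul_comm, mul_left_comm, mul_assoc, S.exp2, hcanc])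
  have hx2 : x • x • u = u := by
    rcases four _ (hx u hu) with h | h | h | h
    · exact absurd ((smul_left_cancel_iff x).mp (h.trans (smul_one x).symm)) hu1
    · rw [h, h]
    · exact absurd ((smul_left_cancel_iff x).mp (h.trans hfix.symm)) huw
    · rw [h, smul_mul', h, hfix, S.mul_mul_cancel]
  obtain ⟨r, hr⟩ := exists_pow_eq_self_of_coprime (Nat.coprime_two_left.mpr ho)
  have hpow : ∀ n : ℕ, (x ^ 2) ^ n • u = u := fun n => by
    induction n with
    | zero => rw [pow_zero, one_smul]
    | succ n ih => rw [pow_succ, mul_smul, pow_two, mul_smul, hx2, ← pow_two, ih]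
  have := hpow r
  rwa [hr] at this

/-- Elements of odd order of `X` commute. -/
theorem odd_commute {x y : Y} (hx : x ∈ X) (hy : y ∈ X) (hxo : Odd (orderOf x))
    (hyo : Odd (orderOf y)) : x * y = y * x := by
  refine S.ext_blocks (mul_mem hx hy) (mul_mem hy hx) fun t ht => ?_
  obtain ⟨d, hd⟩ := ht
  obtain ⟨s, e, hs, -, hde, -, -, -, -, hmem, -⟩ := S.block_data hd
  have hdW := S.cen_mem_block hd
  have heW : e ∈ blockOf V t := (hmem e).mpr (Or.inr (Or.inr (Or.inl rfl)))
  have key : ∀ z : Y, z ∈ X → Odd (orderOf z) → (z • d = d ∧ z • e = e) ∨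
      (z • d = e ∧ z • e = d * e) ∨ (z • d = d * e ∧ z • e = d) := by
    intro z hz hzo
    have hfix : ∀ {u : V}, u ∈ blockOf V t → u ≠ 1 → z • u = u → z • d = d ∧ z • e = e := fun hu hu1 h =>
      ⟨S.odd_fix_block hzo ⟨d, hd⟩ (fun w hw => S.tvGroup_smul_block hz ⟨d, hd⟩ hw) hu hu1 h d hdW,
        S.odd_fix_block hzo ⟨d, hd⟩ (fun w hw => S.tvGroup_smul_block hz ⟨d, hd⟩ hw) hu hu1 h e heW⟩
    have hne1 : ∀ {u : V}, u ≠ 1 → z • u ≠ 1 := fun hu h =>
      hu ((smul_left_cancel_iff z).mp (h.trans (smul_one z).symm))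
    have hde1 : d * e ≠ 1 := fun h => hde (by rw [eq_inv_of_mul_eq_one_left h, S.inv_eq])
    rcases (hmem _).mp (S.tvGroup_smul_block hz ⟨d, hd⟩ hdW) with h | h | h | h
    · exact absurd h (hne1 hd.1)
    · exact Or.inl (hfix hdW hd.1 h)
    · rcases (hmem _).mp (S.tvGroup_smul_block hz ⟨d, hd⟩ heW) with h' | h' | h' | h'
      · exact absurd h' (hne1 hs.1)
      · refine Or.inl (hfix (mul_mem hdW heW) hde1 ?_)
        rw [smul_mul', h, h', mul_comm]
      · exact absurd ((smul_left_cancel_iff z).mp (h.trans h'.symm)) hde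
      · exact Or.inr (Or.inl ⟨h, h'⟩)
    · rcases (hmem _).mp (S.tvGroup_smul_block hz ⟨d, hd⟩ heW) with h' | h' | h' | h'
      · exact absurd h' (hne1 hs.1)
      · exact Or.inr (Or.inr ⟨h, h'⟩)
      · exact Or.inl (hfix heW hs.1 h')
      · exact absurd ((smul_left_cancel_iff z).mp (h.trans h'.symm)) hde
  have hcanc : ∀ p q : V, p * (p * q) = q := fun p q => by rw [← mul_assoc, S.exp2, one_mul]
  intro w hw
  have hd' : (x * y) • d = (y * x) • d ∧ (x * y) • e = (y * x) • e := by
    rcases key x hx hxo with ⟨a, b⟩ | ⟨a, b⟩ | ⟨a, b⟩ <;>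
      rcases key y hy hyo with ⟨a', b'⟩ | ⟨a', b'⟩ | ⟨a', b'⟩ <;>
        simp [mul_smul, smul_mul', a, b, a', b', mul_comm, mul_left_comm, S.exp2, hcanc]
  rcases (hmem w).mp hw with h | h | h | h
  · rw [h, smul_one, smul_one]
  · rw [h, hd'.1]
  · rw [h, hd'.2]
  · rw [h, smul_mul', hd'.1, hd'.2, smul_mul']

/-- The orbit of a point of a block moved by an element of odd order of `X`. -/
theorem odd_orbit {x t : Y} (hx : x ∈ X) (ho : Odd (orderOf x)) (ht : IsTv V t) {w : V}
    (hw : w ∈ blockOf V t) (hmv : x • w ≠ w) :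
    x • x • x • w = w ∧ ∀ z ∈ blockOf V t, z = 1 ∨ z = w ∨ z = x • w ∨ z = x • x • w := by
  have hpres : ∀ u ∈ blockOf V t, x • u ∈ blockOf V t := fun u hu => S.tvGroup_smul_block hx ht hu
  have hw1 : w ≠ 1 := fun h => hmv (by rw [h, smul_one])
  have hcanc : ∀ p q : V, p * (p * q) = q := fun p q => by rw [← mul_assoc, S.exp2, one_mul]
  obtain ⟨d, hd⟩ := ht
  obtain ⟨s, e, -, -, -, -, -, -, -, hmem, -⟩ := S.block_data hd
  have four : ∀ {u v : V}, u ∈ blockOf V t → v ∈ blockOf V t → u ≠ 1 → v ≠ 1 → u ≠ v →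
      ∀ z ∈ blockOf V t, z = 1 ∨ z = u ∨ z = v ∨ z = u * v := by
    intro u v hu hv hu1 hv1 huv z hz
    rcases (hmem z).mp hz with rfl | rfl | rfl | rfl <;>
      rcases (hmem u).mp hu with rfl | rfl | rfl | rfl <;>
        rcases (hmem v).mp hv with rfl | rfl | rfl | rfl <;>
          first
          | exact absurd rfl hu1
          | exact absurd rfl hv1
          | exact absurd rfl huv
          | exact Or.inl rfl
          | exact Or.inr (Or.inl rfl)
          | exact Or.inr (Or.inr (Or.inl rfl))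
          | (refine Or.inr (Or.inr (Or.inr ?_)); simp [mul_comm, mul_left_comm, mul_assoc, S.exp2, hcanc])
  have h1 : x • w ∈ blockOf V t := hpres w hw
  have h2 : x • x • w ∈ blockOf V t := hpres _ h1
  have hne1 : ∀ {u : V}, u ≠ 1 → x • u ≠ 1 := fun hu h =>
    hu ((smul_left_cancel_iff x).mp (h.trans (smul_one x).symm))
  have n2 : x • x • w ≠ x • w := fun h => hmv ((smul_left_cancel_iff x).mp h)
  have n3 : x • x • w ≠ w := fun h => hmv (by
    obtain ⟨r, hr⟩ := exists_pow_eq_self_of_coprime (Nat.coprime_two_left.mpr ho)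
    have hpow : ∀ n : ℕ, (x ^ 2) ^ n • w = w := fun n => by
      induction n with
      | zero => rw [pow_zero, one_smul]
      | succ n ih => rw [pow_succ, mul_smul, pow_two, mul_smul, h, ← pow_two, ih]
    have := hpow r
    rwa [hr] at this)
  have hF := four hw h1 hw1 (hne1 hw1) (Ne.symm hmv)
  have h12 : x • x • w = w * x • w := by
    rcases hF _ h2 with h | h | h | h
    · exact absurd h (hne1 (hne1 hw1))
    · exact absurd h n3
    · exact absurd h n2
    · exact h
  refine ⟨?_, fun z hz => ?_⟩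
  · rw [h12, smul_mul', h12]
    rw [show x • w * (w * x • w) = w * (x • w * x • w) by ac_rfl, S.exp2, mul_one]
  · rcases hF z hz with h | h | h | h
    exacts [Or.inl h, Or.inr (Or.inl h), Or.inr (Or.inr (Or.inl h)),
      Or.inr (Or.inr (Or.inr (h.trans h12.symm)))]

/-- Elements of odd order of `X` have order dividing `3`. -/
theorem odd_cube {x : Y} (hx : x ∈ X) (ho : Odd (orderOf x)) : x ^ 3 = 1 := by
  refine S.eq_one_of_fix_blocks (pow_mem hx 3) fun t ht w hw => ?_
  rw [show x ^ 3 = x * (x * x) by rw [pow_succ', pow_two], mul_smul, mul_smul]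
  by_cases h : x • w = w
  · rw [h, h, h]
  · exact (S.odd_orbit hx ho ht hw h).1

/-- A transvection is determined by its block and center. -/
theorem tv_eq {t t' : Y} {d : V} (ht : IsCen t d) (ht' : IsCen t' d)
    (hb : blockOf V t' = blockOf V t) : t' = t := by
  refine S.ext_blocks (S.tv_mem ⟨_, ht'⟩) (S.tv_mem ⟨_, ht⟩) fun r hr x hx => ?_
  by_cases hr' : blockOf V r = blockOf V t
  · rw [hr'] at hx
    obtain ⟨s, e, hs, -, hde, hte, -, -, -, hmem, -⟩ := S.block_data ht
    have hte' : t' • e = e * d := by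
      refine S.cen_eq ht' fun h => ?_
      obtain ⟨s', e', hs', -, hde', hte', -, -, -, hmem', -⟩ := S.block_data ht'
      have he' : e' ∈ blockOf V t := hb ▸ (hmem' e').mpr (Or.inr (Or.inr (Or.inl rfl)))
      have : t' • e' = e' := by
        rcases (hmem e').mp he' with h' | h' | h' | h'
        · rw [h', smul_one]
        · rw [h', S.cen_fix ht']
        · rw [h', h]
        · rw [h', smul_mul', S.cen_fix ht', h]
      rw [this] at hte'
      exact ht.1 (mul_eq_left.mp hte'.symm)
    rcases (hmem x).mp hx with h' | h' | h' | h'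
    · rw [h', smul_one, smul_one]
    · rw [h', S.cen_fix ht, S.cen_fix ht']
    · rw [h', hte', hte]
    · rw [h', smul_mul', smul_mul', S.cen_fix ht, hte', S.cen_fix ht', hte]
  · have f1 : t' • x = x := by
      by_contra h
      exact hr' ((S.block_eq_of_moves ⟨_, ht'⟩ hr hx h).symm.trans hb)
    have f2 : t • x = x := by
      by_contra h
      exact hr' (S.block_eq_of_moves ⟨_, ht⟩ hr hx h).symm
    rw [f1, f2]

/-! ### Offenders -/

/-- Thompson's `A × B` lemma for operators. -/
theorem pxq {B : Subgroup Y} (hBc : ∀ a ∈ B, ∀ b ∈ B, a * b = b * a) (hB2 : ∀ a ∈ B, a * a = 1)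
    {w : Y} (ho : Odd (orderOf w)) (hwB : ∀ b ∈ B, w * b = b * w)
    (hfix : ∀ v ∈ fixOf V (B : Set Y), w • v = v) : w = 1 := by
  classical
  haveI := S.finiteY
  have key : ∀ s : Finset Y, (∀ b ∈ s, b ∈ B) → (∀ v ∈ fixOf V (s : Set Y), w • v = v) →
      ∀ v : V, w • v = v := by
    intro s
    induction s using Finset.induction with
    | empty => intro _ h v; exact h v fun a ha => by simp at ha
    | @insert b s hb ih =>
      intro hs h
      have hbB := hs b (Finset.mem_insert_self b s)
      refine ih (fun c hc => hs c (Finset.mem_insert_of_mem hc)) fun x hx => ?_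
      have hy : b • x * x ∈ fixOf V ((insert b s : Finset Y) : Set Y) := by
        intro c hc
        rw [Finset.coe_insert, Set.mem_insert_iff] at hc
        rcases hc with rfl | hc
        · rw [smul_mul', ← mul_smul, hB2 c hbB, one_smul, mul_comm]
        · rw [smul_mul', hx c hc, ← mul_smul, hBc c (hs c (Finset.mem_insert_of_mem hc)) b hbB,
            mul_smul, hx c hc]
      have hz : w • x * x ∈ fixOf V ((insert b s : Finset Y) : Set Y) := by
        intro c hc
        rw [Finset.coe_insert, Set.mem_insert_iff] at hc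
        rcases hc with rfl | hc
        · have h1 := h _ hy
          rw [smul_mul', ← mul_smul, hwB c hbB, mul_smul] at h1
          rw [smul_mul']
          calc c • w • x * c • x = (c • w • x * w • x) * w • x * c • x := by
                rw [S.mul_mul_cancel]
            _ = c • x * x * w • x * c • x := by rw [h1]
            _ = (c • x * c • x) * (w • x * x) := by ac_rfl
            _ = w • x * x := by rw [S.exp2, one_mul]
        · rw [smul_mul', hx c hc, ← mul_smul, ← hwB c (hs c (Finset.mem_insert_of_mem hc)),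
            mul_smul, hx c hc]
      have hwz := h _ hz
      have hpow : ∀ n : ℕ, w ^ n • x = x * (w • x * x) ^ n := fun n => by
        induction n with
        | zero => simp
        | succ n ihn =>
          rw [pow_succ', mul_smul, ihn, smul_mul', smul_pow', hwz, pow_succ, mul_comm _ (w • x * x),
            ← mul_assoc, ← mul_assoc, mul_comm x (w • x), S.mul_mul_cancel]
      have h1 := hpow (orderOf w)
      rw [pow_orderOf_eq_one, one_smul] at h1
      have h2 : (w • x * x) ^ orderOf w = 1 := mul_eq_left.mp h1.symm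
      obtain ⟨m, hm⟩ := ho
      rw [hm, pow_succ, pow_mul, pow_two, S.exp2, one_pow, one_mul] at h2
      exact (mul_eq_one_iff_eq_inv.mp h2).trans (S.inv_eq x)
  refine S.faithful w (key (Set.toFinite (B : Set Y)).toFinset (fun b hb => by simpa using hb) ?_)
  rw [Set.Finite.coe_toFinset]
  exact hfix

/-- A hyperplane of `A` centralizing an element of odd order inverted by a further element. -/
theorem exists_hyperplane {A : Subgroup Y} (hAc : ∀ a ∈ A, ∀ b ∈ A, a * b = b * a)
    (hA2 : ∀ a ∈ A, a * a = 1) (hA : A ≠ ⊥) :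
    ∃ B, B ≤ A ∧ ∃ a ∈ A, a ∉ B ∧ (∀ c ∈ A, c ∈ B ∨ a * c ∈ B) ∧
      ∃ w, Odd (orderOf w) ∧ w ≠ 1 ∧ (∀ b ∈ B, w * b = b * w) ∧ a * w * a⁻¹ = w⁻¹ := by
  haveI := S.finiteY
  haveI : Fact (Nat.Prime 2) := ⟨Nat.prime_two⟩
  obtain ⟨B, ⟨hBA, hBR⟩, hmax⟩ := (Set.toFinite {B : Subgroup Y | B ≤ A ∧
      ¬ (F ⊓ Subgroup.centralizer (B : Set Y)) ≤ Subgroup.centralizer (A : Set Y)}).exists_maximal
    ⟨⊥, bot_le, fun h => hA ((Subgroup.eq_bot_iff_forall _).mpr fun a ha => by
      have haF : a ∈ F := S.centralizer_fitting fun x hx => by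
        refine (Subgroup.mem_centralizer_iff.mp (h ⟨hx, ?_⟩) a ha).symm
        exact Subgroup.mem_centralizer_iff.mpr fun z hz => by
          rw [SetLike.mem_coe, Subgroup.mem_bot] at hz; simp [hz]
      exact S.eq_one_of_odd_pow (S.odd_fitting haF) (m := 1)
        (by rw [pow_one, pow_two]; exact hA2 a ha))⟩
  have hBne : B ≠ A := fun h => hBR (h ▸ inf_le_right)
  obtain ⟨a, ha, haB⟩ := SetLike.exists_of_lt (lt_of_le_of_ne hBA hBne)
  set Q₁ := F ⊓ Subgroup.centralizer (B : Set Y) with hQ₁
  have hAQ : ∀ x ∈ A, ∀ q ∈ Q₁, x * q * x⁻¹ ∈ Q₁ := by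
    intro x hx q hq
    refine ⟨(inferInstance : (F).Normal).conj_mem q hq.1 x,
      Subgroup.mem_centralizer_iff.mpr fun z hz => ?_⟩
    have h1 := Subgroup.mem_centralizer_iff.mp hq.2 z hz
    have h2 : Commute z x := hAc z (hBA hz) x hx
    exact ((h2.mul_right h1).mul_right h2.inv_right).eq
  have hplane : ∀ c ∈ A, c ∈ B ∨ a * c ∈ B := by
    intro c hc
    by_contra hcon
    rw [not_or] at hcon
    obtain ⟨hcB, hacB⟩ := hcon
    let D : Subgroup Y :=
      { carrier := {d | d = 1 ∨ d = a ∨ d = c ∨ d = a * c}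
        one_mem' := Or.inl rfl
        mul_mem' := by
          have e1 := hA2 a ha
          have e2 := hA2 c hc
          have e3 := hAc c hc a ha
          rintro x y (h1 | h1 | h1 | h1) (h2 | h2 | h2 | h2) <;>
            simp [h1, h2, ← mul_assoc, e1, e2, e3, mul_assoc a c, mul_assoc a a]
        inv_mem' := by
          rintro x (h1 | h1 | h1 | h1) <;>
            simp [h1, inv_eq_of_mul_eq_one_right (hA2 a ha), inv_eq_of_mul_eq_one_right (hA2 c hc),
              hAc c hc a ha] }
    have hDA : D ≤ A := by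
      rintro x (h | h | h | h) <;> rw [h]
      exacts [one_mem _, ha, hc, mul_mem ha hc]
    have hDB : ∀ d ∈ D, d ∈ B → d = 1 := by
      rintro d (h | h | h | h) hdB <;> rw [h] at hdB ⊢
      · exact absurd hdB haB
      · exact absurd hdB hcB
      · exact absurd hdB hacB
    have ha1 : a ≠ 1 := fun h => haB (h ▸ one_mem _)
    have hc1 : c ≠ 1 := fun h => hcB (h ▸ one_mem _)
    have hca : c ≠ a := fun h => hacB (by rw [h, hA2 a ha]; exact one_mem _)
    have hDc : IsMulCommutative D :=
      ⟨⟨fun x y => Subtype.ext (hAc x (hDA x.2) y (hDA y.2))⟩⟩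
    have hDcyc : ¬ IsCyclic D := by
      intro hcyc
      have huniq : ∀ x y : ↥D, x ≠ 1 → y ≠ 1 → x = y := by
        obtain ⟨g, hg⟩ := hcyc.exists_generator
        have hg2 : g ^ (2 : ℤ) = 1 := by
          rw [show (2 : ℤ) = ((2 : ℕ) : ℤ) from rfl, zpow_natCast, pow_two]
          exact Subtype.ext (hA2 _ (hDA g.2))
        have hall : ∀ x : ↥D, x ≠ 1 → x = g := fun x hx => by
          obtain ⟨i, rfl⟩ := hg x
          rcases Int.even_or_odd i with ⟨t, rfl⟩ | ⟨t, rfl⟩
          · exact absurd (show g ^ (t + t) = 1 by rw [← two_mul, zpow_mul, hg2, one_zpow]) hx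
          · show g ^ (2 * t + 1) = g
            rw [zpow_add, zpow_mul, hg2, one_zpow, one_mul, zpow_one]
        exact fun x y hx hy => (hall x hx).trans (hall y hy).symm
      exact hca (congrArg Subtype.val (huniq ⟨c, Or.inr (Or.inr (Or.inl rfl))⟩
        ⟨a, Or.inr (Or.inl rfl)⟩ (fun h => hc1 (congrArg Subtype.val h))
        (fun h => ha1 (congrArg Subtype.val h))))
    apply hBR
    have hcop : (Nat.card ↥D).Coprime (Nat.card ↥Q₁) := by
      obtain ⟨k, hk⟩ := IsPGroup.iff_card.mp
        (show IsPGroup 2 ↥D from fun x => ⟨1, Subtype.ext (by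
          rw [pow_one, SubgroupClass.coe_pow, pow_two]; exact hA2 _ (hDA x.2))⟩)
      rw [hk]
      have := Cores.pPrimeCore_coprime 2 Y
      have hle : Q₁ ≤ Cfsg.pPrimeCore 2 Y := by
        have h := Cores.fittingSubgroup_le_pCore_sup_pPrimeCore (G := Y) 2
        rw [S.core, bot_sup_eq] at h
        exact inf_le_left.trans h
      exact ((this.coprime_dvd_left (Subgroup.card_dvd_of_le hle)).symm).pow_left k
    rw [← Coprime.iSup_centralizer_eq (A := D) (K := Q₁) hDcyc (fun d hd => by
      rw [Subgroup.mem_normalizer_iff]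
      refine fun q => ⟨hAQ d (hDA hd) q, fun h => ?_⟩
      simpa [mul_assoc] using hAQ d⁻¹ (inv_mem (hDA hd)) _ h) hcop]
    refine iSup₂_le fun d hd => ?_
    have hdA : d ∈ A := hDA hd.1
    have hBd : B < B ⊔ Subgroup.zpowers d := lt_of_le_of_ne le_sup_left fun h =>
      hd.2 (hDB d hd.1 (h ▸ Subgroup.mem_sup_right (Subgroup.mem_zpowers d)))
    by_contra hnot
    refine hBd.not_ge (hmax ⟨sup_le hBA (Subgroup.zpowers_le.mpr hdA), fun h => hnot ?_⟩ hBd.le)
    refine le_trans (le_inf (inf_le_left.trans inf_le_left) ?_) h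
    refine Subgroup.le_centralizer_iff.mp (sup_le ?_ (Subgroup.zpowers_le.mpr ?_))
    · exact Subgroup.le_centralizer_iff.mp (inf_le_left.trans inf_le_right)
    · exact Subgroup.mem_centralizer_iff.mpr fun q hq =>
        Subgroup.mem_centralizer_singleton_iff.mp (Subgroup.mem_inf.mp hq).2
  refine ⟨B, hBA, a, ha, haB, hplane, ?_⟩
  obtain ⟨q, hq, hqa⟩ : ∃ q ∈ Q₁, a * q ≠ q * a := by
    by_contra h
    push Not at h
    refine hBR fun q hq => Subgroup.mem_centralizer_iff.mpr fun c hc => ?_
    have h1 := Subgroup.mem_centralizer_iff.mp hq.2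
    rcases hplane c hc with hc' | hc'
    · exact h1 c hc'
    · rw [show c = a * (a * c) by rw [← mul_assoc, hA2 a ha, one_mul]]
      exact ((show Commute a q from h q hq).mul_left (h1 _ hc')).eq
  have hainv : a⁻¹ = a := inv_eq_of_mul_eq_one_right (hA2 a ha)
  have hmem : q⁻¹ * (a * q * a⁻¹) ∈ Q₁ := mul_mem (inv_mem hq) (hAQ a ha q hq)
  refine ⟨_, S.odd_fitting hmem.1, fun h => hqa ?_,
    fun b hb => (Subgroup.mem_centralizer_iff.mp hmem.2 b hb).symm, ?_⟩
  · rw [inv_mul_eq_one, eq_mul_inv_iff_mul_eq] at h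
    exact h.symm
  · calc a * (q⁻¹ * (a * q * a⁻¹)) * a⁻¹ = (a * q⁻¹ * a⁻¹) * (a * a) * q * (a * a)⁻¹ := by group
      _ = (q⁻¹ * (a * q * a⁻¹))⁻¹ := by rw [hA2 a ha]; group

/-- Distinct commuting transvections lie in distinct blocks, each fixing the block of the other. -/
theorem commuting_tv_fix {t t' : Y} {d : V} (ht : IsCen t d) (ht' : IsTv V t')
    (hc : t * t' = t' * t) (hne : t' ≠ t) : ∀ w ∈ blockOf V t, t' • w = w := by
  obtain ⟨d', hd'⟩ := ht'
  by_contra hcon
  push Not at hcon
  obtain ⟨w, hw, hmv⟩ := hcon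
  have hb := S.block_eq_of_moves ⟨d', hd'⟩ ⟨d, ht⟩ hw hmv
  obtain ⟨s, e, hs, -, hde, hte, -, -, -, hmem, -⟩ := S.block_data ht
  have hd'W : d' ∈ blockOf V t := hb ▸ S.cen_mem_block hd'
  have hfd : t' • d = d := by
    have h1 := S.cen_conj ht t'
    rw [show t' * t * t'⁻¹ = t by rw [← hc]; group] at h1
    exact (S.cen_unique ht h1).symm
  have hfd' : t • d' = d' := by
    have h1 := S.cen_conj hd' t
    rw [show t * t' * t⁻¹ = t' by rw [hc]; group] at h1
    exact (S.cen_unique hd' h1).symm
  have hdd : d' = d := by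
    rcases (hmem d').mp hd'W with h | h | h | h
    · exact absurd h hd'.1
    · exact h
    · rw [h, hte] at hfd'
      exact absurd (mul_eq_left.mp hfd') ht.1
    · rw [h, smul_mul', S.cen_fix ht, hte, ← mul_assoc] at hfd'
      exact absurd (mul_eq_left.mp hfd') ht.1
  subst hdd
  have hte' : t' • e = e * d' := by
    refine S.cen_eq hd' fun h => hmv ?_
    rcases (hmem w).mp hw with h' | h' | h' | h'
    · rw [h', smul_one]
    · rw [h', hfd]
    · rw [h', h]
    · rw [h', smul_mul', hfd, h]
  refine hne (S.ext_blocks (S.tv_mem ⟨_, hd'⟩) (S.tv_mem ⟨_, ht⟩) fun r hr x hx => ?_)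
  by_cases hr' : blockOf V r = blockOf V t
  · rw [hr'] at hx
    rcases (hmem x).mp hx with h' | h' | h' | h'
    · rw [h', smul_one, smul_one]
    · rw [h', hfd, S.cen_fix ht]
    · rw [h', hte', hte]
    · rw [h', smul_mul', smul_mul', hfd, hte', S.cen_fix ht, hte]
  · have f1 : t' • x = x := by
      by_contra h
      exact hr' ((S.block_eq_of_moves ⟨_, hd'⟩ hr hx h).symm.trans hb)
    have f2 : t • x = x := by
      by_contra h
      exact hr' (S.block_eq_of_moves ⟨_, ht⟩ hr hx h).symm
    rw [f1, f2]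

/-- An elementary abelian `2`-group moves at least its order; in case of equality it is generated by
transvections. -/
theorem offender : ∀ (n : ℕ) (A : Subgroup Y), Nat.card ↥A = n →
    (∀ a ∈ A, ∀ b ∈ A, a * b = b * a) → (∀ a ∈ A, a * a = 1) →
    Nat.card ↥A ≤ (fixOf V (A : Set Y)).index ∧
      ((fixOf V (A : Set Y)).index ≤ Nat.card ↥A →
        A ≤ Subgroup.closure {t : Y | t ∈ A ∧ IsTv V t}) := by
  classical
  haveI := S.finiteY
  haveI := S.finiteV
  intro n
  induction n using Nat.strong_induction_on with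
  | _ n ih =>
  intro A hn hAc hA2
  by_cases hA : A = ⊥
  · subst hA
    exact ⟨by rw [Subgroup.card_bot]; exact Nat.pos_of_ne_zero Subgroup.index_ne_zero_of_finite,
      fun _ => bot_le⟩
  obtain ⟨B, hBA, a, ha, haB, hplane, w, hwo, hw1, hwB, hwa⟩ := S.exists_hyperplane hAc hA2 hA
  have hlt : Nat.card ↥B < n := by
    rw [← hn]
    exact lt_of_not_ge fun h => haB ((Subgroup.eq_of_le_of_card_ge hBA h).symm ▸ ha)
  obtain ⟨hIH, hIHeq⟩ := ih _ hlt B rfl (fun x hx y hy => hAc x (hBA hx) y (hBA hy))
    (fun x hx => hA2 x (hBA hx))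
  set U := fixOf V (B : Set Y) with hU
  set UA := fixOf V (A : Set Y) with hUA
  have hUAU : UA ≤ U := fun v hv b hb => hv b (hBA hb)
  have hmemUA : ∀ v ∈ U, a • v = v → v ∈ UA := by
    intro v hv hav c hc
    rcases hplane c hc with h | h
    · exact hv c h
    · rw [show c = a * (a * c) by rw [← mul_assoc, hA2 a ha, one_mul], mul_smul, hv _ h, hav]
  -- `a` moves `U`
  obtain ⟨u, huU, hau⟩ : ∃ u ∈ U, a • u ≠ u := by
    by_contra hcon
    push Not at hcon
    refine hw1 (S.pxq (fun x hx y hy => hAc x (hBA hx) y (hBA hy)) (fun x hx => hA2 x (hBA hx))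
      hwo hwB fun v hv => ?_)
    have hwU : ∀ {g : Y}, (∀ b ∈ B, g * b = b * g) → ∀ v ∈ U, g • v ∈ U := fun hg v hv b hb => by
      rw [← mul_smul, ← hg b hb, mul_smul, hv b hb]
    have hwinv : ∀ b ∈ B, w⁻¹ * b = b * w⁻¹ := fun b hb =>
      ((show Commute w b from hwB b hb).inv_left).eq
    have key : ∀ x ∈ U, (w * w) • x = x := by
      intro x hx
      have h1 := hcon _ (hwU hwinv x hx)
      have e : a * w⁻¹ = w * a := by
        calc a * w⁻¹ = a * (a * w * a⁻¹) := by rw [hwa]
          _ = (a * a) * w * a⁻¹ := by group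
          _ = w * a := by rw [hA2 a ha, one_mul, inv_eq_of_mul_eq_one_right (hA2 a ha)]
      rw [← mul_smul, e, mul_smul, hcon x hx] at h1
      rw [mul_smul, h1, smul_inv_smul]
    obtain ⟨r, hr⟩ := exists_pow_eq_self_of_coprime (Nat.coprime_two_left.mpr hwo)
    have hpow : ∀ m : ℕ, (w ^ 2) ^ m • v = v := fun m => by
      induction m with
      | zero => rw [pow_zero, one_smul]
      | succ m ihm => rw [pow_succ, mul_smul, pow_two, key v hv, ← pow_two, ihm]
    have := hpow r
    rwa [hr] at this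
  have hrel : 2 ≤ UA.relIndex U := by
    rcases h : UA.relIndex U with _ | _ | k
    · exact absurd h Subgroup.FiniteIndex.index_ne_zero
    · exact absurd (Subgroup.relIndex_eq_one.mp h huU a ha) hau
    · omega
  have hcardA : Nat.card ↥A ≤ 2 * Nat.card ↥B := by
    have hsub : (A : Set Y) ⊆ (B : Set Y) ∪ (fun c => a * c) '' (B : Set Y) := by
      intro c hc
      rcases hplane c hc with h | h
      · exact Or.inl h
      · exact Or.inr ⟨_, h, by simp only [← mul_assoc, hA2 a ha, one_mul]⟩
    have h1 := (Set.ncard_le_ncard hsub).trans (Set.ncard_union_le _ _)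
    have h2 := Set.ncard_image_le (f := fun c => a * c) (s := (B : Set Y)) (Set.toFinite _)
    rw [← Nat.card_coe_set_eq, ← Nat.card_coe_set_eq (s := (B : Set Y))] at h1
    rw [← Nat.card_coe_set_eq (s := (B : Set Y))] at h2
    have h3 : Nat.card ↥A ≤ Nat.card ↥B + ((fun c => a * c) '' (B : Set Y)).ncard := h1
    have h4 : ((fun c => a * c) '' (B : Set Y)).ncard ≤ Nat.card ↥B := h2
    omega
  have hmul := Subgroup.relIndex_mul_index hUAU
  refine ⟨?_, fun hle => ?_⟩
  · rw [← hmul]
    exact hcardA.trans (Nat.mul_le_mul hrel hIH)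
  rw [← hmul] at hle
  have hU2 : UA.relIndex U = 2 := by
    refine le_antisymm ?_ hrel
    have := (Nat.mul_le_mul_left (UA.relIndex U) hIH).trans (hle.trans hcardA)
    exact Nat.le_of_mul_le_mul_right this Nat.card_pos
  have hUi : U.index ≤ Nat.card ↥B := by
    have := hle.trans hcardA
    rw [hU2] at this
    omega
  have hBgen := hIHeq hUi
  set M : Finset Y := (Set.toFinite {t : Y | t ∈ B ∧ IsTv V t}).toFinset with hM
  have hMmem : ∀ {t}, t ∈ M ↔ t ∈ B ∧ IsTv V t := by simp [hM]
  have hother : ∀ {t t' : Y}, t ∈ M → t' ∈ M → t' ≠ t → ∀ x ∈ blockOf V t, t' • x = x := by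
    intro t t' ht ht' hne
    obtain ⟨htB, d, hd⟩ := hMmem.mp ht
    exact S.commuting_tv_fix hd (hMmem.mp ht').2
      (hAc t (hBA htB) t' (hBA (hMmem.mp ht').1)) hne
  have haW : ∀ t ∈ M, ∀ d, IsCen (V := V) t d → a • d = d ∧
      ∀ x ∈ blockOf V t, a • x ∈ blockOf V t := by
    intro t ht d hd
    have e : a * t * a⁻¹ = t := by rw [hAc a ha t (hBA (hMmem.mp ht).1)]; group
    constructor
    · have h1 := S.cen_conj hd a
      rw [e] at h1
      exact (S.cen_unique hd h1).symm
    · intro x hx
      have := S.smul_block_mem a t hx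
      rwa [e] at this
  -- an element of `B` agreeing with `a` on the blocks of `B`
  have hb : ∀ s : Finset Y, s ⊆ M → ∃ b ∈ B, ∀ t ∈ M, ∀ x ∈ blockOf V t,
      b • x = if t ∈ s then a • x else x := by
    intro s
    induction s using Finset.induction with
    | empty => exact fun _ => ⟨1, one_mem _, fun t _ x _ => by simp⟩
    | @insert t₀ s ht₀ ihs =>
      intro hsM
      obtain ⟨ht₀M, hsM'⟩ := Finset.insert_subset_iff.mp hsM
      obtain ⟨b, hbB, hb⟩ := ihs hsM'
      obtain ⟨ht₀B, d, hd⟩ := hMmem.mp ht₀M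
      obtain ⟨se, e, he, -, hde, hte, -, -, -, hmem, -⟩ := S.block_data hd
      obtain ⟨had, haW'⟩ := haW t₀ ht₀M d hd
      have heW : e ∈ blockOf V t₀ := (hmem e).mpr (Or.inr (Or.inr (Or.inl rfl)))
      have hbfix : ∀ x ∈ blockOf V t₀, b • x = x := fun x hx => by
        rw [hb t₀ ht₀M x hx, if_neg ht₀]
      by_cases hae : a • e = e
      · refine ⟨b, hbB, fun t ht x hx => ?_⟩
        by_cases h0 : t = t₀
        · subst h0
          rw [if_pos (Finset.mem_insert_self _ _), hbfix x hx]
          rcases (hmem x).mp hx with h | h | h | h <;> simp [h, smul_mul', had, hae]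
        · rw [hb t ht x hx]
          simp [h0]
      · have hae' : a • e = e * d := by
          rcases (hmem _).mp (haW' e heW) with h | h | h | h
          · exact absurd ((smul_left_cancel_iff a).mp (h.trans (smul_one a).symm)) he.1
          · exact absurd ((smul_left_cancel_iff a).mp (h.trans had.symm)) (Ne.symm hde)
          · exact absurd h hae
          · rw [h, mul_comm]
        refine ⟨b * t₀, mul_mem hbB ht₀B, fun t ht x hx => ?_⟩
        by_cases h0 : t = t₀
        · subst h0
          rw [if_pos (Finset.mem_insert_self _ _), mul_smul,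
            hbfix _ (S.tvGroup_smul_block (S.tv_mem ⟨d, hd⟩) ⟨d, hd⟩ hx)]
          rcases (hmem x).mp hx with h | h | h | h <;>
            simp [h, smul_mul', had, hae', hte, S.cen_fix hd]
        · rw [mul_smul, hother ht ht₀M (Ne.symm h0) x hx, hb t ht x hx]
          simp [h0]
  obtain ⟨b, hbB, hb⟩ := hb M le_rfl
  set a' := a * b with ha'
  have ha'fix : ∀ t ∈ M, ∀ x ∈ blockOf V t, a' • x = x := fun t ht x hx => by
    rw [ha', mul_smul, hb t ht x hx, if_pos ht, ← mul_smul, hA2 a ha, one_smul]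
  have ha'U : ∀ x ∈ U, a' • x = a • x := fun x hx => by rw [ha', mul_smul, hx b hbB]
  -- `V` is generated by `U` and the blocks of `B`
  have hdec : ∀ (v : V) (s : Finset Y), s ⊆ M → ∃ σ : V, a' • σ = σ ∧
      ∀ t ∈ s, t • (v * σ) = v * σ := by
    intro v s
    induction s using Finset.induction with
    | empty => exact fun _ => ⟨1, smul_one _, fun t ht => by simp at ht⟩
    | @insert t₀ s ht₀ ihs =>
      intro hsM
      obtain ⟨ht₀M, hsM'⟩ := Finset.insert_subset_iff.mp hsM
      obtain ⟨σ, hσ, hfix⟩ := ihs hsM'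
      obtain ⟨-, d, hd⟩ := hMmem.mp ht₀M
      obtain ⟨-, e, -, -, -, hte, -, -, -, hmem, -⟩ := S.block_data hd
      have heW : e ∈ blockOf V t₀ := (hmem e).mpr (Or.inr (Or.inr (Or.inl rfl)))
      rcases hd.2.1 (v * σ) with h | h
      · refine ⟨σ, hσ, fun t ht => ?_⟩
        rcases Finset.mem_insert.mp ht with rfl | ht
        exacts [h, hfix t ht]
      · refine ⟨σ * e, by rw [smul_mul', hσ, ha'fix t₀ ht₀M e heW], fun t ht => ?_⟩
        rw [← mul_assoc]
        rcases Finset.mem_insert.mp ht with rfl | ht'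
        · rw [smul_mul', h, hte, show v * σ * d * (e * d) = v * σ * e * d * d by ac_rfl,
            S.mul_mul_cancel]
        · rw [smul_mul', hfix t ht', hother ht₀M (hsM' ht') (fun h0 => ht₀ (h0 ▸ ht')) e heW]
  -- `a'` is a transvection
  have htv : IsTv V a' := by
    refine ⟨a • u * u, fun h => hau ?_, fun v => ?_, u, ?_⟩
    · exact (mul_eq_one_iff_eq_inv.mp h).trans (S.inv_eq u)
    · obtain ⟨σ, hσ, hfix⟩ := hdec v M le_rfl
      have hxU : v * σ ∈ U := by
        have key : ∀ c ∈ Subgroup.closure {t : Y | t ∈ B ∧ IsTv V t}, c • (v * σ) = v * σ := by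
          intro c hc
          induction hc using Subgroup.closure_induction with
          | mem t ht => exact hfix t (hMmem.mpr ht)
          | one => exact one_smul _ _
          | mul p q _ _ hp hq => rw [mul_smul, hq, hp]
          | inv p _ hp => exact inv_smul_eq_iff.mpr hp.symm
        exact fun c hc => key c (hBgen hc)
      have hv : v = v * σ * σ := (S.mul_mul_cancel v σ).symm
      have hax : a' • (v * σ) = v * σ ∨ a' • (v * σ) = v * σ * (a • u * u) := by
        rw [ha'U _ hxU]
        by_cases hx : a • (v * σ) = v * σ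
        · exact Or.inl hx
        · right
          have hprod : v * σ * u ∈ UA := by
            have h2 : (UA.subgroupOf U).index = 2 := hU2
            have := (Subgroup.mul_mem_iff_of_index_two h2
              (a := (⟨v * σ, hxU⟩ : ↥U)) (b := ⟨u, huU⟩)).mpr
              (iff_of_false (fun hh => hx (hh a ha)) (fun hh => hau (hh a ha)))
            exact this
          have h3 := hprod a ha
          rw [smul_mul'] at h3
          calc a • (v * σ) = (a • (v * σ) * a • u) * a • u := (S.mul_mul_cancel _ _).symm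
            _ = v * σ * (a • u * u) := by rw [h3]; ac_rfl
      rcases hax with h | h
      · left
        rw [hv, smul_mul', h, hσ]
      · right
        rw [hv, smul_mul', h, hσ]
        ac_rfl
    · rw [ha'U u huU, mul_comm (a • u) u, ← mul_assoc, S.exp2, one_mul]
  have ha'A : a' ∈ A := mul_mem ha (hBA hbB)
  have hBle : B ≤ Subgroup.closure {t : Y | t ∈ A ∧ IsTv V t} :=
    hBgen.trans (Subgroup.closure_mono fun t ht => ⟨hBA ht.1, ht.2⟩)
  have haC : a ∈ Subgroup.closure {t : Y | t ∈ A ∧ IsTv V t} := by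
    rw [show a = a' * b⁻¹ by rw [ha']; group]
    exact mul_mem (Subgroup.subset_closure ⟨ha'A, htv⟩) (inv_mem (hBle hbB))
  intro c hc
  rcases hplane c hc with h | h
  · exact hBle h
  · rw [show c = a * (a * c) by rw [← mul_assoc, hA2 a ha, one_mul]]
    exact mul_mem haC (hBle h)

end Setting

end Cfsg.Agent.Lib.LocalEven2.Tv
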