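import Cfsg.Agent.Lib.LocalEven2.JComp
import Cfsg.Agent.Lib.LocalEven2.TvGroup
import Cfsg.Agent.Lib.LocalEven2.FourBound
import Cfsg.Agent.Lib.Cores.Basic
import Cfsg.Prelude.Def_CaseTheorems

/-!
The structure of a member `L` of the family of overgroups of `T`: the blocks of `L` on
`V = ⟨Ω₁(Z(T))^L⟩` and the `J(T)`-components they define.
-/

set_option autoImplicit false
set_option linter.unusedSectionVars false
set_option linter.style.haveILetI false

namespace Cfsg.Agent.Lib.LocalEven2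

open scoped Pointwise commutatorElement

variable {G : Type*} [Group G] [Finite G]

/-! ### Generalities -/

theorem eq_of_sylowTwo {T L R : Subgroup G} (hT : Cfsg.IsSylowTwoIn T L) (hTR : T ≤ R) (hRL : R ≤ L)
    (hR : IsPGroup 2 ↥R) : R = T := by
  haveI : Fact (Nat.Prime 2) := ⟨Nat.prime_two⟩
  refine le_antisymm (Subgroup.relIndex_eq_one.mp ?_) hTR
  obtain ⟨m, hm⟩ := IsPGroup.iff_card.mp hR
  obtain ⟨j, -, hj⟩ := (Nat.dvd_prime_pow Nat.prime_two).mp (hm ▸ T.relIndex_dvd_card R)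
  rcases j with _ | j
  · rw [hj, pow_zero]
  · exfalso
    have h1 : T.relIndex R ∣ T.relIndex L := Dvd.intro _ (Subgroup.relIndex_mul_relIndex T R L hTR hRL)
    have h2 := hT.2.2.of_dvd_nat h1
    rw [hj, pow_succ] at h2
    exact absurd h2 (by simp [parity_simps])

theorem isSylowOf_of_sylowTwo {T L : Subgroup G} (hT : Cfsg.IsSylowTwoIn T L) :
    LocalEven.IsSylowOf 2 T L :=
  ⟨hT.1, hT.2.1, fun _ hQ hQp hTQ => eq_of_sylowTwo hT hTQ hQ hQp⟩

theorem sylowTwo_of_isSylowOf {S L : Subgroup G} (hS : LocalEven.IsSylowOf 2 S L) :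
    Cfsg.IsSylowTwoIn S L := by
  haveI : Fact (Nat.Prime 2) := ⟨Nat.prime_two⟩
  refine ⟨hS.le, hS.isPGroup, ?_⟩
  obtain ⟨R, hR⟩ := hS.exists_sylow
  rw [← hR, Subgroup.relIndex, Subgroup.subgroupOf,
    Subgroup.comap_map_eq_self_of_injective (Subgroup.subtype_injective _)]
  exact Nat.odd_iff.mpr (Nat.two_dvd_ne_zero.mp R.not_dvd_index)

theorem two_elem_mem {T L : Subgroup G} (hT : Cfsg.IsSylowTwoIn T L) {x : G} (hx : x ∈ L)
    (hn : x ∈ Subgroup.normalizer (T : Set G)) (h2 : ∃ m : ℕ, x ^ 2 ^ m = 1) : x ∈ T := by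
  have hp : IsPGroup 2 ↥(Subgroup.zpowers x) := by
    obtain ⟨m, hm⟩ := h2
    rintro ⟨y, i, rfl⟩
    refine ⟨m, Subtype.ext ?_⟩
    show (x ^ i) ^ 2 ^ m = 1
    rw [← zpow_natCast (x ^ i), ← zpow_mul, mul_comm, zpow_mul, zpow_natCast, hm, one_zpow]
  have := eq_of_sylowTwo hT (le_sup_left : T ≤ T ⊔ Subgroup.zpowers x)
    (sup_le hT.1 (Subgroup.zpowers_le.mpr hx))
    (hT.2.1.to_sup_of_normal_left' hp (Subgroup.zpowers_le.mpr hn))
  exact this ▸ Subgroup.mem_sup_right (Subgroup.mem_zpowers x)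

/-! ### The setting -/

/-- The setting of a member `L` of the family attached to `T`. -/
structure JCtx (T L : Subgroup G) : Prop where
  syl : Cfsg.IsSylowTwoIn T L
  charp : Subgroup.centralizer (Cfsg.pCoreOf 2 L : Set G) ≤ Cfsg.pCoreOf 2 L
  solv : Group.IsSolvable ↥L
  zc : ∀ g ∈ L, g ∈ Subgroup.centralizer (Cfsg.omegaCenterOf T : Set G) →
    g ∈ Subgroup.normalizer (T : Set G)

theorem jctx_mk (hN : ∀ N : Subgroup G, Cfsg.IsTwoLocal N → Group.IsSolvable ↥N)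
    (hZ : ∀ S : Sylow 2 G, Subgroup.centralizer (Cfsg.omegaCenterOf (S : Subgroup G) : Set G) ≤
      Subgroup.normalizer ((S : Subgroup G) : Set G))
    {T L : Subgroup G} (hT1 : T ≠ ⊥) (hsyl : Cfsg.IsSylowTwoIn T L)
    (hC : Subgroup.centralizer (Cfsg.pCoreOf 2 L : Set G) ≤ Cfsg.pCoreOf 2 L) : JCtx T L := by
  haveI : Fact (Nat.Prime 2) := ⟨Nat.prime_two⟩
  have hOT : Cfsg.pCoreOf 2 L ≤ T := (isSylowOf_of_sylowTwo hsyl).pCoreOf_le
  refine ⟨hsyl, hC, ?_, ?_⟩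
  · have hO1 : Cfsg.pCoreOf 2 L ≠ ⊥ := by
      intro h
      rw [h] at hC
      refine hT1 (eq_bot_iff.mpr ?_)
      intro x _
      refine hC (Subgroup.mem_centralizer_iff.mpr fun y hy => ?_)
      rw [SetLike.mem_coe, Subgroup.mem_bot] at hy
      simp [hy]
    haveI := hN _ ⟨_, pCoreOf_isPGroup L, hO1, rfl⟩
    exact Group.isSolvable_of_isSolvable_injective
      (Subgroup.inclusion_injective (LocalEven.le_normalizer_pCoreOf (p := 2) L))
  · intro g hg hgc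
    obtain ⟨S, hS⟩ := hsyl.2.1.exists_le_sylow
    have hST : (S : Subgroup G) ⊓ L = T :=
      eq_of_sylowTwo hsyl (le_inf hS hsyl.1) inf_le_right S.2.to_inf_left
    have hsub : Cfsg.omegaCenterOf (S : Subgroup G) ≤ Cfsg.omegaCenterOf T := by
      intro z hz
      obtain ⟨hz1, hz2, hz3⟩ := mem_omegaCenterOf_iff.mp hz
      refine mem_omegaCenterOf_iff.mpr ⟨hOT (hC ?_), fun y hy => hz2 y (hS hy), hz3⟩
      exact Subgroup.mem_centralizer_iff.mpr fun y hy => hz2 y (hS (hOT hy))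
    have hgn := hZ S (Subgroup.centralizer_le hsub hgc)
    rw [← hST]
    exact mem_normalizer_of_map_le fun x hx =>
      ⟨conj_mem_of_normalizer hgn hx.1, L.mul_mem (L.mul_mem hg hx.2) (inv_mem hg)⟩

/-- The generating set of `V`. -/
def vGenSet (T L : Subgroup G) : Set G :=
  {x | ∃ l ∈ L, ∃ z ∈ Cfsg.omegaCenterOf T, x = l * z * l⁻¹}

namespace JCtx

variable {T L : Subgroup G} (c : JCtx T L)

/-- `V = ⟨Ω₁(Z(T))^L⟩`. -/
def V (c : JCtx T L) : Subgroup G :=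
  (fun _ => Subgroup.closure (vGenSet T L)) c

include c

local notation "O" => Cfsg.pCoreOf 2 L

theorem o_le_t : O ≤ T := (isSylowOf_of_sylowTwo c.syl).pCoreOf_le

theorem o_conj {l x : G} (hl : l ∈ L) (hx : x ∈ O) : l * x * l⁻¹ ∈ O :=
  conj_mem_of_normalizer (LocalEven.le_normalizer_pCoreOf (p := 2) L hl) hx

theorem v_le_zo : c.V ≤ Cfsg.omegaCenterOf O := by
  refine (Subgroup.closure_le _).mpr ?_
  rintro _ ⟨l, hl, z, hz, rfl⟩
  obtain ⟨hz1, hz2, hz3⟩ := mem_omegaCenterOf_iff.mp hz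
  refine conj_mem_of_normalizer
    (normalizer_le_normalizer_omegaCenterOf _ (LocalEven.le_normalizer_pCoreOf (p := 2) L hl)) ?_
  refine mem_omegaCenterOf_iff.mpr
    ⟨c.charp (Subgroup.mem_centralizer_iff.mpr fun y hy => hz2 y (c.o_le_t hy)),
      fun y hy => hz2 y (c.o_le_t hy), hz3⟩

theorem v_le_o : c.V ≤ O := c.v_le_zo.trans (omegaCenterOf_le _)
theorem v_le_t : c.V ≤ T := c.v_le_o.trans c.o_le_t

theorem v_comm {x y : G} (hx : x ∈ c.V) (hy : y ∈ c.V) : x * y = y * x :=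
  (mem_omegaCenterOf_iff.mp (c.v_le_zo hy)).2.1 x (c.v_le_o hx)

theorem v_sq {x : G} (hx : x ∈ c.V) : x * x = 1 := (mem_omegaCenterOf_iff.mp (c.v_le_zo hx)).2.2

theorem v_conj {l x : G} (hl : l ∈ L) (hx : x ∈ c.V) : l * x * l⁻¹ ∈ c.V := by
  have hle : c.V ≤ (c.V).comap (MulAut.conj l).toMonoidHom := by
    refine (Subgroup.closure_le _).mpr ?_
    rintro _ ⟨m, hm, z, hz, rfl⟩
    refine Subgroup.subset_closure ⟨l * m, mul_mem hl hm, z, hz, ?_⟩
    simp only [MulEquiv.toMonoidHom_eq_coe, MonoidHom.coe_coe, MulAut.conj_apply]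
    group
  exact hle hx

theorem o_fix_v {x v : G} (hx : x ∈ O) (hv : v ∈ c.V) : x * v * x⁻¹ = v := by
  rw [(mem_omegaCenterOf_iff.mp (c.v_le_zo hv)).2.1 x hx]; group

end JCtx

instance instCommGroupV {T L : Subgroup G} (c : JCtx T L) : CommGroup ↥(c.V) :=
  { (inferInstance : Group ↥(c.V)) with mul_comm := fun x y => Subtype.ext (c.v_comm x.2 y.2) }

namespace JCtx

variable {T L : Subgroup G} (c : JCtx T L)

/-- The action of `L` on `V`. -/
def act (c : JCtx T L) : ↥L →* MulAut ↥(c.V) where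
  toFun l :=
    { toFun := fun v => ⟨l * v * (l : G)⁻¹, c.v_conj l.2 v.2⟩
      invFun := fun v => ⟨(l : G)⁻¹ * v * l, by
        simpa using c.v_conj (inv_mem l.2) v.2⟩
      left_inv := fun v => Subtype.ext (show (l : G)⁻¹ * (l * v * (l : G)⁻¹) * l = v by group)
      right_inv := fun v => Subtype.ext (show l * ((l : G)⁻¹ * v * l) * (l : G)⁻¹ = v by group)
      map_mul' := fun v w => Subtype.ext
        (show l * ((v : G) * w) * (l : G)⁻¹ = l * v * (l : G)⁻¹ * (l * w * (l : G)⁻¹) by group) }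
  map_one' := MulEquiv.ext fun v => Subtype.ext
    (show ((1 : ↥L) : G) * v * ((1 : ↥L) : G)⁻¹ = v by simp)
  map_mul' l m := MulEquiv.ext fun v => Subtype.ext
    (show ((l * m : ↥L) : G) * v * ((l * m : ↥L) : G)⁻¹ = l * (m * v * (m : G)⁻¹) * (l : G)⁻¹ by
      rw [Subgroup.coe_mul]; group)

/-- The action, onto its image. -/
def psi (c : JCtx T L) : ↥L →* ↥c.act.range := c.act.rangeRestrict

theorem psi_smul (l : ↥L) (v : ↥(c.V)) : ((c.psi l • v : ↥(c.V)) : G) = l * v * (l : G)⁻¹ := rfl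

theorem psi_surj : Function.Surjective c.psi := c.act.rangeRestrict_surjective

include c

local notation "O" => Cfsg.pCoreOf 2 L

theorem psi_eq_iff {l m : ↥L} :
    c.psi l = c.psi m ↔ ∀ v ∈ c.V, (l : G) * v * (l : G)⁻¹ = m * v * (m : G)⁻¹ := by
  constructor
  · intro h v hv
    rw [← c.psi_smul l ⟨v, hv⟩, ← c.psi_smul m ⟨v, hv⟩, h]
  · intro h
    exact Subtype.ext (MulEquiv.ext fun v => Subtype.ext (h v v.2))

theorem psi_eq_one_iff {l : ↥L} : c.psi l = 1 ↔ (l : G) ∈ Subgroup.centralizer (c.V : Set G) := by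
  rw [← map_one c.psi, c.psi_eq_iff, Subgroup.mem_centralizer_iff]
  constructor
  · intro h v hv
    have := h v hv
    simp at this
    calc v * l = (l * v * (l : G)⁻¹) * l := by rw [this]
      _ = l * v := by group
  · intro h v hv
    rw [← h v hv]; simp

theorem psi_o {l : ↥L} (h : (l : G) ∈ O) : c.psi l = 1 :=
  c.psi_eq_one_iff.mpr (Subgroup.mem_centralizer_iff.mpr fun v hv =>
    ((mem_omegaCenterOf_iff.mp (c.v_le_zo hv)).2.1 _ h).symm)

/-- Elements of the kernel normalize `T`. -/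
theorem ker_normalizes {l : ↥L} (h : c.psi l = 1) : (l : G) ∈ Subgroup.normalizer (T : Set G) := by
  refine c.zc l l.2 (Subgroup.mem_centralizer_iff.mpr fun z hz => ?_)
  refine Subgroup.mem_centralizer_iff.mp (c.psi_eq_one_iff.mp h) z ?_
  exact Subgroup.subset_closure ⟨1, one_mem L, z, hz, by group⟩

/-- A `2`-element of the kernel lies in `O₂(L)`. -/
theorem ker_two {l : ↥L} (h : c.psi l = 1) (h2 : ∃ m : ℕ, l ^ 2 ^ m = 1) : (l : G) ∈ O := by
  let R : Subgroup G := T ⊓ (c.psi.ker.map L.subtype)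
  have hR : R ≤ O := by
    refine le_pCoreOf (inf_le_left.trans c.syl.1) c.syl.2.1.to_inf_left fun g hg x hx => ?_
    obtain ⟨hxT, y, hy, rfl⟩ := hx
    have hy' : (⟨g, hg⟩ : ↥L) * y * (⟨g, hg⟩ : ↥L)⁻¹ ∈ c.psi.ker :=
      (MonoidHom.normal_ker _).conj_mem y hy _
    refine ⟨two_elem_mem c.syl ?_ (c.ker_normalizes hy') ?_, _, hy', rfl⟩
    · exact mul_mem (mul_mem hg y.2) (inv_mem hg)
    · obtain ⟨m, hm⟩ := c.syl.2.1 ⟨_, hxT⟩
      refine ⟨m, ?_⟩
      have hm' : ((L.subtype y)) ^ 2 ^ m = 1 := congrArg Subtype.val hm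
      rw [conj_pow, hm']; group
  obtain ⟨m, hm⟩ := h2
  exact hR ⟨two_elem_mem c.syl l.2 (c.ker_normalizes h) ⟨m, by
    rw [← Subgroup.coe_pow, hm, Subgroup.coe_one]⟩, l, h, rfl⟩

theorem two_elem_conj_t {l : ↥L} (h2 : ∃ m : ℕ, l ^ 2 ^ m = 1) :
    ∃ g : ↥L, ((g * l * g⁻¹ : ↥L) : G) ∈ T := by
  haveI : Fact (Nat.Prime 2) := ⟨Nat.prime_two⟩
  obtain ⟨m, hm⟩ := h2
  have hp : IsPGroup 2 ↥(Subgroup.zpowers (l : G)) := by
    rintro ⟨y, i, rfl⟩
    refine ⟨m, Subtype.ext ?_⟩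
    show ((l : G) ^ i) ^ 2 ^ m = 1
    rw [← zpow_natCast ((l : G) ^ i), ← zpow_mul, mul_comm, zpow_mul, zpow_natCast,
      ← Subgroup.coe_pow, hm, Subgroup.coe_one, one_zpow]
  obtain ⟨S, hS, hlS⟩ := LocalEven.exists_isSylowOf_le (p := 2) (Subgroup.zpowers_le.mpr l.2) hp
  obtain ⟨g, hg, hgS⟩ := hS.exists_conj (isSylowOf_of_sylowTwo c.syl)
  refine ⟨⟨g, hg⟩, ?_⟩
  first
    | exact hgS.le (LocalEven.conj_mem_conjS (hlS (Subgroup.mem_zpowers _)))
    | exact hgS.ge (LocalEven.conj_mem_conjS (hlS (Subgroup.mem_zpowers _)))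

/-- `2`-elements of `L` centralize the kernel modulo `O₂(L)`. -/
theorem comm_two {a l : ↥L} (hl : c.psi l = 1) (h2 : ∃ m : ℕ, a ^ 2 ^ m = 1) :
    ((a * l * a⁻¹ * l⁻¹ : ↥L) : G) ∈ O := by
  obtain ⟨g, hg⟩ := c.two_elem_conj_t h2
  set a' := g * a * g⁻¹ with ha'
  set l' := g * l * g⁻¹ with hl'
  have hl'1 : c.psi l' = 1 := by simp [hl', hl]
  have hk : c.psi (a' * l' * a'⁻¹ * l'⁻¹) = 1 := by simp [hl'1]
  have hT' : ((a' * l' * a'⁻¹ * l'⁻¹ : ↥L) : G) ∈ T := by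
    rw [show ((a' * l' * a'⁻¹ * l'⁻¹ : ↥L) : G) =
      (a' : G) * ((l' : G) * (a' : G)⁻¹ * (l' : G)⁻¹) by push_cast; group]
    exact mul_mem hg (conj_mem_of_normalizer (c.ker_normalizes hl'1) (inv_mem hg))
  obtain ⟨m, hm⟩ := c.syl.2.1 ⟨_, hT'⟩
  have h := c.ker_two hk ⟨m, Subtype.ext (by
    rw [Subgroup.coe_pow, Subgroup.coe_one]; exact congrArg Subtype.val hm)⟩
  have e : ((a * l * a⁻¹ * l⁻¹ : ↥L) : G) =
      (g : G)⁻¹ * ((a' * l' * a'⁻¹ * l'⁻¹ : ↥L) : G) * (g : G)⁻¹⁻¹ := by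
    rw [ha', hl']; push_cast; group
  rw [e]
  exact c.o_conj (inv_mem g.2) h

theorem core_range : Cfsg.pCore 2 ↥c.act.range = ⊥ := by
  haveI : Fact (Nat.Prime 2) := ⟨Nat.prime_two⟩
  set T' := T.subgroupOf L with hT'
  set R := T'.map c.psi with hR
  have hR2 : IsPGroup 2 ↥R := (c.syl.2.1.comap_subtype).map _
  have hidx : Odd R.index := c.syl.2.2.of_dvd_nat (Subgroup.index_map_dvd _ c.psi_surj)
  set P := Cfsg.pCore 2 ↥c.act.range with hP
  have hPn : P.Normal := pCore_normal 2 _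
  have hPR : P ≤ R := by
    have hsup : IsPGroup 2 ↥(R ⊔ P) :=
      (hR2.to_sup_of_normal_right (pCore_isPGroup 2 _))
    have hone : R.relIndex (R ⊔ P) = 1 := by
      obtain ⟨j, hj⟩ := IsPGroup.iff_card.mp hsup
      obtain ⟨i, -, hi⟩ := (Nat.dvd_prime_pow Nat.prime_two).mp (hj ▸ R.relIndex_dvd_card (R ⊔ P))
      have hodd := hidx.of_dvd_nat (Subgroup.relIndex_dvd_index_of_le (le_sup_left : R ≤ R ⊔ P))
      rw [hi] at hodd ⊢
      rcases i with _ | i
      · rfl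
      · rw [pow_succ] at hodd; exact absurd hodd (by simp [parity_simps])
    exact le_sup_right.trans (Subgroup.relIndex_eq_one.mp hone)
  let N := P.comap c.psi
  have hNn : ∀ n ∈ N, ((n : ↥L) : G) ∈ Subgroup.normalizer (T : Set G) := by
    intro n hn
    obtain ⟨t, ht, htn⟩ := hPR hn
    have h1 : c.psi (t⁻¹ * n) = 1 := by rw [map_mul, map_inv, htn, inv_mul_cancel]
    rw [show (n : G) = (t : G) * ((t⁻¹ * n : ↥L) : G) by push_cast; group]
    exact mul_mem (Subgroup.le_normalizer ht) (c.ker_normalizes h1)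
  have hR' : T ⊓ N.map L.subtype ≤ O := by
    refine le_pCoreOf (inf_le_left.trans c.syl.1) c.syl.2.1.to_inf_left fun g hg x hx => ?_
    obtain ⟨hxT, y, hy, rfl⟩ := hx
    haveI := hPn
    have hy' : (⟨g, hg⟩ : ↥L) * y * (⟨g, hg⟩ : ↥L)⁻¹ ∈ N :=
      (inferInstance : N.Normal).conj_mem y hy _
    refine ⟨two_elem_mem c.syl (mul_mem (mul_mem hg y.2) (inv_mem hg)) (hNn _ hy') ?_, _, hy', rfl⟩
    obtain ⟨m, hm⟩ := c.syl.2.1 ⟨_, hxT⟩
    refine ⟨m, ?_⟩
    have hm' : (L.subtype y) ^ 2 ^ m = 1 := congrArg Subtype.val hm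
    rw [conj_pow, hm']; group
  rw [eq_bot_iff]
  intro p hp
  obtain ⟨t, ht, htp⟩ := hPR hp
  have htN : t ∈ N := by
    show c.psi t ∈ P
    rw [htp]; exact hp
  rw [Subgroup.mem_bot, ← htp]
  exact c.psi_o (hR' ⟨ht, t, htN, rfl⟩)

theorem setting : Tv.Setting ↥c.act.range ↥(c.V) where
  finiteY := Finite.of_surjective c.psi c.psi_surj
  finiteV := inferInstance
  exp2 v := Subtype.ext (c.v_sq v.2)
  faithful y h := by
    obtain ⟨l, rfl⟩ := c.psi_surj y
    refine c.psi_eq_one_iff.mpr (Subgroup.mem_centralizer_iff.mpr fun v hv => ?_)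
    have := congrArg Subtype.val (h ⟨v, hv⟩)
    rw [c.psi_smul] at this
    calc v * (l : G) = ((l : G) * v * (l : G)⁻¹) * l := by rw [show (l : G) * v * (l : G)⁻¹ = v from this]
      _ = (l : G) * v := by group
  solv := by
    haveI := c.solv
    exact Group.isSolvable_of_surjective c.psi_surj
  core := c.core_range

/-- A largest elementary abelian subgroup acts as a group generated by transvections. -/
theorem maxEA_gen {A : Subgroup G} (hA : IsMaxEA 2 T A) :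
    (A.subgroupOf L).map c.psi ≤
      Subgroup.closure {t | t ∈ (A.subgroupOf L).map c.psi ∧ Tv.IsTv ↥(c.V) t} := by
  haveI : Fact (Nat.Prime 2) := ⟨Nat.prime_two⟩
  obtain ⟨hAc, hAe⟩ := isElementaryAbelian_iff.mp hA.2.1
  set A' := A.subgroupOf L with hA'
  set Ab := A'.map c.psi with hAb
  have hAbc : ∀ a ∈ Ab, ∀ b ∈ Ab, a * b = b * a := by
    rintro _ ⟨x, hx, rfl⟩ _ ⟨y, hy, rfl⟩
    rw [← map_mul, ← map_mul, show x * y = y * x from Subtype.ext (hAc x hx y hy)]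
  have hAb2 : ∀ a ∈ Ab, a * a = 1 := by
    rintro _ ⟨x, hx, rfl⟩
    rw [← map_mul, show x * x = 1 from Subtype.ext (by
      rw [Subgroup.coe_mul, ← pow_two]; exact hAe x hx), map_one]
  refine (c.setting.offender _ Ab rfl hAbc hAb2).2 ?_
  set F := Tv.fixOf ↥(c.V) (Ab : Set ↥c.act.range) with hF
  set A₀ := A ⊓ Subgroup.centralizer (c.V : Set G) with hA₀
  have hnorm : A₀ ≤ Subgroup.normalizer (c.V : Set G) := fun x hx =>
    mem_normalizer_of_map_le fun v hv => c.v_conj (c.syl.1 (hA.1 hx.1)) hv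
  have hea : Cfsg.IsElementaryAbelian 2 (c.V ⊔ A₀ : Subgroup G) := by
    rw [Subgroup.sup_eq_closure]
    refine Cfsg.Agent.Lib.PLocal.elemAb_closure ?_ ?_
    · rintro x (hx | hx) y (hy | hy)
      · exact c.v_comm hx hy
      · exact Subgroup.mem_centralizer_iff.mp hy.2 x hx
      · exact (Subgroup.mem_centralizer_iff.mp hx.2 y hy).symm
      · exact hAc x hx.1 y hy.1
    · rintro x (hx | hx)
      · rw [pow_two]; exact c.v_sq hx
      · exact hAe x hx.1
  have hmax := hA.2.2 _ (sup_le c.v_le_t (inf_le_left.trans hA.1)) hea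
  have hcard := Cfsg.Agent.Lib.Coprime.card_sup_mul_card_inf hnorm
  -- the image
  have hker : Nat.card ↥Ab * Nat.card ↥A₀ = Nat.card ↥A := by
    have h1 := Cores.card_map_mul_card_inf_ker c.psi A'
    have e1 : Nat.card ↥(A' ⊓ c.psi.ker : Subgroup ↥L) = Nat.card ↥A₀ := by
      have hAL : A ≤ L := hA.1.trans c.syl.1
      rw [← Subgroup.card_map_of_injective (f := L.subtype) L.subtype_injective]
      congr 2
      ext x
      constructor
      · rintro ⟨y, ⟨hy1, hy2⟩, rfl⟩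
        exact ⟨hy1, c.psi_eq_one_iff.mp hy2⟩
      · rintro ⟨h1, h2⟩
        exact ⟨⟨x, hAL h1⟩, ⟨h1, c.psi_eq_one_iff.mpr h2⟩, rfl⟩
    have e2 : Nat.card ↥A' = Nat.card ↥A :=
      Nat.card_congr (Subgroup.subgroupOfEquivOfLe (hA.1.trans c.syl.1)).toEquiv
    rw [e1, e2] at h1
    exact h1
  have hint : Nat.card ↥(c.V ⊓ A₀ : Subgroup G) ≤ Nat.card ↥F := by
    rw [← Subgroup.card_map_of_injective (f := (c.V).subtype) (c.V).subtype_injective (K := F)]
    refine Subgroup.card_le_of_le fun x hx => ⟨⟨x, hx.1⟩, ?_, rfl⟩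
    rintro _ ⟨y, hy, rfl⟩
    refine Subtype.ext ?_
    rw [c.psi_smul]
    show (y : G) * x * (y : G)⁻¹ = x
    rw [hAc y hy x hx.2.1]; group
  have h2 : Nat.card ↥F * F.index = Nat.card ↥(c.V) := Subgroup.card_mul_index F
  have h3 : Nat.card ↥F * F.index * Nat.card ↥A₀ ≤
      Nat.card ↥F * Nat.card ↥Ab * Nat.card ↥A₀ := by
    rw [h2, ← hcard, mul_assoc, hker, mul_comm (Nat.card ↥F)]
    exact Nat.mul_le_mul hmax hint
  exact Nat.le_of_mul_le_mul_left (Nat.le_of_mul_le_mul_right h3 Nat.card_pos) Nat.card_pos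

end JCtx

end Cfsg.Agent.Lib.LocalEven2
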