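import Cfsg.Agent.Lib.LocalEven2.JOver
import Cfsg.Agent.Lib.LocalEven.Subnormal

/-!
A component for another member of the class of `T`, subnormal in `⟨K, J(T)⟩` inside a member `L`
of the family of `T`: `J(T)` normalizes `W_K`.
-/

set_option autoImplicit false
set_option linter.unusedSectionVars false
set_option linter.style.haveILetI false

namespace Cfsg.Agent.Lib.LocalEven2

variable {G : Type*} [Group G] [Finite G]

/-- Odd elements of `O₂(U)K` lie in the subnormal subgroup `K`. -/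
theorem odd_mem_of_subnormal {U K : Subgroup G} (hKU : K ≤ U) (hsn : (K.subgroupOf U).IsSubnormal)
    {g : G} (hg : g ∈ Cfsg.pCoreOf 2 U ⊔ K) (ho : Odd (orderOf g)) : g ∈ K := by
  haveI : Fact (Nat.Prime 2) := ⟨Nat.prime_two⟩
  obtain ⟨-, hkey⟩ := LocalEven.pCore_le_normalizer_of_subnormal (p := 2) hsn
  have hgU : g ∈ U := (sup_le (pCoreOf_le U) hKU : Cfsg.pCoreOf 2 U ⊔ K ≤ U) hg
  have hmem : (⟨g, hgU⟩ : ↥U) ∈ Cfsg.pCore 2 ↥U ⊔ K.subgroupOf U := by
    have e : (Cfsg.pCore 2 ↥U ⊔ K.subgroupOf U).map U.subtype = Cfsg.pCoreOf 2 U ⊔ K := by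
      rw [Subgroup.map_sup, Subgroup.map_subgroupOf_eq_of_le hKU]; rfl
    rw [← e] at hg
    obtain ⟨z, hz, hzg⟩ := hg
    rwa [show (⟨g, hgU⟩ : ↥U) = z from Subtype.ext hzg.symm]
  have hcop : Nat.Coprime (orderOf (⟨g, hgU⟩ : ↥U)) 2 := by
    rw [Subgroup.orderOf_mk]; exact Nat.coprime_two_right.mpr ho
  exact LocalEven.pResOf_le (K.subgroupOf U) (hkey (LocalEven.mem_pResOf_of_coprime hmem hcop))

/-- In a subnormal subgroup, an element of order 3 cycling three commuting involutions yields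
their pairwise products. -/
theorem cycle_mem_of_subnormal {H Y : Type*} [Group H] [Group Y] (f : H →* Y) {K : Subgroup H}
    (hK : K.IsSubnormal) {g : H} (hg : g ∈ K) {x y z : Y} (hx : x ∈ f.range) (hy : y ∈ f.range)
    (hz : z ∈ f.range) (hxy : x * y = y * x) (hyz : y * z = z * y) (hzx : z * x = x * z)
    (hx2 : x * x = 1) (hy2 : y * y = 1) (hz2 : z * z = 1)
    (h1 : f g * x * (f g)⁻¹ = y) (h2 : f g * y * (f g)⁻¹ = z) (h3 : f g * z * (f g)⁻¹ = x) :
    x * y ∈ K.map f ∧ y * z ∈ K.map f ∧ z * x ∈ K.map f := by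
  induction hK with
  | top =>
    rw [← MonoidHom.range_eq_map]
    exact ⟨mul_mem hx hy, mul_mem hy hz, mul_mem hz hx⟩
  | step A B hle hB hn ih =>
    obtain ⟨i1, i2, i3⟩ := ih (hle hg)
    have key : ∀ m ∈ B, f g * f m * (f g)⁻¹ * (f m)⁻¹ ∈ A.map f := by
      intro m hm
      refine ⟨g * (m * g⁻¹ * m⁻¹), mul_mem hg ?_, by simp only [map_mul, map_inv]; group⟩
      exact hn.conj_mem ⟨g⁻¹, inv_mem (hle hg)⟩ (inv_mem hg) ⟨m, hm⟩
    have step : ∀ {a b c : Y}, f g * a * (f g)⁻¹ = b → f g * b * (f g)⁻¹ = c → a * b = b * a →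
        b * b = 1 → a * a = 1 → a * b ∈ B.map f → c * a ∈ A.map f := by
      intro a b c hab hbc hcomm hb2 ha2 hm
      obtain ⟨m, hm, hme⟩ := hm
      have := key m hm
      rw [hme, show f g * (a * b) * (f g)⁻¹ = (f g * a * (f g)⁻¹) * (f g * b * (f g)⁻¹) by group,
        hab, hbc] at this
      -- `b c (a b)⁻¹ = c a`
      have hbc' : b * c = c * b := by
        have h0 := congrArg (fun u => f g * u * (f g)⁻¹) hcomm
        beta_reduce at h0
        rwa [show f g * (a * b) * (f g)⁻¹ = (f g * a * (f g)⁻¹) * (f g * b * (f g)⁻¹) by group,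
          show f g * (b * a) * (f g)⁻¹ = (f g * b * (f g)⁻¹) * (f g * a * (f g)⁻¹) by group,
          hab, hbc] at h0
      have e : b * c * (a * b)⁻¹ = c * a := by
        rw [mul_inv_rev, inv_eq_of_mul_eq_one_right hb2, inv_eq_of_mul_eq_one_right ha2, hbc']
        calc c * b * (b * a) = c * (b * b) * a := by group
          _ = c * a := by rw [hb2, mul_one]
      rwa [e] at this
    exact ⟨step h2 h3 hyz hz2 hy2 i2, step h3 h1 hzx hx2 hz2 i3, step h1 h2 hxy hy2 hx2 i1⟩

namespace JCtx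

variable {T L : Subgroup G} (c : JCtx T L)
include c

local notation "O" => Cfsg.pCoreOf 2 L
local notation "J" => Cfsg.thompsonSubgroupOf 2 T

theorem ker_pow {l : ↥L} (h : c.psi l = 1) {m : ℕ} (h2 : ((l ^ 2 ^ m : ↥L) : G) ∈ O) :
    (l : G) ∈ O := by
  obtain ⟨j, hj⟩ := pCoreOf_isPGroup (p := 2) L ⟨_, h2⟩
  refine c.ker_two h ⟨m + j, Subtype.ext ?_⟩
  rw [pow_add, pow_mul, Subgroup.coe_pow, Subgroup.coe_one]
  exact congrArg Subtype.val hj

/-- `J(T)` normalizes `W_K` unless it normalizes `K`. -/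
theorem j_normalizes_of_subnormal {T' K : Subgroup G} (hK : Cfsg.IsJComponent T' K) (hKL : K ≤ L)
    (hsn : (K.subgroupOf (K ⊔ J)).IsSubnormal) :
    J ≤ Subgroup.normalizer (Cfsg.wOf K : Set G) := by
  haveI : Fact (Nat.Prime 2) := ⟨Nat.prime_two⟩
  by_contra hJW
  refine hJW ?_
  refine le_trans ?_ jc_normalizer_le_normalizer_w
  set U := K ⊔ J with hU
  set D := Cfsg.pCoreOf 2 U with hD
  set Q := Cfsg.pCoreOf 2 K with hQ
  have hKU : K ≤ U := le_sup_left
  have hJU : J ≤ U := le_sup_right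
  have hUL : U ≤ L := sup_le hKL c.j_le_l
  have hgenK := hK.1
  have hQK : Q ≤ K := LocalEven.pCoreOf_le K
  have hOD : U ⊓ O ≤ D := le_pCoreOf inf_le_left (pCoreOf_isPGroup L).to_inf_right
    fun g hg x hx => ⟨(mul_mem (mul_mem hg (show x ∈ U from hx.1)) (inv_mem hg) : g * x * g⁻¹ ∈ U),
      c.o_conj (hUL hg) hx.2⟩
  have hQD : Q ≤ D := by
    intro q hq
    have hsnQ : (Q.subgroupOf U).IsSubnormal := by
      refine Subgroup.IsSubnormal.step _ (K.subgroupOf U) (fun x hx => hQK hx) hsn ?_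
      refine Subgroup.normal_subgroupOf_of_le_normalizer fun x hx => ?_
      rw [Subgroup.mem_normalizer_iff]
      intro y
      exact Subgroup.mem_normalizer_iff.mp (jc_k_le_normalizer_q (K := K) hx) y
    have hQ2 : IsPGroup 2 ↥(Q.subgroupOf U) := (pCoreOf_isPGroup K).comap_subtype
    exact coe_mem_pCoreOf.mpr
      (LocalEven.le_pCore_of_subnormal hsnQ hQ2 (x := ⟨q, hKU (hQK hq)⟩) hq)
  have hconj : ∀ a : G, a ∈ U → (∀ g, g ∈ K → Odd (orderOf g) → a * g * a⁻¹ ∈ D ⊔ K) →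
      a ∈ Subgroup.normalizer (K : Set G) := by
    intro a ha h
    refine mem_normalizer_of_map_le fun x hx => ?_
    have hle : K ≤ K.comap (MulAut.conj a).toMonoidHom := by
      conv_lhs => rw [← hgenK]
      rw [Subgroup.closure_le]
      rintro g ⟨hg, ho⟩
      refine odd_mem_of_subnormal hKU hsn (h g hg ho) ?_
      show Odd (orderOf (a * g * a⁻¹))
      rw [show orderOf (a * g * a⁻¹) = orderOf g from (MulAut.conj a).orderOf_eq g]
      exact ho
    exact hle hx
  have hDK : D ≤ Subgroup.normalizer (K : Set G) := fun a ha => hconj a (pCoreOf_le U ha)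
    fun g hg _ => mul_mem (mul_mem (Subgroup.mem_sup_left ha) (Subgroup.mem_sup_right hg))
      (inv_mem (Subgroup.mem_sup_left ha))
  refine thompsonSubgroupOf_le_of fun A hA => ?_
  obtain ⟨hAc, hAe⟩ := isElementaryAbelian_iff.mp hA.2.1
  have hAJ : A ≤ J := le_thompsonSubgroupOf hA
  have hAL : A ≤ L := hA.1.trans c.syl.1
  -- generators of `A`
  set Sg := {t : G | t ∈ A ∧ ∀ ht : t ∈ L, c.psi ⟨t, ht⟩ = 1 ∨ Tv.IsTv ↥(c.V) (c.psi ⟨t, ht⟩)}
    with hSg
  have hAgen : A ≤ Subgroup.closure Sg := by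
    intro x hx
    have hmem := c.maxEA_gen hA ⟨⟨x, hAL hx⟩, hx, rfl⟩
    have key : ∀ s ∈ Subgroup.closure {t | t ∈ (A.subgroupOf L).map c.psi ∧ Tv.IsTv ↥(c.V) t},
        ∃ z : ↥L, (z : G) ∈ Subgroup.closure Sg ∧ (z : G) ∈ A ∧ c.psi z = s := by
      intro s hs
      induction hs using Subgroup.closure_induction with
      | mem t ht =>
        obtain ⟨⟨a, ha, rfl⟩, htv⟩ := ht
        exact ⟨a, Subgroup.subset_closure ⟨ha, fun _ => Or.inr htv⟩, ha, rfl⟩
      | one => exact ⟨1, one_mem _, one_mem _, map_one _⟩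
      | mul p q _ _ hp hq =>
        obtain ⟨z, z1, z2, rfl⟩ := hp
        obtain ⟨z', z1', z2', rfl⟩ := hq
        exact ⟨z * z', mul_mem z1 z1', mul_mem z2 z2', map_mul _ _ _⟩
      | inv p _ hp =>
        obtain ⟨z, z1, z2, rfl⟩ := hp
        exact ⟨z⁻¹, inv_mem z1, inv_mem z2, map_inv _ _⟩
    obtain ⟨z, hz, hzA, hze⟩ := key _ hmem
    have h1 : (z : G)⁻¹ * x ∈ Sg := ⟨mul_mem (inv_mem hzA) hx, fun ht => Or.inl (by
      rw [show (⟨(z : G)⁻¹ * x, ht⟩ : ↥L) = z⁻¹ * ⟨x, hAL hx⟩ from rfl, map_mul, map_inv, hze,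
        inv_mul_cancel])⟩
    rw [show x = (z : G) * ((z : G)⁻¹ * x) by group]
    exact mul_mem hz (Subgroup.subset_closure h1)
  refine hAgen.trans ((Subgroup.closure_le _).mpr ?_)
  rintro a₀ ⟨haA, hatv⟩
  refine hconj a₀ (hJU (hAJ haA)) fun g hgK hgo => ?_
  set a : ↥L := ⟨a₀, hAL haA⟩ with hadef
  set γ : ↥L := ⟨g, hKL hgK⟩ with hγ
  set O' := (O).subgroupOf L with hO'
  haveI : O'.Normal := ⟨fun m hm x => c.o_conj x.2 hm⟩
  set π := QuotientGroup.mk' O' with hπ
  have hπ1 : ∀ {l : ↥L}, π l = 1 ↔ (l : G) ∈ O := fun {l} => QuotientGroup.eq_one_iff l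
  have haa : a * a = 1 := Subtype.ext (by
    show a₀ * a₀ = 1
    rw [← pow_two]; exact hAe a₀ haA)
  have ha2 : ∃ m : ℕ, a ^ 2 ^ m = 1 := ⟨1, by rw [pow_one, pow_two]; exact haa⟩
  have hai : a⁻¹ = a := inv_eq_of_mul_eq_one_right haa
  set l := a * γ * a⁻¹ * γ⁻¹ with hl
  have hlU : (l : G) ∈ U := mul_mem (mul_mem (mul_mem (hJU (hAJ haA)) (hKU hgK))
    (inv_mem (hJU (hAJ haA)))) (inv_mem (hKU hgK))
  have hgoal : ∀ {e d : G}, e ∈ K → d ∈ U → d ∈ O → (l : G) = e * d →
      a₀ * g * a₀⁻¹ ∈ D ⊔ K := by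
    intro e d he hdU hdO h
    rw [show a₀ * g * a₀⁻¹ = (l : G) * g by simp [hl, hadef, hγ], h]
    exact mul_mem (mul_mem (Subgroup.mem_sup_right he) (Subgroup.mem_sup_left (hOD ⟨hdU, hdO⟩)))
      (Subgroup.mem_sup_right hgK)
  have haγ : π a * π γ * (π a)⁻¹ = π l * π γ := by simp [hl]
  have hAA : π a * π a = 1 := by rw [← map_mul, haa, map_one]
  by_cases hl1 : c.psi l = 1
  · have hcm : π a * π l * (π a)⁻¹ = π l := by
      have := hπ1.mpr (c.comm_two hl1 ha2)
      simp only [map_mul, map_inv] at this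
      exact mul_inv_eq_one.mp this
    have h2 : π l * π l = 1 := by
      have h3 : π γ = π l * π l * π γ := by
        calc π γ = π a * (π a * π γ * (π a)⁻¹) * (π a)⁻¹ := by
              calc π γ = (π a * π a) * π γ * (π a * π a)⁻¹ := by rw [hAA]; group
                _ = _ := by group
          _ = π a * (π l * π γ) * (π a)⁻¹ := by rw [haγ]
          _ = (π a * π l * (π a)⁻¹) * (π a * π γ * (π a)⁻¹) := by group
          _ = π l * π l * π γ := by rw [hcm, haγ, mul_assoc]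
      exact mul_eq_right.mp h3.symm
    have hlO : (l : G) ∈ O := c.ker_pow hl1 (m := 1) (by
      rw [pow_one, pow_two]; exact hπ1.mp (by rw [map_mul]; exact h2))
    exact hgoal (one_mem K) hlU hlO (one_mul _).symm
  -- `a` induces a transvection
  have htv : Tv.IsTv ↥(c.V) (c.psi a) := (hatv (hAL haA)).resolve_left fun h => hl1 (by
    rw [hl, map_mul, map_mul, map_mul, map_inv, map_inv]
    rw [show c.psi a = 1 from h]; group)
  set Wr := (Tv.blockOf ↥(c.V) (c.psi a)).map (c.V).subtype with hWr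
  have haW : c.IsTvOf a Wr := ⟨htv, rfl⟩
  have hWrb : c.IsBlock Wr := ⟨a, haW⟩
  have hg3 : g ^ 3 = 1 := by
    haveI : (Q.subgroupOf K).Normal :=
      ⟨fun m hm x => show (x : G) * m * (x : G)⁻¹ ∈ Q from
        conj_mem_of_normalizer (jc_k_le_normalizer_q x.2) hm⟩
    have h3 := Subgroup.pow_index_mem (Q.subgroupOf K) (⟨g, hgK⟩ : ↥K)
    rw [show (Q.subgroupOf K).index = 3 from hK.2.2.1] at h3
    exact eq_one_of_isPGroup (pCoreOf_isPGroup K) h3
      (Nat.coprime_two_right.mpr (hgo.of_dvd_nat (orderOf_pow_dvd 3)))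
  have hγ3 : γ ^ 3 = 1 := Subtype.ext (by rw [Subgroup.coe_pow, Subgroup.coe_one]; exact hg3)
  set a' := γ * a * γ⁻¹ with ha'
  set W' := Wr.map (MulAut.conj (γ : G)).toMonoidHom with hW'
  have ha'W : c.IsTvOf a' W' := c.block_conj haW γ
  have hW'b : c.IsBlock W' := ⟨a', ha'W⟩
  have ha'2 : c.psi a' * c.psi a' = 1 := by rw [← map_mul, ha']; simp [mul_assoc, ← mul_assoc a a, haa]
  have hla : c.psi l = c.psi a * c.psi a' := by
    rw [← map_mul, hl, ha', hai]
    congr 1
    group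
  by_cases hsame : W' = Wr
  · -- `g` acts on the block
    exfalso
    apply hJW
    obtain ⟨k, hk⟩ := c.exists_gen ha2 haW
    have ha'Wr : c.IsTvOf a' Wr := hsame ▸ ha'W
    obtain ⟨i, hi⟩ := c.tv_conj_eq hk haW ha'Wr
    have hinv : c.psi a * c.psi k * (c.psi a)⁻¹ = (c.psi k)⁻¹ := by
      have := c.psi_o (l := a * k * a⁻¹ * k) (c.inv_any hk haW)
      rw [map_mul, map_mul, map_mul, map_inv] at this
      exact eq_inv_of_mul_eq_one_left this
    have hk3 : c.psi k ^ 3 = 1 := by rw [← map_pow, hk.1, map_one]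
    set f := c.psi l with hf
    have hfk : f = ((c.psi k)⁻¹) ^ i * ((c.psi k)⁻¹) ^ i := by
      have hai' : (c.psi a)⁻¹ = c.psi a := by rw [← map_inv, hai]
      rw [hla, hi, map_mul, map_mul, map_inv, map_pow]
      calc c.psi a * (c.psi k ^ i * c.psi a * (c.psi k ^ i)⁻¹)
          = (c.psi a * c.psi k ^ i * (c.psi a)⁻¹) * (c.psi a * c.psi a) * (c.psi k ^ i)⁻¹ := by group
        _ = ((c.psi k)⁻¹) ^ i * ((c.psi k)⁻¹) ^ i := by
            rw [← conj_pow, hinv, ← map_mul, haa, map_one, mul_one, inv_pow]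
    have hf3 : f ^ 3 = 1 := by
      rw [hfk, ← pow_add, ← pow_mul, mul_comm, pow_mul, inv_pow, hk3, inv_one, one_pow]
    have hfX : f ∈ Tv.tvGroup ↥c.act.range ↥(c.V) := by
      rw [hfk]; exact mul_mem (pow_mem (inv_mem hk.2.1) i) (pow_mem (inv_mem hk.2.1) i)
    have hfo : Odd (orderOf f) :=
      Odd.of_dvd_nat (by decide) (orderOf_dvd_of_pow_eq_one hf3)
    have hfix_other : ∀ W'' , c.IsBlock W'' → W'' ≠ Wr → ∀ x ∈ W'', (l : G) * x * (l : G)⁻¹ = x := by
      intro W'' hW'' hne x hx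
      have f1 : ∀ z ∈ W'', (a : G) * z * (a : G)⁻¹ = z := fun z hz => by
        by_contra hh; exact hne (c.block_eq_of_moves haW hW'' hz hh).symm
      have f2 : ∀ z ∈ W'', (a' : G) * z * (a' : G)⁻¹ = z := fun z hz => by
        by_contra hh; exact hne (c.block_eq_of_moves ha'Wr hW'' hz hh).symm
      have hxV := c.block_le_v hW'' hx
      have e : c.psi l • (⟨x, hxV⟩ : ↥(c.V)) = ⟨x, hxV⟩ := by
        rw [show c.psi l = c.psi a * c.psi a' from hla, mul_smul, show c.psi a' • (⟨x, hxV⟩ : ↥(c.V)) = ⟨x, hxV⟩ from Subtype.ext (f2 x hx)]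
        exact Subtype.ext (f1 x hx)
      exact congrArg Subtype.val e
    have hlmv : ∀ x ∈ Wr, x ≠ 1 → (l : G) * x * (l : G)⁻¹ ≠ x := by
      intro x hx hx1 hfix
      refine hl1 (c.psi_eq_one hfX fun W'' hW'' y hy => ?_)
      by_cases h : W'' = Wr
      · subst h
        have hxV := c.block_le_v hWrb hx
        have hyV := c.block_le_v hWrb hy
        exact congrArg Subtype.val (c.setting.odd_fix_block hfo htv
          (fun u hu => c.setting.tvGroup_smul_block hfX htv hu) ((c.mem_blockMap haW hxV).mp hx)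
          (fun e => hx1 (congrArg Subtype.val e)) (Subtype.ext hfix) ⟨y, hyV⟩
          ((c.mem_blockMap haW hyV).mp hy))
      · exact hfix_other W'' hW'' h y hy
    -- the block lies in `U`
    obtain ⟨d, hd⟩ := htv
    have hdW : (d : G) ∈ Wr := (c.mem_blockMap haW d.2).mpr (c.setting.cen_mem_block hd)
    have hd1 : (d : G) ≠ 1 := fun e => hd.1 (Subtype.ext e)
    have hdU : (d : G) ∈ U := by
      obtain ⟨v, hv⟩ := hd.2.2
      have hv' : a₀ * (v : G) * a₀⁻¹ = (v : G) * d := congrArg Subtype.val hv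
      have e : (d : G) = (v : G)⁻¹ * a₀ * (v : G)⁻¹⁻¹ * a₀⁻¹ := by
        calc (d : G) = (v : G)⁻¹ * ((v : G) * d) := by group
          _ = _ := by rw [← hv']; group
      rw [e]
      refine hJU (mul_mem (conj_mem_of_normalizer ?_ (hAJ haA)) (inv_mem (hAJ haA)))
      exact normalizer_le_normalizer_thompson 2 T (Subgroup.le_normalizer (inv_mem (c.v_le_t v.2)))
    have hWU : Wr ≤ U := by
      intro x hx
      have horb := c.setting.odd_orbit hfX hfo ⟨d, hd⟩ (c.setting.cen_mem_block hd)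
        (fun e => hlmv _ hdW hd1 (congrArg Subtype.val e))
      have hxV := c.block_le_v hWrb hx
      rcases horb.2 _ ((c.mem_blockMap haW hxV).mp hx) with e | e | e | e
      · rw [show x = 1 from congrArg Subtype.val e]; exact one_mem _
      · rw [show x = (d : G) from congrArg Subtype.val e]; exact hdU
      · rw [show x = (l : G) * d * (l : G)⁻¹ from congrArg Subtype.val e]
        exact mul_mem (mul_mem hlU hdU) (inv_mem hlU)
      · rw [show x = (l : G) * ((l : G) * d * (l : G)⁻¹) * (l : G)⁻¹ from congrArg Subtype.val e]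
        exact mul_mem (mul_mem hlU (mul_mem (mul_mem hlU hdU) (inv_mem hlU))) (inv_mem hlU)
    have hWD : Wr ≤ D := fun x hx => hOD ⟨hWU hx, c.v_le_o (c.block_le_v hWrb hx)⟩
    -- `Q` centralizes the block
    have hQW : ∀ q ∈ Q, ∀ w ∈ Wr, q * w * q⁻¹ = w := by
      intro q hq w hw
      by_contra hmv
      have hw1 : w ≠ 1 := fun h => hmv (by rw [h]; group)
      have hqD := hQD hq
      set qq : ↥L := ⟨q, hKL (hQK hq)⟩
      have hcomm : c.psi qq * f = f * c.psi qq := by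
        set z := qq * l * qq⁻¹ * l⁻¹ with hz
        have hzD : (z : G) ∈ D := by
          rw [show (z : G) = q * ((l : G) * q⁻¹ * (l : G)⁻¹) by simp [hz, qq, mul_assoc]]
          exact mul_mem hqD (conj_mem_of_normalizer
            (LocalEven.le_normalizer_pCoreOf (p := 2) U hlU) (inv_mem hqD))
        obtain ⟨m, hm⟩ := pCoreOf_isPGroup (p := 2) U ⟨_, hzD⟩
        haveI := c.setting.tvGroup_normal
        have hconjX : c.psi qq * f * (c.psi qq)⁻¹ ∈ Tv.tvGroup ↥c.act.range ↥(c.V) :=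
          (inferInstance : (Tv.tvGroup ↥c.act.range ↥(c.V)).Normal).conj_mem _ hfX _
        have hc3 : (c.psi qq * f * (c.psi qq)⁻¹) ^ 3 = 1 := by rw [conj_pow, hf3]; group
        have hzeq : c.psi z = c.psi qq * f * (c.psi qq)⁻¹ * f⁻¹ := by
          rw [hz, map_mul, map_mul, map_mul, map_inv, map_inv]
        have hcom : Commute (c.psi qq * f * (c.psi qq)⁻¹) f⁻¹ :=
          (show Commute (c.psi qq * f * (c.psi qq)⁻¹) f from c.setting.odd_commute hconjX hfX
            (Odd.of_dvd_nat (by decide) (orderOf_dvd_of_pow_eq_one hc3)) hfo).inv_right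
        have hz3 : c.psi z ^ 3 = 1 := by
          rw [hzeq, hcom.mul_pow, hc3, inv_pow, hf3, inv_one, one_mul]
        have hz1 : c.psi z = 1 := c.setting.eq_one_of_odd_pow
          (Odd.of_dvd_nat (by decide) (orderOf_dvd_of_pow_eq_one hz3)) (m := m) (by
            rw [← map_pow, show z ^ 2 ^ m = 1 from Subtype.ext (by
              rw [Subgroup.coe_pow, Subgroup.coe_one]; exact congrArg Subtype.val hm), map_one])
        rw [hzeq, mul_inv_eq_one, mul_inv_eq_iff_eq_mul] at hz1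
        exact hz1
      have hwV := c.block_le_v hWrb hw
      set wv : ↥(c.V) := ⟨w, hwV⟩
      have hqw : (q * w * q⁻¹) ∈ Wr := by
        by_contra hne
        have hb := c.isBlock_conj hWrb qq
        have hmem : q * w * q⁻¹ ∈ Wr.map (MulAut.conj (qq : G)).toMonoidHom := ⟨w, hw, rfl⟩
        have hfx := hfix_other _ hb (fun h => hne (h ▸ hmem)) _ hmem
        have e : f • (c.psi qq • wv) = c.psi qq • wv := Subtype.ext hfx
        rw [← mul_smul, ← hcomm, mul_smul] at e
        exact hlmv w hw hw1 (congrArg Subtype.val ((smul_left_cancel_iff _).mp e))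
      have hmvf : f • wv ≠ wv := fun e => hlmv w hw hw1 (congrArg Subtype.val e)
      obtain ⟨m, hm⟩ := pCoreOf_isPGroup (p := 2) K ⟨q, hq⟩
      have hqm : c.psi qq ^ 2 ^ m = 1 := by
        rw [← map_pow, show qq ^ 2 ^ m = 1 from Subtype.ext (by
          rw [Subgroup.coe_pow, Subgroup.coe_one]; exact congrArg Subtype.val hm), map_one]
      have horb := c.setting.odd_orbit hfX hfo ⟨d, hd⟩ ((c.mem_blockMap haW hwV).mp hw) hmvf
      have hpows : ∀ j : ℕ, c.psi qq • wv = f ^ j • wv →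
          ∀ n : ℕ, c.psi qq ^ n • wv = f ^ (j * n) • wv := by
        intro j hj n
        induction n with
        | zero => simp
        | succ n ih =>
          rw [pow_succ', mul_smul, ih, ← mul_smul,
            ((show Commute (c.psi qq) f from hcomm).pow_right (j * n)).eq, mul_smul, hj, ← mul_smul,
            ← pow_add, Nat.mul_succ]
      have hbad : ∀ j : ℕ, (j = 1 ∨ j = 2) → c.psi qq • wv ≠ f ^ j • wv := by
        intro j hj h
        have h1 := hpows j h (2 ^ m)
        rw [hqm, one_smul] at h1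
        obtain ⟨r, hr⟩ := exists_pow_eq_self_of_coprime (x := f) (n := j * 2 ^ m)
          (Nat.Coprime.coprime_dvd_right (orderOf_dvd_of_pow_eq_one hf3)
            (Nat.Coprime.mul_left (by rcases hj with h | h <;> subst h <;> decide)
              (Nat.Coprime.pow_left m (by decide))))
        have : ∀ n : ℕ, (f ^ (j * 2 ^ m)) ^ n • wv = wv := fun n => by
          induction n with
          | zero => simp
          | succ n ih => rw [pow_succ, mul_smul, ← h1, ih]
        exact hmvf (by have := this r; rwa [hr] at this)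
      have hqV : q * w * q⁻¹ ∈ c.V := c.v_conj qq.2 hwV
      rcases horb.2 ⟨_, hqV⟩ ((c.mem_blockMap haW hqV).mp hqw) with e | e | e | e
      · exact hw1 (conj_eq_one_iff.mp (congrArg Subtype.val e))
      · exact hmv (congrArg Subtype.val e)
      · exact hbad 1 (Or.inl rfl) (by rw [pow_one]; exact e)
      · exact hbad 2 (Or.inr rfl) (by rw [pow_two, mul_smul]; exact e)
    -- commutators with `g` fill the block
    have hgW : ∀ v ∈ Wr, g * v * g⁻¹ ∈ Wr := fun v hv => hsame.le ⟨v, hv, rfl⟩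
    have hgfpf : ∀ u ∈ Wr, g * u * g⁻¹ = u → u = 1 := by
      intro u hu hfix
      by_contra hu1
      -- otherwise `a'` has the center of `a`
      have hall : ∀ z ∈ Wr, g * z * g⁻¹ = z := by
        intro z hz
        have huV := c.block_le_v hWrb hu
        have hzV := c.block_le_v hWrb hz
        have hpres : ∀ x ∈ Tv.blockOf ↥(c.V) (c.psi a), c.psi γ • x ∈ Tv.blockOf ↥(c.V) (c.psi a) :=
          fun x hx => (c.mem_blockMap haW (c.psi γ • x).2).mp
            (hgW x ((c.mem_blockMap haW x.2).mpr hx))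
        exact congrArg Subtype.val (c.setting.odd_fix_block (c.odd_of_cube hγ3) ⟨d, hd⟩ hpres
          ((c.mem_blockMap haW huV).mp hu) (fun e => hu1 (congrArg Subtype.val e))
          (Subtype.ext hfix) ⟨z, hzV⟩ ((c.mem_blockMap haW hzV).mp hz))
      refine hl1 ?_
      have hcen := c.setting.cen_conj hd (c.psi γ)
      rw [← map_inv, ← map_mul, ← map_mul, show c.psi γ • d = d from Subtype.ext (hall _ hdW)] at hcen
      have hb : Tv.blockOf ↥(c.V) (c.psi (γ * a * γ⁻¹)) = Tv.blockOf ↥(c.V) (c.psi a) :=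
        Subgroup.map_injective (c.V).subtype_injective ha'Wr.2.symm
      rw [hla, ha', c.setting.tv_eq hd hcen hb, c.setting.sq_one hd]
    have hZ : ∀ v ∈ Wr, g * v * g⁻¹ * v⁻¹ ∈ Cfsg.omegaCenterOf Q := by
      intro v hv
      have hm : g * v * g⁻¹ * v⁻¹ ∈ Wr := mul_mem (hgW v hv) (inv_mem hv)
      refine mem_omegaCenterOf_iff.mpr ⟨?_, fun q hq => ?_,
        (c.block_card hWrb).2 _ hm⟩
      · refine (le_pCoreOf (inf_le_left : K ⊓ O ≤ K) (pCoreOf_isPGroup L).to_inf_right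
          fun y hy z hz => ⟨(mul_mem (mul_mem hy (show z ∈ K from hz.1)) (inv_mem hy) :
            y * z * y⁻¹ ∈ K), c.o_conj (hKL hy) hz.2⟩)
          ⟨?_, c.v_le_o (c.block_le_v hWrb hm)⟩
        rw [show g * v * g⁻¹ * v⁻¹ = g * (v * g⁻¹ * v⁻¹) by group]
        exact mul_mem hgK (conj_mem_of_normalizer (hDK (hWD hv)) (inv_mem hgK))
      · calc q * (g * v * g⁻¹ * v⁻¹) = (q * (g * v * g⁻¹ * v⁻¹) * q⁻¹) * q := by group
          _ = g * v * g⁻¹ * v⁻¹ * q := by rw [hQW q hq _ hm]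
    have hWW : Wr ≤ Cfsg.wOf K := by
      intro y hy
      let h₀ : ↥Wr → ↥Wr := fun v => ⟨g * v * g⁻¹ * (v : G)⁻¹,
        mul_mem (hgW _ v.2) (inv_mem v.2)⟩
      have hh : Function.Injective h₀ := fun u u' h => by
        have he : g * (u : G) * g⁻¹ * (u : G)⁻¹ = g * u' * g⁻¹ * (u' : G)⁻¹ := congrArg Subtype.val h
        refine Subtype.ext (inv_mul_eq_one.mp
          (hgfpf _ (mul_mem (inv_mem u'.2) u.2) ?_ : (u' : G)⁻¹ * u = 1)).symm
        calc g * ((u' : G)⁻¹ * u) * g⁻¹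
            = (g * (u' : G)⁻¹ * g⁻¹) * (g * u * g⁻¹ * (u : G)⁻¹) * u := by group
          _ = (g * (u' : G)⁻¹ * g⁻¹) * (g * u' * g⁻¹ * (u' : G)⁻¹) * u := by rw [he]
          _ = (u' : G)⁻¹ * u := by group
      obtain ⟨v, hv⟩ := (Finite.injective_iff_surjective.mp hh).comp
        (Finite.injective_iff_surjective.mp hh) ⟨y, hy⟩
      have hv' : g * (g * (v : G) * g⁻¹ * (v : G)⁻¹) * g⁻¹ * (g * (v : G) * g⁻¹ * (v : G)⁻¹)⁻¹ = y :=
        congrArg Subtype.val hv
      rw [← hv']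
      have := inv_mem (Subgroup.commutator_mem_commutator (H₁ := Cfsg.omegaCenterOf Q) (H₂ := K)
        (hZ v v.2) hgK)
      rw [commutatorElement_inv, commutatorElement_def] at this
      exact this
    have hWeq : Wr = Cfsg.wOf K := Subgroup.eq_of_le_of_card_ge hWW (by
      rw [(c.block_card hWrb).1, hK.2.2.2.2.1])
    exact hWeq ▸ c.j_preserves hWrb
  -- `g` moves the block away
  set a'' := γ * a' * γ⁻¹ with ha''
  set W'' := W'.map (MulAut.conj (γ : G)).toMonoidHom with hW''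
  have ha''W : c.IsTvOf a'' W'' := c.block_conj ha'W γ
  have hcycle : γ * a'' * γ⁻¹ = a := by
    rw [ha'', ha']
    calc γ * (γ * (γ * a * γ⁻¹) * γ⁻¹) * γ⁻¹ = γ ^ 3 * a * (γ ^ 3)⁻¹ := by
          simp only [pow_succ, pow_zero, one_mul]; group
      _ = a := by rw [hγ3]; group
  have hW3 : W''.map (MulAut.conj (γ : G)).toMonoidHom = Wr := by
    rw [hW'', hW', map_conj_map_conj, map_conj_map_conj,
      show (γ : G) * (γ : G) * (γ : G) = (γ : G) ^ 3 by simp [pow_succ, mul_assoc]]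
    rw [show (γ : G) ^ 3 = 1 from hg3, map_conj_one]
  have hcommute : ∀ {b b' : ↥L} {B B' : Subgroup G}, c.IsTvOf b B → c.IsTvOf b' B' → B ≠ B' →
      c.psi b * c.psi b' = c.psi b' * c.psi b := by
    intro b b' B B' hb hb' hne
    obtain ⟨d, hd⟩ := hb.1
    obtain ⟨d', hd'⟩ := hb'.1
    refine c.setting.commute_of_fix hd hd' ?_ ?_
    · by_contra hh
      refine hne ?_
      rw [hb.2, hb'.2, c.setting.block_eq_of_moves hb.1 hb'.1 (c.setting.cen_mem_block hd') hh]
    · by_contra hh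
      refine hne ?_
      rw [hb.2, hb'.2, c.setting.block_eq_of_moves hb'.1 hb.1 (c.setting.cen_mem_block hd) hh]
  have hne12 : W' ≠ W'' := by
    intro h
    apply hsame
    have h1 : W'' = Wr := by
      have := congrArg (Subgroup.map (MulAut.conj (γ : G)).toMonoidHom) h
      rw [hW3] at this
      exact this
    exact h.trans h1
  have hne20 : W'' ≠ Wr := by
    intro h
    apply hsame
    have := congrArg (Subgroup.map (MulAut.conj (γ : G)).toMonoidHom) h
    rw [hW3] at this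
    exact this.symm
  have h01 := hcommute haW ha'W (Ne.symm hsame)
  have h12 := hcommute ha'W ha''W hne12
  have h20 := hcommute ha''W haW hne20
  have ha''2 : c.psi a'' * c.psi a'' = 1 := by
    rw [← map_mul, ha'', ha']; simp [mul_assoc, ← mul_assoc a a, haa]
  let fU : ↥U →* ↥c.act.range := c.psi.comp (Subgroup.inclusion hUL)
  have hUmem : ∀ {b : ↥L}, (b : G) ∈ U → c.psi b ∈ fU.range := fun {b} hb => ⟨⟨b, hb⟩, rfl⟩
  have haU : (a : G) ∈ U := hJU (hAJ haA)
  have ha'U : (a' : G) ∈ U := mul_mem (mul_mem (hKU hgK) haU) (inv_mem (hKU hgK))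
  have ha''U : (a'' : G) ∈ U := mul_mem (mul_mem (hKU hgK) ha'U) (inv_mem (hKU hgK))
  obtain ⟨hmem, -, -⟩ := cycle_mem_of_subnormal fU hsn (g := ⟨g, hKU hgK⟩) hgK (hUmem haU)
    (hUmem ha'U) (hUmem ha''U) h01 h12 h20 (by rw [← map_mul, haa, map_one]) ha'2 ha''2
    (by show c.psi γ * c.psi a * (c.psi γ)⁻¹ = c.psi a'; rw [ha', map_mul, map_mul, map_inv])
    (by show c.psi γ * c.psi a' * (c.psi γ)⁻¹ = c.psi a''; simp only [ha'', ha', map_mul, map_inv])
    (by show c.psi γ * c.psi a'' * (c.psi γ)⁻¹ = c.psi a; rw [← map_inv, ← map_mul, ← map_mul, hcycle])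
  obtain ⟨e₀, he₀, he₀f⟩ := hmem
  set eL : ↥L := ⟨(e₀ : G), hUL e₀.2⟩ with heL
  have he₀' : c.psi eL = c.psi l := by rw [hla]; exact he₀f
  -- a `2`-element with the same image
  have hlsq : c.psi l * c.psi l = 1 := by
    rw [hla]
    calc c.psi a * c.psi a' * (c.psi a * c.psi a') = c.psi a * (c.psi a' * c.psi a) * c.psi a' := by
          group
      _ = (c.psi a * c.psi a) * (c.psi a' * c.psi a') := by rw [← h01]; group
      _ = 1 := by rw [ha'2, ← map_mul, haa, map_one, one_mul]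
  obtain ⟨m₀, o₀, ho₀, hord⟩ : ∃ m o : ℕ, Odd o ∧ orderOf eL = 2 ^ m * o := by
    obtain ⟨m, o, ho, h⟩ := Nat.exists_eq_pow_mul_and_not_dvd (orderOf_pos eL).ne' 2 (by norm_num)
    exact ⟨m, o, Nat.odd_iff.mpr (Nat.two_dvd_ne_zero.mp ho), h⟩
  set e := eL ^ o₀ with he
  have he2 : e ^ 2 ^ m₀ = 1 := by rw [he, ← pow_mul, mul_comm, ← hord, pow_orderOf_eq_one]
  have heK : (e : G) ∈ K := by rw [he, Subgroup.coe_pow]; exact pow_mem he₀ _
  have hpe : c.psi e = c.psi l := by
    rw [he, map_pow, he₀']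
    obtain ⟨r, hr⟩ := ho₀
    rw [hr, pow_succ, pow_mul, pow_two, hlsq, one_pow, one_mul]
  set cc := e⁻¹ * l with hcc
  have hcc1 : c.psi cc = 1 := by rw [hcc, map_mul, map_inv, hpe, inv_mul_cancel]
  set cc₂ := e⁻¹ * (a * e * a⁻¹) with hcc₂
  have hcc₂1 : c.psi cc₂ = 1 := by
    rw [hcc₂, map_mul, map_mul, map_mul, map_inv, map_inv, hpe, hla]
    calc (c.psi a * c.psi a')⁻¹ * (c.psi a * (c.psi a * c.psi a') * (c.psi a)⁻¹)
        = (c.psi a')⁻¹ * (c.psi a)⁻¹ * ((c.psi a * c.psi a) * c.psi a' * (c.psi a)⁻¹) := by group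
      _ = (c.psi a')⁻¹ * ((c.psi a)⁻¹ * c.psi a') * (c.psi a)⁻¹ := by
          rw [← map_mul, haa, map_one]; group
      _ = 1 := by
          rw [show (c.psi a)⁻¹ = c.psi a by rw [← map_inv, hai], h01, inv_mul_cancel_left,
            ← map_mul, haa, map_one]
  have hcomm : ∀ {b x : ↥L}, c.psi x = 1 → (∃ m : ℕ, b ^ 2 ^ m = 1) → Commute (π b) (π x) := by
    intro b x hx hb
    have := hπ1.mpr (c.comm_two hx hb)
    simp only [map_mul, map_inv] at this
    exact mul_inv_eq_iff_eq_mul.mp (mul_inv_eq_one.mp this)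
  have hcc₂O : π cc₂ = 1 := by
    refine hπ1.mpr (c.ker_pow hcc₂1 (m := m₀) (hπ1.mp ?_))
    have hce := hcomm hcc₂1 ⟨m₀, he2⟩
    have h1 : (π e * π cc₂) ^ 2 ^ m₀ = 1 := by
      rw [← map_mul, hcc₂, mul_inv_cancel_left, ← map_pow, conj_pow, he2]; simp
    rw [hce.mul_pow, ← map_pow π e, he2, map_one, one_mul] at h1
    rw [map_pow]; exact h1
  have haea : π a * π e * (π a)⁻¹ = π e := by
    have h1 : π a * π e * (π a)⁻¹ = π e * π cc₂ := by simp [hcc₂]
    rw [h1, hcc₂O, mul_one]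
  have hee : π e * π e = 1 := by
    rw [← map_mul, hπ1]
    refine c.ker_two (by rw [map_mul, hpe, hlsq]) ⟨m₀, ?_⟩
    rw [← pow_two, ← pow_mul, mul_comm, pow_mul, he2, one_pow]
  have hle' : π l = π e * π cc := by simp [hcc]
  have hsq : π cc * π cc = 1 := by
    have hca := hcomm hcc1 ha2
    have hce := hcomm hcc1 ⟨m₀, he2⟩
    have hacc : π a * π cc * (π a)⁻¹ = π cc := by rw [hca.eq, mul_inv_cancel_right]
    have h3 : π γ = π e * π e * (π cc * π cc) * π γ := by
      calc π γ = π a * (π a * π γ * (π a)⁻¹) * (π a)⁻¹ := by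
            calc π γ = (π a * π a) * π γ * (π a * π a)⁻¹ := by rw [hAA]; group
              _ = _ := by group
        _ = π a * (π e * π cc * π γ) * (π a)⁻¹ := by rw [haγ, hle']
        _ = (π a * π e * (π a)⁻¹) * (π a * π cc * (π a)⁻¹) * (π a * π γ * (π a)⁻¹) := by group
        _ = π e * π cc * (π e * π cc * π γ) := by rw [haea, hacc, haγ, hle']
        _ = π e * (π cc * π e) * π cc * π γ := by group
        _ = π e * π e * (π cc * π cc) * π γ := by rw [← hce.eq]; group
    rw [hee, one_mul] at h3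
    exact mul_eq_right.mp h3.symm
  have hccO : (cc : G) ∈ O := c.ker_pow hcc1 (m := 1) (by
    rw [pow_one, pow_two]; exact hπ1.mp (by rw [map_mul]; exact hsq))
  exact hgoal heK (mul_mem (inv_mem (hKU heK)) hlU) hccO (by simp [hcc])

end JCtx

end Cfsg.Agent.Lib.LocalEven2
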