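import Cfsg.Agent.Lib.LocalEven2.TwoFixed

/-!
# Point stabilisers of a coprime linear group on a projective line
-/

set_option autoImplicit false

namespace Cfsg.Agent.Lib.LocalEven2.LinePoints

open scoped Classical

variable {K V : Type*} [Field K] [IsAlgClosed K] [AddCommGroup V] [Module K V]

/-- A scalar endomorphism. -/
def IsScalar (f : Module.End K V) : Prop := ∃ c : K, ∀ v, f v = c • v

theorem span_pair_eq_top (h2 : Module.finrank K V = 2) {v w : V} (hv : v ≠ 0)
    (hw : ∀ c : K, c • v ≠ w) (x : V) : ∃ s t : K, s • v + t • w = x := by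
  have hli := (LinearIndependent.pair_iff' hv).mpr hw
  have htop := hli.span_eq_top_of_card_eq_finrank (by simp [h2])
  rw [← Submodule.mem_span_pair]
  have : x ∈ Submodule.span K (Set.range ![v, w]) := htop ▸ Submodule.mem_top
  rwa [Matrix.range_cons, Matrix.range_cons, Matrix.range_empty, Set.union_empty,
    Set.singleton_union] at this

/-- A nonscalar element of order prime to the characteristic fixes exactly two lines. -/
theorem two_lines (h2 : Module.finrank K V = 2) {f : Module.End K V} (hns : ¬ IsScalar f)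
    {N : ℕ} (hN0 : (N : K) ≠ 0) (hN : f ^ N = 1) :
    ∃ v w : V, v ≠ 0 ∧ w ≠ 0 ∧ Submodule.span K {v} ≠ Submodule.span K {w} ∧
      ∀ x : V, x ≠ 0 → ((Submodule.span K {x}).map f = Submodule.span K {x} ↔
        (Submodule.span K {x} = Submodule.span K {v} ∨
          Submodule.span K {x} = Submodule.span K {w})) := by
  have hfin : FiniteDimensional K V := FiniteDimensional.of_finrank_eq_succ h2
  have : Nontrivial V := Module.nontrivial_of_finrank_eq_succ h2
  obtain ⟨a, ha⟩ := Module.End.exists_eigenvalue f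
  obtain ⟨v, hv⟩ := ha.exists_hasEigenvector
  have hfv : f v = a • v := hv.apply_eq_smul
  have hv0 : v ≠ 0 := hv.2
  obtain ⟨w, hw⟩ : ∃ w : V, ∀ c : K, c • v ≠ w := by
    by_contra hc
    push Not at hc
    have h1 := finrank_le_one v hc
    omega
  obtain ⟨α, μ, hfw⟩ := span_pair_eq_top h2 hv0 hw (f w)
  have hNv : a ^ N = 1 := by
    have h := congrArg (fun g : Module.End K V => g v) hN
    simp only [Module.End.one_apply] at h
    rw [hv.pow_apply] at h
    exact smul_left_injective K hv0 (h.trans (one_smul K v).symm)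
  have hN1 : N ≠ 0 := fun e => hN0 (by simp [e])
  have ha0 : a ≠ 0 := fun e => by simp [e, hN1] at hNv
  have hμ : μ ≠ a := by
    intro e
    subst e
    have hpow : ∀ k : ℕ, (f ^ (k + 1)) w = μ ^ (k + 1) • w + ((k + 1) * μ ^ k * α) • v := by
      intro k
      induction k with
      | zero => rw [pow_one, ← hfw]; simp [add_comm]
      | succ k ih =>
        rw [pow_succ', Module.End.mul_apply, ih, map_add, map_smul, map_smul, ← hfw, hfv]
        push_cast
        module
    obtain ⟨m, rfl⟩ := Nat.exists_eq_succ_of_ne_zero hN1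
    have h := hpow m
    rw [hN, Module.End.one_apply, hNv, one_smul] at h
    have h' : (((m : K) + 1) * μ ^ m * α) • v = 0 := by
      have := h.symm
      rwa [add_eq_left] at this
    rw [smul_eq_zero, or_iff_left hv0, mul_eq_zero, mul_eq_zero] at h'
    rcases h' with (h' | h') | h'
    · exact hN0 (by push_cast; exact h')
    · exact ha0 (pow_eq_zero_iff'.mp h').1
    · refine hns ⟨μ, fun x => ?_⟩
      obtain ⟨s, t, rfl⟩ := span_pair_eq_top h2 hv0 hw x
      rw [map_add, map_smul, map_smul, hfv, ← hfw, h']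
      module
  set β := α / (μ - a) with hβ
  set u := β • v + w with hu
  have hfu : f u = μ • u := by
    have e : β * (μ - a) = α := div_mul_cancel₀ α (sub_ne_zero.mpr hμ)
    rw [hu, map_add, map_smul, hfv, ← hfw, ← e]
    module
  have hu' : ∀ c : K, c • v ≠ u := by
    intro c e
    refine hw (c - β) ?_
    rw [sub_smul, e, hu]; abel
  have hu0 : u ≠ 0 := fun e => hu' 0 (by simp [e])
  have hμ0 : μ ≠ 0 := by
    intro e
    have h : (f ^ N) u = u := by rw [hN]; rfl
    obtain ⟨m, rfl⟩ := Nat.exists_eq_succ_of_ne_zero hN1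
    rw [pow_succ, Module.End.mul_apply, hfu, e, zero_smul, map_zero] at h
    exact hu0 h.symm
  have hmap : ∀ x : V, ∀ c : K, c ≠ 0 → f x = c • x →
      (Submodule.span K {x}).map f = Submodule.span K {x} := by
    intro x c hc hx
    rw [Submodule.map_span, Set.image_singleton, hx]
    exact Submodule.span_singleton_smul_eq hc.isUnit x
  refine ⟨v, u, hv0, hu0, fun e => ?_, fun x hx => ⟨fun h => ?_, ?_⟩⟩
  · obtain ⟨c, hc⟩ := Submodule.mem_span_singleton.mp (e ▸ Submodule.mem_span_singleton_self u :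
      u ∈ Submodule.span K {v})
    exact hu' c hc
  · have hm : f x ∈ Submodule.span K {x} :=
      h ▸ Submodule.mem_map_of_mem (Submodule.mem_span_singleton_self x)
    obtain ⟨c, hc⟩ := Submodule.mem_span_singleton.mp hm
    obtain ⟨s, t, rfl⟩ := span_pair_eq_top h2 hv0 hu' x
    rw [map_add, map_smul, map_smul, hfv, hfu] at hc
    have hz : (s * a - c * s) • v + (t * μ - c * t) • u = 0 := by
      have := sub_eq_zero.mpr hc.symm
      rw [← this]; module
    obtain ⟨h1, h3⟩ :=
      LinearIndependent.pair_iff.mp ((LinearIndependent.pair_iff' hv0).mpr hu') _ _ hz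
    by_cases hs : s = 0
    · right
      subst hs
      rw [zero_smul, zero_add] at hx ⊢
      exact Submodule.span_singleton_smul_eq
        (isUnit_iff_ne_zero.mpr fun e => hx (by rw [e, zero_smul])) u
    · left
      have hc' : c = a := by
        have : s * (a - c) = 0 := by linear_combination h1
        rcases mul_eq_zero.mp this with h' | h'
        · exact absurd h' hs
        · exact (sub_eq_zero.mp h').symm
      have ht : t = 0 := by
        have : t * (μ - a) = 0 := by rw [hc'] at h3; linear_combination h3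
        rcases mul_eq_zero.mp this with h' | h'
        · exact h'
        · exact absurd (sub_eq_zero.mp h') hμ
      rw [ht, zero_smul, add_zero]
      exact Submodule.span_singleton_smul_eq (isUnit_iff_ne_zero.mpr hs) v
  · rintro (e | e) <;> rw [e]
    · exact hmap v a ha0 hfv
    · exact hmap u μ hμ0 hfu

variable {H : Type*} [Group H] [Finite H]

/-- Few lines have a large stabiliser modulo scalars. -/
theorem bounds (h2 : Module.finrank K V = 2) (ρ : H →* Module.End K V)
    (hH : (Nat.card H : K) ≠ 0) {n : ℕ} (hn : 2 ≤ n) (s : Finset (Submodule K V))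
    (hs : ∀ l ∈ s, (∃ v : V, v ≠ 0 ∧ l = Submodule.span K {v}) ∧
      ∃ h : H, l.map (ρ h) = l ∧ ∀ k, 0 < k → k < n → ¬ IsScalar (ρ (h ^ k))) :
    (6 ≤ n → s.card ≤ 2) ∧ (4 ≤ n → s.card ≤ 12) := by
  have hfin : FiniteDimensional K V := FiniteDimensional.of_finrank_eq_succ h2
  have hpow : ∀ h : H, ρ h ^ Nat.card H = 1 := fun h => by
    rw [← map_pow, pow_card_eq_one', map_one]
  -- the lines fixed by some nonscalar element
  let Pt : Submodule K V → Prop := fun l => (∃ v : V, v ≠ 0 ∧ l = Submodule.span K {v}) ∧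
    ∃ h : H, ¬ IsScalar (ρ h) ∧ l.map (ρ h) = l
  let X := {l : Submodule K V // Pt l}
  have hXfin : Finite X := by
    have hsub : {l | Pt l} ⊆ ⋃ h ∈ {h : H | ¬ IsScalar (ρ h)},
        {l : Submodule K V | (∃ v : V, v ≠ 0 ∧ l = Submodule.span K {v}) ∧ l.map (ρ h) = l} := by
      rintro l ⟨hl, h, hns, hf⟩
      simp only [Set.mem_iUnion]
      exact ⟨h, hns, hl, hf⟩
    refine Set.Finite.to_subtype (Set.Finite.subset ?_ hsub)
    refine Set.Finite.biUnion (Set.toFinite _) fun h hns => ?_
    obtain ⟨v, w, -, -, -, hiff⟩ := two_lines h2 hns hH (hpow h)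
    refine Set.Finite.subset (Set.toFinite
      {Submodule.span K {v}, Submodule.span K {w}}) ?_
    rintro l ⟨⟨x, hx, rfl⟩, hf⟩
    exact (hiff x hx).mp hf
  have hinv : ∀ (g : H) (l : Submodule K V), Pt l → Pt (l.map (ρ g)) := by
    rintro g l ⟨⟨v, hv, rfl⟩, h, hns, hf⟩
    have hcancel : ∀ x, ρ g⁻¹ (ρ g x) = x := fun x => by
      rw [← Module.End.mul_apply, ← map_mul, inv_mul_cancel, map_one]; rfl
    refine ⟨⟨ρ g v, fun e => hv (by rw [← hcancel v, e, map_zero]), ?_⟩, g * h * g⁻¹, ?_, ?_⟩
    · rw [Submodule.map_span, Set.image_singleton]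
    · rintro ⟨c, hc⟩
      refine hns ⟨c, fun x => ?_⟩
      have := congrArg (ρ g⁻¹) (hc (ρ g x))
      rw [map_mul, map_mul, Module.End.mul_apply, Module.End.mul_apply, hcancel, hcancel,
        map_smul, hcancel] at this
      exact this
    · have e : ρ (g * h * g⁻¹) * ρ g = ρ g * ρ h := by rw [← map_mul, ← map_mul]; congr 1; group
      rw [← Submodule.map_comp, ← Module.End.mul_eq_comp, e, Module.End.mul_eq_comp,
        Submodule.map_comp, hf]
  letI : MulAction H X :=
    { smul := fun g x => ⟨x.1.map (ρ g), hinv g x.1 x.2⟩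
      one_smul := fun x => Subtype.ext (by
        show x.1.map (ρ 1) = x.1
        rw [map_one]; exact Submodule.map_id _)
      mul_smul := fun g g' x => Subtype.ext (by
        show x.1.map (ρ (g * g')) = (x.1.map (ρ g')).map (ρ g)
        rw [map_mul, Module.End.mul_eq_comp, Submodule.map_comp]) }
  haveI : Fintype X := Fintype.ofFinite X
  have hPt : ∀ l ∈ s, Pt l := fun l hl => by
    obtain ⟨hv, h, hf, hns⟩ := hs l hl
    exact ⟨hv, h, by simpa using hns 1 Nat.one_pos (by omega), hf⟩
  have hsX : s.card ≤ Fintype.card X := by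
    rw [← Fintype.card_coe]
    exact Fintype.card_le_of_injective (fun l => (⟨l.1, hPt l.1 l.2⟩ : X))
      fun a b e => Subtype.ext (congrArg (fun u : X => u.1) e :)
  by_cases hX3 : Fintype.card X ≤ 2
  · exact ⟨fun _ => by omega, fun _ => by omega⟩
  set φ := MulAction.toPermHom H X with hφ
  haveI : Fintype ↥φ.range := Fintype.ofFinite _
  have happ : ∀ (h : H) (x : X), ((⟨φ h, h, rfl⟩ : ↥φ.range) • x : X).1 = x.1.map (ρ h) :=
    fun h x => rfl
  have hscal : ∀ h : H, φ h = 1 → IsScalar (ρ h) := by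
    intro h h1
    by_contra hns
    obtain ⟨v, w, -, -, -, hiff⟩ := two_lines h2 hns hH (hpow h)
    apply hX3
    have hle : (Finset.univ.image fun x : X => x.1) ⊆
        {Submodule.span K {v}, Submodule.span K {w}} := by
      intro l hl
      obtain ⟨x, -, rfl⟩ := Finset.mem_image.mp hl
      obtain ⟨y, hy, hxy⟩ := x.2.1
      have h3 : x.1.map (ρ h) = x.1 := by
        have := congrArg (fun e : Equiv.Perm X => (e x).1) h1
        exact this
      rw [hxy] at h3
      rw [Finset.mem_insert, Finset.mem_singleton, hxy]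
      exact (hiff y hy).mp h3
    have := Finset.card_le_card hle
    rw [Finset.card_image_of_injective _ Subtype.val_injective, Finset.card_univ] at this
    exact this.trans ((Finset.card_insert_le _ _).trans (by simp))
  have hscal' : ∀ h : H, IsScalar (ρ h) → φ h = 1 := by
    intro h ⟨c, hc⟩
    refine Equiv.ext fun x => ?_
    obtain ⟨y, hy, hxy⟩ := x.2.1
    have hc0 : c ≠ 0 := by
      intro e
      have h1 : ρ h⁻¹ (ρ h y) = y := by
        rw [← Module.End.mul_apply, ← map_mul, inv_mul_cancel, map_one]; rfl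
      rw [hc y, e, zero_smul, map_zero] at h1
      exact hy h1.symm
    apply Subtype.ext
    show x.1.map (ρ h) = x.1
    rw [hxy, Submodule.map_span, Set.image_singleton, hc,
      Submodule.span_singleton_smul_eq hc0.isUnit]
  have hfix : ∀ g : ↥φ.range, g ≠ 1 → Nat.card (MulAction.fixedBy X g) = 2 := by
    rintro ⟨_, h, rfl⟩ hg
    have hns : ¬ IsScalar (ρ h) := fun hsc => hg (Subtype.ext (hscal' h hsc))
    obtain ⟨v, w, hv, hw, hne, hiff⟩ := two_lines h2 hns hH (hpow h)
    let xv : X := ⟨_, ⟨⟨v, hv, rfl⟩, h, hns, (hiff v hv).mpr (Or.inl rfl)⟩⟩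
    let xw : X := ⟨_, ⟨⟨w, hw, rfl⟩, h, hns, (hiff w hw).mpr (Or.inr rfl)⟩⟩
    have hxne : xv ≠ xw := fun e => hne (congrArg Subtype.val e)
    rw [show MulAction.fixedBy X (⟨φ h, h, rfl⟩ : ↥φ.range) = {xv, xw} from ?_,
      Nat.card_coe_set_eq, Set.ncard_pair hxne]
    ext x
    obtain ⟨y, hy, hxy⟩ := x.2.1
    rw [MulAction.mem_fixedBy, Subtype.ext_iff, happ, Set.mem_insert_iff, Set.mem_singleton_iff,
      Subtype.ext_iff, Subtype.ext_iff, hxy]
    exact hiff y hy
  have hXh : ∀ x : X, ∃ g : ↥φ.range, g ≠ 1 ∧ g • x = x := by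
    intro x
    obtain ⟨h, hns, hf⟩ := x.2.2
    exact ⟨⟨φ h, h, rfl⟩, fun e => hns (hscal h (congrArg Subtype.val e)), Subtype.ext hf⟩
  have hstab : ∀ l (hl : l ∈ s),
      n ≤ Nat.card (MulAction.stabilizer ↥φ.range (⟨l, hPt l hl⟩ : X)) := by
    intro l hl
    obtain ⟨-, h, hf, hns⟩ := hs l hl
    set x : X := ⟨l, hPt l hl⟩
    have hmem : ∀ i : ℕ, (⟨φ (h ^ i), h ^ i, rfl⟩ : ↥φ.range) ∈
        MulAction.stabilizer ↥φ.range x := by
      have h1 : (⟨φ h, h, rfl⟩ : ↥φ.range) ∈ MulAction.stabilizer ↥φ.range x :=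
        MulAction.mem_stabilizer_iff.mpr (Subtype.ext hf)
      intro i
      have h2 := pow_mem h1 i
      convert h2 using 1
      exact Subtype.ext (map_pow φ h i)
    rw [← Nat.card_fin n]
    refine Nat.card_le_card_of_injective (fun i : Fin n => ⟨_, hmem i⟩) fun i j e => ?_
    by_contra hne
    have e' : φ (h ^ (i : ℕ)) = φ (h ^ (j : ℕ)) :=
      congrArg (fun u : ↥(MulAction.stabilizer ↥φ.range x) => ((u : ↥φ.range) : Equiv.Perm X)) e
    rcases Nat.lt_or_gt_of_ne (fun h => hne (Fin.ext h)) with hlt | hlt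
    · refine hns (j - i) (Nat.sub_pos_of_lt hlt) (by omega) (hscal _ ?_)
      rw [show h ^ ((j : ℕ) - i) = h ^ (j : ℕ) * (h ^ (i : ℕ))⁻¹ from pow_sub h hlt.le, map_mul,
        map_inv, e', mul_inv_cancel]
    · refine hns (i - j) (Nat.sub_pos_of_lt hlt) (by omega) (hscal _ ?_)
      rw [show h ^ ((i : ℕ) - j) = h ^ (i : ℕ) * (h ^ (j : ℕ))⁻¹ from pow_sub h hlt.le, map_mul,
        map_inv, e', mul_inv_cancel]
  obtain ⟨h6, h4⟩ := TwoFixed.bounds hfix hXh
  have key : ∀ k, k ≤ n →
      s.card ≤ (Finset.univ.filter fun x : X => k ≤ Nat.card (MulAction.stabilizer ↥φ.range x)).card := by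
    intro k hk
    rw [← Fintype.card_coe, ← Finset.card_univ]
    exact Finset.card_le_card_of_injOn (fun l => (⟨l.1, hPt l.1 l.2⟩ : X))
      (fun l _ => Finset.mem_filter.mpr ⟨Finset.mem_univ _, hk.trans (hstab l.1 l.2)⟩)
      (fun a _ b _ e => Subtype.ext (congrArg (fun u : X => u.1) e :))
  exact ⟨fun hn6 => (key 6 hn6).trans h6, fun hn4 => (key 4 hn4).trans h4⟩

end Cfsg.Agent.Lib.LocalEven2.LinePoints
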