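import Cfsg.Agent.Lib.LocalEven2.ClosedSections
import Cfsg.Agent.Lib.PLocal.QdFree
import Cfsg.Agent.Lib.PLocal.Dickson
import Cfsg.Agent.Lib.PLocal.ZJFunctor
import Cfsg.Agent.Lib.LocalEven.Qd

/-!
Control of fusion by `Z(J(S))` from hypotheses on the normalizers of the subgroups containing `Z(S)`.
-/

set_option autoImplicit false
set_option linter.style.haveILetI false

universe u

namespace Cfsg.Agent.Lib.LocalEven2

open Cfsg.Agent.Lib.PLocal
open Cfsg.Agent.Lib.FusionControl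

variable {p : ℕ} [Fact p.Prime] {G : Type u} [Group G] [Finite G]

/-- A group with no section `SL₂(p)` does not involve `Qd(p)`. -/
theorem exists_sl_two_section {X : Type u} [Group X] {N : Subgroup X}
    (h : Cfsg.Involves ↥(Cfsg.qd p) ↥N) :
    ∃ (H K : Subgroup X) (_ : (K.subgroupOf H).Normal), H ≤ N ∧
      Nonempty ((H ⧸ K.subgroupOf H) ≃* Matrix.SpecialLinearGroup (Fin 2) (ZMod p)) := by
  obtain ⟨H₀, R, hR, ⟨e⟩⟩ := h
  let π : ↥(Cfsg.qd p) →* Matrix.SpecialLinearGroup (Fin 2) (ZMod p) := LocalEven.Qd.proj (F := ZMod p)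
  have hπ : Function.Surjective π := fun g => ⟨LocalEven.Qd.el g 0, LocalEven.Qd.proj_el g 0⟩
  let H : Subgroup X := H₀.map N.subtype
  let i : H →* H₀ := (H₀.equivMapOfInjective N.subtype N.subtype_injective).symm.toMonoidHom
  let f : H →* Matrix.SpecialLinearGroup (Fin 2) (ZMod p) :=
    π.comp (e.toMonoidHom.comp ((QuotientGroup.mk' (R.subgroupOf H₀)).comp i))
  have hf : Function.Surjective f :=
    hπ.comp (e.surjective.comp ((QuotientGroup.mk'_surjective _).comp (MulEquiv.surjective _)))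
  have hk : (f.ker.map H.subtype).subgroupOf H = f.ker :=
    Subgroup.comap_map_eq_self_of_injective H.subtype_injective _
  have hn : ((f.ker.map H.subtype).subgroupOf H).Normal := by rw [hk]; infer_instance
  exact ⟨H, f.ker.map H.subtype, hn, Subgroup.map_subtype_le H₀,
    ⟨(QuotientGroup.quotientMulEquivOfEq hk).trans (QuotientGroup.quotientKerEquivOfSurjective f hf)⟩⟩

/-- A centric extremal subgroup contains `Z(S)` together with each of its conjugates in `S`. -/
theorem center_le_cj_of_centric (S : Sylow p G) {U : Subgroup G} (hU : Extr p (S : Subgroup G) U)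
    (hc : (S : Subgroup G) ⊓ Subgroup.centralizer (U : Set G) ≤ U) {h : G}
    (hh : cj h U ≤ (S : Subgroup G)) :
    (S : Subgroup G) ⊓ Subgroup.centralizer ((S : Subgroup G) : Set G) ≤ cj h U := by
  intro z hz
  have hzc : ∀ a ∈ U, h⁻¹ * z * h * a = a * (h⁻¹ * z * h) := by
    intro a ha
    have := (Subgroup.mem_centralizer_iff.1 hz.2) _ (hh (conj_mem_cj ha))
    calc h⁻¹ * z * h * a = h⁻¹ * (z * (h * a * h⁻¹)) * h := by group
      _ = h⁻¹ * (h * a * h⁻¹ * z) * h := by rw [this]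
      _ = _ := by group
  set Q := cj h⁻¹ ((S : Subgroup G) ⊓ Subgroup.centralizer (cj h U : Set G)) with hQdef
  have hQC : Q ≤ Subgroup.centralizer (U : Set G) := by
    rintro _ ⟨y, hy, rfl⟩
    refine Subgroup.mem_centralizer_iff.2 fun a ha => ?_
    have := Subgroup.mem_centralizer_iff.1 hy.2 _ (conj_mem_cj (g := h) ha)
    show a * (h⁻¹ * y * h⁻¹⁻¹) = h⁻¹ * y * h⁻¹⁻¹ * a
    calc a * (h⁻¹ * y * h⁻¹⁻¹) = h⁻¹ * (h * a * h⁻¹ * y) * h := by group
      _ = h⁻¹ * (y * (h * a * h⁻¹)) * h := by rw [this]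
      _ = _ := by group
  obtain ⟨n, hn, hle⟩ := exists_cj_le_of_not_dvd (inf_le_right : nS (S : Subgroup G) U ≤ _)
    (S.2.to_le inf_le_left) hU.2 (hQC.trans (Subgroup.centralizer_le_normalizer _))
    (isPGroup_cj (S.2.to_le inf_le_left))
  have hzQ : h⁻¹ * z * h ∈ Q := by
    refine mem_cj.2 ?_
    rw [show h⁻¹⁻¹ * (h⁻¹ * z * h) * h⁻¹ = z by group]
    exact ⟨hz.1, Subgroup.mem_centralizer_iff.2 fun a ha => (Subgroup.mem_centralizer_iff.1 hz.2) a (hh ha)⟩
  have h1 : n * (h⁻¹ * z * h) * n⁻¹ ∈ U := by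
    refine hc ⟨(hle (conj_mem_cj hzQ)).1, Subgroup.mem_centralizer_iff.2 fun a ha => ?_⟩
    have hb : n⁻¹ * a * n ∈ U := by simpa using (Subgroup.mem_normalizer_iff.1 (inv_mem hn) a).1 ha
    calc a * (n * (h⁻¹ * z * h) * n⁻¹) = n * (n⁻¹ * a * n * (h⁻¹ * z * h)) * n⁻¹ := by group
      _ = n * (h⁻¹ * z * h * (n⁻¹ * a * n)) * n⁻¹ := by rw [hzc _ hb]
      _ = _ := by group
  exact mem_cj.2 ((Subgroup.mem_normalizer_iff.1 hn _).2 h1)

/-- Control by the normalizer of `Z(J(S))` from stability of the sections of the normalizers of the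
subgroups between `Z(S)` and `S`. -/
theorem closedControl_zj_of_local (hp2 : p ≠ 2) (S : Sylow p G)
    (hst : ∀ P : Subgroup G, (S : Subgroup G) ⊓ Subgroup.centralizer ((S : Subgroup G) : Set G) ≤ P →
      P ≤ (S : Subgroup G) → ¬ Cfsg.Involves ↥(Cfsg.qd p) ↥(Subgroup.normalizer (P : Set G))) :
    ClosedControl 0 (S : Subgroup G) (S : Subgroup G) := by
  set Zc := (S : Subgroup G) ⊓ Subgroup.centralizer ((S : Subgroup G) : Set G) with hZc
  let Q : Subgroup G → Prop := fun U =>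
    ∀ h : G, cj h (nS (S : Subgroup G) U) ≤ (S : Subgroup G) → Zc ≤ cj h U
  have hQle : ∀ U, Q U → Zc ≤ U := fun U hU => by
    simpa using hU 1 (by simpa using (inf_le_left : nS (S : Subgroup G) U ≤ S))
  refine engine S (ZCtrl 0 (S : Subgroup G)) Q (fun U => Extr p (S : Subgroup G) U ∧ Q U)
    (fun hAB h => h.mono hAB) (fun h1 h2 => h1.comp h2)
    (fun x hx => ⟨x, normalizer_le_normalizer_zIn 0 _ hx, fun _ _ => rfl⟩) ?_ ?_ ?_
  · intro R g hR hgR hE
    obtain ⟨g', hch, hee⟩ := cchain_AG S R g hR hgR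
    suffices key : ∀ (A : Set G) (g : G), Chain {U | AG p (S : Subgroup G) U} A g →
        ∀ R' : Subgroup G, (R' : Set G) = A → Nat.card R' = Nat.card R →
          ZCtrl 0 (S : Subgroup G) A g by
      obtain ⟨y, hy, hye⟩ := key _ g' hch R rfl rfl
      exact ⟨y, hy, fun a ha => (hye a ha).trans (hee a ha)⟩
    intro A g h
    induction h with
    | @step A x T hT hA hx =>
      intro R' hR' hc
      have hQT : Q T := fun h hh =>
        center_le_cj_of_centric S hT.1 hT.2.1 ((cj_le_cj (le_nS hT.1.1)).trans hh)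
      refine (hE T hT.1.1 hQT ?_ x hx).mono hA
      rw [← hc]
      exact Subgroup.card_le_of_le (fun r hr => hA (hR' ▸ hr))
    | @comp A x y _ _ ih1 ih2 =>
      intro R' hR' hc
      exact (ih1 R' hR' hc).comp (ih2 (cj x R') (by rw [← hR']; rfl) (by rw [card_cj]; exact hc))
  · intro U hU hd
    obtain ⟨h, hh, hg⟩ := exists_extr_cj S hU
    refine ⟨h, hh, hg, fun g hgle => ?_⟩
    rw [cj_cj]
    refine hd (g * h) ?_
    rw [← cj_cj]
    exact (cj_le_cj (cj_nS_le hh)).trans hgle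
  · rintro U hUS ⟨hext, hQ⟩ IH _ x hx
    set N := Subgroup.normalizer (U : Set G) with hN
    set T := nS (S : Subgroup G) U with hT
    have hTp : IsPGroup p T := S.2.to_le inf_le_left
    have hTN : T ≤ N := inf_le_right
    have hcl : Cfsg.IsStronglyClosed (T.subgroupOf N) (T.subgroupOf N) :=
      ⟨le_rfl, fun _ _ _ h => h⟩
    have hfree : ¬ Cfsg.Involves ↥(Cfsg.qd p) ↥N := hst U (hQle U hQ) hUS
    have hctrl : ClosedControl 0 (T.subgroupOf N) (T.subgroupOf N) :=
      closedControl_of_sections hp2 (Or.inr rfl)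
        (fun Y _ _ hY => isNormalizerPStable_of_involved dicksonTwo hp2 hfree hY) _ N rfl
        involves_self
        ((hTp.comap_of_injective N.subtype N.subtype_injective : IsPGroup p (T.subgroupOf N)).toSylow hext.2)
        (T.subgroupOf N) hcl
    obtain ⟨y, hy, hye⟩ := exists_of_closedControl hTN le_rfl hctrl (A := movSet (S : Subgroup G) U x)
      hx (fun b hb => hb.1) (by rintro _ ⟨b, hb, rfl⟩; exact hb.2)
    by_cases hTS : T = (S : Subgroup G)
    · refine ⟨y, ?_, hye⟩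
      have h2 := hy.2
      rwa [hTS] at h2
    · set Z₁ := zIn 0 T with hZ₁
      have hZT : Z₁ ≤ T := zIn_le_self 0 T
      have h1 : nS (S : Subgroup G) T ≤ nS (S : Subgroup G) Z₁ :=
        inf_le_inf_left _ (normalizer_le_normalizer_zIn 0 T)
      have h2 : T < nS (S : Subgroup G) T := lt_nS S.2 (lt_of_le_of_ne inf_le_left hTS)
      have hQ₁ : Q Z₁ := by
        intro h hh z hz
        have hTS' : cj h T ≤ (S : Subgroup G) := (cj_le_cj (h2.le.trans h1)).trans hh
        have hzT : z ∈ cj h T := cj_le_cj (le_nS hUS) (hQ h hTS' hz)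
        rw [hZ₁, cj, map_zIn_of_injective _ (MulAut.conj h).injective]
        exact center_le_zIn_zero _ ⟨hzT, Subgroup.mem_centralizer_iff.2 fun t ht =>
          Subgroup.mem_centralizer_iff.1 hz.2 t (hTS' ht)⟩
      obtain ⟨z, hz, hze⟩ := (IH Z₁ (hZT.trans inf_le_left) (Or.inl hQ₁)
        (lt_of_lt_of_le (card_lt_of_lt h2) (Subgroup.card_le_of_le h1)) y hy.2).mono
        (show movSet (S : Subgroup G) U x ⊆ movSet (S : Subgroup G) Z₁ y from fun b hb =>
          ⟨h1 (h2.le hb.1), h1 (h2.le (by rw [hye b hb]; exact hb.2))⟩)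
      exact ⟨z, hz, fun b hb => (hze b hb).trans (hye b hb)⟩

end Cfsg.Agent.Lib.LocalEven2
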