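import Cfsg.Agent.Lib.PLocal.Replacement
import Mathlib

/-!
# Replacement for linear actions

Counting lemmas and Timmesfeld replacement for a group acting linearly on a finite vector space
over the field with `p` elements.
-/

set_option autoImplicit false

namespace Cfsg.Agent.Lib.LocalEven2.PGV

variable {G : Type*} [Group G] {V : Type*} [AddCommGroup V] {p : ℕ} [Fact p.Prime]
  [Module (ZMod p) V]

/-- the operator `g - 1` -/
def q (ρ : G →* Module.End (ZMod p) V) (g : G) : Module.End (ZMod p) V := ρ g - 1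

lemma q_apply (ρ : G →* Module.End (ZMod p) V) (g : G) (v : V) : q ρ g v = ρ g v - v := rfl

/-- fixed points of a subgroup -/
def fix (ρ : G →* Module.End (ZMod p) V) (B : Subgroup G) : Submodule (ZMod p) V where
  carrier := {v | ∀ b ∈ B, ρ b v = v}
  add_mem' := fun {v w} hv hw b hb => by rw [map_add, hv b hb, hw b hb]
  zero_mem' := fun b _ => map_zero _
  smul_mem' := fun c v hv b hb => by rw [map_smul, hv b hb]

/-- the weight `|B| |C_V(B)|` -/
noncomputable def wt (ρ : G →* Module.End (ZMod p) V) (B : Subgroup G) : ℕ :=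
  Nat.card ↥B * Nat.card ↥(fix ρ B)

/-- pointwise stabilizer of a set of vectors -/
def stab (ρ : G →* Module.End (ZMod p) V) (s : Set V) : Subgroup G where
  carrier := {g | ∀ v ∈ s, ρ g v = v}
  mul_mem' := fun {g h} hg hh v hv => by rw [map_mul, Module.End.mul_apply, hh v hv, hg v hv]
  one_mem' := fun v _ => by rw [map_one, Module.End.one_apply]
  inv_mem' := fun {g} hg v hv => by
    conv_lhs => rw [← hg v hv]
    rw [← Module.End.mul_apply, ← map_mul, inv_mul_cancel, map_one, Module.End.one_apply]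

lemma mem_stab {ρ : G →* Module.End (ZMod p) V} {s : Set V} {g : G} :
    g ∈ stab ρ s ↔ ∀ v ∈ s, ρ g v = v := Iff.rfl

variable {ρ : G →* Module.End (ZMod p) V}

lemma mem_fix {B : Subgroup G} {v : V} : v ∈ fix ρ B ↔ ∀ b ∈ B, ρ b v = v := Iff.rfl

lemma fix_anti {B C : Subgroup G} (h : B ≤ C) : fix ρ C ≤ fix ρ B :=
  fun _ hv b hb => hv b (h hb)

lemma fix_inf_fix (B C : Subgroup G) : fix ρ B ⊓ fix ρ C = fix ρ (B ⊔ C) := by
  refine le_antisymm (fun v hv => ?_) (le_inf (fix_anti le_sup_left) (fix_anti le_sup_right))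
  have h : B ⊔ C ≤ stab ρ {v} :=
    sup_le (fun b hb => fun w hw => by rw [Set.mem_singleton_iff] at hw; subst hw; exact hv.1 b hb)
      (fun b hb => fun w hw => by rw [Set.mem_singleton_iff] at hw; subst hw; exact hv.2 b hb)
  exact fun b hb => h hb v rfl

lemma rho_inv_apply (g : G) (v : V) : ρ g⁻¹ (ρ g v) = v := by
  rw [← Module.End.mul_apply, ← map_mul, inv_mul_cancel, map_one, Module.End.one_apply]

lemma rho_apply_inv (g : G) (v : V) : ρ g (ρ g⁻¹ v) = v := by
  rw [← Module.End.mul_apply, ← map_mul, mul_inv_cancel, map_one, Module.End.one_apply]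

lemma commute_q {a c : G} (h : Commute a c) : Commute (q ρ a) (q ρ c) :=
  ((((h.map ρ).sub_left (Commute.one_left _))).sub_right (Commute.one_right _))

lemma q_mul (g h : G) : q ρ (g * h) = q ρ g * q ρ h + q ρ g + q ρ h := by
  simp only [q, map_mul, mul_sub, sub_mul, mul_one, one_mul]; abel

lemma q_one : q ρ (1 : G) = 0 := by simp [q]

lemma q_pow_eq_zero {g : G} (hg : g ^ p = 1) : (q ρ g) ^ p = 0 := by
  rcases subsingleton_or_nontrivial V with hV | hV
  · exact LinearMap.ext fun v => Subsingleton.elim _ _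
  · haveI : CharP (Module.End (ZMod p) V) p :=
      charP_of_injective_algebraMap (algebraMap (ZMod p) _).injective p
    rw [q, sub_pow_char_of_commute p (Commute.one_right _), ← map_pow, hg, map_one, one_pow, sub_self]

/-- the elements fixing `M` pointwise and `v` modulo `M` -/
def modSubP (ρ : G →* Module.End (ZMod p) V) (M : Submodule (ZMod p) V) (v : V) : Subgroup G where
  carrier := {g | g ∈ stab ρ (M : Set V) ∧ ρ g v - v ∈ M}
  one_mem' := ⟨one_mem _, by simp⟩
  mul_mem' := fun {g h} hg hh => ⟨mul_mem hg.1 hh.1, by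
    have e : ρ (g * h) v - v = ρ g (ρ h v - v) + (ρ g v - v) := by
      rw [map_mul, Module.End.mul_apply, map_sub]; abel
    rw [e, hg.1 _ hh.2]; exact M.add_mem hh.2 hg.2⟩
  inv_mem' := fun {g} hg => ⟨(stab ρ (M : Set V)).inv_mem hg.1, by
    have e : ρ g⁻¹ v - v = - ρ g⁻¹ (ρ g v - v) := by
      rw [map_sub, rho_inv_apply]; abel
    rw [e, ((stab ρ (M : Set V)).inv_mem hg.1) _ hg.2]; exact M.neg_mem hg.2⟩

/-- A commuting family of nilpotent operators has a common vector mapped into `W`. -/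
lemma exists_top_vec {R M ι : Type*} [Semiring R] [AddCommMonoid M] [Module R M]
    (f : ι → Module.End R M) (hc : ∀ i j, Commute (f i) (f j)) {n : ℕ} (hn : ∀ i, f i ^ n = 0)
    (W : Submodule R M) (hW : ∀ i, ∀ w ∈ W, f i w ∈ W) (Q : M → Prop)
    (hQ : ∀ i v, Q v → Q (f i v)) (s : Finset ι) {v : M} (hv : v ∉ W) (hQv : Q v) :
    ∃ v', v' ∉ W ∧ Q v' ∧ ∀ i ∈ s, f i v' ∈ W := by
  classical
  induction s using Finset.induction with
  | empty => exact ⟨v, hv, hQv, by simp⟩
  | @insert j s hj ih =>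
    obtain ⟨v', hv', hQv', hs⟩ := ih
    have hex : ∃ e, (f j ^ e) v' ∈ W := ⟨n, by rw [hn]; exact W.zero_mem⟩
    have he0 : Nat.find hex ≠ 0 := by
      intro h0
      have := Nat.find_spec hex
      rw [h0, pow_zero] at this
      exact hv' this
    obtain ⟨e, he⟩ := Nat.exists_eq_succ_of_ne_zero he0
    have hQpow : ∀ e, Q ((f j ^ e) v') := by
      intro e
      induction e with
      | zero => simpa using hQv'
      | succ e ih => rw [pow_succ', Module.End.mul_apply]; exact hQ j _ ih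
    have hWpow : ∀ e, ∀ w ∈ W, (f j ^ e) w ∈ W := by
      intro e
      induction e with
      | zero => intro w hw; simpa using hw
      | succ e ih => intro w hw; rw [pow_succ', Module.End.mul_apply]; exact hW j _ (ih w hw)
    refine ⟨(f j ^ e) v', Nat.find_min hex (by omega), hQpow e, fun i hi => ?_⟩
    rcases Finset.mem_insert.1 hi with rfl | hi
    · have := Nat.find_spec hex
      rwa [he, pow_succ', Module.End.mul_apply] at this
    · rw [← Module.End.mul_apply, ((hc i j).pow_right e).eq, Module.End.mul_apply]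
      exact hWpow e _ (hs i hi)

section Count

variable [Finite V]

lemma card_eq_pow (W : Submodule (ZMod p) V) :
    Nat.card ↥W = p ^ Module.finrank (ZMod p) ↥W := by
  rw [Module.natCard_eq_pow_finrank (K := ZMod p), Nat.card_zmod]

lemma card_sup_inf (X Y : Submodule (ZMod p) V) :
    Nat.card ↥(X ⊔ Y) * Nat.card ↥(X ⊓ Y) = Nat.card ↥X * Nat.card ↥Y := by
  simp only [card_eq_pow, ← pow_add, Submodule.finrank_sup_add_finrank_inf_eq]

lemma card_sq_le {X Z : Submodule (ZMod p) V} (f : Module.End (ZMod p) V)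
    (hf : Function.Injective f) (hX : X ≤ Z) (hfX : X.map f ≤ Z) :
    Nat.card ↥X * Nat.card ↥X ≤ Nat.card ↥Z * Nat.card ↥(X ⊓ X.map f) := by
  have h1 : Nat.card ↥(X.map f) = Nat.card ↥X :=
    Nat.card_congr (Submodule.equivMapOfInjective f hf X).toEquiv.symm
  calc Nat.card ↥X * Nat.card ↥X = Nat.card ↥X * Nat.card ↥(X.map f) := by rw [h1]
    _ = Nat.card ↥(X ⊔ X.map f) * Nat.card ↥(X ⊓ X.map f) := (card_sup_inf _ _).symm
    _ ≤ _ := Nat.mul_le_mul_right _
      (Nat.card_mono (Set.toFinite _) (SetLike.coe_subset_coe.2 (sup_le hX hfX)))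

lemma card_split (U : Submodule (ZMod p) V) (f : Module.End (ZMod p) V) :
    Nat.card ↥U = Nat.card ↥(U ⊓ LinearMap.ker f) * Nat.card ↥(U.map f) := by
  rw [Submodule.card_eq_card_quotient_mul_card (LinearMap.ker (f.domRestrict U)),
    Nat.card_congr (f.domRestrict U).quotKerEquivRange.toEquiv, LinearMap.range_domRestrict]
  congr 1
  exact Nat.card_congr
    { toFun := fun x => ⟨x.1.1, x.1.2, x.2⟩
      invFun := fun x => ⟨⟨x.1, x.2.1⟩, x.2.2⟩
      left_inv := fun _ => rfl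
      right_inv := fun _ => rfl }

lemma card_mono {X Y : Submodule (ZMod p) V} (h : X ≤ Y) : Nat.card ↥X ≤ Nat.card ↥Y :=
  Nat.card_mono (Set.toFinite _) (SetLike.coe_subset_coe.2 h)

lemma eq_of_le_of_card {X Y : Submodule (ZMod p) V} (h : X ≤ Y)
    (hc : Nat.card ↥Y ≤ Nat.card ↥X) : X = Y := by
  refine SetLike.coe_injective (Set.eq_of_subset_of_ncard_le (SetLike.coe_subset_coe.2 h) ?_)
  rwa [← Nat.card_coe_set_eq, ← Nat.card_coe_set_eq]

variable [Finite G]

/-- Cosets of `K` in `A` inject into `X / C`. -/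
lemma inj_count {A K : Subgroup G} (φ : G → V) {C X : Submodule (ZMod p) V} (hCX : C ≤ X)
    (hφ : ∀ a ∈ A, φ a ∈ X) (hker : ∀ a ∈ A, ∀ a' ∈ A, φ a - φ a' ∈ C → a'⁻¹ * a ∈ K) :
    Nat.card ↥A * Nat.card ↥C ≤ Nat.card ↥K * Nat.card ↥X := by
  classical
  let r : ↥A → ↥A := fun a => (QuotientGroup.mk (s := K.subgroupOf A) a).out
  have hr : ∀ a : ↥A, ((r a)⁻¹ * a : ↥A) ∈ K.subgroupOf A := fun a =>
    QuotientGroup.eq.1 (QuotientGroup.out_eq' _)
  let F : ↥A × ↥C → ↥K × ↥X := fun ac =>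
    (⟨((r ac.1 : G))⁻¹ * ac.1, hr ac.1⟩, ⟨φ (r ac.1) + ac.2, X.add_mem (hφ _ (r ac.1).2) (hCX ac.2.2)⟩)
  have hF : Function.Injective F := by
    rintro ⟨a, c⟩ ⟨a', c'⟩ h
    have h1 : ((r a : G))⁻¹ * a = ((r a' : G))⁻¹ * a' :=
      congrArg (fun x : ↥K × ↥X => (x.1 : G)) h
    have h2 : φ (r a) + c = φ (r a') + c' := congrArg (fun x : ↥K × ↥X => (x.2 : V)) h
    have h3 : φ (r a) - φ (r a') ∈ C := by
      have : φ (r a) - φ (r a') = (c' : V) - c := by
        rw [sub_eq_sub_iff_add_eq_add, h2, add_comm]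
      rw [this]; exact C.sub_mem c'.2 c.2
    have h4 : r a = r a' := by
      have h5 := hker _ (r a).2 _ (r a').2 h3
      have h6 : (QuotientGroup.mk (s := K.subgroupOf A) (r a')) = QuotientGroup.mk (r a) :=
        QuotientGroup.eq.2 h5
      simp only [r, QuotientGroup.out_eq'] at h6
      simp only [r, h6]
    rw [h4] at h1 h2
    exact Prod.ext (Subtype.ext (mul_left_cancel h1)) (Subtype.ext (add_left_cancel h2))
  have := Nat.card_le_card_of_injective F hF
  rwa [Nat.card_prod, Nat.card_prod] at this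

/-- **Timmesfeld replacement.** -/
theorem exists_replacement {A : Subgroup G} (hexp : ∀ a ∈ A, a ^ p = 1)
    (hab : ∀ a ∈ A, ∀ c ∈ A, Commute a c) (hmax : ∀ B ≤ A, wt ρ B ≤ wt ρ A)
    (hA : ∃ a ∈ A, ρ a ≠ 1) :
    ∃ B ≤ A, wt ρ B = wt ρ A ∧ (∀ c ∈ A, ∀ b ∈ B, q ρ c * q ρ b = 0) ∧ ∃ b ∈ B, ρ b ≠ 1 := by
  classical
  set Y : Submodule (ZMod p) V := (⨆ a : ↥A, LinearMap.range (q ρ (a : G))) ⊔ fix ρ A with hY
  let Au : V → Subgroup G := fun u => A ⊓ stab ρ {w | ∃ a ∈ A, w = q ρ a u}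
  let P : Subgroup G → Prop := fun B => B ≤ A ∧ wt ρ B = wt ρ A ∧ fix ρ B ≤ Y
  have hu : ∀ u : V, P (Au u) := by
    intro u
    set X : Submodule (ZMod p) V :=
      Submodule.span (ZMod p) {w | ∃ a ∈ A, w = q ρ a u} ⊔ fix ρ A with hX
    have hXY : X ≤ Y := sup_le (Submodule.span_le.2 (by
      rintro w ⟨a, ha, rfl⟩
      exact Submodule.mem_sup_left (Submodule.mem_iSup_of_mem (⟨a, ha⟩ : ↥A) ⟨u, rfl⟩))) le_sup_right
    have hXfix : X ≤ fix ρ (Au u) := sup_le (Submodule.span_le.2 (by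
      rintro w hw b hb
      exact hb.2 w hw)) (fix_anti inf_le_left)
    have hcount : Nat.card ↥A * Nat.card ↥(fix ρ A) ≤ Nat.card ↥(Au u) * Nat.card ↥X := by
      refine inj_count (fun a => q ρ a u) le_sup_right
        (fun a ha => Submodule.mem_sup_left (Submodule.subset_span ⟨a, ha, rfl⟩)) ?_
      intro a ha a' ha' h
      refine ⟨mul_mem (A.inv_mem ha') ha, ?_⟩
      rintro _ ⟨e, he, rfl⟩
      have h1 := h e he
      have h2 : q ρ e (q ρ a u) = q ρ e (q ρ a' u) := by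
        rw [q_apply ρ e, q_apply ρ e]
        rw [map_sub] at h1
        exact sub_eq_sub_iff_add_eq_add.2
          ((sub_eq_sub_iff_add_eq_add.1 h1).trans (add_comm _ _))
      rw [← Module.End.mul_apply, ← Module.End.mul_apply, (commute_q (hab e he a ha)).eq,
        (commute_q (hab e he a' ha')).eq, Module.End.mul_apply, Module.End.mul_apply,
        q_apply ρ a (q ρ e u), q_apply ρ a' (q ρ e u), sub_left_inj] at h2
      rw [map_mul, Module.End.mul_apply, h2, rho_inv_apply]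
    have h1 : Nat.card ↥(Au u) * Nat.card ↥X ≤ wt ρ (Au u) :=
      Nat.mul_le_mul_left _ (card_mono hXfix)
    have h2 := hmax (Au u) inf_le_left
    refine ⟨inf_le_left, le_antisymm h2 (hcount.trans h1), ?_⟩
    rw [← eq_of_le_of_card hXfix (Nat.le_of_mul_le_mul_left (h2.trans hcount) Nat.card_pos)]
    exact hXY
  have hinf : ∀ B₁ B₂, P B₁ → P B₂ → P (B₁ ⊓ B₂) := by
    rintro B₁ B₂ ⟨hA₁, hw₁, hf₁⟩ ⟨hA₂, hw₂, hf₂⟩
    have hle : fix ρ B₁ ⊔ fix ρ B₂ ≤ fix ρ (B₁ ⊓ B₂) :=
      sup_le (fix_anti inf_le_left) (fix_anti inf_le_right)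
    have e1 := Cfsg.Agent.Lib.PLocal.card_mul_card_le B₁ B₂
    have e2 := (card_sup_inf (fix ρ B₁) (fix ρ B₂)).ge
    rw [fix_inf_fix] at e2
    have hsup := hmax _ (sup_le hA₁ hA₂)
    have h3 : wt ρ A * wt ρ A ≤
        Nat.card ↥(B₁ ⊓ B₂) * Nat.card ↥(fix ρ B₁ ⊔ fix ρ B₂) * wt ρ A := by
      calc wt ρ A * wt ρ A = wt ρ B₁ * wt ρ B₂ := by rw [hw₁, hw₂]
        _ = (Nat.card ↥B₁ * Nat.card ↥B₂) * (Nat.card ↥(fix ρ B₁) * Nat.card ↥(fix ρ B₂)) := by
          simp only [wt]; ring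
        _ ≤ _ := Nat.mul_le_mul e1 e2
        _ = Nat.card ↥(B₁ ⊓ B₂) * Nat.card ↥(fix ρ B₁ ⊔ fix ρ B₂) * wt ρ (B₁ ⊔ B₂) := by
          simp only [wt]; ring
        _ ≤ _ := Nat.mul_le_mul_left _ hsup
    have h4 := Nat.le_of_mul_le_mul_right h3 (Nat.mul_pos Nat.card_pos Nat.card_pos)
    have h5 := hmax (B₁ ⊓ B₂) (inf_le_left.trans hA₁)
    refine ⟨inf_le_left.trans hA₁,
      le_antisymm h5 (h4.trans (Nat.mul_le_mul_left _ (card_mono hle))), ?_⟩
    rw [← eq_of_le_of_card hle (Nat.le_of_mul_le_mul_left (h5.trans h4) Nat.card_pos)]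
    exact sup_le hf₁ hf₂
  have hfin : ∀ s : Finset V, ∃ B, P B ∧ ∀ u ∈ s, B ≤ Au u := by
    intro s
    induction s using Finset.induction with
    | empty => exact ⟨A, ⟨le_rfl, rfl, le_sup_right⟩, by simp⟩
    | @insert u s _ ih =>
      obtain ⟨B, hB, hBs⟩ := ih
      refine ⟨B ⊓ Au u, hinf _ _ hB (hu u), fun w hw => ?_⟩
      rcases Finset.mem_insert.1 hw with rfl | hw
      · exact inf_le_right
      · exact inf_le_left.trans (hBs w hw)
  haveI := Fintype.ofFinite V
  obtain ⟨B, ⟨hBA, hBw, hBY⟩, hBu⟩ := hfin Finset.univ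
  refine ⟨B, hBA, hBw, fun c hc b hb => ?_, ?_⟩
  · rw [(commute_q (hab c hc b (hBA hb))).eq]
    refine LinearMap.ext fun v => ?_
    rw [Module.End.mul_apply, q_apply ρ b, LinearMap.zero_apply, sub_eq_zero]
    exact (hBu v (Finset.mem_univ v) hb).2 _ ⟨c, hc, rfl⟩
  by_contra hcon
  push Not at hcon
  obtain ⟨a₀, ha₀, ha₀1⟩ := hA
  have hYtop : Y = ⊤ := by
    rw [eq_top_iff]
    exact fun v _ => hBY fun b hb => by rw [hcon b hb]; rfl
  have hone : (1 : Module.End (ZMod p) V) ≠ 0 := fun h0 => ha₀1 (by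
    rw [← mul_one (ρ a₀), h0, mul_zero])
  haveI := Fintype.ofFinite ↥A
  obtain ⟨T, hT0, ⟨hTc, hT⟩, hTa⟩ := exists_top_vec
    (fun a : ↥A => LinearMap.mulLeft (ZMod p) (q ρ (a : G)))
    (fun i j => LinearMap.ext fun x => by
      show q ρ (i : G) * (q ρ (j : G) * x) = q ρ (j : G) * (q ρ (i : G) * x)
      rw [← mul_assoc, ← mul_assoc, (commute_q (hab _ i.2 _ j.2)).eq])
    (n := p) (fun i => by
      rw [LinearMap.pow_mulLeft, q_pow_eq_zero (hexp _ i.2), LinearMap.mulLeft_zero_eq_zero])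
    (⊥ : Submodule (ZMod p) (Module.End (ZMod p) V)) (fun i w hw => by
      rw [Submodule.mem_bot] at hw ⊢; rw [hw, map_zero])
    (fun T => (∀ a ∈ A, Commute T (q ρ a)) ∧ (T = 1 ∨ ∀ v ∈ fix ρ A, T v = 0))
    (fun i T hT => ⟨fun a ha => (commute_q (hab _ i.2 a ha)).mul_left (hT.1 a ha), Or.inr fun v hv => by
      show q ρ (i : G) (T v) = 0
      rcases hT.2 with rfl | h2
      · rw [Module.End.one_apply, q_apply, hv _ i.2, sub_self]
      · rw [h2 v hv, map_zero]⟩)
    Finset.univ (v := (1 : Module.End (ZMod p) V)) (by rw [Submodule.mem_bot]; exact hone)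
    ⟨fun a _ => Commute.one_left _, Or.inl rfl⟩
  have hTa' : ∀ a ∈ A, q ρ a * T = 0 := fun a ha => by
    have := hTa ⟨a, ha⟩ (Finset.mem_univ _)
    rwa [Submodule.mem_bot] at this
  rcases hT with rfl | hT
  · exact ha₀1 (sub_eq_zero.1 (by simpa [q] using hTa' a₀ ha₀))
  · apply hT0
    rw [Submodule.mem_bot]
    have hker : Y ≤ LinearMap.ker T := by
      refine sup_le (iSup_le fun a => ?_) fun v hv => hT v hv
      rintro _ ⟨w, rfl⟩
      rw [LinearMap.mem_ker, ← Module.End.mul_apply, (hTc _ a.2).eq, hTa' _ a.2, LinearMap.zero_apply]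
    rw [hYtop] at hker
    exact LinearMap.ext fun v => hker (Submodule.mem_top : v ∈ ⊤)

end Count

end Cfsg.Agent.Lib.LocalEven2.PGV
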