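import Cfsg.Agent.Lib.Components.Quasisimple
import Cfsg.Agent.Lib.InvChar.OddInverted
import Cfsg.Agent.Lib.Cores.PCore
import Cfsg.Agent.Lib.Characters.Burnside

/-!
# Element-wise facts about a quasisimple subgroup
-/

set_option autoImplicit false

namespace Cfsg.Agent.Lib.LocalEven2.PGV

open Cfsg.Agent.Lib.Components

variable {G : Type*} [Group G] {K : Subgroup G}

/-- `w` commutes with every element of `K` -/
def Central (K : Subgroup G) (w : G) : Prop := ∀ x ∈ K, Commute w x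

lemma center_iff {w : G} (hw : w ∈ K) :
    (⟨w, hw⟩ : ↥K) ∈ Subgroup.center ↥K ↔ Central K w := by
  rw [Subgroup.mem_center_iff]
  exact ⟨fun h x hx => (congrArg Subtype.val (h ⟨x, hx⟩)).symm,
    fun h x => Subtype.ext (h x x.2).symm.eq⟩

/-- An additive function on a perfect group vanishes. -/
lemma add_trivial (hqs : Cfsg.IsQuasisimple ↥K) {W : Type*} [AddCommGroup W] (φ : G → W)
    (h : ∀ x ∈ K, ∀ y ∈ K, φ (x * y) = φ x + φ y) : ∀ x ∈ K, φ x = 0 := by
  haveI := hqs.1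
  let f : ↥K →* Multiplicative W :=
    MonoidHom.mk' (fun x => Multiplicative.ofAdd (φ (x : G)))
      (fun x y => by rw [← ofAdd_add, ← h x x.2 y y.2]; rfl)
  intro x hx
  have h1 : (⟨x, hx⟩ : ↥K) ∈ f.ker :=
    Abelianization.commutator_subset_ker f (by
      rw [Group.IsPerfect.commutator_eq_top (G := ↥K)]; trivial)
  exact h1

/-- A homomorphism from a perfect group with commuting values is trivial. -/
lemma hom_trivial {X M : Type*} [Group X] [Group M] [Group.IsPerfect X] (f : X →* M)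
    (h : ∀ x y, Commute (f x) (f y)) (x : X) : f x = 1 := by
  have hle : commutator X ≤ f.ker := by
    rw [commutator_def, Subgroup.commutator_le]
    intro a _ b _
    rw [MonoidHom.mem_ker, map_commutatorElement, commutatorElement_eq_one_iff_mul_comm]
    exact h a b
  rw [Group.IsPerfect.commutator_eq_top (G := X)] at hle
  exact hle (Subgroup.mem_top x)

/-- A subgroup containing all commutators with a non-central element and invariant under `K`
contains `K`. -/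
lemma normal_all (hqs : Cfsg.IsQuasisimple ↥K) {w : G} (hw : w ∈ K) (hwc : ¬ Central K w)
    (S : Subgroup G) (hS : ∀ y ∈ K, ∀ s ∈ S, s ∈ K → y * s * y⁻¹ ∈ S)
    (hcomm : ∀ y ∈ K, y * w * y⁻¹ * w⁻¹ ∈ S) : K ≤ S := by
  haveI hN : (S.subgroupOf K).Normal :=
    ⟨fun s hs y => hS y y.2 s hs s.2⟩
  rcases IsQuasisimple.normal_eq_top_or_le_center hqs (S.subgroupOf K) with h | h
  · exact Subgroup.subgroupOf_eq_top.1 h
  exfalso
  apply hwc
  rw [← center_iff hw]
  -- all commutators with `w` are central, so `y ↦ [y, w]` is a homomorphism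
  have hc : ∀ y : ↥K, y * ⟨w, hw⟩ * y⁻¹ * (⟨w, hw⟩ : ↥K)⁻¹ ∈ Subgroup.center ↥K :=
    fun y => h (hcomm y y.2)
  set v : ↥K := ⟨w, hw⟩
  let f : ↥K →* ↥K := MonoidHom.mk' (fun y => y * v * y⁻¹ * v⁻¹) (fun y z => by
    have hz := Subgroup.mem_center_iff.1 (hc z)
    calc y * z * v * (y * z)⁻¹ * v⁻¹
        = y * (z * v * z⁻¹ * v⁻¹) * (v * y⁻¹ * v⁻¹) := by group
      _ = (z * v * z⁻¹ * v⁻¹) * (y * v * y⁻¹ * v⁻¹) := by rw [hz y]; group
      _ = (y * v * y⁻¹ * v⁻¹) * (z * v * z⁻¹ * v⁻¹) := (hz _).symm)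
  haveI := hqs.1
  rw [Subgroup.mem_center_iff]
  intro y
  have h2 : y * v * y⁻¹ * v⁻¹ = 1 :=
    hom_trivial f (fun a c => Subgroup.mem_center_iff.1 (hc c) (f a)) y
  calc y * v = (y * v * y⁻¹ * v⁻¹) * (v * y) := by group
    _ = v * y := by rw [h2, one_mul]

lemma exists_noncentral (hqs : Cfsg.IsQuasisimple ↥K) : ∃ w ∈ K, ¬ Central K w := by
  by_contra hcon
  push Not at hcon
  refine IsQuasisimple.not_isMulCommutative hqs ⟨⟨fun a b => Subtype.ext ?_⟩⟩
  exact hcon a a.2 b b.2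

/-- Commutators with an element normalizing `K` cannot all be central. -/
lemma exists_comm_noncentral (hqs : Cfsg.IsQuasisimple ↥K) {b : G}
    (hbN : ∀ x ∈ K, b * x * b⁻¹ ∈ K) (hb : ¬ Central K b) :
    ∃ x ∈ K, ¬ Central K (x * b * x⁻¹ * b⁻¹) := by
  by_contra hcon
  push Not at hcon
  apply hb
  have hmem : ∀ x ∈ K, x * b * x⁻¹ * b⁻¹ ∈ K := fun x hx => by
    have := K.mul_mem hx (hbN _ (K.inv_mem hx))
    simpa [mul_assoc] using this
  let f : ↥K →* ↥K := MonoidHom.mk'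
    (fun y => ⟨(y : G) * b * (y : G)⁻¹ * b⁻¹, hmem y y.2⟩)
    (fun y z => by
      apply Subtype.ext
      show (y : G) * z * b * ((y : G) * z)⁻¹ * b⁻¹ =
        ((y : G) * b * (y : G)⁻¹ * b⁻¹) * ((z : G) * b * (z : G)⁻¹ * b⁻¹)
      calc (y : G) * z * b * ((y : G) * z)⁻¹ * b⁻¹
          = (y : G) * ((z : G) * b * (z : G)⁻¹ * b⁻¹) * (b * (y : G)⁻¹ * b⁻¹) := by group
        _ = ((z : G) * b * (z : G)⁻¹ * b⁻¹) * ((y : G) * b * (y : G)⁻¹ * b⁻¹) := by
          rw [← (hcon z z.2 y y.2).eq]; group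
        _ = _ := (hcon z z.2 _ (hmem y y.2)).eq)
  haveI := hqs.1
  intro x hx
  have h2 : x * b * x⁻¹ * b⁻¹ = 1 := congrArg Subtype.val
    (hom_trivial f (fun a c => Subtype.ext (hcon a a.2 _ (hmem c c.2)).eq) ⟨x, hx⟩)
  calc b * x = (x * b * x⁻¹ * b⁻¹) * (b * x) := by rw [h2, one_mul]
    _ = x * b := by group

lemma central_of_pow {r : G} {q k : ℕ} (hq : q.Prime) (hk : ¬ q ∣ k) (h1 : Central K (r ^ q))
    (h2 : Central K (r ^ k)) : Central K r := by
  intro x hx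
  let S : Subgroup G := Subgroup.centralizer {x}
  have hm : ∀ {g}, g ∈ S ↔ Commute g x := fun {g} => by
    rw [Subgroup.mem_centralizer_singleton_iff]; exact ⟨fun h => h, fun h => h⟩
  rw [← hm]
  have hg : Int.gcd (q : ℤ) k = 1 := by
    rw [Int.gcd_natCast_natCast]; exact (hq.coprime_iff_not_dvd.2 hk)
  have he : r = (r ^ q) ^ (Int.gcdA q k) * (r ^ k) ^ (Int.gcdB q k) := by
    rw [← zpow_natCast r q, ← zpow_natCast r k, ← zpow_mul, ← zpow_mul, ← zpow_add,
      ← Int.gcd_eq_gcd_ab, hg, Nat.cast_one, zpow_one]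
  rw [he]
  exact mul_mem (zpow_mem (hm.2 (h1 x hx)) _) (zpow_mem (hm.2 (h2 x hx)) _)

variable [Finite G]

/-- A quasisimple group has, for some prime `q ≥ 5`, a non-central `q`-element with central
`q`-th power. -/
lemma exists_q_element (hqs : Cfsg.IsQuasisimple ↥K) :
    ∃ (q : ℕ) (r : G), q.Prime ∧ 5 ≤ q ∧ r ∈ K ∧ ¬ Central K r ∧ Central K (r ^ q) ∧
      ∃ m, r ^ (q ^ m) = 1 := by
  classical
  set n := Nat.card (↥K ⧸ Subgroup.center ↥K) with hn
  have hn0 : n ≠ 0 := Nat.card_pos.ne'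
  obtain ⟨q, hq, hq5, hqn⟩ : ∃ q, q.Prime ∧ 5 ≤ q ∧ q ∣ n := by
    by_contra hcon
    push Not at hcon
    have hfac : n = 2 ^ n.factorization 2 * 3 ^ n.factorization 3 := by
      refine Nat.eq_of_factorization_eq hn0 (Nat.mul_ne_zero (pow_ne_zero _ two_ne_zero)
        (pow_ne_zero _ three_ne_zero)) fun q => ?_
      rw [Nat.factorization_mul (pow_ne_zero _ two_ne_zero) (pow_ne_zero _ three_ne_zero),
        Nat.prime_two.factorization_pow, Nat.prime_three.factorization_pow]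
      by_cases h2 : q = 2
      · subst h2; simp
      by_cases h3 : q = 3
      · subst h3; simp
      have : n.factorization q = 0 := by
        by_cases hq : q.Prime
        · refine Nat.factorization_eq_zero_of_not_dvd fun hd => ?_
          have h5 := hcon q hq
          have := hq.two_le
          rcases Nat.lt_or_ge q 5 with h | h
          · interval_cases q <;> simp_all (config := { decide := true })
          · exact h5 h hd
        · exact Nat.factorization_eq_zero_of_not_prime n hq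
      simp [this, Ne.symm h2, Ne.symm h3]
    have hsolv := Cfsg.Agent.Lib.Characters.isSolvable_of_card_eq_pow_mul_pow
      Nat.prime_two Nat.prime_three hfac
    apply IsQuasisimple.not_isSolvable hqs
    haveI : Group.IsSolvable ↥(Subgroup.center ↥K) :=
      Group.isSolvable_of_comm fun a c => Subtype.ext (Subgroup.mem_center_iff.1 c.2 a)
    exact solvable_of_ker_le_range (Subgroup.center ↥K).subtype
      (QuotientGroup.mk' (Subgroup.center ↥K)) (by rw [QuotientGroup.ker_mk', Subgroup.range_subtype])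
  haveI := Fact.mk hq
  obtain ⟨xb, hxb⟩ := exists_prime_orderOf_dvd_card' (G := ↥K ⧸ Subgroup.center ↥K) q hqn
  obtain ⟨x, rfl⟩ := QuotientGroup.mk'_surjective (Subgroup.center ↥K) xb
  obtain ⟨m, k, hk, hmk⟩ := Nat.exists_eq_pow_mul_and_not_dvd (orderOf_pos x).ne' q hq.ne_one
  refine ⟨q, ((x ^ k : ↥K) : G), hq, hq5, (x ^ k).2, ?_, ?_, m, ?_⟩
  · intro hc
    have h1 : x ^ k ∈ Subgroup.center ↥K := (center_iff (x ^ k).2).2 hc
    have h2 : (QuotientGroup.mk' (Subgroup.center ↥K) x) ^ k = 1 := by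
      rw [← map_pow]; exact (QuotientGroup.eq_one_iff _).2 h1
    exact hk (hxb ▸ orderOf_dvd_of_pow_eq_one h2)
  · have h1 : (x ^ k) ^ q ∈ Subgroup.center ↥K := by
      rw [← QuotientGroup.eq_one_iff, ← QuotientGroup.mk'_apply, ← pow_mul, mul_comm, pow_mul,
        map_pow, map_pow, ← hxb, pow_orderOf_eq_one, one_pow]
    have := (center_iff ((x ^ k) ^ q).2).1 h1
    simpa using this
  · rw [← SubmonoidClass.coe_pow, ← pow_mul, mul_comm, ← hmk, pow_orderOf_eq_one]; rfl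

/-- An involution acting nontrivially on a quasisimple group inverts a non-central element of
odd order. -/
lemma exists_inverted (hqs : Cfsg.IsQuasisimple ↥K) {b : G}
    (hbN : b ∈ Subgroup.normalizer (K : Set G)) (hb2 : b * b = 1) (hbc : ¬ Central K b) :
    ∃ r ∈ K, ¬ Central K r ∧ Odd (orderOf r) ∧ b * r * b⁻¹ = r⁻¹ := by
  haveI : Fact (Nat.Prime 2) := ⟨Nat.prime_two⟩
  set H := K ⊔ Subgroup.zpowers b with hH
  have hKH : K ≤ H := le_sup_left
  have hbH : b ∈ H := Subgroup.mem_sup_right (Subgroup.mem_zpowers b)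
  have hHN : H ≤ Subgroup.normalizer (K : Set G) :=
    sup_le Subgroup.le_normalizer (Subgroup.zpowers_le.2 hbN)
  have hKn : ∀ h ∈ H, ∀ x ∈ K, h * x * h⁻¹ ∈ K := fun h hh x hx =>
    (Subgroup.mem_normalizer_iff.1 (hHN hh) x).1 hx
  -- the centre of `K`, inside `H`
  let Z : Subgroup G := K ⊓ Subgroup.centralizer (K : Set G)
  have hZc : ∀ {z}, z ∈ Z → Central K z := fun {z} hz x hx =>
    (Subgroup.mem_centralizer_iff.1 hz.2 x hx).symm
  have hcZ : ∀ {z}, z ∈ K → Central K z → z ∈ Z := fun {z} hz hc =>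
    ⟨hz, Subgroup.mem_centralizer_iff.2 fun x hx => (hc x hx).eq.symm⟩
  haveI hZn : (Z.subgroupOf H).Normal := by
    refine ⟨fun z hz h => ?_⟩
    show (h : G) * z * (h : G)⁻¹ ∈ Z
    refine hcZ (hKn h h.2 z hz.1) fun x hx => ?_
    have h1 := hKn (h⁻¹ : ↥H) (h⁻¹ : ↥H).2 x hx
    have h2 := (hZc hz _ h1).map (MulAut.conj (h : G)).toMonoidHom
    simpa [mul_assoc] using h2
  set π := QuotientGroup.mk' (Z.subgroupOf H) with hπ
  have hπ1 : ∀ x : ↥H, π x = 1 ↔ (x : G) ∈ Z := fun x => QuotientGroup.eq_one_iff x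
  set β := π ⟨b, hbH⟩ with hβ
  have hβ1 : β ≠ 1 := fun h0 => hbc (hZc ((hπ1 _).1 h0))
  have hβ2 : orderOf β = 2 := by
    refine orderOf_eq_prime ?_ hβ1
    rw [hβ, ← map_pow, show (⟨b, hbH⟩ : ↥H) ^ 2 = 1 from Subtype.ext (by simp [pow_two, hb2]),
      map_one]
  have hcomm : ∀ x ∈ H, x * b * x⁻¹ * b⁻¹ ∈ K := by
    intro x hx
    let S : Subgroup G :=
      { carrier := {x | x ∈ Subgroup.normalizer (K : Set G) ∧ x * b * x⁻¹ * b⁻¹ ∈ K}
        one_mem' := ⟨one_mem _, by simp⟩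
        mul_mem' := fun {x y} hx hy => ⟨mul_mem hx.1 hy.1, by
          have h1 := (Subgroup.mem_normalizer_iff.1 hx.1 _).1 hy.2
          have h2 := K.mul_mem h1 hx.2
          convert h2 using 1; group⟩
        inv_mem' := fun {x} hx => ⟨Subgroup.inv_mem _ hx.1, by
          have h1 := (Subgroup.mem_normalizer_iff.1 (Subgroup.inv_mem _ hx.1) _).1 (K.inv_mem hx.2)
          convert h1 using 1; group⟩ }
    have : H ≤ S := sup_le (fun k hk => ⟨Subgroup.le_normalizer hk, by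
        have := K.mul_mem hk ((Subgroup.mem_normalizer_iff.1 hbN _).1 (K.inv_mem hk))
        simpa [mul_assoc] using this⟩)
      (Subgroup.zpowers_le.2 ⟨hbN, by simp⟩)
    exact (this hx).2
  have hO : β ∉ Cfsg.pCore 2 (↥H ⧸ Z.subgroupOf H) := by
    intro hmem
    obtain ⟨x₀, hx₀, hx₀c⟩ := exists_comm_noncentral hqs
      (fun x hx => hKn b hbH x hx) hbc
    set O := Cfsg.pCore 2 (↥H ⧸ Z.subgroupOf H) with hOdef
    haveI hOn : O.Normal := Cfsg.pCore_normal 2 _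
    let S : Subgroup G := (O.comap π).map H.subtype
    have hmS : ∀ {x} (hx : x ∈ H), x ∈ S ↔ π ⟨x, hx⟩ ∈ O := fun {x} hx =>
      ⟨fun ⟨y, hy, he⟩ => by
        obtain rfl : y = ⟨x, hx⟩ := Subtype.ext he
        exact hy, fun h => ⟨⟨x, hx⟩, h, rfl⟩⟩
    have hall : K ≤ S := by
      have hx₀S : x₀ * b * x₀⁻¹ * b⁻¹ ∈ S := by
        rw [hmS (hKH (hcomm x₀ (hKH hx₀)))]
        have : (⟨_, hKH (hcomm x₀ (hKH hx₀))⟩ : ↥H) =
            ⟨x₀, hKH hx₀⟩ * ⟨b, hbH⟩ * ⟨x₀, hKH hx₀⟩⁻¹ * ⟨b, hbH⟩⁻¹ := rfl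
        rw [this, map_mul, map_mul, map_mul, map_inv, map_inv]
        exact O.mul_mem (hOn.conj_mem _ hmem _) (O.inv_mem hmem)
      have hS : ∀ y ∈ K, ∀ s ∈ S, s ∈ K → y * s * y⁻¹ ∈ S := by
        intro y hy s hs hsK
        rw [hmS (hKH (K.mul_mem (K.mul_mem hy hsK) (K.inv_mem hy)))]
        have h1 := hOn.conj_mem _ ((hmS (hKH hsK)).1 hs) (π ⟨y, hKH hy⟩)
        rw [← map_mul, ← map_inv, ← map_mul] at h1
        exact h1
      exact normal_all hqs (hcomm x₀ (hKH hx₀)) hx₀c S hS fun y hy =>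
        mul_mem (hS y hy _ hx₀S (hcomm x₀ (hKH hx₀))) (S.inv_mem hx₀S)
    apply IsQuasisimple.not_isSolvable hqs
    let f : ↥K →* ↥O := MonoidHom.mk'
      (fun x => ⟨π ⟨x, hKH x.2⟩, (hmS (hKH x.2)).1 (hall x.2)⟩)
      (fun x y => Subtype.ext (map_mul π ⟨x, hKH x.2⟩ ⟨y, hKH y.2⟩))
    haveI : Group.IsNilpotent ↥O := (Cores.pCore_isPGroup 2 _).isNilpotent
    haveI : Group.IsSolvable ↥O := inferInstance
    have hker : f.ker ≤ Subgroup.center ↥K := fun x hx => by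
      have h1 : π ⟨x, hKH x.2⟩ = 1 := congrArg Subtype.val hx
      exact (center_iff x.2).2 (hZc ((hπ1 _).1 h1))
    haveI : Group.IsSolvable ↥(Subgroup.center ↥K) :=
      Group.isSolvable_of_comm fun a c => Subtype.ext (Subgroup.mem_center_iff.1 c.2 a)
    exact solvable_of_ker_le_range (Subgroup.center ↥K).subtype f
      (by rwa [Subgroup.range_subtype])
  obtain ⟨ξ, hξ1, hξo, hξinv⟩ := InvChar.exists_odd_inverted hβ2 hO
  obtain ⟨⟨x, hx⟩, rfl⟩ := QuotientGroup.mk'_surjective (Z.subgroupOf H) ξ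
  set k₀ := x * b * x⁻¹ * b⁻¹ with hk₀
  have hk₀K : k₀ ∈ K := hcomm x hx
  have hπk : π ⟨k₀, hKH hk₀K⟩ = π ⟨x, hx⟩ * π ⟨x, hx⟩ := by
    have : (⟨k₀, hKH hk₀K⟩ : ↥H) = ⟨x, hx⟩ * (⟨b, hbH⟩ * ⟨x, hx⟩⁻¹ * ⟨b, hbH⟩⁻¹) :=
      Subtype.ext (by simp [hk₀, mul_assoc])
    rw [this, map_mul, map_mul, map_mul, map_inv, map_inv, ← hβ]
    have h2 : β * (π ⟨x, hx⟩)⁻¹ * β⁻¹ = π ⟨x, hx⟩ := by
      rw [show β * (π ⟨x, hx⟩)⁻¹ * β⁻¹ = (β * π ⟨x, hx⟩ * β⁻¹)⁻¹ by group, hξinv, inv_inv]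
    rw [h2]
  have hbi : b⁻¹ = b := inv_eq_of_mul_eq_one_right hb2
  have hinv : b * k₀ * b⁻¹ = k₀⁻¹ := by
    simp only [hk₀, mul_inv_rev, inv_inv, hbi]
    calc b * (x * b * x⁻¹ * b) * b = b * x * b * x⁻¹ * (b * b) := by group
      _ = _ := by rw [hb2]; group
  obtain ⟨s, o, ho, hso⟩ := Nat.exists_eq_two_pow_mul_odd (orderOf_pos k₀).ne'
  refine ⟨k₀ ^ (2 ^ s), K.pow_mem hk₀K _, fun hc => ?_, ?_, ?_⟩
  · have h1 : π (⟨k₀, hKH hk₀K⟩ ^ (2 ^ s)) = 1 :=
      (hπ1 _).2 (hcZ (by simpa using K.pow_mem hk₀K _) (by simpa using hc))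
    rw [map_pow, hπk, ← pow_two, ← pow_mul, ← pow_succ'] at h1
    have h2 := orderOf_dvd_of_pow_eq_one h1
    obtain ⟨j, hj, hje⟩ := (Nat.dvd_prime_pow Nat.prime_two).1 h2
    apply hξ1
    rw [← orderOf_eq_one_iff]
    rcases Nat.eq_zero_or_pos j with rfl | hj0
    · exact hje.trans (pow_zero 2)
    · exfalso
      rw [hje] at hξo
      exact (Nat.not_even_iff_odd.2 hξo) ((Nat.even_pow' hj0.ne').2 even_two)
  · rw [orderOf_pow, hso, Nat.gcd_mul_right_left, Nat.mul_div_cancel_left _ (Nat.two_pow_pos s)]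
    exact ho
  · rw [← conj_pow, hinv, inv_pow]

end Cfsg.Agent.Lib.LocalEven2.PGV
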