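import Cfsg.Agent.Lib.LocalEven2.PGVBase
import Cfsg.Agent.Lib.LocalEven2.PGVQuasi

/-!
# The diagonal relation for an abelian group moving a component
-/

set_option autoImplicit false

namespace Cfsg.Agent.Lib.LocalEven2.PGV

variable {G : Type*} [Group G] [Finite G] {V : Type*} [AddCommGroup V] [Finite V] {p : ℕ}
  [Fact p.Prime] [Module (ZMod p) V]

/-- The configuration: a quasisimple `K` acting nontrivially, an elementary abelian `A` of
maximal weight whose elements normalize `K` or move it to a commuting conjugate. -/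
structure Hyp (ρ : G →* Module.End (ZMod p) V) (K A : Subgroup G) : Prop where
  qs : Cfsg.IsQuasisimple ↥K
  exp : ∀ a ∈ A, a ^ p = 1
  ab : ∀ a ∈ A, ∀ c ∈ A, Commute a c
  comm : ∀ g ∈ A, g ∉ Subgroup.normalizer (K : Set G) →
    ∀ x ∈ K, ∀ y ∈ K, Commute y (g * x * g⁻¹)
  nontriv : ∃ x ∈ K, ρ x ≠ 1
  hfix : ∀ a ∈ A, Central K a → ρ a = 1
  hmax : ∀ B ≤ A, wt ρ B ≤ wt ρ A

/-- the product `x · x^a ⋯ x^(a^(n-1))` -/
def hat (a : G) : ℕ → G → G
  | 0, _ => 1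
  | n + 1, x => x * (a * hat a n x * a⁻¹)

/-- The diagonal of the orbit of `K` under `a` fixes `[V, a]`. -/
def RRel (ρ : G →* Module.End (ZMod p) V) (K : Subgroup G) (a : G) : Prop :=
  ∀ x ∈ K, ρ (hat a p x) * q ρ a = q ρ a

omit [Finite G] in
lemma hat_succ' (a x : G) : ∀ n, hat a (n + 1) x = hat a n x * (a ^ n * x * (a ^ n)⁻¹) := by
  intro n
  induction n with
  | zero => simp [hat]
  | succ n ih =>
    show x * (a * hat a (n + 1) x * a⁻¹) = x * (a * hat a n x * a⁻¹) * _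
    rw [ih, pow_succ']
    group

omit [Finite G] in
lemma hat_one (a : G) : ∀ n, hat a n 1 = 1 := by
  intro n
  induction n with
  | zero => rfl
  | succ n ih => show (1 : G) * (a * hat a n 1 * a⁻¹) = 1; rw [ih]; group

omit [Finite G] in
lemma conj_hat {a e : G} (h : Commute e a) (x : G) :
    ∀ n, e * hat a n x * e⁻¹ = hat a n (e * x * e⁻¹) := by
  intro n
  induction n with
  | zero => simp [hat]
  | succ n ih =>
    show e * (x * (a * hat a n x * a⁻¹)) * e⁻¹ = _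
    rw [hat, ← ih]
    calc e * (x * (a * hat a n x * a⁻¹)) * e⁻¹
        = e * x * e⁻¹ * ((e * a) * hat a n x * (e * a)⁻¹) := by group
      _ = e * x * e⁻¹ * ((a * e) * hat a n x * (a * e)⁻¹) := by rw [h.eq]
      _ = _ := by group

omit [Finite G] in
lemma commute_hat {a : G} : ∀ (n : ℕ) (g x : G),
    (∀ i < n, Commute g (a ^ i * x * (a ^ i)⁻¹)) → Commute g (hat a n x) := by
  intro n
  induction n with
  | zero => intro g x _; exact Commute.one_right g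
  | succ n ih =>
    intro g x h
    rw [hat_succ']
    exact (ih g x fun i hi => h i (by omega)).mul_right (h n (by omega))

omit [Finite G] [Finite V] in
lemma rho_inv_mul (ρ : G →* Module.End (ZMod p) V) (g : G) : ρ g⁻¹ * ρ g = 1 := by
  rw [← map_mul, inv_mul_cancel, map_one]

omit [Finite G] [Finite V] in
lemma rho_mul_inv (ρ : G →* Module.End (ZMod p) V) (g : G) : ρ g * ρ g⁻¹ = 1 := by
  rw [← map_mul, mul_inv_cancel, map_one]

/-- the subgroup fixing an operator from the left -/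
def lfix (ρ : G →* Module.End (ZMod p) V) (X : Module.End (ZMod p) V) : Subgroup G where
  carrier := {g | ρ g * X = X}
  one_mem' := by simp
  mul_mem' := fun {g h} hg hh => by
    show ρ (g * h) * X = X
    rw [map_mul, mul_assoc, hh, hg]
  inv_mem' := fun {g} hg => by
    show ρ g⁻¹ * X = X
    conv_lhs => rw [← show ρ g * X = X from hg]
    rw [← mul_assoc, rho_inv_mul, one_mul]

/-- the subgroup fixing an operator from the right -/
def rfix (ρ : G →* Module.End (ZMod p) V) (X : Module.End (ZMod p) V) : Subgroup G where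
  carrier := {g | X * ρ g = X}
  one_mem' := by simp
  mul_mem' := fun {g h} hg hh => by
    show X * ρ (g * h) = X
    rw [map_mul, ← mul_assoc, hg, hh]
  inv_mem' := fun {g} hg => by
    show X * ρ g⁻¹ = X
    conv_lhs => rw [← show X * ρ g = X from hg]
    rw [mul_assoc, rho_mul_inv, mul_one]

namespace Hyp

variable {ρ : G →* Module.End (ZMod p) V} {K A : Subgroup G}

local notation "NK" => Subgroup.normalizer (K : Set G)

section

variable (h : Hyp ρ K A)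
include h

lemma ker_central {x : G} (hx : x ∈ K) (h1 : ρ x = 1) : Central K x := by
  by_contra hc
  obtain ⟨y, hy, hy1⟩ := h.nontriv
  apply hy1
  have hS : ∀ z ∈ K, ∀ s ∈ ρ.ker, s ∈ K → z * s * z⁻¹ ∈ ρ.ker := fun z _ s hs _ => by
    rw [MonoidHom.mem_ker] at hs ⊢
    rw [map_mul, map_mul, hs, mul_one, rho_mul_inv]
  have := normal_all h.qs hx hc ρ.ker hS (fun z hz =>
    mul_mem (hS z hz x h1 hx) (ρ.ker.inv_mem h1)) hy
  exact this

lemma comm_false {w : G} (hw : w ∈ K) (hwc : ¬ Central K w)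
    (hc : ∀ y ∈ K, Commute (ρ y) (ρ w)) : False := by
  obtain ⟨y, hy, hy1⟩ := h.nontriv
  apply hy1
  have h1 : ∀ z ∈ K, ρ (z * w * z⁻¹ * w⁻¹) = 1 := fun z hz => by
    rw [map_mul, map_mul, map_mul, (hc z hz).eq, mul_assoc (ρ w), rho_mul_inv, mul_one, rho_mul_inv]
  have hS : ∀ z ∈ K, ∀ s ∈ ρ.ker, s ∈ K → z * s * z⁻¹ ∈ ρ.ker := fun z _ s hs _ => by
    rw [MonoidHom.mem_ker] at hs ⊢
    rw [map_mul, map_mul, hs, mul_one, rho_mul_inv]
  exact normal_all h.qs hw hwc ρ.ker hS (fun z hz => h1 z hz) hy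

lemma conj_false {a : G} (ha : a ∈ A) (haN : a ∉ NK)
    (he : ∀ x ∈ K, ρ (a * x * a⁻¹) = ρ x) : False := by
  obtain ⟨w, hw, hwc⟩ := exists_noncentral h.qs
  exact h.comm_false hw hwc fun y hy => by
    rw [← he w hw]; exact (h.comm a ha haN w hw y hy).map ρ

lemma central_of_trivial {b : G} (hbN : b ∈ NK) (hb1 : ρ b = 1) : Central K b := by
  by_contra hbc
  have hb : ∀ x ∈ K, b * x * b⁻¹ ∈ K := fun x hx => (Subgroup.mem_normalizer_iff.1 hbN x).1 hx
  obtain ⟨x, hx, hxc⟩ := exists_comm_noncentral h.qs hb hbc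
  refine hxc (h.ker_central ?_ ?_)
  · have := K.mul_mem hx (hb _ (K.inv_mem hx))
    simpa [mul_assoc] using this
  · rw [map_mul, map_mul, map_mul, hb1, mul_one, rho_mul_inv, one_mul]
    have := rho_inv_mul ρ b
    rwa [hb1, mul_one] at this

omit h in
lemma inv_not_mem {a : G} (ha : a ∉ NK) : a⁻¹ ∉ NK := fun h1 => ha (by
  simpa using (NK).inv_mem h1)

lemma pow_not_mem {a : G} (ha : a ∈ A) (haN : a ∉ NK) {i : ℕ} (hi : 0 < i) (hip : i < p) :
    a ^ i ∉ NK := by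
  intro hmem
  apply haN
  have hcop : Nat.Coprime i p := ((Fact.out : p.Prime).coprime_iff_not_dvd.2
    (Nat.not_dvd_of_pos_of_lt hi hip)).symm
  have hg : Int.gcd (i : ℤ) p = 1 := by rw [Int.gcd_natCast_natCast]; exact hcop
  have e : a = (a ^ i) ^ (Int.gcdA i p) := by
    have e1 : a ^ ((Int.gcd (i : ℤ) p : ℕ) : ℤ) = a := by rw [hg, Nat.cast_one, zpow_one]
    rw [Int.gcd_eq_gcd_ab, zpow_add, zpow_mul, zpow_mul, zpow_natCast, zpow_natCast, h.exp a ha,
      one_zpow, mul_one] at e1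
    exact e1.symm
  rw [e]
  exact (NK).zpow_mem hmem _

lemma comm2 {e g : G} (he : e ∈ A) (hg : g ∈ A) (hN : e⁻¹ * g ∉ NK) {x y : G} (hx : x ∈ K)
    (hy : y ∈ K) : Commute (e * x * e⁻¹) (g * y * g⁻¹) := by
  have := (h.comm _ (A.mul_mem (A.inv_mem he) hg) hN y hy x hx).map (MulAut.conj e).toMonoidHom
  simpa [mul_assoc] using this

lemma slot_comm {a : G} (ha : a ∈ A) (haN : a ∉ NK) {i : ℕ} (hi : 0 < i) (hip : i < p)
    {x y : G} (hx : x ∈ K) (hy : y ∈ K) : Commute y (a ^ i * x * (a ^ i)⁻¹) :=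
  h.comm _ (A.pow_mem ha i) (h.pow_not_mem ha haN hi hip) x hx y hy

/-- `K` centralizes the tail of the diagonal. -/
lemma tail_comm {a : G} (ha : a ∈ A) (haN : a ∉ NK) {x y : G} (hx : x ∈ K) (hy : y ∈ K) :
    ∀ n < p, Commute y (a * hat a n x * a⁻¹) := by
  intro n hn
  rw [conj_hat (Commute.refl a)]
  refine commute_hat n y _ fun i hi => ?_
  have := h.slot_comm ha haN (i := i + 1) (by omega) (by omega) hx hy
  rw [pow_succ] at this
  simpa [mul_assoc] using this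

lemma hat_mul {a : G} (ha : a ∈ A) (haN : a ∉ NK) {x y : G} (hx : x ∈ K) (hy : y ∈ K) :
    ∀ n ≤ p, hat a n (x * y) = hat a n x * hat a n y := by
  intro n
  induction n with
  | zero => intro; simp [hat]
  | succ n ih =>
    intro hn
    show x * y * (a * hat a n (x * y) * a⁻¹) =
      x * (a * hat a n x * a⁻¹) * (y * (a * hat a n y * a⁻¹))
    rw [ih (by omega)]
    have hc := (h.tail_comm ha haN hx hy n (by omega)).eq
    calc x * y * (a * (hat a n x * hat a n y) * a⁻¹)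
        = x * (y * (a * hat a n x * a⁻¹)) * (a * hat a n y * a⁻¹) := by group
      _ = x * ((a * hat a n x * a⁻¹) * y) * (a * hat a n y * a⁻¹) := by rw [hc]
      _ = _ := by group

lemma hat_inv {a : G} (ha : a ∈ A) (haN : a ∉ NK) {x : G} (hx : x ∈ K) :
    hat a p x⁻¹ = (hat a p x)⁻¹ :=
  eq_inv_of_mul_eq_one_left (by
    rw [← h.hat_mul ha haN (K.inv_mem hx) hx p le_rfl, inv_mul_cancel, hat_one])

omit h in
lemma hat_split (a x : G) : hat a p x = x * (a * hat a (p - 1) x * a⁻¹) := by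
  conv_lhs => rw [show p = (p - 1) + 1 from by have := (Fact.out : p.Prime).pos; omega]
  rfl

lemma a_comm_hat {a : G} (ha : a ∈ A) (haN : a ∉ NK) {x : G} (hx : x ∈ K) :
    Commute a (hat a p x) := by
  have h1 : x * (a * hat a p x * a⁻¹) = hat a p x * (a ^ p * x * (a ^ p)⁻¹) := hat_succ' a x p
  rw [h.exp a ha, one_mul, inv_one, mul_one] at h1
  have h2 : Commute x (hat a p x) := by
    rw [hat_split]
    exact (Commute.refl x).mul_right
      (h.tail_comm ha haN hx hx (p - 1) (Nat.sub_lt (Fact.out : p.Prime).pos one_pos))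
  rw [← h2.eq] at h1
  exact mul_inv_eq_iff_eq_mul.1 (mul_left_cancel h1)

/-- conjugation by `y ∈ K` only changes the first factor -/
lemma conj_hat_K {a : G} (ha : a ∈ A) (haN : a ∉ NK) {w y : G} (hw : w ∈ K) (hy : y ∈ K) :
    y * hat a p w * y⁻¹ = y * w * y⁻¹ * (a * hat a (p - 1) w * a⁻¹) := by
  rw [hat_split]
  have hc := h.tail_comm ha haN hw hy (p - 1) (Nat.sub_lt (Fact.out : p.Prime).pos one_pos)
  calc y * (w * (a * hat a (p - 1) w * a⁻¹)) * y⁻¹
      = y * w * ((a * hat a (p - 1) w * a⁻¹) * y⁻¹) := by group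
    _ = y * w * (y⁻¹ * (a * hat a (p - 1) w * a⁻¹)) := by rw [hc.inv_left.eq]
    _ = _ := by group

lemma qa_hat {a : G} (ha : a ∈ A) (haN : a ∉ NK) (hR : RRel ρ K a) {x : G} (hx : x ∈ K) :
    q ρ a * ρ (hat a p x) = q ρ a := by
  conv_rhs => rw [← hR x hx]
  exact ((Commute.sub_left ((h.a_comm_hat ha haN hx).map ρ) (Commute.one_left _)) :
    Commute (q ρ a) (ρ (hat a p x))).eq

/-- the basic identity `(s - 1)(z^a - z) = 0` -/
lemma rel_conj {a : G} (ha : a ∈ A) (haN : a ∉ NK) (hR : RRel ρ K a) {x z : G} (hx : x ∈ K)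
    (hz : Commute z (hat a p x)) :
    (ρ (hat a p x) - 1) * (ρ (a * z * a⁻¹) - ρ z) = 0 := by
  set S := ρ (hat a p x) - 1 with hS
  have hSa : S * ρ a = S := by
    have : S * q ρ a = 0 := by rw [hS, sub_mul, one_mul, hR x hx, sub_self]
    rwa [q, mul_sub, mul_one, sub_eq_zero] at this
  have hSa' : S * ρ a⁻¹ = S := by
    conv_lhs => rw [← hSa]
    rw [mul_assoc, rho_mul_inv, mul_one]
  have hSz : S * ρ z = ρ z * S :=
    ((Commute.sub_left (hz.symm.map ρ) (Commute.one_left _)) : Commute S (ρ z)).eq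
  rw [mul_sub, sub_eq_zero, map_mul, map_mul, ← mul_assoc, ← mul_assoc, hSa, hSz, mul_assoc,
    hSa']

/-- `[V, K, K^e] = 0` -/
lemma cross {a e z₀ w : G} (ha : a ∈ A) (he : e ∈ A) (haN : a ∉ NK) (heN : e ∉ NK)
    (haeN : a * e ∉ NK) (hR : RRel ρ K a) (hz₀ : z₀ ∈ K) (hz₀c : ¬ Central K z₀) (hw : w ∈ K)
    (hwc : ¬ Central K w) (hz : ∀ i < p, Commute (e * z₀ * e⁻¹) (a ^ i * w * (a ^ i)⁻¹)) :
    ∀ g ∈ K, ∀ u ∈ K, q ρ g * q ρ (e * u * e⁻¹) = 0 := by
  set z := e * z₀ * e⁻¹ with hzdef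
  set z' := a * z * a⁻¹ with hz'def
  have hae : a * e ∈ A := A.mul_mem ha he
  have hz' : z' = a * e * z₀ * (a * e)⁻¹ := by rw [hz'def, hzdef]; group
  have hyz : ∀ y ∈ K, Commute y z := fun y hy => h.comm e he heN z₀ hz₀ y hy
  have hyz' : ∀ y ∈ K, Commute y z' := fun y hy => by
    rw [hz']; exact h.comm _ hae haeN z₀ hz₀ y hy
  set T := a * hat a (p - 1) w * a⁻¹ with hT
  set D := ρ z' - ρ z with hD
  have hE := h.rel_conj ha haN hR hw (commute_hat p z w hz)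
  rw [← hz'def, ← hD] at hE
  have hDy : ∀ y ∈ K, Commute (ρ y) D := fun y hy =>
    ((hyz' y hy).map ρ).sub_right ((hyz y hy).map ρ)
  have hTy : ∀ y ∈ K, Commute (ρ T) (ρ y) := fun y hy =>
    ((h.tail_comm ha haN hw hy (p - 1) (Nat.sub_lt (Fact.out : p.Prime).pos one_pos)).symm.map ρ)
  clear_value D T z'
  -- vary the first factor
  have hΔ : ∀ y ∈ K, (ρ (y * w * y⁻¹) - ρ w) * D = 0 := by
    intro y hy
    have h1 : (ρ (y * hat a p w * y⁻¹) - 1) * D = 0 := by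
      have h0 : ρ y * ((ρ (hat a p w) - 1) * D) * ρ y⁻¹ = 0 := by rw [hE, mul_zero, zero_mul]
      have e : ρ (y * hat a p w * y⁻¹) - 1 = ρ y * (ρ (hat a p w) - 1) * ρ y⁻¹ := by
        rw [map_mul, map_mul, mul_sub, mul_one, sub_mul, rho_mul_inv]
      rw [e, mul_assoc, (hDy _ (K.inv_mem hy)).eq, ← mul_assoc, mul_assoc (ρ y)]
      exact h0
    rw [h.conj_hat_K ha haN hw hy, ← hT] at h1
    have h2 : (ρ (w * T) - 1) * D = 0 := by rwa [hT, ← hat_split]
    rw [map_mul, sub_mul, one_mul, sub_eq_zero] at h1 h2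
    have h3 : ρ T * ((ρ (y * w * y⁻¹) - ρ w) * D) = 0 := by
      rw [← mul_assoc, mul_sub (ρ T), (hTy _ (K.mul_mem (K.mul_mem hy hw) (K.inv_mem hy))).eq,
        (hTy w hw).eq, sub_mul, h1, h2, sub_self]
    calc (ρ (y * w * y⁻¹) - ρ w) * D
        = ρ T⁻¹ * ρ T * ((ρ (y * w * y⁻¹) - ρ w) * D) := by rw [rho_inv_mul, one_mul]
      _ = 0 := by rw [mul_assoc, h3, mul_zero]
  -- vary `z`
  have hΔ2 : ∀ u ∈ K, ∀ y ∈ K,
      (ρ (y * w * y⁻¹) - ρ w) * (ρ (e * (u * z₀ * u⁻¹) * e⁻¹) - ρ z) = 0 := by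
    intro u hu y hy
    set y' := e * u * e⁻¹ with hy'
    have hy'K : ∀ x ∈ K, Commute (ρ x) (ρ y') := fun x hx => (h.comm e he heN u hu x hx).map ρ
    have hy'z' : Commute (ρ y') (ρ z') := by
      rw [hz']
      refine (h.comm2 he hae ?_ hu hz₀).map ρ
      rw [(h.ab a ha e he).eq, ← mul_assoc, inv_mul_cancel, one_mul]
      exact haN
    have hΔy : Commute (ρ y') (ρ (y * w * y⁻¹) - ρ w) :=
      ((hy'K _ (K.mul_mem (K.mul_mem hy hw) (K.inv_mem hy))).symm).sub_right ((hy'K w hw).symm)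
    have hconj : e * (u * z₀ * u⁻¹) * e⁻¹ = y' * z * y'⁻¹ := by rw [hy', hzdef]; group
    have hz'c : ρ y' * ρ z' * ρ y'⁻¹ = ρ z' := by
      rw [hy'z'.eq, mul_assoc, rho_mul_inv, mul_one]
    have hΔc : ρ y' * (ρ (y * w * y⁻¹) - ρ w) = (ρ (y * w * y⁻¹) - ρ w) * ρ y' := hΔy.eq
    have h0 : (ρ (y * w * y⁻¹) - ρ w) * (ρ z' - ρ (y' * z * y'⁻¹)) = 0 := by
      have e : ρ z' - ρ (y' * z * y'⁻¹) = ρ y' * D * ρ y'⁻¹ := by
        rw [hD, mul_sub (ρ y'), sub_mul, hz'c, map_mul, map_mul]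
      rw [e, ← mul_assoc, ← mul_assoc, ← hΔc, mul_assoc (ρ y'), hΔ y hy, mul_zero, zero_mul]
    rw [hconj]
    have h1 := hΔ y hy
    rw [hD, mul_sub, sub_eq_zero] at h1
    rw [mul_sub, sub_eq_zero] at h0
    rw [mul_sub, sub_eq_zero, ← h0, h1]
  -- pass to all of `K`
  have hstep : ∀ u ∈ K, ∀ g ∈ K, ρ g * (ρ (e * (u * z₀ * u⁻¹) * e⁻¹) - ρ z) =
      ρ (e * (u * z₀ * u⁻¹) * e⁻¹) - ρ z := by
    intro u hu
    set D' := ρ (e * (u * z₀ * u⁻¹) * e⁻¹) - ρ z with hD'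
    have hD'y : ∀ y ∈ K, Commute (ρ y) D' := fun y hy =>
      ((h.comm e he heN _ (K.mul_mem (K.mul_mem hu hz₀) (K.inv_mem hu)) y hy).map ρ).sub_right
        ((hyz y hy).map ρ)
    refine fun g hg => normal_all h.qs hw hwc (lfix ρ D') ?_ ?_ hg
    · intro y hy s hs _
      show ρ (y * s * y⁻¹) * D' = D'
      have hs' : ρ s * D' = D' := hs
      rw [map_mul, map_mul, mul_assoc, (hD'y _ (K.inv_mem hy)).eq, mul_assoc, ← mul_assoc (ρ s),
        hs', ← mul_assoc, (hD'y y hy).eq, mul_assoc, rho_mul_inv, mul_one]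
    · intro y hy
      show ρ (y * w * y⁻¹ * w⁻¹) * D' = D'
      have h1 := hΔ2 u hu y hy
      rw [← hD', sub_mul, sub_eq_zero] at h1
      rw [map_mul, mul_assoc, (hD'y _ (K.inv_mem hw)).eq, ← mul_assoc, h1, (hD'y w hw).eq,
        mul_assoc, rho_mul_inv, mul_one]
  intro g hg u hu
  have hall : ρ g * 1 = ρ g := mul_one _
  let S : Subgroup G := (rfix ρ (q ρ g)).comap (MulAut.conj e).toMonoidHom
  have hmem : ∀ {v}, v ∈ S ↔ q ρ g * ρ (e * v * e⁻¹) = q ρ g := fun {v} => Iff.rfl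
  have hu' : u ∈ S := by
    refine normal_all h.qs hz₀ hz₀c S ?_ ?_ hu
    · intro y hy s hs _
      rw [hmem] at hs ⊢
      have hc : Commute (q ρ g) (ρ (e * y * e⁻¹)) :=
        Commute.sub_left ((h.comm e he heN y hy g hg).map ρ) (Commute.one_left _)
      have hc' : Commute (q ρ g) (ρ (e * y⁻¹ * e⁻¹)) :=
        Commute.sub_left ((h.comm e he heN _ (K.inv_mem hy) g hg).map ρ) (Commute.one_left _)
      rw [show e * (y * s * y⁻¹) * e⁻¹ = e * y * e⁻¹ * (e * s * e⁻¹) * (e * y⁻¹ * e⁻¹) by group,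
        map_mul, map_mul, ← mul_assoc, ← mul_assoc, hc.eq, mul_assoc (ρ (e * y * e⁻¹)), hs,
        mul_assoc, hc'.eq, ← mul_assoc, ← map_mul,
        show e * y * e⁻¹ * (e * y⁻¹ * e⁻¹) = 1 by group, map_one, one_mul]
    · intro y hy
      rw [hmem]
      have h1 : q ρ g * ρ (e * (y * z₀ * y⁻¹) * e⁻¹) = q ρ g * ρ z := by
        have := hstep y hy g hg
        rw [← sub_eq_zero, q, ← mul_sub, sub_mul, one_mul, this, sub_self]
      rw [show e * (y * z₀ * y⁻¹ * z₀⁻¹) * e⁻¹ = e * (y * z₀ * y⁻¹) * e⁻¹ * z⁻¹ by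
          rw [hzdef]; group,
        map_mul, ← mul_assoc, h1, mul_assoc, rho_mul_inv, mul_one]
  rw [q, sub_mul, one_mul]
  have := hmem.1 hu'
  rw [q, sub_mul, one_mul] at this
  rw [q, mul_sub, mul_one, sub_eq_zero]
  rw [sub_eq_iff_eq_add] at this
  rw [this]; abel

/-- The endgame: diagonals and cross terms leave no room for `K`. -/
lemma endgame {a : G} (ha : a ∈ A) (haN : a ∉ NK) (hR : RRel ρ K a)
    (hZ : ∀ e ∈ A, e ∉ NK → ∀ g ∈ K, ∀ u ∈ K, q ρ g * q ρ (e * u * e⁻¹) = 0) : False := by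
  have hp1 : p - 1 < p := Nat.sub_lt (Fact.out : p.Prime).pos one_pos
  have hleft : ∀ (n : ℕ), n < p → ∀ x ∈ K, ∀ y ∈ K, ∀ k, 0 < k → k + n ≤ p →
      q ρ y * ρ (hat a n (a ^ k * x * (a ^ k)⁻¹)) = q ρ y := by
    intro n
    induction n with
    | zero => intro _ x _ y _ k _ _; simp [hat]
    | succ n ih =>
      intro hn x hx y hy k hk hkn
      have e1 : hat a (n + 1) (a ^ k * x * (a ^ k)⁻¹) =
          (a ^ k * x * (a ^ k)⁻¹) * hat a n (a ^ (k + 1) * x * (a ^ (k + 1))⁻¹) := by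
        show _ * (a * hat a n _ * a⁻¹) = _
        rw [conj_hat (Commute.refl a)]
        congr 2
        rw [pow_succ']; group
      rw [e1, map_mul, ← mul_assoc]
      have h0 := hZ _ (A.pow_mem ha k) (h.pow_not_mem ha haN hk (by omega)) y hy x hx
      rw [show q ρ (a ^ k * x * (a ^ k)⁻¹) = ρ (a ^ k * x * (a ^ k)⁻¹) - 1 from rfl, mul_sub,
        mul_one, sub_eq_zero] at h0
      rw [h0]
      exact ih (by omega) x hx y hy (k + 1) (by omega) (by omega)
  -- multiplication by `q y` kills the tail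
  have hTy : ∀ x ∈ K, ∀ y ∈ K, Commute (q ρ y) (ρ (a * hat a (p - 1) x * a⁻¹)) := fun x hx y hy =>
    Commute.sub_left ((h.tail_comm ha haN hx hy (p - 1) hp1).map ρ) (Commute.one_left _)
  have htail : ∀ x ∈ K, ∀ y ∈ K, q ρ y * ρ (a * hat a (p - 1) x * a⁻¹) = q ρ y := by
    intro x hx y hy
    have := hleft (p - 1) hp1 x hx y hy 1 one_pos (by have := (Fact.out : p.Prime).pos; omega)
    rw [pow_one] at this
    rwa [conj_hat (Commute.refl a)]
  have hyx : ∀ y ∈ K, ∀ x ∈ K, q ρ y * ρ x * ρ (a * hat a (p - 1) x * a⁻¹) = q ρ y * ρ x := by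
    intro y hy x hx
    have e : q ρ y * ρ x = ρ x * q ρ (x⁻¹ * y * x) := by
      simp only [q, mul_sub, sub_mul, one_mul, mul_one, ← map_mul]
      rw [show x * (x⁻¹ * y * x) = y * x by group]
    rw [e, mul_assoc, htail x hx _ (K.mul_mem (K.mul_mem (K.inv_mem hx) hy) hx)]
  have hQ : ∀ y ∈ K, ∀ x ∈ K, q ρ y * q ρ x * q ρ a = 0 := by
    intro y hy x hx
    have h1 : q ρ y * (ρ (hat a p x) * q ρ a) = q ρ y * q ρ a := by rw [hR x hx]
    rw [hat_split, map_mul ρ x, ← mul_assoc, ← mul_assoc] at h1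
    rw [hyx y hy x hx] at h1
    rw [show q ρ x = ρ x - 1 from rfl, mul_sub, mul_one, sub_mul, h1, sub_self]
  have hQ' : ∀ y ∈ K, ∀ x ∈ K, q ρ a * q ρ x * q ρ y = 0 := by
    intro y hy x hx
    have h1 : q ρ a * ρ (hat a p x) * q ρ y = q ρ a * q ρ y := by rw [h.qa_hat ha haN hR hx]
    rw [hat_split, map_mul ρ x, mul_assoc, mul_assoc] at h1
    rw [← (hTy x hx y hy).eq, htail x hx y hy] at h1
    rw [show q ρ x = ρ x - 1 from rfl, mul_assoc, sub_mul, one_mul, mul_sub, h1, sub_self]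
  have hl : ∀ x ∈ K, q ρ x * q ρ a = 0 :=
    add_trivial h.qs (fun x => q ρ x * q ρ a) fun x hx y hy => by
      rw [q_mul, add_mul, add_mul, hQ x hx y hy, zero_add]
  have hr : ∀ x ∈ K, q ρ a * q ρ x = 0 :=
    add_trivial h.qs (fun x => q ρ a * q ρ x) fun x hx y hy => by
      rw [q_mul, mul_add, mul_add, ← mul_assoc, hQ' y hy x hx, zero_add]
  refine h.conj_false ha haN fun x hx => ?_
  have e : ρ a * ρ x = ρ x * ρ a := by
    have h1 := hl x hx
    have h2 := hr x hx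
    simp only [q, sub_mul, mul_sub, one_mul, mul_one] at h1 h2
    rw [sub_eq_zero, sub_eq_iff_eq_add] at h1 h2
    rw [h1, h2]; abel
  rw [map_mul, map_mul, e, mul_assoc, rho_mul_inv, mul_one]

lemma all_rel {a : G} (ha : a ∈ A) (haN : a ∉ NK) {w : G} (hw : w ∈ K) (hwc : ¬ Central K w)
    (hgen : ∀ y ∈ K, ρ (hat a p (y * w * y⁻¹ * w⁻¹)) * q ρ a = q ρ a) : RRel ρ K a := by
  intro x hx
  let S : Subgroup G :=
    { carrier := {v | v ∈ K ∧ ρ (hat a p v) * q ρ a = q ρ a}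
      one_mem' := ⟨K.one_mem, by rw [hat_one, map_one, one_mul]⟩
      mul_mem' := fun {u v} hu hv => ⟨K.mul_mem hu.1 hv.1, by
        rw [h.hat_mul ha haN hu.1 hv.1 p le_rfl, map_mul, mul_assoc, hv.2, hu.2]⟩
      inv_mem' := fun {u} hu => ⟨K.inv_mem hu.1, by
        rw [h.hat_inv ha haN hu.1]
        exact (lfix ρ (q ρ a)).inv_mem hu.2⟩ }
  have hS : ∀ y ∈ K, ∀ s ∈ S, s ∈ K → y * s * y⁻¹ ∈ S := fun y hy s hs hsK => by
    refine ⟨K.mul_mem (K.mul_mem hy hsK) (K.inv_mem hy), ?_⟩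
    have hc : ∀ z ∈ K, Commute (ρ (hat a p z)) (q ρ a) := fun z hz =>
      (Commute.sub_left ((h.a_comm_hat ha haN hz).map ρ) (Commute.one_left _)).symm
    rw [h.hat_mul ha haN (K.mul_mem hy hsK) (K.inv_mem hy) p le_rfl,
      h.hat_mul ha haN hy hsK p le_rfl, map_mul, map_mul, mul_assoc, (hc _ (K.inv_mem hy)).eq,
      mul_assoc, ← mul_assoc (ρ (hat a p s)), hs.2, ← mul_assoc, (hc y hy).eq, mul_assoc, ← map_mul,
      ← h.hat_mul ha haN hy (K.inv_mem hy) p le_rfl, mul_inv_cancel, hat_one, map_one, mul_one]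
  have := normal_all h.qs hw hwc S hS (fun y hy => ⟨K.mul_mem (K.mul_mem (K.mul_mem hy hw)
    (K.inv_mem hy)) (K.inv_mem hw), hgen y hy⟩) hx
  exact this.2

/-- The relation follows from a normalizing element which kills `[V, a]`. -/
lemma rel_of_normalizing {a b : G} (ha : a ∈ A) (haN : a ∉ NK) (hb : b ∈ A) (hbN : b ∈ NK)
    (hb1 : ρ b ≠ 1) (hab : q ρ b * q ρ a = 0) : RRel ρ K a := by
  have hbK : ∀ x ∈ K, b * x * b⁻¹ ∈ K := fun x hx => (Subgroup.mem_normalizer_iff.1 hbN x).1 hx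
  obtain ⟨x₀, hx₀, hx₀c⟩ := exists_comm_noncentral h.qs hbK fun hc => hb1 (h.hfix b hb hc)
  set w := x₀ * b * x₀⁻¹ * b⁻¹ with hwdef
  have hwK : w ∈ K := by
    have := K.mul_mem hx₀ (hbK _ (K.inv_mem hx₀))
    simpa [hwdef, mul_assoc] using this
  have hbf : ρ b * q ρ a = q ρ a := by
    have h0 : (ρ b - 1) * q ρ a = 0 := hab
    rwa [sub_mul, one_mul, sub_eq_zero] at h0
  have hw1 : ρ (hat a p w) * q ρ a = q ρ a := by
    have hwhat : hat a p w = hat a p x₀ * b * hat a p x₀⁻¹ * b⁻¹ := by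
      have e : w = x₀ * (b * x₀⁻¹ * b⁻¹) := by rw [hwdef]; group
      rw [e, h.hat_mul ha haN hx₀ (hbK _ (K.inv_mem hx₀)) p le_rfl,
        ← conj_hat (h.ab b hb a ha)]
      group
    have hcx : Commute (ρ (hat a p x₀⁻¹)) (q ρ a) :=
      (Commute.sub_left ((h.a_comm_hat ha haN (K.inv_mem hx₀)).map ρ) (Commute.one_left _)).symm
    rw [hwhat, map_mul, map_mul, map_mul, mul_assoc, (lfix ρ (q ρ a)).inv_mem hbf, mul_assoc,
      hcx.eq, mul_assoc, ← mul_assoc (ρ b), hbf, ← hcx.eq, ← mul_assoc, ← map_mul,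
      ← h.hat_mul ha haN hx₀ (K.inv_mem hx₀) p le_rfl, mul_inv_cancel, hat_one, map_one, one_mul]
  refine h.all_rel ha haN hwK hx₀c fun y hy => ?_
  have hyw := K.mul_mem (K.mul_mem hy hwK) (K.inv_mem hy)
  rw [h.hat_mul ha haN hyw (K.inv_mem hwK) p le_rfl, h.hat_inv ha haN hwK, map_mul, mul_assoc,
    (lfix ρ (q ρ a)).inv_mem hw1,
    h.hat_mul ha haN (K.mul_mem hy hwK) (K.inv_mem hy) p le_rfl,
    h.hat_mul ha haN hy hwK p le_rfl, map_mul, map_mul]
  have hcy : ∀ z ∈ K, Commute (ρ (hat a p z)) (q ρ a) := fun z hz =>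
    (Commute.sub_left ((h.a_comm_hat ha haN hz).map ρ) (Commute.one_left _)).symm
  rw [mul_assoc, (hcy _ (K.inv_mem hy)).eq, mul_assoc, ← mul_assoc (ρ (hat a p w)), hw1,
    ← mul_assoc, (hcy y hy).eq, mul_assoc, ← map_mul,
    ← h.hat_mul ha haN hy (K.inv_mem hy) p le_rfl, mul_inv_cancel, hat_one, map_one, mul_one]

/-- The relation follows from an element moving the orbit which kills `[V, a]`. -/
lemma rel_of_moving {a c : G} (ha : a ∈ A) (haN : a ∉ NK) (hc : c ∈ A)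
    (hcN : ∀ i : ℕ, a ^ i * c ∉ NK) (hac : q ρ c * q ρ a = 0) : RRel ρ K a := by
  obtain ⟨w, hw, hwc⟩ := exists_noncentral h.qs
  have hcf : ρ c * q ρ a = q ρ a := by
    have h0 : (ρ c - 1) * q ρ a = 0 := hac
    rwa [sub_mul, one_mul, sub_eq_zero] at h0
  have hcy : ∀ z ∈ K, Commute (ρ (hat a p z)) (q ρ a) := fun z hz =>
    (Commute.sub_left ((h.a_comm_hat ha haN hz).map ρ) (Commute.one_left _)).symm
  -- the two diagonals commute
  have hd : ∀ u ∈ K, ∀ v ∈ K, Commute (hat a p u) (c * hat a p v * c⁻¹) := by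
    intro u hu v hv
    rw [conj_hat (h.ab c hc a ha)]
    refine commute_hat p _ _ fun j hj => ?_
    refine (commute_hat p _ u fun i hi => ?_).symm
    have e : a ^ j * (c * v * c⁻¹) * (a ^ j)⁻¹ = a ^ j * c * v * (a ^ j * c)⁻¹ := by group
    rw [e]
    refine (h.comm2 (A.pow_mem ha i) (A.mul_mem (A.pow_mem ha j) hc) ?_ hu hv).symm
    have e2 : (a ^ i)⁻¹ * (a ^ j * c) = a ^ (p - i + j) * c := by
      rw [pow_add, ← mul_assoc]
      congr 2
      refine inv_eq_of_mul_eq_one_right ?_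
      rw [← pow_add, Nat.add_sub_cancel' hi.le, h.exp a ha]
    rw [e2]
    exact hcN _
  refine h.all_rel ha haN hw hwc fun y hy => ?_
  set Y := hat a p y with hY
  set W := hat a p w with hW
  have hW' : hat a p w⁻¹ = W⁻¹ := h.hat_inv ha haN hw
  set t := W * c * W⁻¹ * c⁻¹ with ht
  have htf : ρ t * q ρ a = q ρ a := by
    rw [ht, map_mul, map_mul, map_mul, mul_assoc, (lfix ρ (q ρ a)).inv_mem hcf, mul_assoc,
      ← hW', (hcy _ (K.inv_mem hw)).eq, mul_assoc, ← mul_assoc (ρ c), hcf, ← (hcy _ (K.inv_mem hw)).eq,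
      ← mul_assoc, hW', rho_mul_inv, one_mul]
  have hcommY : Commute Y (c * W⁻¹ * c⁻¹) := by
    rw [← hW']; exact hd y hy _ (K.inv_mem hw)
  have heq : hat a p (y * w * y⁻¹ * w⁻¹) = Y * t * Y⁻¹ * t⁻¹ := by
    rw [h.hat_mul ha haN (K.mul_mem (K.mul_mem hy hw) (K.inv_mem hy)) (K.inv_mem hw) p le_rfl,
      h.hat_mul ha haN (K.mul_mem hy hw) (K.inv_mem hy) p le_rfl,
      h.hat_mul ha haN hy hw p le_rfl, h.hat_inv ha haN hy, hW', ← hY, ← hW, ht]
    calc Y * W * Y⁻¹ * W⁻¹ = Y * W * (Y⁻¹ * (c * W⁻¹ * c⁻¹)) * (c * W⁻¹ * c⁻¹)⁻¹ * W⁻¹ := by group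
      _ = Y * W * ((c * W⁻¹ * c⁻¹) * Y⁻¹) * (c * W⁻¹ * c⁻¹)⁻¹ * W⁻¹ := by
          rw [hcommY.inv_left.eq]
      _ = _ := by group
  have hY' : hat a p y⁻¹ = Y⁻¹ := h.hat_inv ha haN hy
  rw [heq, map_mul, map_mul, map_mul, mul_assoc, (lfix ρ (q ρ a)).inv_mem htf, mul_assoc,
    ← hY', (hcy _ (K.inv_mem hy)).eq, mul_assoc, ← mul_assoc (ρ t), htf,
    ← (hcy _ (K.inv_mem hy)).eq, ← mul_assoc, hY', rho_mul_inv, one_mul]

end

end Hyp

end Cfsg.Agent.Lib.LocalEven2.PGV
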