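import Cfsg.Agent.Lib.LocalEven2.PGVCore

/-!
# Quadratic elements moving a component
-/

set_option autoImplicit false

namespace Cfsg.Agent.Lib.LocalEven2.PGV

variable {G : Type*} [Group G] [Finite G] {V : Type*} [AddCommGroup V] [Finite V] {p : ℕ}
  [Fact p.Prime] [Module (ZMod p) V] {ρ : G →* Module.End (ZMod p) V} {K A : Subgroup G}

local notation "NK" => Subgroup.normalizer (K : Set G)

/-- For `p ≥ 5` a quadratic element cannot move `K`. -/
lemma Hyp.quad_false (h : Hyp ρ K A) (hp : 5 ≤ p) {a : G} (ha : a ∈ A) (haN : a ∉ NK)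
    (hq : q ρ a * q ρ a = 0) : False := by
  obtain ⟨x, hx, hxc⟩ := exists_noncentral h.qs
  set n := q ρ a with hn
  have ha1 : ρ a = 1 + n := by rw [hn, q]; abel
  have hainv : ρ a⁻¹ = 1 - n := by
    have h1 : (1 - n) * ρ a = 1 := by
      rw [ha1]
      calc (1 - n) * (1 + n) = 1 - n * n := by noncomm_ring
        _ = 1 := by rw [hq, sub_zero]
    calc ρ a⁻¹ = (1 - n) * ρ a * ρ a⁻¹ := by rw [h1, one_mul]
      _ = 1 - n := by rw [mul_assoc, rho_mul_inv, mul_one]
  set X := ρ x with hX
  set P : ℕ → Module.End (ZMod p) V := fun i => ρ (a ^ i * x * (a ^ i)⁻¹) with hPdef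
  have hPs : ∀ i, P (i + 1) = (1 + n) * P i * (1 - n) := by
    intro i
    simp only [hPdef]
    rw [← ha1, ← hainv, ← map_mul, ← map_mul]
    congr 1
    rw [pow_succ']; group
  set N := n * X * n with hN
  set M := n * X - X * n with hM
  have hnM : n * M * n = 0 := by
    rw [hM]
    calc n * (n * X - X * n) * n = (n * n) * X * n - n * X * (n * n) := by noncomm_ring
      _ = 0 := by rw [hq]; simp
  have hnN : n * N = 0 ∧ N * n = 0 := by
    constructor
    · rw [hN, ← mul_assoc, ← mul_assoc, hq, zero_mul, zero_mul]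
    · rw [hN, mul_assoc, hq, mul_zero]
  have hMcomm : n * M - M * n = -(N + N) := by
    rw [hM, hN]
    calc n * (n * X - X * n) - (n * X - X * n) * n
        = (n * n) * X - (n * X * n + n * X * n) + X * (n * n) := by noncomm_ring
      _ = _ := by rw [hq]; simp
  have hP1 : P 1 = X + M - N := by
    rw [hPs 0]
    simp only [hPdef, pow_zero, one_mul, inv_one, mul_one, ← hX, hM, hN]
    noncomm_ring
  have hP2 : P 2 = X + M + M - (N + N + N + N) := by
    rw [hPs 1, hP1]
    calc (1 + n) * (X + M - N) * (1 - n)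
        = X + M - N + (n * X - X * n) + (n * M - M * n) - (n * N) + N * n
          - n * X * n - n * M * n + (n * N) * n := by noncomm_ring
      _ = X + M + M - (N + N + N + N) := by
        rw [← hM, hMcomm, hnN.1, hnN.2, hnM, ← hN]; simp; abel
  have hP3 : P 3 = X + M + M + M - (N + N + N + N + N + N + N + N + N) := by
    rw [hPs 2, hP2]
    calc (1 + n) * (X + M + M - (N + N + N + N)) * (1 - n)
        = X + M + M - (N + N + N + N) + (n * X - X * n) + ((n * M - M * n) + (n * M - M * n))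
          - (n * N + n * N + n * N + n * N) + (N * n + N * n + N * n + N * n)
          - n * X * n - (n * M * n + n * M * n)
          + ((n * N) * n + (n * N) * n + (n * N) * n + (n * N) * n) := by noncomm_ring
      _ = X + M + M + M - (N + N + N + N + N + N + N + N + N) := by
        rw [← hM, hMcomm, hnN.1, hnN.2, hnM, ← hN]; simp; abel
  refine h.comm_false hx hxc fun y hy => ?_
  have hc : ∀ i, 0 < i → i < 5 → Commute (ρ y) (P i) := fun i hi hi5 =>
    (h.slot_comm ha haN hi (by omega) hx hy).map ρ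
  have h1 := hc 1 one_pos (by norm_num)
  have h2 := hc 2 two_pos (by norm_num)
  have h3 := hc 3 (by norm_num) (by norm_num)
  have hNN : Commute (ρ y) (N + N) := by
    have e : N + N = P 2 + P 2 - P 1 - P 3 := by rw [hP1, hP2, hP3]; abel
    rw [e]; exact ((h2.add_right h2).sub_right h1).sub_right h3
  have hNc : Commute (ρ y) N := by
    have h20 : (2 : ZMod p) ≠ 0 := by
      intro h0
      have : p ∣ 2 := (ZMod.natCast_eq_zero_iff 2 p).1 (by exact_mod_cast h0)
      have := Nat.le_of_dvd two_pos this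
      omega
    have e : N = (2 : ZMod p)⁻¹ • (N + N) := by
      rw [← two_smul (ZMod p) N, inv_smul_smul₀ h20]
    rw [e]; exact hNN.smul_right _
  have hMc : Commute (ρ y) M := by
    have e : M = P 2 - P 1 + (N + N + N) := by rw [hP1, hP2]; abel
    rw [e]; exact (h2.sub_right h1).add_right ((hNc.add_right hNc).add_right hNc)
  have e : X = P 1 - M + N := by rw [hP1]; abel
  rw [← hX, e]
  exact (h1.sub_right hMc).add_right hNc

lemma small_pow_sub {p q i j : ℕ} (hp : p.Prime) (hp3 : p ≤ 3) (hq : q.Prime) (hq5 : 5 ≤ q)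
    (hij : i < j) (hj : j ≤ 2) : ¬ q ∣ p ^ j - p ^ i := by
  intro hdvd
  have hp2 := hp.two_le
  have hpos : 0 < p ^ j - p ^ i := Nat.sub_pos_of_lt (Nat.pow_lt_pow_right (by omega) hij)
  have hle := Nat.le_of_dvd hpos hdvd
  interval_cases p <;> interval_cases j <;> interval_cases i <;> norm_num at hdvd hle <;>
    first | omega | (interval_cases q <;> first | (norm_num at hq; done) | (norm_num at hdvd; done))

/-- For `p ≤ 3` a transvection-like group cannot move `K`. -/
lemma Hyp.transvection_false (h : Hyp ρ K A) (hp : p ≤ 3) {a : G} (ha : a ∈ A) (haN : a ∉ NK)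
    (hsmall : ∀ c ∈ A, ∃ i < p, a ^ i * c ∈ NK)
    (htriv : ∀ c ∈ A, c ∈ NK → ρ c = 1) : False := by
  classical
  set A₀ := A ⊓ NK with hA₀
  have hcountA : Nat.card ↥A ≤ p * Nat.card ↥A₀ := by
    choose i hi hiN using hsmall
    let f : ↥A → Fin p × ↥A₀ := fun c =>
      (⟨i c c.2, hi c c.2⟩, ⟨a ^ (i c c.2) * c, A.mul_mem (A.pow_mem ha _) c.2, hiN c c.2⟩)
    have hf : Function.Injective f := by
      intro c c' heq
      have h1 : i c c.2 = i c' c'.2 := congrArg (fun x : Fin p × ↥A₀ => (x.1 : ℕ)) heq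
      have h2 : a ^ (i c c.2) * c = a ^ (i c' c'.2) * c' :=
        congrArg (fun x : Fin p × ↥A₀ => (x.2 : G)) heq
      rw [h1] at h2
      exact Subtype.ext (mul_left_cancel h2)
    have := Nat.card_le_card_of_injective f hf
    rwa [Nat.card_prod, Nat.card_fin] at this
  set C := LinearMap.ker (q ρ a) with hC
  have hC' : fix ρ A ≤ C := fun v hv => by rw [hC, LinearMap.mem_ker, q_apply, hv a ha, sub_self]
  have hfix : fix ρ A₀ = ⊤ := eq_top_iff.2 fun v _ c hc => by
    rw [htriv c hc.1 hc.2, Module.End.one_apply]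
  have hV : Nat.card ↥(⊤ : Submodule (ZMod p) V) ≤ p * Nat.card ↥C := by
    have h1 := h.hmax A₀ inf_le_left
    rw [wt, wt, hfix] at h1
    have h2 : Nat.card ↥A₀ * Nat.card ↥(⊤ : Submodule (ZMod p) V) ≤
        Nat.card ↥A₀ * (p * Nat.card ↥C) := by
      calc _ ≤ Nat.card ↥A * Nat.card ↥(fix ρ A) := h1
        _ ≤ (p * Nat.card ↥A₀) * Nat.card ↥C := Nat.mul_le_mul hcountA (card_mono hC')
        _ = _ := by ring
    exact Nat.le_of_mul_le_mul_left h2 Nat.card_pos
  obtain ⟨q₀, r, hq₀, hq₀5, hr, hrc, -, m, hm⟩ := exists_q_element h.qs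
  have inj : ∀ g : G, Function.Injective (ρ g) := fun g v w hvw => by
    have := congrArg (ρ g⁻¹) hvw
    rwa [rho_inv_apply, rho_inv_apply] at this
  set M := C ⊓ C.map (ρ r) with hMdef
  have hM : Nat.card ↥(⊤ : Submodule (ZMod p) V) ≤ p * p * Nat.card ↥M := by
    have h1 := card_sq_le (ρ r) (inj r) (le_top : C ≤ ⊤) le_top
    rw [← hMdef] at h1
    have hpos : 0 < Nat.card ↥(⊤ : Submodule (ZMod p) V) := Nat.card_pos
    refine Nat.le_of_mul_le_mul_left ?_ hpos
    calc Nat.card ↥(⊤ : Submodule (ZMod p) V) * Nat.card ↥(⊤ : Submodule (ZMod p) V)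
        ≤ (p * Nat.card ↥C) * (p * Nat.card ↥C) := Nat.mul_le_mul hV hV
      _ = p * p * (Nat.card ↥C * Nat.card ↥C) := by ring
      _ ≤ p * p * (Nat.card ↥(⊤ : Submodule (ZMod p) V) * Nat.card ↥M) := Nat.mul_le_mul_left _ h1
      _ = _ := by ring
  set r1 := a * r * a⁻¹ with hr1
  set d := r * a * r⁻¹ * a⁻¹ with hd
  have hcr : Commute r r1 := h.comm a ha haN r hr r hr
  have hd1 : d = r * r1⁻¹ := by rw [hd, hr1]; group
  have hdfix : ∀ v ∈ M, ρ d v = v := by
    rintro v ⟨hv1, w, hw, rfl⟩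
    rw [SetLike.mem_coe, hC, LinearMap.mem_ker, q_apply, sub_eq_zero] at hv1 hw
    have h1 : ρ a⁻¹ (ρ r w) = ρ r w := by conv_lhs => rw [← hv1, rho_inv_apply]
    rw [hd, map_mul, map_mul, map_mul, Module.End.mul_apply, Module.End.mul_apply,
      Module.End.mul_apply, h1, rho_inv_apply, hw]
  have hdpow : d ^ (q₀ ^ m) = 1 := by
    rw [hd1, (hcr.inv_right).mul_pow, hm, inv_pow, hr1, conj_pow, hm]; group
  haveI := Fact.mk hq₀
  set Z := Subgroup.zpowers d with hZ
  have hZp : IsPGroup q₀ ↥Z := by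
    rintro ⟨g, hg⟩
    obtain ⟨k, rfl⟩ := Subgroup.mem_zpowers_iff.1 hg
    refine ⟨m, Subtype.ext ?_⟩
    rw [SubmonoidClass.coe_pow, OneMemClass.coe_one, ← zpow_natCast, ← zpow_mul, mul_comm, zpow_mul,
      zpow_natCast, hdpow, one_zpow]
  have hZfix : ∀ g ∈ Z, ∀ v ∈ M, ρ g v = v := fun g hg => by
    have : Z ≤ stab ρ (M : Set V) := Subgroup.zpowers_le.2 (mem_stab.2 hdfix)
    exact this hg
  -- the permutation action on the quotient
  have hZinv : ∀ g : ↥Z, M ≤ M.comap (ρ (g : G)) := fun g v hv => by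
    rw [Submodule.mem_comap, hZfix _ g.2 v hv]; exact hv
  haveI : Finite (V ⧸ M) := Finite.of_surjective _ (Submodule.Quotient.mk_surjective M)
  letI : MulAction ↥Z (V ⧸ M) :=
    { smul := fun g w => M.mapQ M (ρ (g : G)) (hZinv g) w
      one_smul := fun w => by
        obtain ⟨v, rfl⟩ := Submodule.Quotient.mk_surjective M w
        show M.mapQ M _ _ (Submodule.Quotient.mk v) = _
        rw [Submodule.mapQ_apply, OneMemClass.coe_one, map_one, Module.End.one_apply]
      mul_smul := fun g g' w => by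
        obtain ⟨v, rfl⟩ := Submodule.Quotient.mk_surjective M w
        show M.mapQ M _ _ (Submodule.Quotient.mk v) =
          M.mapQ M _ (hZinv g) (M.mapQ M _ (hZinv g') (Submodule.Quotient.mk v))
        rw [Submodule.mapQ_apply, Submodule.mapQ_apply, Submodule.mapQ_apply, MulMemClass.coe_mul,
          map_mul, Module.End.mul_apply] }
  have hsmul : ∀ (g : ↥Z) (v : V),
      g • (Submodule.Quotient.mk v : V ⧸ M) = Submodule.Quotient.mk (ρ (g : G) v) := fun g v => rfl
  set L : Submodule (ZMod p) V := M.comap (q ρ d) with hL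
  have hML : M ≤ L := fun v hv => by
    rw [hL, Submodule.mem_comap, q_apply, hdfix v hv, sub_self]; exact M.zero_mem
  have hfixset : MulAction.fixedPoints ↥Z (V ⧸ M) = ↑(L.map M.mkQ) := by
    ext w
    obtain ⟨v, rfl⟩ := Submodule.Quotient.mk_surjective M w
    rw [MulAction.mem_fixedPoints]
    constructor
    · intro hw
      refine ⟨v, ?_, rfl⟩
      have h1 := hw ⟨d, Subgroup.mem_zpowers d⟩
      rw [hsmul, Submodule.Quotient.eq] at h1
      rw [SetLike.mem_coe, hL, Submodule.mem_comap, q_apply]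
      exact h1
    · rintro ⟨v', hv', he⟩ g
      rw [← he]
      show g • (Submodule.Quotient.mk v' : V ⧸ M) = Submodule.Quotient.mk v'
      rw [hsmul, Submodule.Quotient.eq]
      have : (g : G) ∈ modSubP ρ M v' := by
        have hle : Z ≤ modSubP ρ M v' := Subgroup.zpowers_le.2 ⟨mem_stab.2 hdfix, hv'⟩
        exact hle g.2
      exact this.2
  have hcardQ : Nat.card (V ⧸ M) ≤ p * p := by
    have h1 := Submodule.card_eq_card_quotient_mul_card M
    have h2 : Nat.card ↥(⊤ : Submodule (ZMod p) V) = Nat.card V :=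
      Nat.card_congr Submodule.topEquiv.toEquiv
    rw [h2, h1, mul_comm _ (Nat.card (V ⧸ M)), mul_comm (p * p)] at hM
    exact Nat.le_of_mul_le_mul_right (by rw [mul_comm (p * p)]; exact hM) Nat.card_pos
  have hmod := hZp.card_modEq_card_fixedPoints (V ⧸ M)
  rw [hfixset] at hmod
  have hfull : L.map M.mkQ = ⊤ := by
    by_contra hne
    have hlt : Module.finrank (ZMod p) ↥(L.map M.mkQ) < Module.finrank (ZMod p) (V ⧸ M) :=
      Submodule.finrank_lt hne
    set i := Module.finrank (ZMod p) ↥(L.map M.mkQ) with hi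
    set j := Module.finrank (ZMod p) (V ⧸ M) with hj
    have e1 : Nat.card (V ⧸ M) = p ^ j := by
      rw [Module.natCard_eq_pow_finrank (K := ZMod p), Nat.card_zmod]
    have e2 : Nat.card ↑(↑(L.map M.mkQ) : Set (V ⧸ M)) = p ^ i := card_eq_pow (L.map M.mkQ)
    rw [e1, e2] at hmod
    rw [e1, ← pow_two] at hcardQ
    have hj2 : j ≤ 2 := (Nat.pow_le_pow_iff_right (Fact.out : p.Prime).one_lt).1 hcardQ
    have hdvd : q₀ ∣ p ^ j - p ^ i :=
      (Nat.modEq_iff_dvd' (Nat.pow_le_pow_right (Fact.out : p.Prime).pos hlt.le)).1 hmod.symm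
    exact small_pow_sub (Fact.out : p.Prime) hp hq₀ hq₀5 hlt hj2 hdvd
  have hqd : q ρ d * q ρ d = 0 := by
    refine LinearMap.ext fun v => ?_
    rw [Module.End.mul_apply, LinearMap.zero_apply]
    have hv : Submodule.Quotient.mk v ∈ L.map M.mkQ := hfull.symm ▸ Submodule.mem_top
    obtain ⟨v', hv', he⟩ := hv
    have he' : v' - v ∈ M := (Submodule.Quotient.eq M).1 he
    have hvL : v ∈ L := by
      have := L.sub_mem hv' (hML he')
      rwa [sub_sub_cancel] at this
    have hmem : q ρ d v ∈ M := hvL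
    rw [q_apply ρ d (q ρ d v), hdfix _ hmem, sub_self]
  have hdp : ρ d ^ p = 1 := by
    have hpow : (q ρ d) ^ p = 0 := by
      obtain ⟨k, hk⟩ := Nat.exists_eq_add_of_le (Fact.out : p.Prime).two_le
      refine (congrArg (q ρ d ^ ·) hk).trans ?_
      show q ρ d ^ (2 + k) = 0
      rw [pow_add, pow_two, hqd, zero_mul]
    rcases subsingleton_or_nontrivial V with hs | hs
    · exact LinearMap.ext fun v => Subsingleton.elim _ _
    · haveI : CharP (Module.End (ZMod p) V) p :=
        charP_of_injective_algebraMap (algebraMap (ZMod p) _).injective p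
      rwa [q, sub_pow_char_of_commute p (Commute.one_right _), one_pow, sub_eq_zero] at hpow
  have hd1' : ρ d = 1 := by
    have h1 : ρ d ^ (q₀ ^ m) = 1 := by rw [← map_pow, hdpow, map_one]
    have h2 := pow_gcd_eq_one.2 ⟨hdp, h1⟩
    have hcop : Nat.gcd p (q₀ ^ m) = 1 :=
      Nat.Coprime.pow_right m ((Nat.coprime_primes (Fact.out : p.Prime) hq₀).2 (by omega))
    rwa [hcop, pow_one] at h2
  refine h.comm_false hr hrc fun y hy => ?_
  have h3 : ρ r = ρ r1 := by
    calc ρ r = ρ (d * r1) := by rw [hd1]; group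
      _ = ρ r1 := by rw [map_mul, hd1', one_mul]
  rw [h3]
  exact (h.comm a ha haN r hr y hy).map ρ

end Cfsg.Agent.Lib.LocalEven2.PGV
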