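import Cfsg.Agent.Lib.LocalEven2.PGVTwo
import Cfsg.Agent.Lib.LocalEven2.PGVSmall

/-!
# A group of maximal weight normalizes `K`
-/

set_option autoImplicit false

namespace Cfsg.Agent.Lib.LocalEven2.PGV

variable {G : Type*} [Group G] [Finite G] {V : Type*} [AddCommGroup V] [Finite V] {p : ℕ}
  [Fact p.Prime] [Module (ZMod p) V] {ρ : G →* Module.End (ZMod p) V} {K A : Subgroup G}

local notation "NK" => Subgroup.normalizer (K : Set G)

lemma Hyp.endgame_odd (h : Hyp ρ K A) (hp : p ≠ 2) {a : G} (ha : a ∈ A) (haN : a ∉ NK)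
    (hR : ∀ e ∈ A, e ∉ NK → RRel ρ K e) : False := by
  obtain ⟨w, hw, hwc⟩ := exists_noncentral h.qs
  refine h.endgame ha haN (hR a ha haN) fun e he heN => ?_
  have h2 : 2 < p := lt_of_le_of_ne (Fact.out : p.Prime).two_le (Ne.symm hp)
  have hee : e * e ∉ NK := by rw [← pow_two]; exact h.pow_not_mem he heN two_pos h2
  refine h.cross he he heN heN hee (hR e he heN) hw hwc hw hwc fun i hi => ?_
  by_cases hi1 : i = 1
  · subst hi1; rw [pow_one]
  · refine h.comm2 he (A.pow_mem he i) ?_ hw hw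
    rcases Nat.eq_zero_or_pos i with rfl | hi0
    · rw [pow_zero, mul_one]; exact inv_not_mem heN
    · rw [show i = (i - 1) + 1 by omega, pow_succ', inv_mul_cancel_left]
      exact h.pow_not_mem he heN (by omega) (by omega)

lemma Hyp.endgame_two (h : Hyp ρ K A) (hp : p = 2) {a c : G} (ha : a ∈ A) (haN : a ∉ NK)
    (hc : c ∈ A) (hcN : c ∉ NK) (hacN : a * c ∉ NK)
    (hR : ∀ e ∈ A, e ∉ NK → RRel ρ K e) : False := by
  obtain ⟨w, hw, hwc⟩ := exists_noncentral h.qs
  refine h.endgame ha haN (hR a ha haN) fun e he heN => ?_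
  obtain ⟨a', ha', ha'N, ha'e⟩ : ∃ a' ∈ A, a' ∉ NK ∧ a' * e ∉ NK := by
    by_cases h1 : a * e ∈ NK
    · refine ⟨c, hc, hcN, fun h2 => hacN ?_⟩
      have h3 := (NK).mul_mem h1 h2
      have he2 : e * e = 1 := by rw [← pow_two, ← hp]; exact h.exp e he
      have e3 : a * e * (c * e) = a * c := by
        rw [mul_assoc a, ← mul_assoc e, (h.ab e he c hc).eq, mul_assoc c, he2, mul_one]
      rwa [e3] at h3
    · exact ⟨a, ha, haN, h1⟩
  refine h.cross ha' he ha'N heN ha'e (hR a' ha' ha'N) hw hwc hw hwc fun i hi => ?_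
  refine h.comm2 he (A.pow_mem ha' i) ?_ hw hw
  have hi2 : i = 0 ∨ i = 1 := by omega
  rcases hi2 with rfl | rfl
  · rw [pow_zero, mul_one]; exact inv_not_mem heN
  · rw [pow_one]
    have he1 : e⁻¹ = e := inv_eq_of_mul_eq_one_right (by rw [← pow_two, ← hp]; exact h.exp e he)
    rwa [he1, (h.ab e he a' ha').eq]

/-- **An elementary abelian group of maximal weight normalizes `K`.** -/
theorem Hyp.normalizes (h : Hyp ρ K A) : A ≤ NK := by
  induction hn : Nat.card ↥A using Nat.strong_induction_on generalizing A with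
  | _ n ih =>
  by_contra hle
  obtain ⟨a, ha, haN⟩ := SetLike.not_le_iff_exists.1 hle
  have hA1 : ∃ c ∈ A, ρ c ≠ 1 := by
    refine ⟨a, ha, fun h1 => h.conj_false ha haN fun x _ => ?_⟩
    have h2 : ρ a⁻¹ = 1 := by
      have := rho_inv_mul ρ a
      rwa [h1, mul_one] at this
    rw [map_mul, map_mul, h1, h2, one_mul, mul_one]
  obtain ⟨B, hBA, hBw, hBq, b₀, hb₀, hb₀1⟩ := exists_replacement h.exp h.ab h.hmax hA1
  by_cases hP : ∃ b ∈ A, b ∈ NK ∧ ρ b ≠ 1 ∧ ∀ c ∈ A, q ρ c * q ρ b = 0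
  · obtain ⟨b, hb, hbN, hb1, hbq⟩ := hP
    have hR : ∀ e ∈ A, e ∉ NK → RRel ρ K e := fun e he heN =>
      h.rel_of_normalizing he heN hb hbN hb1 (by rw [(commute_q (h.ab b hb e he)).eq, hbq e he])
    by_cases hp : p = 2
    · by_cases hs : ∀ c ∈ A, c ∉ NK → a * c ∈ NK
      · subst hp; exact h.two_case ha haN hs hb hbN hb1 hbq
      · push Not at hs
        obtain ⟨c, hc, hcN, hacN⟩ := hs
        exact h.endgame_two hp ha haN hc hcN hacN hR
    · exact h.endgame_odd hp ha haN hR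
  push Not at hP
  have hBA' : B = A := by
    by_contra hne
    have hlt : Nat.card ↥B < n := by
      rw [← hn]
      by_contra hge
      exact hne (Subgroup.eq_of_le_of_card_ge hBA (not_lt.1 hge))
    have hB : Hyp ρ K B :=
      ⟨h.qs, fun c hc => h.exp c (hBA hc), fun c hc e he => h.ab c (hBA hc) e (hBA he),
        fun g hg => h.comm g (hBA hg), h.nontriv, fun c hc => h.hfix c (hBA hc),
        fun C hC => (h.hmax C (hC.trans hBA)).trans_eq hBw.symm⟩
    have hBN := ih _ hlt hB rfl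
    obtain ⟨c, hc, hcq⟩ := hP b₀ (hBA hb₀) (hBN hb₀) hb₀1
    exact hcq (hBq c hc b₀ hb₀)
  subst hBA'
  have htriv : ∀ c ∈ B, c ∈ NK → ρ c = 1 := fun c hc hcN => by
    by_contra hc1
    obtain ⟨e, he, heq⟩ := hP c hc hcN hc1
    exact heq (hBq e he c hc)
  by_cases hp5 : 5 ≤ p
  · exact h.quad_false hp5 ha haN (hBq a ha a ha)
  by_cases hbig : ∀ e ∈ B, e ∉ NK → ∃ c ∈ B, ∀ i : ℕ, e ^ i * c ∉ NK
  · have hR : ∀ e ∈ B, e ∉ NK → RRel ρ K e := fun e he heN => by
      obtain ⟨c, hc, hcN⟩ := hbig e he heN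
      exact h.rel_of_moving he heN hc hcN (hBq c hc e he)
    by_cases hp : p = 2
    · obtain ⟨c, hc, hcN⟩ := hbig a ha haN
      exact h.endgame_two hp ha haN hc (by simpa using hcN 0) (by simpa using hcN 1) hR
    · exact h.endgame_odd hp ha haN hR
  push Not at hbig
  obtain ⟨e, he, heN, hsmall⟩ := hbig
  have hp4 : p ≠ 4 := fun h4 => by
    have := (Fact.out : p.Prime); rw [h4] at this; norm_num at this
  refine h.transvection_false (by omega) he heN (fun c hc => ?_) htriv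
  obtain ⟨i, hi⟩ := hsmall c hc
  refine ⟨i % p, Nat.mod_lt _ (Fact.out : p.Prime).pos, ?_⟩
  rwa [← pow_eq_pow_mod i (h.exp e he)]

end Cfsg.Agent.Lib.LocalEven2.PGV
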