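import Cfsg.Agent.Lib.LocalEven2.PGVCore

/-!
# Two components interchanged in characteristic two: the counting argument
-/

set_option autoImplicit false

namespace Cfsg.Agent.Lib.LocalEven2.PGV

variable {G : Type*} [Group G] {V : Type*} [AddCommGroup V] [Module (ZMod 2) V]
  {ρ : G →* Module.End (ZMod 2) V}

lemma add_self2 (v : V) : v + v = 0 := by
  rw [← two_smul (ZMod 2) v, show (2 : ZMod 2) = 0 from rfl, zero_smul]

lemma sub_eq_add2 (v w : V) : v - w = v + w := by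
  rw [sub_eq_iff_eq_add, add_assoc, add_self2, add_zero]

lemma q_sq (g : G) : q ρ g * q ρ g = q ρ (g * g) := by
  refine LinearMap.ext fun v => ?_
  rw [Module.End.mul_apply, q_apply, q_apply, q_apply, map_sub, map_mul, Module.End.mul_apply]
  simp only [sub_eq_add2]
  calc ρ g (ρ g v) + ρ g v + (ρ g v + v) = ρ g (ρ g v) + (ρ g v + ρ g v) + v := by abel
    _ = ρ g (ρ g v) + v := by rw [add_self2, add_zero]

/-- the elements acting trivially modulo `W` -/
def modSub (ρ : G →* Module.End (ZMod 2) V) (W : Submodule (ZMod 2) V) : Subgroup G where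
  carrier := {g | ∀ v, q ρ g v ∈ W}
  one_mem' := fun v => by simp [q_one]
  mul_mem' := fun {g h} hg hh v => by
    have e : q ρ (g * h) v = q ρ g (ρ h v) + q ρ h v := by
      simp only [q_apply, map_mul, Module.End.mul_apply]; abel
    rw [e]; exact W.add_mem (hg _) (hh v)
  inv_mem' := fun {g} hg v => by
    have e : q ρ g⁻¹ v = - q ρ g (ρ g⁻¹ v) := by
      simp only [q_apply, rho_apply_inv]; abel
    rw [e]; exact W.neg_mem (hg _)

lemma sq_mem_imp {r : G} (hr : Odd (orderOf r)) {S : Subgroup G} (h : r * r ∈ S) : r ∈ S := by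
  obtain ⟨j, hj⟩ := hr
  have e : (r * r) ^ (j + 1) = r := by
    rw [← pow_two, ← pow_mul, show 2 * (j + 1) = orderOf r + 1 by omega, pow_succ, pow_orderOf_eq_one,
      one_mul]
  exact e ▸ S.pow_mem h _

lemma mem_ker_q {g : G} {v : V} : v ∈ LinearMap.ker (q ρ g) ↔ ρ g v = v := by
  rw [LinearMap.mem_ker, q_apply, sub_eq_zero]

lemma fixed_of_sq {r : G} (hr : Odd (orderOf r)) {v : V} (h : ρ (r * r) v = v) : ρ r v = v :=
  (sq_mem_imp (S := stab ρ {v}) hr (mem_stab.2 fun w hw => by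
    rw [Set.mem_singleton_iff] at hw; subst hw; exact h)) v rfl

lemma ker_sq {r : G} (hr : Odd (orderOf r)) :
    LinearMap.ker (q ρ r * q ρ r) = LinearMap.ker (q ρ r) := by
  refine le_antisymm (fun v hv => ?_) fun v hv => ?_
  · rw [q_sq, mem_ker_q] at hv
    exact mem_ker_q.2 (fixed_of_sq hr hv)
  · rw [LinearMap.mem_ker] at hv ⊢
    rw [Module.End.mul_apply, hv, map_zero]

lemma range_sq {r : G} (hr : Odd (orderOf r)) :
    LinearMap.range (q ρ r * q ρ r) = LinearMap.range (q ρ r) := by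
  refine le_antisymm ?_ ?_
  · rintro _ ⟨w, rfl⟩; exact ⟨_, rfl⟩
  · rintro _ ⟨w, rfl⟩
    have : r ∈ modSub ρ (LinearMap.range (q ρ r * q ρ r)) :=
      sq_mem_imp hr fun v => ⟨v, by rw [q_sq]⟩
    exact this w

lemma card_bot : Nat.card ↥(⊥ : Submodule (ZMod 2) V) = 1 := by simp

/-- two moves modulo a fixed vector give a fixed vector -/
lemma fixed_of_diff {s : G} (hs : Odd (orderOf s)) {e : V}
    (h : ρ s (ρ s⁻¹ e - ρ s e) = ρ s⁻¹ e - ρ s e) : ρ s e = e := by
  set f := ρ s⁻¹ e with hf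
  have he : ρ s f = e := rho_apply_inv s e
  set d := f - ρ s e with hd
  have hse : ρ s e = ρ (s * s) f := by rw [map_mul, Module.End.mul_apply, he]
  have h2 : ρ (s * s) d = d := by rw [map_mul, Module.End.mul_apply, h, h]
  have hss : Odd (orderOf (s * s)) := by
    rw [← pow_two]
    exact hs.of_dvd_nat (orderOf_pow_dvd 2)
  have h3 : ρ ((s * s) * (s * s)) f = f := by
    have e1 : q ρ (s * s) (q ρ (s * s) f) = 0 := by
      have : q ρ (s * s) f = - d := by rw [q_apply, hd, hse]; abel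
      rw [this, map_neg, q_apply, h2, sub_self, neg_zero]
    rw [← Module.End.mul_apply, q_sq, q_apply, sub_eq_zero] at e1
    exact e1
  have h5 : ρ s f = f := fixed_of_sq hs (fixed_of_sq hss h3)
  rw [he] at h5
  rw [← h5] at he
  exact he

variable [Finite G] [Finite V] {K A : Subgroup G}

local notation "NK" => Subgroup.normalizer (K : Set G)

lemma Hyp.two_case (h : Hyp ρ K A) {a b : G} (ha : a ∈ A) (haN : a ∉ NK)
    (hsmall : ∀ c ∈ A, c ∉ NK → a * c ∈ NK) (hb : b ∈ A) (hbN : b ∈ NK) (hb1 : ρ b ≠ 1)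
    (hbq : ∀ c ∈ A, q ρ c * q ρ b = 0) : False := by
  classical
  have hbq' : ∀ c ∈ A, q ρ b * q ρ c = 0 := fun c hc => by
    rw [(commute_q (h.ab b hb c hc)).eq, hbq c hc]
  have hR : ∀ c ∈ A, c ∉ NK → RRel ρ K c := fun c hc hcN =>
    h.rel_of_normalizing hc hcN hb hbN hb1 (hbq' c hc)
  have hat2 : ∀ c r : G, hat c 2 r = r * (c * r * c⁻¹) := fun c r => by simp [hat, mul_assoc]
  have inj : ∀ g : G, Function.Injective (ρ g) := fun g v w hvw => by
    have := congrArg (ρ g⁻¹) hvw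
    rwa [rho_inv_apply, rho_inv_apply] at this
  have hodd1 : ∀ c r : G, Odd (orderOf r) → Odd (orderOf (c * r * c⁻¹)) := fun c r hr => by
    have : orderOf (c * r * c⁻¹) = orderOf r := (MulAut.conj c).orderOf_eq r
    rwa [this]
  -- kernels and images of the two factors agree
  have hident : ∀ c ∈ A, c ∉ NK → ∀ r ∈ K, Odd (orderOf r) →
      LinearMap.ker (q ρ (c * r * c⁻¹)) = LinearMap.ker (q ρ r) ∧
        LinearMap.range (q ρ (c * r * c⁻¹)) = LinearMap.range (q ρ r) := by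
    intro c hc hcN r hr hro
    set r1 := c * r * c⁻¹ with hr1
    have hcr : Commute r r1 := h.comm c hc hcN r hr r hr
    have hz : Commute r (hat c 2 r) := by rw [hat2]; exact (Commute.refl r).mul_right hcr
    have h0 := h.rel_conj hc hcN (hR c hc hcN) hr hz
    rw [hat2, ← hr1, map_mul] at h0
    have hXY : ρ r1 * ρ r = ρ r * ρ r1 := (hcr.map ρ).eq.symm
    have hXY' : ∀ t : Module.End (ZMod 2) V, ρ r1 * (ρ r * t) = ρ r * (ρ r1 * t) := fun t => by
      rw [← mul_assoc, hXY, mul_assoc]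
    have key : q ρ r1 * q ρ r1 * ρ r - q ρ r * q ρ r * ρ r1 =
        (ρ r * ρ r1 - 1) * (ρ r1 - ρ r) := by
      simp only [q, mul_sub, sub_mul, mul_one, one_mul, mul_assoc, hXY, hXY']
      abel
    rw [h0, sub_eq_zero] at key
    have hY : Commute (ρ r1) (q ρ r * q ρ r) := by
      have : Commute (ρ r1) (q ρ r) := (hcr.symm.map ρ).sub_right (Commute.one_right _)
      exact this.mul_right this
    have hX : Commute (ρ r) (q ρ r1 * q ρ r1) := by
      have : Commute (ρ r) (q ρ r1) := (hcr.map ρ).sub_right (Commute.one_right _)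
      exact this.mul_right this
    rw [← hX.eq, ← hY.eq] at key
    refine ⟨?_, ?_⟩
    · rw [← ker_sq (hodd1 c r hro), ← ker_sq hro]
      ext v
      rw [LinearMap.mem_ker, LinearMap.mem_ker]
      have hv := congrArg (fun X : Module.End (ZMod 2) V => X v) key
      simp only [Module.End.mul_apply] at hv ⊢
      constructor
      · intro h1; rw [h1, map_zero] at hv
        exact inj r1 (by rw [map_zero, hv])
      · intro h1; rw [h1, map_zero] at hv
        exact inj r (by rw [map_zero, hv])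
    · rw [← range_sq (hodd1 c r hro), ← range_sq hro]
      refine le_antisymm ?_ ?_
      · rintro _ ⟨v, rfl⟩
        refine ⟨ρ r⁻¹ (ρ r1 v), ?_⟩
        rw [← Module.End.mul_apply (q ρ r * q ρ r), ← Module.End.mul_apply (_ * ρ r⁻¹)]
        have : q ρ r * q ρ r * ρ r⁻¹ * ρ r1 = q ρ r1 * q ρ r1 := by
          rw [mul_assoc (q ρ r * q ρ r), ← map_mul, (hcr.inv_left).eq, map_mul, ← mul_assoc, ← hY.eq,
            ← key, hX.eq, mul_assoc, rho_mul_inv, mul_one]
        rw [this]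
      · rintro _ ⟨v, rfl⟩
        refine ⟨ρ r1⁻¹ (ρ r v), ?_⟩
        rw [← Module.End.mul_apply (q ρ r1 * q ρ r1), ← Module.End.mul_apply (_ * ρ r1⁻¹)]
        have : q ρ r1 * q ρ r1 * ρ r1⁻¹ * ρ r = q ρ r * q ρ r := by
          rw [mul_assoc (q ρ r1 * q ρ r1), ← map_mul, (hcr.symm.inv_left).eq, map_mul, ← mul_assoc,
            ← hX.eq, key, hY.eq, mul_assoc, rho_mul_inv, mul_one]
        rw [this]
  -- a reference element
  obtain ⟨q₀, r₀, hq₀, hq₀5, hr₀, hr₀c, hr₀q, m₀, hm₀⟩ := exists_q_element h.qs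
  have hr₀o : Odd (orderOf r₀) :=
    ((hq₀.odd_of_ne_two (by omega)).pow).of_dvd_nat (orderOf_dvd_of_pow_eq_one hm₀)
  set F := LinearMap.ker (q ρ r₀) with hF
  set U := LinearMap.range (q ρ r₀) with hU
  -- `K` fixes every fixed space and moves into every image
  have hKF : ∀ r ∈ K, ¬ Central K r → Odd (orderOf r) → ∀ y ∈ K,
      ∀ v ∈ LinearMap.ker (q ρ r), ρ y v = v := by
    intro r hr hrc hro
    set W := LinearMap.ker (q ρ r) with hW
    have hinv : ∀ y ∈ K, ∀ v ∈ W, ρ y v ∈ W := by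
      intro y hy v hv
      rw [hW, ← (hident a ha haN r hr hro).1, mem_ker_q] at hv ⊢
      rw [← Module.End.mul_apply, ← map_mul, ← (h.comm a ha haN r hr y hy).eq, map_mul,
        Module.End.mul_apply, hv]
    have hrS : r ∈ stab ρ (W : Set V) := mem_stab.2 fun v hv => mem_ker_q.1 hv
    have hS : ∀ y ∈ K, ∀ t ∈ stab ρ (W : Set V), t ∈ K → y * t * y⁻¹ ∈ stab ρ (W : Set V) := by
      intro y hy t ht _
      refine mem_stab.2 fun v hv => ?_
      rw [map_mul, map_mul, Module.End.mul_apply, Module.End.mul_apply,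
        ht _ (hinv _ (K.inv_mem hy) v hv), rho_apply_inv]
    intro y hy v hv
    exact normal_all h.qs hr hrc _ hS
      (fun z hz => mul_mem (hS z hz r hrS hr) ((stab ρ (W : Set V)).inv_mem hrS)) hy v hv
  have hKU : ∀ r ∈ K, ¬ Central K r → Odd (orderOf r) → ∀ y ∈ K,
      ∀ v, q ρ y v ∈ LinearMap.range (q ρ r) := by
    intro r hr hrc hro
    set W := LinearMap.range (q ρ r) with hW
    have hinv : ∀ y ∈ K, ∀ v ∈ W, ρ y v ∈ W := by
      intro y hy v hv
      rw [hW, ← (hident a ha haN r hr hro).2] at hv ⊢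
      obtain ⟨w, rfl⟩ := hv
      refine ⟨ρ y w, ?_⟩
      rw [← Module.End.mul_apply, ← Module.End.mul_apply]
      have hcm : Commute (q ρ (a * r * a⁻¹)) (ρ y) :=
        Commute.sub_left ((h.comm a ha haN r hr y hy).symm.map ρ) (Commute.one_left _)
      rw [hcm.eq]
    have hrS : r ∈ modSub ρ W := fun v => ⟨v, rfl⟩
    have hS : ∀ y ∈ K, ∀ t ∈ modSub ρ W, t ∈ K → y * t * y⁻¹ ∈ modSub ρ W := by
      intro y hy t ht _ v
      have e : q ρ (y * t * y⁻¹) v = ρ y (q ρ t (ρ y⁻¹ v)) := by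
        rw [q_apply, q_apply, map_sub, rho_apply_inv, map_mul, map_mul, Module.End.mul_apply,
          Module.End.mul_apply]
      rw [e]; exact hinv y hy _ (ht _)
    intro y hy v
    exact normal_all h.qs hr hrc _ hS
      (fun z hz => mul_mem (hS z hz r hrS hr) ((modSub ρ W).inv_mem hrS)) hy v
  have hkerF : ∀ r ∈ K, ¬ Central K r → Odd (orderOf r) → LinearMap.ker (q ρ r) = F :=
    fun r hr hrc hro => le_antisymm (fun v hv => mem_ker_q.2 (hKF r hr hrc hro r₀ hr₀ v hv))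
      (fun v hv => mem_ker_q.2 (hKF r₀ hr₀ hr₀c hr₀o r hr v hv))
  have hrangeU : ∀ r ∈ K, ¬ Central K r → Odd (orderOf r) → LinearMap.range (q ρ r) = U :=
    fun r hr hrc hro => le_antisymm (by rintro _ ⟨v, rfl⟩; exact hKU r₀ hr₀ hr₀c hr₀o r hr v)
      (by rintro _ ⟨v, rfl⟩; exact hKU r hr hrc hro r₀ hr₀ v)
  have hUK : ∀ y ∈ K, ∀ u ∈ U, ρ y u ∈ U := fun y hy u hu => by
    have : ρ y u = q ρ y u + u := by rw [q_apply, sub_add_cancel]
    rw [this]; exact U.add_mem (hKU r₀ hr₀ hr₀c hr₀o y hy u) hu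
  have hUA : ∀ c ∈ A, ∀ u ∈ U, ρ c u ∈ U := by
    intro c hc u hu
    obtain ⟨w, rfl⟩ := hu
    have e : ρ c (q ρ r₀ w) = q ρ (c * r₀ * c⁻¹) (ρ c w) := by
      rw [q_apply, q_apply, map_sub, map_mul, map_mul, Module.End.mul_apply, Module.End.mul_apply,
        rho_inv_apply]
    rw [e]
    by_cases hcN : c ∈ NK
    · have hK' : c * r₀ * c⁻¹ ∈ K := (Subgroup.mem_normalizer_iff.1 hcN r₀).1 hr₀
      rw [← hrangeU _ hK' (fun hcen => hr₀c fun x hx => ?_) (hodd1 c r₀ hr₀o)]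
      · exact ⟨_, rfl⟩
      · have h1 := (hcen _ ((Subgroup.mem_normalizer_iff.1 hcN x).1 hx)).map
          (MulAut.conj c⁻¹).toMonoidHom
        simpa [mul_assoc] using h1
    · rw [hU, ← (hident c hc hcN r₀ hr₀ hr₀o).2]; exact ⟨_, rfl⟩
  have hUF : U ⊓ F = ⊥ := by
    rw [eq_bot_iff]
    rintro _ ⟨⟨w, rfl⟩, hv⟩
    rw [Submodule.mem_bot]
    have : w ∈ LinearMap.ker (q ρ r₀ * q ρ r₀) := hv
    rw [ker_sq hr₀o] at this
    exact this
  have hUFtop : U ⊔ F = ⊤ := by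
    refine eq_of_le_of_card le_top ?_
    have h1 := card_split (⊤ : Submodule (ZMod 2) V) (q ρ r₀)
    rw [top_inf_eq, Submodule.map_top, ← hF, ← hU] at h1
    have h2 := card_sup_inf U F
    rw [hUF, card_bot, mul_one] at h2
    rw [h1, h2, mul_comm]
  have hfixU : ∀ u ∈ U, ∀ r ∈ K, ¬ Central K r → Odd (orderOf r) → ρ r u = u → u = 0 := by
    intro u hu r hr hrc hro hfix
    have : u ∈ U ⊓ F := ⟨hu, hkerF r hr hrc hro ▸ mem_ker_q.2 hfix⟩
    rwa [hUF, Submodule.mem_bot] at this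
  have hfixU2 : ∀ u ∈ U, ∀ r ∈ K, ¬ Central K r → Odd (orderOf r) → ρ r u = ρ r⁻¹ u → u = 0 := by
    intro u hu r hr hrc hro heq
    refine hfixU u hu r hr hrc hro (fixed_of_sq hro ?_)
    rw [map_mul, Module.End.mul_apply, heq, rho_apply_inv]
  have hcommU : ∀ r ∈ K, ¬ Central K r → Odd (orderOf r) →
      (∀ y ∈ K, ∀ u ∈ U, ρ y (ρ r u) = ρ r (ρ y u)) → False := by
    intro r hr hrc hro hcm
    refine h.comm_false hr hrc fun y hy => LinearMap.ext fun v => ?_
    obtain ⟨u, hu, f, hf, rfl⟩ := Submodule.mem_sup.1 (hUFtop.ge (Submodule.mem_top : v ∈ ⊤))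
    simp only [Module.End.mul_apply, map_add]
    rw [hcm y hy u hu, hKF r₀ hr₀ hr₀c hr₀o r hr f hf, hKF r₀ hr₀ hr₀c hr₀o y hy f hf,
      hKF r₀ hr₀ hr₀c hr₀o r hr f hf]
  -- involutions normalizing `K`
  have hinvol : ∀ c ∈ A, c * c = 1 := fun c hc => by rw [← pow_two]; exact h.exp c hc
  have hpick : ∀ c ∈ A, c ∈ NK → ρ c ≠ 1 →
      ∃ r ∈ K, ¬ Central K r ∧ Odd (orderOf r) ∧ c * r * c⁻¹ = r⁻¹ := fun c hc hcN hc1 =>
    exists_inverted h.qs hcN (hinvol c hc) fun hcen => hc1 (h.hfix c hc hcen)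
  have hL1 : ∀ c ∈ A, c ∈ NK → ρ c ≠ 1 →
      Nat.card ↥(U ⊓ LinearMap.ker (q ρ c)) * Nat.card ↥(U ⊓ LinearMap.ker (q ρ c)) ≤
        Nat.card ↥U := by
    intro c hc hcN hc1
    obtain ⟨r, hr, hrc, hro, hinv⟩ := hpick c hc hcN hc1
    set C := U ⊓ LinearMap.ker (q ρ c) with hC
    have hbot : C ⊓ C.map (ρ r) = ⊥ := by
      rw [eq_bot_iff]
      rintro _ ⟨⟨-, hd⟩, w, ⟨hwU, hw⟩, rfl⟩
      rw [Submodule.mem_bot, hfixU2 w hwU r hr hrc hro ?_, map_zero]
      rw [SetLike.mem_coe, mem_ker_q] at hw hd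
      rw [← hd, ← Module.End.mul_apply, ← map_mul,
        show c * r = r⁻¹ * c by rw [← hinv]; group, map_mul, Module.End.mul_apply, hw]
    have := card_sq_le (ρ r) (inj r) (inf_le_left : C ≤ U) (by
      rintro _ ⟨w, hw, rfl⟩; exact hUK r hr w hw.1)
    rwa [hbot, card_bot, mul_one] at this
  set X := U ⊓ LinearMap.ker (q ρ b) with hX
  have hqU : ∀ c ∈ A, ∀ u ∈ U, q ρ c u ∈ U := fun c hc u hu => by
    rw [q_apply]; exact U.sub_mem (hUA c hc u hu) hu
  have hqX : ∀ c ∈ A, ∀ u ∈ U, q ρ c u ∈ X := fun c hc u hu =>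
    ⟨hqU c hc u hu, by rw [SetLike.mem_coe, LinearMap.mem_ker, ← Module.End.mul_apply, hbq' c hc]; rfl⟩
  have hsplitb := card_split U (q ρ b)
  rw [← hX] at hsplitb
  have hmapb : U.map (q ρ b) = X := by
    refine eq_of_le_of_card (by rintro _ ⟨u, hu, rfl⟩; exact hqX b hb u hu) ?_
    have h1 := hL1 b hb hbN hb1
    rw [← hX, hsplitb] at h1
    exact Nat.le_of_mul_le_mul_left h1 Nat.card_pos
  have hcardU : Nat.card ↥U = Nat.card ↥X * Nat.card ↥X := by rw [hsplitb, hmapb]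
  have hXfix : ∀ c ∈ A, ∀ x ∈ X, ρ c x = x := by
    intro c hc x hx
    rw [← hmapb] at hx
    obtain ⟨u, -, rfl⟩ := hx
    rw [← sub_eq_zero, ← q_apply, ← Module.End.mul_apply, hbq c hc, LinearMap.zero_apply]
  have hXeq : ∀ c ∈ A, c ∈ NK → ρ c ≠ 1 → ∀ u ∈ U, q ρ c u = 0 → u ∈ X := by
    intro c hc hcN hc1 u hu hu0
    have hle : X ≤ U ⊓ LinearMap.ker (q ρ c) := fun x hx =>
      ⟨hx.1, mem_ker_q.2 (hXfix c hc x hx)⟩
    have h1 := hL1 c hc hcN hc1
    rw [hcardU] at h1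
    rw [eq_of_le_of_card hle (Nat.mul_self_le_mul_self_iff.1 h1)]
    exact ⟨hu, hu0⟩
  -- the diagonal elements
  set T := U.map (q ρ a) with hT
  set Ca := U ⊓ LinearMap.ker (q ρ a) with hCa
  have hTX : T ≤ X := by rintro _ ⟨u, hu, rfl⟩; exact hqX a ha u hu
  have hXCa : X ≤ Ca := fun x hx => ⟨hx.1, mem_ker_q.2 (hXfix a ha x hx)⟩
  have hsplita := card_split U (q ρ a)
  rw [← hT, ← hCa] at hsplita
  have hTfix : ∀ r ∈ K, ∀ t ∈ T, ρ (hat a 2 r) t = t := by
    rintro r hr _ ⟨u, -, rfl⟩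
    rw [← Module.End.mul_apply, hR a ha haN r hr]
  have hsU : ∀ r ∈ K, ∀ u ∈ U, ρ (hat a 2 r) u ∈ U := fun r hr u hu => by
    rw [hat2, map_mul, map_mul, map_mul]
    simp only [Module.End.mul_apply]
    refine hUK r hr _ (hUA a ha _ (hUK r hr _ ?_))
    rw [inv_eq_of_mul_eq_one_right (hinvol a ha)]
    exact hUA a ha u hu
  have hcore : ∀ r ∈ K, ¬ Central K r → Odd (orderOf r) →
      ∀ w ∈ Ca, ρ (hat a 2 r) w = w → w ∈ T := by
    intro r hr hrc hro
    set s := hat a 2 r with hs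
    set r1 := a * r * a⁻¹ with hr1
    have hcr : Commute r r1 := h.comm a ha haN r hr r hr
    have hsr : Commute s r := by
      rw [hs, hat2]; exact (Commute.refl r).mul_left hcr.symm
    set W := U ⊓ LinearMap.ker (q ρ s) with hW
    set Ψ := ρ r + ρ r⁻¹ with hΨ
    have hWr : ∀ k : G, k ∈ K → Commute s k → ∀ w ∈ W, ρ k w ∈ W := by
      intro k hk hc w hw
      refine ⟨hUK k hk w hw.1, mem_ker_q.2 ?_⟩
      rw [← Module.End.mul_apply, ← map_mul, hc.eq, map_mul, Module.End.mul_apply,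
        mem_ker_q.1 hw.2]
    have hWΨ : W.map Ψ = W := by
      refine eq_of_le_of_card ?_ (le_of_eq ?_)
      · rintro _ ⟨w, hw, rfl⟩
        exact W.add_mem (hWr r hr hsr w hw) (hWr _ (K.inv_mem hr) hsr.inv_right w hw)
      · have h1 := card_split W Ψ
        have h2 : W ⊓ LinearMap.ker Ψ = ⊥ := by
          rw [eq_bot_iff]
          rintro u ⟨hu, hu0⟩
          rw [Submodule.mem_bot]
          refine hfixU2 u hu.1 r hr hrc hro ?_
          rw [SetLike.mem_coe, LinearMap.mem_ker, hΨ, LinearMap.add_apply, ← sub_eq_add2,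
            sub_eq_zero] at hu0
          exact hu0
        rw [h2, card_bot, one_mul] at h1
        exact h1
    clear_value r1
    have hW1 : ∀ u ∈ W, ρ r1 u = ρ r⁻¹ u ∧ ρ r1⁻¹ u = ρ r u := by
      intro u hu
      have h1 : ρ (r * r1) u = u := by rw [hr1, ← hat2]; exact mem_ker_q.1 hu.2
      have h2 : ρ r1 u = ρ r⁻¹ u := by
        conv_rhs => rw [← h1]
        rw [map_mul, Module.End.mul_apply, rho_inv_apply]
      refine ⟨h2, ?_⟩
      conv_lhs => rw [← h1, hcr.eq, map_mul, Module.End.mul_apply]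
      rw [rho_inv_apply]
    intro w hw hsw
    have hwW : w ∈ W := ⟨hw.1, mem_ker_q.2 hsw⟩
    rw [← hWΨ] at hwW
    obtain ⟨u, hu, hΨu⟩ := hwW
    have hau : ρ a u ∈ W := by
      refine ⟨hUA a ha u hu.1, mem_ker_q.2 ?_⟩
      rw [← Module.End.mul_apply, ← map_mul, ← (h.a_comm_hat ha haN hr).eq, map_mul,
        Module.End.mul_apply, mem_ker_q.1 hu.2]
    have har : ∀ k : G, ρ a (ρ k u) = ρ (a * k * a⁻¹) (ρ a u) := fun k => by
      rw [← Module.End.mul_apply, ← Module.End.mul_apply, ← map_mul, ← map_mul]; congr 2; group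
    have hfix : ρ a u = u := by
      have h1 : Ψ (ρ a u) = ρ a (Ψ u) := by
        rw [hΨ, LinearMap.add_apply, LinearMap.add_apply, map_add, har, har, ← hr1,
          show a * r⁻¹ * a⁻¹ = r1⁻¹ by rw [hr1]; group, (hW1 _ hau).1, (hW1 _ hau).2, add_comm]
      rw [hΨu, mem_ker_q.1 hw.2, ← hΨu] at h1
      have h2 : ρ a u - u ∈ W ⊓ LinearMap.ker Ψ :=
        ⟨W.sub_mem hau hu, by rw [SetLike.mem_coe, LinearMap.mem_ker, map_sub, h1, sub_self]⟩
      have h3 := hfixU2 _ h2.1.1 r hr hrc hro (by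
        have h4 : Ψ (ρ a u - u) = 0 := h2.2
        rw [hΨ, LinearMap.add_apply, ← sub_eq_add2, sub_eq_zero] at h4
        exact h4)
      exact sub_eq_zero.1 h3
    refine ⟨ρ r u, hUK r hr u hu.1, ?_⟩
    rw [q_apply, har, ← hr1, hfix, (hW1 u hu).1, sub_eq_add2, ← hΨu, hΨ, LinearMap.add_apply, add_comm]
  have hsinv : ∀ c ∈ A, ∀ r ∈ K, Odd (orderOf r) → c * r * c⁻¹ = r⁻¹ →
      c * hat a 2 r * c⁻¹ = (hat a 2 r)⁻¹ ∧ Odd (orderOf (hat a 2 r)) := by
    intro c hc r hr hro hinv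
    have hcr : Commute r (a * r * a⁻¹) := h.comm a ha haN r hr r hr
    refine ⟨?_, ?_⟩
    · rw [conj_hat (h.ab c hc a ha), hinv]
      exact h.hat_inv ha haN hr
    · refine hro.of_dvd_nat (orderOf_dvd_of_pow_eq_one ?_)
      rw [hat2, hcr.mul_pow, conj_pow, pow_orderOf_eq_one]; group
  have hCaX : ¬ Ca ≤ X := by
    intro hle
    obtain ⟨r, hr, hrc, hro, hinv⟩ := hpick b hb hbN hb1
    obtain ⟨hsb, hso⟩ := hsinv b hb r hr hro hinv
    set s := hat a 2 r with hs
    have hT' : T = X := by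
      refine eq_of_le_of_card hTX ?_
      have h1 : Nat.card ↥X * Nat.card ↥X ≤ Nat.card ↥X * Nat.card ↥T := by
        rw [← hcardU, hsplita]
        exact Nat.mul_le_mul_right _ (card_mono hle)
      exact Nat.le_of_mul_le_mul_left h1 Nat.card_pos
    have hsX : ∀ x ∈ X, ρ s x = x := fun x hx => hTfix r hr x (hT'.ge hx)
    have hsall : ∀ u ∈ U, ρ s u = u := by
      intro u hu
      have hsu := hsU r hr u hu
      rw [← hs] at hsu
      have hx1 := hqX b hb u hu
      have hx2 := hqX b hb _ hsu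
      have e1 : ρ b (ρ s u) = ρ s⁻¹ (ρ b u) := by
        rw [← Module.End.mul_apply, ← Module.End.mul_apply, ← map_mul, ← map_mul, ← hsb]
        congr 2; group
      have e2 : q ρ b (ρ s u) = (ρ s⁻¹ u - ρ s u) + q ρ b u := by
        have h5 : ρ s⁻¹ (q ρ b u) = q ρ b u := by
          conv_lhs => rw [← hsX _ hx1, rho_inv_apply]
        have h6 : ρ b u = u + q ρ b u := by rw [q_apply]; abel
        rw [q_apply ρ b (ρ s u), e1, h6, map_add, h5]; abel
      refine fixed_of_diff hso ?_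
      have h7 : ρ s⁻¹ u - ρ s u = q ρ b (ρ s u) - q ρ b u := by rw [e2]; abel
      rw [h7, map_sub, hsX _ hx2, hsX _ hx1]
    refine hcommU r hr hrc hro fun y hy u hu => ?_
    set r1 := a * r * a⁻¹ with hr1
    have hr' : ∀ v ∈ U, ρ r v = ρ r1⁻¹ v := fun v hv => by
      have h1 : ρ (r * r1) v = v := by rw [hr1, ← hat2]; exact hsall v hv
      rw [(h.comm a ha haN r hr r hr).eq, map_mul, Module.End.mul_apply] at h1
      conv_rhs => rw [← h1, rho_inv_apply]
    rw [hr' u hu, hr' _ (hUK y hy u hu), ← Module.End.mul_apply, ← Module.End.mul_apply, ← map_mul,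
      ← map_mul, ((h.comm a ha haN r hr y hy).inv_right).eq]
  -- a vector on which the normalizing part acts regularly
  obtain ⟨u₀, hu₀, hu₀X⟩ := SetLike.not_le_iff_exists.1 hCaX
  have hP : ∀ c ∈ A, c ∈ NK → ρ c ≠ 1 → q ρ c u₀ ∈ T → False := by
    intro c hc hcN hc1 hmem
    obtain ⟨r, hr, hrc, hro, hinv⟩ := hpick c hc hcN hc1
    obtain ⟨hsc, hso⟩ := hsinv c hc r hr hro hinv
    set s := hat a 2 r with hs
    set P := Ca ⊓ T.comap (q ρ c) with hPdef
    have hPs : P ⊓ P.map (ρ s) ≤ T := by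
      rintro _ ⟨⟨-, hd⟩, e, ⟨he, hed⟩, rfl⟩
      have e1 : ρ c (ρ s e) = ρ s⁻¹ (ρ c e) := by
        rw [← Module.End.mul_apply, ← Module.End.mul_apply, ← map_mul, ← map_mul, ← hsc]
        congr 2; group
      have ht1 : ρ s (q ρ c e) = q ρ c e := hTfix r hr _ hed
      have e2 : q ρ c (ρ s e) = (ρ s⁻¹ e - ρ s e) + q ρ c e := by
        have h5 : ρ s⁻¹ (q ρ c e) = q ρ c e := by
          conv_lhs => rw [← ht1, rho_inv_apply]
        have h6 : ρ c e = e + q ρ c e := by rw [q_apply]; abel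
        rw [q_apply ρ c (ρ s e), e1, h6, map_add, h5]; abel
      have hfix : ρ s e = e := by
        refine fixed_of_diff hso ?_
        have h7 : ρ s⁻¹ e - ρ s e = q ρ c (ρ s e) - q ρ c e := by rw [e2]; abel
        rw [h7, map_sub, hTfix r hr _ hd, ht1]
      rw [hfix]
      exact hcore r hr hrc hro e he hfix
    have h1 := card_sq_le (Z := Ca) (X := P) (ρ s) (inj s) inf_le_left (by
      rintro _ ⟨w, hw, rfl⟩
      refine ⟨hsU r hr w hw.1.1, mem_ker_q.2 ?_⟩
      rw [← Module.End.mul_apply, ← map_mul, (h.a_comm_hat ha haN hr).eq, map_mul,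
        Module.End.mul_apply, mem_ker_q.1 hw.1.2])
    have h2 : Nat.card ↥P * Nat.card ↥P ≤ Nat.card ↥X * Nat.card ↥X := by
      rw [← hcardU, hsplita]
      exact h1.trans (Nat.mul_le_mul_left _ (card_mono hPs))
    have hXP : X ≤ P := fun x hx => ⟨hXCa hx, by
      rw [SetLike.mem_coe, Submodule.mem_comap, q_apply, hXfix c hc x hx, sub_self]
      exact T.zero_mem⟩
    have hPX := eq_of_le_of_card hXP (Nat.mul_self_le_mul_self_iff.1 h2)
    exact hu₀X (hPX.ge ⟨hu₀, hmem⟩)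
  set A₀ := A ⊓ NK with hA₀
  set A₁ := A ⊓ ρ.ker with hA₁
  have hcount1 : Nat.card ↥A₀ * Nat.card ↥T ≤ Nat.card ↥A₁ * Nat.card ↥X := by
    refine inj_count (fun c => q ρ c u₀) hTX (fun c hc => hqX c hc.1 u₀ hu₀.1) ?_
    intro c hc c' hc' hdiff
    have hg : c'⁻¹ * c ∈ A₀ := A₀.mul_mem (A₀.inv_mem hc') hc
    refine ⟨hg.1, MonoidHom.mem_ker.2 ?_⟩
    by_contra hne
    refine hP _ hg.1 hg.2 hne ?_
    have hz : q ρ c' (q ρ (c'⁻¹ * c) u₀) = 0 := by
      rw [q_apply, hXfix c' hc'.1 _ (hqX _ hg.1 u₀ hu₀.1), sub_self]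
    have e : q ρ c u₀ = q ρ c' u₀ + q ρ (c'⁻¹ * c) u₀ := by
      conv_lhs => rw [show c = c' * (c'⁻¹ * c) by group, q_mul]
      rw [LinearMap.add_apply, LinearMap.add_apply, Module.End.mul_apply, hz, zero_add]
    simp only [e, add_sub_cancel_left] at hdiff
    exact hdiff
  have hcount2 : Nat.card ↥A ≤ 2 * Nat.card ↥A₀ := by
    let f : ↥A → Bool × ↥A₀ := fun c =>
      if hc : (c : G) ∈ NK then (false, ⟨c, c.2, hc⟩)
      else (true, ⟨a * c, A.mul_mem ha c.2, hsmall c c.2 hc⟩)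
    have hf : Function.Injective f := by
      intro c c' heq
      simp only [f] at heq
      split_ifs at heq with h1 h2 h2
      · exact Subtype.ext (congrArg (fun x : Bool × ↥A₀ => (x.2 : G)) heq)
      · exact absurd (congrArg Prod.fst heq) (by simp)
      · exact absurd (congrArg Prod.fst heq) (by simp)
      · exact Subtype.ext (mul_left_cancel (congrArg (fun x : Bool × ↥A₀ => (x.2 : G)) heq))
    have := Nat.card_le_card_of_injective f hf
    rwa [Nat.card_prod, Nat.card_eq_fintype_card (α := Bool), Fintype.card_bool] at this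
  have hcount3 : Nat.card ↥A₁ * Nat.card ↥X ≤ Nat.card ↥A := by
    have hUC : U ⊓ fix ρ A = X := by
      refine le_antisymm (fun v hv => ⟨hv.1, mem_ker_q.2 (hv.2 b hb)⟩)
        (fun v hv => ⟨hv.1, fun c hc => hXfix c hc v hv⟩)
    have h1 := card_sup_inf U (fix ρ A)
    rw [hUC, hcardU] at h1
    have h2 : fix ρ A₁ = ⊤ := eq_top_iff.2 fun v _ c hc => by
      rw [MonoidHom.mem_ker.1 hc.2, Module.End.one_apply]
    have h3 := h.hmax A₁ inf_le_left
    rw [wt, wt, h2] at h3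
    have h4 : Nat.card ↥(U ⊔ fix ρ A) ≤ Nat.card ↥(⊤ : Submodule (ZMod 2) V) := card_mono le_top
    have hpos : 0 < Nat.card ↥X * Nat.card ↥(fix ρ A) := Nat.mul_pos Nat.card_pos Nat.card_pos
    refine Nat.le_of_mul_le_mul_right ?_ hpos
    calc Nat.card ↥A₁ * Nat.card ↥X * (Nat.card ↥X * Nat.card ↥(fix ρ A))
        = Nat.card ↥A₁ * (Nat.card ↥(U ⊔ fix ρ A) * Nat.card ↥X) := by rw [h1]; ring
      _ ≤ Nat.card ↥A₁ * (Nat.card ↥(⊤ : Submodule (ZMod 2) V) * Nat.card ↥X) :=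
        Nat.mul_le_mul_left _ (Nat.mul_le_mul_right _ h4)
      _ = (Nat.card ↥A₁ * Nat.card ↥(⊤ : Submodule (ZMod 2) V)) * Nat.card ↥X := by ring
      _ ≤ (Nat.card ↥A * Nat.card ↥(fix ρ A)) * Nat.card ↥X := Nat.mul_le_mul_right _ h3
      _ = _ := by ring
  have hT2 : Nat.card ↥T ≤ 2 := Nat.le_of_mul_le_mul_left
    ((hcount1.trans (hcount3.trans hcount2)).trans_eq (mul_comm _ _)) Nat.card_pos
  -- an element of large prime order needs more room
  set s := hat a 2 r₀ with hs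
  set r1 := a * r₀ * a⁻¹ with hr1
  have hcr : Commute r₀ r1 := h.comm a ha haN r₀ hr₀ r₀ hr₀
  have hsr : Commute s r₀ := by rw [hs, hat2]; exact (Commute.refl r₀).mul_left hcr.symm
  set W := U ⊓ LinearMap.ker (q ρ s) with hW
  have hWr : ∀ w ∈ W, ρ r₀ w ∈ W := fun w hw => ⟨hUK r₀ hr₀ w hw.1, mem_ker_q.2 (by
    rw [← Module.End.mul_apply, ← map_mul, hsr.eq, map_mul, Module.End.mul_apply,
      mem_ker_q.1 hw.2])⟩
  have hWq : q₀ ≤ Nat.card ↥W := by
    have hne : W ≠ ⊥ := by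
      intro hbot
      have hmap : U.map (q ρ s) = U := by
        refine eq_of_le_of_card ?_ (le_of_eq ?_)
        · rintro _ ⟨u, hu, rfl⟩
          rw [q_apply]
          exact U.sub_mem (hsU r₀ hr₀ u hu) hu
        · have h1 := card_split U (q ρ s)
          rw [← hW, hbot, card_bot, one_mul] at h1
          exact h1
      have haU : ∀ u ∈ U, ρ a u = u := by
        intro u hu
        rw [← hmap] at hu
        obtain ⟨v, -, rfl⟩ := hu
        rw [← sub_eq_zero, ← q_apply, ← Module.End.mul_apply]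
        have h1 : q ρ a * q ρ s = 0 := by
          rw [show q ρ s = ρ s - 1 from rfl, mul_sub, mul_one, h.qa_hat ha haN (hR a ha haN) hr₀,
            sub_self]
        rw [h1, LinearMap.zero_apply]
      refine hcommU r₀ hr₀ hr₀c hr₀o fun y hy u hu => ?_
      have hr' : ∀ v ∈ U, ρ r₀ v = ρ r1 v := fun v hv => by
        have hv' : ρ a⁻¹ v = v := by
          conv_lhs => rw [← haU v hv, rho_inv_apply]
        rw [hr1, map_mul, map_mul, Module.End.mul_apply, Module.End.mul_apply, hv',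
          haU _ (hUK r₀ hr₀ v hv)]
      rw [hr' u hu, hr' _ (hUK y hy u hu), ← Module.End.mul_apply, ← Module.End.mul_apply, ← map_mul,
        ← map_mul, (h.comm a ha haN r₀ hr₀ y hy).eq]
    obtain ⟨w₀, hw₀, hw₀0⟩ := (Submodule.ne_bot_iff W).1 hne
    have hpow : ∀ i : ℕ, ρ (r₀ ^ i) w₀ ∈ W := by
      intro i
      induction i with
      | zero => simpa using hw₀
      | succ i ih => rw [pow_succ', map_mul, Module.End.mul_apply]; exact hWr _ ih
    let f : Fin q₀ → ↥W := fun i => ⟨ρ (r₀ ^ (i : ℕ)) w₀, hpow i⟩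
    have hlt : ∀ i j : Fin q₀, i < j → f i ≠ f j := by
      intro i j hij heq
      have h1 : ρ (r₀ ^ (i : ℕ)) w₀ = ρ (r₀ ^ (j : ℕ)) w₀ := congrArg Subtype.val heq
      have hij' : (i : ℕ) < j := hij
      have hpos : 0 < (j : ℕ) - i := by omega
      rw [show (j : ℕ) = i + ((j : ℕ) - i) by omega, pow_add, map_mul, Module.End.mul_apply] at h1
      have h2 := (inj _ h1).symm
      apply hw₀0
      refine hfixU w₀ hw₀.1 _ (K.pow_mem hr₀ _) (fun hc => hr₀c ?_) ?_ h2
      · exact central_of_pow hq₀ (Nat.not_dvd_of_pos_of_lt hpos (by omega)) hr₀q hc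
      · exact hr₀o.of_dvd_nat (orderOf_pow_dvd _)
    have hf : Function.Injective f := by
      intro i j heq
      rcases lt_trichotomy i j with h1 | h1 | h1
      · exact absurd heq (hlt i j h1)
      · exact h1
      · exact absurd heq.symm (hlt j i h1)
    have := Nat.card_le_card_of_injective f hf
    rwa [Nat.card_fin] at this
  set D := W ⊓ LinearMap.ker (q ρ a) with hD
  have hDbot : D ⊓ D.map (ρ r₀) = ⊥ := by
    rw [eq_bot_iff]
    rintro _ ⟨⟨-, hd⟩, e, ⟨heW, hea⟩, rfl⟩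
    rw [Submodule.mem_bot, hfixU2 e heW.1 r₀ hr₀ hr₀c hr₀o ?_, map_zero]
    rw [SetLike.mem_coe, mem_ker_q] at hd hea
    have h1 : ρ r1 e = ρ r₀⁻¹ e := by
      have h2 : ρ (r₀ * r1) e = e := by rw [hr1, ← hat2]; exact mem_ker_q.1 heW.2
      conv_rhs => rw [← h2, map_mul, Module.End.mul_apply, rho_inv_apply]
    have h3 : ρ a⁻¹ e = e := by conv_lhs => rw [← hea, rho_inv_apply]
    rw [← h1, hr1, map_mul, map_mul, Module.End.mul_apply, Module.End.mul_apply, h3, hd]
  have hsplitW := card_split W (q ρ a)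
  rw [← hD] at hsplitW
  have h1 := card_sq_le (Z := W) (X := D) (ρ r₀) (inj r₀) inf_le_left (by
    rintro _ ⟨w, hw, rfl⟩; exact hWr w hw.1)
  rw [hDbot, card_bot, mul_one] at h1
  have h2 : Nat.card ↥(W.map (q ρ a)) ≤ 2 :=
    (card_mono (Submodule.map_mono (inf_le_left : W ≤ U))).trans hT2
  have h3 : Nat.card ↥W ≤ Nat.card ↥D * 2 := hsplitW ▸ Nat.mul_le_mul_left _ h2
  have h4 : Nat.card ↥D ≤ 2 := Nat.le_of_mul_le_mul_left (h1.trans h3) Nat.card_pos
  omega

end Cfsg.Agent.Lib.LocalEven2.PGV
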