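import Cfsg.Agent.Lib.LocalEven2.Supersoluble
import Cfsg.Agent.Lib.LocalEven2.Homology
import Cfsg.Agent.Lib.LocalEven2.ExtraFusion
import Cfsg.Agent.Lib.Transfer.Frobenius

/-!
# Supersolvability from the order of subgroups generated by two conjugates
-/

set_option autoImplicit false

namespace Cfsg.Agent.Lib.LocalEven2.PairOrder

universe u

/-- The condition on pairs of conjugate prime-power elements. -/
def Hyp (G : Type u) [Group G] : Prop :=
  ∀ (p q : ℕ), p.Prime → q.Prime → p ≠ q → ∀ (x g : G) (a b : ℕ), x ^ p ^ a = 1 →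
    g ^ q ^ b = 1 → ¬ q ^ 2 ∣ Nat.card ↥(Subgroup.zpowers x ⊔ Subgroup.zpowers (g * x * g⁻¹))

variable {G : Type u} [Group G] [Finite G]

theorem Hyp.subgroup (h : Hyp G) (K : Subgroup G) : Hyp ↥K := by
  intro p q hp hq hpq x g a b hx hg hd
  refine h p q hp hq hpq (x : G) g a b (by exact_mod_cast congrArg Subtype.val hx)
    (by exact_mod_cast congrArg Subtype.val hg) ?_
  refine hd.trans (dvd_of_eq ?_)
  rw [← Subgroup.card_map_of_injective K.subtype_injective, Subgroup.map_sup,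
    MonoidHom.map_zpowers, MonoidHom.map_zpowers]
  rfl

theorem Hyp.quotient (h : Hyp G) (N : Subgroup G) [N.Normal] : Hyp (G ⧸ N) := by
  intro p q hp hq hpq x g a b hx hg hd
  obtain ⟨x', rfl⟩ := QuotientGroup.mk'_surjective N x
  obtain ⟨g', rfl⟩ := QuotientGroup.mk'_surjective N g
  obtain ⟨u, ⟨a', hu⟩, hue⟩ := Homology.exists_primePart (QuotientGroup.mk' N) hp hx
  obtain ⟨v, ⟨b', hv⟩, hve⟩ := Homology.exists_primePart (QuotientGroup.mk' N) hq hg
  refine h p q hp hq hpq u v a' b' hu hv (hd.trans ?_)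
  rw [← hue, ← hve, ← map_inv, ← map_mul, ← map_mul, ← MonoidHom.map_zpowers,
    ← MonoidHom.map_zpowers, ← Subgroup.map_sup]
  exact Subgroup.card_map_dvd _ _

/-- A `q`-element moves an element of an invariant `p`-subgroup by an eigenvector. -/
theorem Hyp.exists_eigen (h : Hyp G) {p q : ℕ} (hp : p.Prime) (hq : q.Prime) (hpq : p ≠ q)
    {R : Subgroup G} (hR : IsPGroup p ↥R) {x g : G} (hxR : x ∈ Subgroup.normalizer (R : Set G))
    {a : ℕ} (hx : x ^ q ^ a = 1) (hg : g ∈ R) :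
    (x⁻¹ * (g * x * g⁻¹)) ^ p = 1 ∧
      ∃ i : ℕ, x * (x⁻¹ * (g * x * g⁻¹)) * x⁻¹ = (x⁻¹ * (g * x * g⁻¹)) ^ i := by
  haveI := Fact.mk hp
  set H := Subgroup.zpowers x ⊔ Subgroup.zpowers (g * x * g⁻¹) with hH
  set c := x⁻¹ * (g * x * g⁻¹) with hc
  obtain ⟨b, hgb⟩ := hR ⟨g, hg⟩
  have hnd : ¬ p ^ 2 ∣ Nat.card ↥H := h q p hq hp (Ne.symm hpq) x g a b hx
    (by simpa using congrArg Subtype.val hgb)
  obtain ⟨k, hk⟩ := IsPGroup.iff_card.mp (hR.to_le (inf_le_right : H ⊓ R ≤ R))
  have hk1 : k ≤ 1 := by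
    by_contra hk'
    exact hnd ((pow_dvd_pow p (by omega)).trans (hk ▸ Subgroup.card_dvd_of_le inf_le_left))
  have hxH : x ∈ H := Subgroup.mem_sup_left (Subgroup.mem_zpowers x)
  have hcH : c ∈ H ⊓ R := by
    refine Subgroup.mem_inf.mpr ⟨H.mul_mem (H.inv_mem hxH) (Subgroup.mem_sup_right (Subgroup.mem_zpowers _)), ?_⟩
    rw [hc, show x⁻¹ * (g * x * g⁻¹) = (x⁻¹ * g * x⁻¹⁻¹) * g⁻¹ by group]
    exact R.mul_mem ((Subgroup.mem_normalizer_iff.mp ((Subgroup.normalizer (R : Set G)).inv_mem hxR) g).mp hg) (R.inv_mem hg)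
  have hcp : c ^ p = 1 := by
    have h1 : (⟨c, hcH⟩ : ↥(H ⊓ R)) ^ p ^ k = 1 := by rw [← hk]; exact pow_card_eq_one'
    have h2 : c ^ p ^ k = 1 := by simpa using congrArg Subtype.val h1
    rcases Nat.le_one_iff_eq_zero_or_eq_one.mp hk1 with rfl | rfl
    · rw [pow_zero, pow_one] at h2; rw [h2, one_pow]
    · rwa [pow_one] at h2
  refine ⟨hcp, ?_⟩
  by_cases hc1 : c = 1
  · exact ⟨0, by rw [hc1]; simp⟩
  have heq : Subgroup.zpowers c = H ⊓ R := by
    refine Subgroup.eq_of_le_of_card_ge (Subgroup.zpowers_le.mpr hcH) ?_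
    rw [Nat.card_zpowers, orderOf_eq_prime hcp hc1, hk]
    exact (Nat.pow_le_pow_right hp.pos hk1).trans_eq (pow_one p)
  have hmem : x * c * x⁻¹ ∈ Subgroup.zpowers c := heq ▸
    Subgroup.mem_inf.mpr ⟨H.mul_mem (H.mul_mem hxH (Subgroup.mem_inf.mp hcH).1) (H.inv_mem hxH),
      (Subgroup.mem_normalizer_iff.mp hxR c).mp (Subgroup.mem_inf.mp hcH).2⟩
  obtain ⟨i, hi⟩ := mem_powers_iff_mem_zpowers.mpr hmem
  exact ⟨i, hi.symm⟩

/-- For the smallest prime divisor there is a normal complement. -/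
theorem Hyp.hasNormalPComplement (h : Hyp G) {p : ℕ} [hp : Fact p.Prime]
    (hmin : ∀ q : ℕ, q.Prime → q ∣ Nat.card G → p ≤ q) : Cfsg.HasNormalPComplement p G := by
  refine Transfer.hasNormalPComplement_of_frobenius default fun Q hQ g hg hgo => ?_
  have hQp : IsPGroup p ↥Q := (default : Sylow p G).2.to_le hQ
  -- prime power elements
  have hpp : ∀ (y : G) (q a : ℕ), q.Prime → q ≠ p → y ^ q ^ a = 1 →
      y ∈ Subgroup.normalizer (Q : Set G) → y ∈ Subgroup.centralizer (Q : Set G) := by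
    intro y q a hq hqp hy hyn x hx
    obtain ⟨hcp, i, hi⟩ := h.exists_eigen hp.out hq (Ne.symm hqp) hQp hyn hy hx
    set c := y⁻¹ * (x * y * x⁻¹) with hc
    have hyc : y * c * y⁻¹ = c := by
      by_cases hc1 : c = 1
      · rw [hc1]; simp
      have hord := orderOf_eq_prime hcp hc1
      have hiter : ∀ n : ℕ, y ^ n * c * (y ^ n)⁻¹ = c ^ i ^ n := by
        intro n
        induction n with
        | zero => simp
        | succ n ih =>
          calc y ^ (n + 1) * c * (y ^ (n + 1))⁻¹ = y * (y ^ n * c * (y ^ n)⁻¹) * y⁻¹ := by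
                rw [pow_succ']; group
            _ = c ^ i ^ (n + 1) := by rw [ih, ← conj_pow, hi, ← pow_mul, pow_succ']
      have h1 : ((i : ZMod p)) ^ q ^ a = 1 := by
        have := hiter (q ^ a)
        rw [hy, one_mul, inv_one, mul_one] at this
        have h2 : c ^ 1 = c ^ i ^ q ^ a := by rwa [pow_one]
        rw [pow_eq_pow_iff_modEq, hord, ← ZMod.natCast_eq_natCast_iff] at h2
        simpa using h2.symm
      have hi0 : (i : ZMod p) ≠ 0 := fun e => by
        rw [e, zero_pow (pow_ne_zero _ hq.ne_zero)] at h1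
        exact zero_ne_one h1
      have h2 : (i : ZMod p) = 1 := by
        rw [← orderOf_eq_one_iff]
        refine Nat.eq_one_of_dvd_coprimes ?_ (orderOf_dvd_of_pow_eq_one h1)
          (orderOf_dvd_of_pow_eq_one (ZMod.pow_card_sub_one_eq_one hi0))
        by_cases hqd : q ∣ orderOf y
        · refine Nat.Coprime.pow_left a ((hq.coprime_iff_not_dvd).mpr fun hd => ?_)
          have := hmin q hq (hqd.trans (orderOf_dvd_natCard y))
          have := Nat.le_of_dvd (by have := hp.out.two_le; omega) hd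
          omega
        · have hy1 : y = 1 := by
            obtain ⟨k, -, hk⟩ := (Nat.dvd_prime_pow hq).mp (orderOf_dvd_of_pow_eq_one hy)
            rcases Nat.eq_zero_or_pos k with rfl | hk0
            · exact orderOf_eq_one_iff.mp (by rw [hk, pow_zero])
            · exact absurd (hk ▸ dvd_pow_self q hk0.ne') hqd
          exact absurd (show c = 1 by rw [hc, hy1]; simp) hc1
      rw [hi, ExtraFusion.pow_congr (p := p) hcp (n := 1) (by rw [h2, Nat.cast_one]), pow_one]
    have hcomm : y⁻¹ * c = c * y⁻¹ := by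
      conv_lhs => rw [← hyc]
      group
    have hn : ∀ n : ℕ, (y⁻¹) ^ n * x * y ^ n = c ^ n * x := by
      intro n
      induction n with
      | zero => simp
      | succ n ih =>
        calc y⁻¹ ^ (n + 1) * x * y ^ (n + 1) = y⁻¹ * (y⁻¹ ^ n * x * y ^ n) * y := by
              rw [pow_succ', pow_succ]; group
          _ = c ^ n * (y⁻¹ * x * y) := by
              rw [ih, ← mul_assoc y⁻¹, ((show Commute y⁻¹ c from hcomm).pow_right n).eq]; group
          _ = c ^ (n + 1) * x := by rw [pow_succ, hc]; group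
    have hc1 : c = 1 := by
      have h1 := hn (q ^ a)
      rw [inv_pow, hy, inv_one, one_mul, mul_one, right_eq_mul] at h1
      rw [← orderOf_eq_one_iff]
      exact Nat.eq_one_of_dvd_coprimes (Nat.Coprime.pow_left a ((Nat.coprime_primes hq hp.out).mpr hqp))
        (orderOf_dvd_of_pow_eq_one h1) (orderOf_dvd_of_pow_eq_one hcp)
    rw [hc, inv_mul_eq_one] at hc1
    conv_rhs => rw [hc1]
    group
  have key : ∀ n : ℕ, ∀ y : G, orderOf y = n → Nat.Coprime (orderOf y) p →
      y ∈ Subgroup.normalizer (Q : Set G) → y ∈ Subgroup.centralizer (Q : Set G) := by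
    intro n
    induction n using Nat.strongRecOn with
    | ind n ih =>
    intro y hn hcop hyn
    by_cases hy1 : y = 1
    · rw [hy1]; exact one_mem _
    have h1 : orderOf y ≠ 1 := fun e => hy1 (orderOf_eq_one_iff.mp e)
    obtain ⟨q, hq, hqd⟩ := Nat.exists_prime_and_dvd h1
    have hqp : q ≠ p := fun e => hp.out.ne_one (Nat.dvd_one.mp (hcop.gcd_eq_one ▸
      Nat.dvd_gcd (e ▸ hqd) (dvd_refl p)))
    obtain ⟨a, m, hm, hym⟩ := Nat.exists_eq_pow_mul_and_not_dvd (orderOf_pos y).ne' q hq.ne_one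
    rcases eq_or_ne m 1 with rfl | hm1
    · exact hpp y q a hq hqp (by rw [show q ^ a = orderOf y by rw [hym, mul_one], pow_orderOf_eq_one]) hyn
    have hm0 : m ≠ 0 := by rintro rfl; exact hm (dvd_zero q)
    have e1 : orderOf (y ^ q ^ a) = m := by
      rw [orderOf_pow' y (pow_ne_zero _ hq.ne_zero), hym,
        Nat.gcd_eq_right (dvd_mul_right _ m), Nat.mul_div_cancel_left _ (pow_pos hq.pos a)]
    have h3 := hpp (y ^ m) q a hq hqp (by rw [← pow_mul, mul_comm, ← hym, pow_orderOf_eq_one])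
      (pow_mem hyn _)
    have h4 := ih m (by
      rw [← hn, hym]
      refine lt_mul_of_one_lt_left (Nat.pos_of_ne_zero hm0) (Nat.one_lt_pow ?_ hq.one_lt)
      rintro rfl
      rw [pow_zero, one_mul] at hym
      exact hm (hym ▸ hqd)) (y ^ q ^ a) e1 (e1 ▸ hcop.coprime_dvd_left ⟨q ^ a, by rw [hym, mul_comm]⟩)
      (pow_mem hyn _)
    have hco : Nat.Coprime (q ^ a) m := ((hq.coprime_iff_not_dvd).mpr hm).pow_left a
    have e : y = (y ^ q ^ a) ^ (Nat.gcdA (q ^ a) m) * (y ^ m) ^ (Nat.gcdB (q ^ a) m) := by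
      rw [← zpow_natCast y (q ^ a), ← zpow_natCast y m, ← zpow_mul, ← zpow_mul, ← zpow_add,
        ← Nat.gcd_eq_gcd_ab, hco.gcd_eq_one, Nat.cast_one, zpow_one]
    rw [e]
    exact mul_mem (zpow_mem h4 _) (zpow_mem h3 _)
  exact key _ g rfl hgo hg

/-- A minimal normal subgroup inside a normal `r`-subgroup is cyclic. -/
theorem Hyp.isCyclic_minimal (h : Hyp G) {r : ℕ} [hr : Fact r.Prime] (P : Sylow r G)
    [hPn : (P : Subgroup G).Normal] (N : Subgroup G) [hNn : N.Normal] (hN0 : N ≠ ⊥)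
    (hNP : N ≤ (P : Subgroup G) ⊓ Subgroup.centralizer ((P : Subgroup G) : Set G))
    (hmin : ∀ L : Subgroup G, L.Normal → L ≤ N → L ≠ ⊥ → L = N)
    (hq : Cfsg.IsSupersolvable (G ⧸ N)) : IsCyclic ↥N := by
  classical
  have hNcomm : ∀ x ∈ N, ∀ y ∈ N, x * y = y * x := fun x hx y hy =>
    Subgroup.mem_centralizer_iff.mp (hNP hy).2 x (hNP hx).1
  have hNp : IsPGroup r ↥N := P.2.to_le (hNP.trans inf_le_left)
  letI : CommGroup ↥N :=
    { N.toGroup with mul_comm := fun a b => Subtype.ext (hNcomm a a.2 b b.2) }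
  have hexp : ∀ x : ↥N, x ^ r = 1 := by
    let E : Subgroup G :=
      { carrier := {x | x ∈ N ∧ x ^ r = 1}
        one_mem' := ⟨one_mem _, one_pow _⟩
        mul_mem' := fun {x y} hx hy => ⟨mul_mem hx.1 hy.1, by
          rw [(show Commute x y from hNcomm x hx.1 y hy.1).mul_pow, hx.2, hy.2, one_mul]⟩
        inv_mem' := fun {x} hx => ⟨inv_mem hx.1, by rw [inv_pow, hx.2, inv_one]⟩ }
    have hEn : E.Normal := ⟨fun x hx g => ⟨hNn.conj_mem x hx.1 g, by
      rw [conj_pow, hx.2, mul_one, mul_inv_cancel]⟩⟩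
    obtain ⟨e, he, hecard⟩ := Coprime.exists_card_eq_prime_pow hr.out hNp hN0
    obtain ⟨x, hx⟩ := exists_prime_orderOf_dvd_card' (G := ↥N) r (hecard ▸ dvd_pow_self r (by omega))
    have hE : E = N := hmin E hEn (fun x hx => hx.1) fun e0 => by
      have hxE : (x : G) ∈ E := ⟨x.2, by rw [← hx, ← Subgroup.orderOf_coe, pow_orderOf_eq_one]⟩
      rw [e0, Subgroup.mem_bot] at hxE
      rw [← Subgroup.orderOf_coe, hxE, orderOf_one] at hx
      exact hr.out.ne_one hx.symm
    exact fun x => Subtype.ext (by simpa using (hE.ge x.2).2)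
  obtain ⟨_⟩ := ExtraFusion.exists_zmodModule (p := r) hexp
  let ψ : G →* Module.End (ZMod r) (Additive ↥N) :=
    (ExtraFusion.autToEnd r ↥N).comp MulAut.conjNormal
  have hψ : ∀ (g : G) (x : ↥N), ψ g (Additive.ofMul x) = Additive.ofMul (MulAut.conjNormal g x) :=
    fun g x => rfl
  have hψP : ∀ g ∈ (P : Subgroup G), ψ g = 1 := fun g hg => LinearMap.ext fun v => by
    obtain ⟨x, rfl⟩ := Additive.ofMul.surjective v
    rw [hψ, Module.End.one_apply]
    congr 1
    refine Subtype.ext ?_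
    rw [MulAut.conjNormal_apply, Subgroup.mem_centralizer_iff.mp (hNP x.2).2 g hg,
      mul_inv_cancel_right]
  have hψr : ∀ (g : G) (a : ℕ), g ^ r ^ a = 1 → ψ g = 1 := fun g a hg => by
    apply hψP
    obtain ⟨k, -, hk⟩ := (Nat.dvd_prime_pow hr.out).mp (orderOf_dvd_of_pow_eq_one hg)
    obtain ⟨Q, hQ⟩ := (IsPGroup.of_card (n := k) (by rw [Nat.card_zpowers, hk]) :
      IsPGroup r ↥(Subgroup.zpowers g)).exists_le_sylow
    haveI := Sylow.unique_of_normal P hPn
    rw [Subsingleton.elim Q P] at hQ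
    exact hQ (Subgroup.mem_zpowers g)
  have key := Homology.exists_scalar_of_homologies ψ (fun g q a hq' hg => ?_)
    (fun g q a hq' hg => ?_) (fun W hW => ?_) (fun Z hZn hker hZ => ?_)
  · obtain ⟨n₁, hn₁N, hn₁⟩ := (Subgroup.bot_or_exists_ne_one N).resolve_left hN0
    have hn : (Subgroup.zpowers n₁).Normal := by
      refine ⟨fun x hx y => ?_⟩
      have hxN : x ∈ N := Subgroup.zpowers_le.mpr hn₁N hx
      obtain ⟨c, hc⟩ := key y
      have h1 := hc (Additive.ofMul (⟨x, hxN⟩ : ↥N))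
      rw [hψ, ← ZMod.natCast_zmod_val c, Nat.cast_smul_eq_nsmul, ← ofMul_pow] at h1
      have h2 := congrArg Subtype.val (Additive.ofMul.injective h1)
      rw [MulAut.conjNormal_apply] at h2
      rw [show y * x * y⁻¹ = x ^ c.val by simpa using h2]
      exact pow_mem hx _
    rw [← hmin _ hn (Subgroup.zpowers_le.mpr hn₁N) (fun h => hn₁ (Subgroup.zpowers_eq_bot.mp h))]
    infer_instance
  · rcases eq_or_ne q r with rfl | hqr
    · exact ⟨1, fun v => by simp [hψr g a hg]⟩
    refine Homology.exists_scalar (ψ g) fun v => ?_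
    obtain ⟨x, rfl⟩ := Additive.ofMul.surjective v
    obtain ⟨-, i, hi⟩ := h.exists_eigen hr.out hq' (Ne.symm hqr) hNp
      (by rw [Subgroup.normalizer_eq_top N]; exact Subgroup.mem_top g) hg x.2
    refine ⟨(i : ZMod r), ?_⟩
    rw [hψ, Nat.cast_smul_eq_nsmul, ← ofMul_div, ← ofMul_pow, hψ]
    congr 1
    refine Subtype.ext ?_
    rw [MulAut.conjNormal_apply, SubmonoidClass.coe_pow]
    have e : ((MulAut.conjNormal g x / x : ↥N) : G) = g * (g⁻¹ * ((x : G) * g * (x : G)⁻¹))⁻¹ * g⁻¹ := by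
      rw [div_eq_mul_inv, Subgroup.coe_mul, MulAut.conjNormal_apply, Subgroup.coe_inv]; group
    rw [e]
    set c := g⁻¹ * ((x : G) * g * (x : G)⁻¹)
    rw [conj_pow, inv_pow, ← hi]
    group
  · rcases eq_or_ne q r with rfl | hqr
    · exact Or.inr (hψr g a hg)
    · exact Or.inl fun e => hqr ((Nat.prime_dvd_prime_iff_eq hr.out hq').mp
        ((CharP.cast_eq_zero_iff (ZMod r) r q).mp e)).symm
  · let L : Subgroup G :=
      { carrier := {x | ∃ hx : x ∈ N, Additive.ofMul (⟨x, hx⟩ : ↥N) ∈ W}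
        one_mem' := ⟨one_mem _, by
          show Additive.ofMul (1 : ↥N) ∈ W
          rw [ofMul_one]; exact W.zero_mem⟩
        mul_mem' := fun {a b} ⟨ha, ha'⟩ ⟨hb, hb'⟩ => ⟨mul_mem ha hb, W.add_mem ha' hb'⟩
        inv_mem' := fun {a} ⟨ha, ha'⟩ => ⟨inv_mem ha, W.neg_mem ha'⟩ }
    have hLn : L.Normal := ⟨fun x ⟨hx, hx'⟩ g => ⟨hNn.conj_mem x hx g, by
      have := hW g _ hx'
      rwa [hψ, show (MulAut.conjNormal g (⟨x, hx⟩ : ↥N)) = ⟨g * x * g⁻¹, hNn.conj_mem x hx g⟩ from
        Subtype.ext (MulAut.conjNormal_apply g _)] at this⟩⟩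
    rcases eq_or_ne L ⊥ with h0 | h0
    · left
      rw [Submodule.eq_bot_iff]
      intro v hv
      obtain ⟨x, rfl⟩ := Additive.ofMul.surjective v
      have : (x : G) ∈ L := ⟨x.2, hv⟩
      rw [h0, Subgroup.mem_bot] at this
      rw [show x = 1 from Subtype.ext this, ofMul_one]
    · right
      rw [Submodule.eq_top_iff']
      intro v
      obtain ⟨x, rfl⟩ := Additive.ofMul.surjective v
      obtain ⟨_, h'⟩ := (hmin L hLn (fun y hy => hy.1) h0).ge x.2
      exact h'
  · have hNZ : N ≤ Z := fun x hx => hker (hψP x (hNP hx).1)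
    haveI := hZn
    have hsup := Solvable.isSupersolvable_map (QuotientGroup.map N Z (MonoidHom.id G) hNZ)
      (fun y => by
        obtain ⟨g, rfl⟩ := QuotientGroup.mk_surjective y
        exact ⟨(g : G ⧸ N), rfl⟩) hq
    haveI : Nontrivial (G ⧸ Z) := QuotientGroup.nontrivial_iff.mpr hZ
    obtain ⟨B, hBn, hBp⟩ := Solvable.exists_normal_card_prime hsup
    refine ⟨B.comap (QuotientGroup.mk' Z), hBn.comap _, fun x hx => ?_, ?_⟩
    · rw [Subgroup.mem_comap, QuotientGroup.mk'_apply, (QuotientGroup.eq_one_iff x).mpr hx]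
      exact one_mem _
    · have e : Z.relIndex (B.comap (QuotientGroup.mk' Z)) = Nat.card ↥B := by
        refine ((congrArg (fun X => Subgroup.relIndex X (B.comap (QuotientGroup.mk' Z)))
          ((MonoidHom.comap_bot _).trans (QuotientGroup.ker_mk' Z))).symm.trans ?_)
        rw [Subgroup.relIndex_comap,
          Subgroup.map_comap_eq_self_of_surjective (QuotientGroup.mk'_surjective Z)]
        exact Subgroup.relIndex_bot_left B
      rwa [e]

/-- A group with the pair-order condition is supersolvable. -/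
theorem isSupersolvable_aux : ∀ (n : ℕ) (G : Type u) [Group G] [Finite G],
    Nat.card G = n → Hyp G → Cfsg.IsSupersolvable G := by
  intro n
  induction n using Nat.strongRecOn with
  | ind n IH =>
  intro G _ _ hn h
  rcases subsingleton_or_nontrivial G with hs | hs
  · exact Solvable.isSupersolvable_of_subsingleton G
  have hne : Nat.card G ≠ 1 := Finite.one_lt_card.ne'
  set p := (Nat.card G).minFac
  haveI := Fact.mk (Nat.minFac_prime hne)
  have hp : p.Prime := Fact.out
  obtain ⟨P₀, K, hKn, hK⟩ := h.hasNormalPComplement (p := p) fun q hq hd =>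
    Nat.minFac_le_of_dvd hq.two_le hd
  -- a normal Sylow subgroup
  have hex : ∃ r, ∃ _ : r.Prime, ∃ R : Sylow r G,
      (R : Subgroup G).Normal ∧ (R : Subgroup G) ≠ ⊥ := by
    have hP0 : (P₀ : Subgroup G) ≠ ⊥ := P₀.ne_bot_of_dvd_card (Nat.minFac_dvd _)
    have hlt : Nat.card ↥K < Nat.card G := by
      rw [← hK.card_mul]
      exact lt_mul_of_one_lt_right Nat.card_pos ((Subgroup.one_lt_card_iff_ne_bot _).mpr hP0)
    by_cases hKb : K = ⊥
    · subst hKb
      refine ⟨p, hp, P₀, ?_, hP0⟩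
      rw [Subgroup.isComplement'_bot_left.mp hK]
      infer_instance
    haveI := hKn
    have hKsup := IH _ (hn ▸ hlt) ↥K rfl (h.subgroup K)
    set r := ((Nat.card ↥K).primeFactors).max' (Nat.nonempty_primeFactors.mpr
      ((Subgroup.one_lt_card_iff_ne_bot K).mpr hKb))
    have hrmem := ((Nat.card ↥K).primeFactors).max'_mem (Nat.nonempty_primeFactors.mpr
      ((Subgroup.one_lt_card_iff_ne_bot K).mpr hKb))
    have hr : r.Prime := Nat.prime_of_mem_primeFactors hrmem
    haveI := Fact.mk hr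
    obtain ⟨S⟩ : Nonempty (Sylow r ↥K) := inferInstance
    haveI hSn : (S : Subgroup ↥K).Normal := Solvable.sylow_normal_of_max_prime hKsup
      (fun q hq hd => Finset.le_max' _ q (Nat.mem_primeFactors.mpr ⟨hq, hd, Nat.card_pos.ne'⟩)) S
    haveI hSc : (S : Subgroup ↥K).Characteristic := S.characteristic_of_normal hSn
    let R : Subgroup G := (S : Subgroup ↥K).map K.subtype
    haveI hRn : R.Normal := inferInstanceAs ((S : Subgroup ↥K).map K.subtype).Normal
    have hrp : r ≠ p := fun e => by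
      have hd : r ∣ Nat.card ↥K := Nat.dvd_of_mem_primeFactors hrmem
      have hcop := Transfer.coprime_card_of_isComplement' hK
      exact hr.not_dvd_one (hcop.gcd_eq_one ▸ Nat.dvd_gcd hd (dvd_of_eq e))
    have hidx : ¬ r ∣ R.index := by
      intro hd
      rw [← Subgroup.relIndex_mul_index (Subgroup.map_subtype_le (S : Subgroup ↥K)),
        hK.symm.index_eq_card] at hd
      rcases hr.dvd_mul.mp hd with hd | hd
      · refine S.not_dvd_index ?_
        rwa [Subgroup.relIndex, Subgroup.subgroupOf,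
          Subgroup.comap_map_eq_self_of_injective K.subtype_injective] at hd
      · obtain ⟨k, hk⟩ := IsPGroup.iff_card.mp P₀.2
        exact hrp ((Nat.prime_dvd_prime_iff_eq hr hp).mp (hr.dvd_of_dvd_pow (hk ▸ hd)))
    refine ⟨r, hr, IsPGroup.toSylow (S.2.map K.subtype) hidx, hRn, fun e => ?_⟩
    exact S.ne_bot_of_dvd_card (Nat.dvd_of_mem_primeFactors hrmem)
      ((Subgroup.map_eq_bot_iff_of_injective _ K.subtype_injective).mp e)
  obtain ⟨r, hr, R, hRn, hR0⟩ := hex
  haveI := Fact.mk hr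
  haveI := hRn
  set Z := (R : Subgroup G) ⊓ Subgroup.centralizer ((R : Subgroup G) : Set G)
  have hZ0 : Z ≠ ⊥ := Solvable.ThompsonComplement.center_ne_bot R.2 hR0
  obtain ⟨N, ⟨hNn, hN0, hNZ⟩, hmin⟩ := (Set.toFinite {N : Subgroup G |
    N.Normal ∧ N ≠ ⊥ ∧ N ≤ Z}).exists_minimal ⟨_, inferInstance, hZ0, le_rfl⟩
  haveI := hNn
  have hlt : Nat.card (G ⧸ N) < n := by
    rw [← hn, Subgroup.card_eq_card_quotient_mul_card_subgroup N]
    exact lt_mul_of_one_lt_right Nat.card_pos ((Subgroup.one_lt_card_iff_ne_bot N).mpr hN0)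
  have hq := IH _ hlt (G ⧸ N) rfl (h.quotient N)
  exact Solvable.isSupersolvable_of_cyclic_normal N (h.isCyclic_minimal R N hN0 hNZ
    (fun L hL hLN h0 => le_antisymm hLN (hmin ⟨hL, h0, hLN.trans hNZ⟩ hLN)) hq) hq

end Cfsg.Agent.Lib.LocalEven2.PairOrder
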