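import Cfsg.Agent.Lib.LocalEven2.PlusIso
import Cfsg.Prelude.Def_KGroupFacts

/-!
# The automorphism group of the extraspecial 2-group of plus type does not split
-/

set_option autoImplicit false
set_option linter.unusedSectionVars false
set_option linter.style.haveILetI false

namespace Cfsg.Agent.Lib.LocalEven2.PlusModel

variable {n : ℕ}

/-- An automorphism which is trivial modulo the center is inner. -/
theorem mem_range_conj (τ : MulAut ↥(qm n)) (l : Vec n → ZMod 2)
    (h : ∀ c u, τ (elQ c u) = elQ (c + l u) u) : τ ∈ (MulAut.conj : ↥(qm n) →* _).range := by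
  classical
  have hadd : ∀ u v, l (u + v) = l u + l v := by
    intro u v
    have h1 := map_mul τ (elQ 0 u) (elQ 0 v)
    rw [elQ_mul, h, h, h, elQ_mul] at h1
    have h2 := (el_injective (congrArg Subtype.val h1)).1
    linear_combination h2
  let L : Vec n →ₗ[ZMod 2] ZMod 2 := AddMonoidHom.toZModLinearMap 2 (AddMonoidHom.mk' l hadd)
  let w : Vec n := (fun i => l (0, Pi.single i 1), fun i => l (Pi.single i 1, 0))
  have hw : ∀ u, beta n w u + beta n u w = L u := by
    have : beta n w + (beta n).flip w = L := by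
      refine LinearMap.prod_ext ((Pi.basisFun (ZMod 2) (Fin n)).ext fun i => ?_)
        ((Pi.basisFun (ZMod 2) (Fin n)).ext fun i => ?_)
      · show beta n w (Pi.basisFun (ZMod 2) (Fin n) i, 0) + beta n (Pi.basisFun (ZMod 2) (Fin n) i, 0) w = _
        rw [Pi.basisFun_apply, beta_eq_dot, beta_eq_dot, dot_single, zero_dot, add_zero]
        simp [w, L]
      · show beta n w (0, Pi.basisFun (ZMod 2) (Fin n) i) + beta n (0, Pi.basisFun (ZMod 2) (Fin n) i) w = _
        rw [Pi.basisFun_apply, beta_eq_dot, beta_eq_dot, dot_zero, dot_comm, dot_single, zero_add]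
        simp [w, L]
    exact fun u => LinearMap.congr_fun this u
  refine ⟨elQ 0 w, MulEquiv.ext fun a => ?_⟩
  obtain ⟨c, u, rfl⟩ := exists_elQ a
  rw [MulAut.conj_apply, elQ_conj, h, hw]
  rfl

/-- An automorphism of the model inducing a given isometry. -/
theorem exists_aut (g : Vec n →ₗ[ZMod 2] Vec n) (hg : Function.Injective g)
    (hq : ∀ u, beta n (g u) (g u) = beta n u u) :
    ∃ (τ : MulAut ↥(qm n)) (f : Vec n → ZMod 2),
      (∀ u v, f (u + v) = f u + f v + (beta n (g u) (g v) + beta n u v)) ∧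
      ∀ c u, τ (elQ c u) = elQ (c + f u) (g u) := by
  classical
  obtain ⟨f, hf⟩ := exists_refinement ((beta n).compl₁₂ g g + beta n) (fun u => by
    show beta n (g u) (g u) + beta n u u = 0
    rw [hq, self_add])
  have hf' : ∀ u v, f (u + v) = f u + f v + (beta n (g u) (g v) + beta n u v) := hf
  let E := Equiv.ofBijective _ (elQ_bijective (n := n))
  let φ : ↥(qm n) → ↥(qm n) := fun a => elQ ((E.symm a).1 + f (E.symm a).2) (g (E.symm a).2)
  have hφ : ∀ c u, φ (elQ c u) = elQ (c + f u) (g u) := fun c u => by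
    show elQ _ _ = _
    rw [show E.symm (elQ c u) = (c, u) from E.symm_apply_apply (c, u)]
  let Φ : ↥(qm n) →* ↥(qm n) := MonoidHom.mk' φ fun a b => by
    obtain ⟨c, u, rfl⟩ := exists_elQ a
    obtain ⟨d, v, rfl⟩ := exists_elQ b
    rw [elQ_mul, hφ, hφ, hφ, elQ_mul, map_add g]
    congr 1
    rw [hf']
    linear_combination (beta n u v) * two_eq_zero
  have hinj : Function.Injective Φ := by
    intro a b hab
    obtain ⟨c, u, rfl⟩ := exists_elQ a
    obtain ⟨d, v, rfl⟩ := exists_elQ b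
    change φ _ = φ _ at hab
    rw [hφ, hφ] at hab
    obtain ⟨h1, h2⟩ := el_injective (congrArg Subtype.val hab)
    obtain rfl := hg h2
    obtain rfl := add_right_cancel h1
    rfl
  exact ⟨MulEquiv.ofBijective Φ (Finite.injective_iff_bijective.mp hinj), f, hf', hφ⟩

/-- The first involution. -/
def gMap (i0 i2 : Fin n) : Vec n →ₗ[ZMod 2] Vec n where
  toFun u := (u.1 + (u.1 i2 + u.2 i0 + u.2 i2) • Pi.single i0 1 + u.2 i0 • Pi.single i2 1,
    u.2 + u.2 i0 • Pi.single i2 1)
  map_add' u v := by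
    refine Prod.ext ?_ ?_ <;> funext j <;>
      simp only [Prod.fst_add, Prod.snd_add, Pi.add_apply, Pi.smul_apply, smul_eq_mul] <;> ring
  map_smul' c u := by
    refine Prod.ext ?_ ?_ <;> funext j <;>
      simp only [Prod.smul_fst, Prod.smul_snd, Pi.add_apply, Pi.smul_apply, smul_eq_mul,
        RingHom.id_apply] <;> ring

theorem gMap_apply (i0 i2 : Fin n) (u : Vec n) : gMap i0 i2 u =
    (u.1 + (u.1 i2 + u.2 i0 + u.2 i2) • Pi.single i0 1 + u.2 i0 • Pi.single i2 1,
      u.2 + u.2 i0 • Pi.single i2 1) := rfl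

/-- The second involution. -/
def hMap (i0 i1 i2 : Fin n) : Vec n →ₗ[ZMod 2] Vec n where
  toFun u := (u.1 + u.2 i1 • Pi.single i0 1 + u.2 i0 • Pi.single i1 1 +
    (u.1 i2 + u.2 i2) • Pi.single i2 1, u.2 + (u.1 i2 + u.2 i2) • Pi.single i2 1)
  map_add' u v := by
    refine Prod.ext ?_ ?_ <;> funext j <;>
      simp only [Prod.fst_add, Prod.snd_add, Pi.add_apply, Pi.smul_apply, smul_eq_mul] <;> ring
  map_smul' c u := by
    refine Prod.ext ?_ ?_ <;> funext j <;>
      simp only [Prod.smul_fst, Prod.smul_snd, Pi.add_apply, Pi.smul_apply, smul_eq_mul,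
        RingHom.id_apply] <;> ring

theorem hMap_apply (i0 i1 i2 : Fin n) (u : Vec n) : hMap i0 i1 i2 u =
    (u.1 + u.2 i1 • Pi.single i0 1 + u.2 i0 • Pi.single i1 1 +
      (u.1 i2 + u.2 i2) • Pi.single i2 1, u.2 + (u.1 i2 + u.2 i2) • Pi.single i2 1) := rfl

theorem dot_smul' (a : ZMod 2) (y z : Crd n) : dot y (a • z) = a * dot y z := by
  simp [dot, Finset.mul_sum, mul_left_comm]

theorem smul_dot (a : ZMod 2) (y z : Crd n) : dot (a • y) z = a * dot y z := by
  simp [dot, Finset.mul_sum, mul_assoc]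

theorem zmod_two_sq : ∀ a : ZMod 2, a * a = a := by decide

theorem add_self_two (a : ZMod 2) : a + a = 0 := self_add a

theorem gMap_gMap {i0 i2 : Fin n} (h : i0 ≠ i2) (u : Vec n) : gMap i0 i2 (gMap i0 i2 u) = u := by
  simp only [gMap_apply]
  refine Prod.ext ?_ ?_ <;> funext j <;>
    simp [h, h.symm, Pi.single_eq_of_ne, add_assoc, add_left_comm, add_comm, mul_add, add_mul] <;>
    grind

theorem hMap_hMap {i0 i1 i2 : Fin n} (h01 : i0 ≠ i1) (h02 : i0 ≠ i2) (h12 : i1 ≠ i2) (u : Vec n) :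
    hMap i0 i1 i2 (hMap i0 i1 i2 u) = u := by
  simp only [hMap_apply]
  refine Prod.ext ?_ ?_ <;> funext j <;>
    simp [h01, h01.symm, h02, h02.symm, h12, h12.symm, Pi.single_eq_of_ne, mul_add, add_mul] <;>
    grind

theorem beta_gMap {i0 i2 : Fin n} (h : i0 ≠ i2) (u : Vec n) :
    beta n (gMap i0 i2 u) (gMap i0 i2 u) = beta n u u := by
  simp only [beta_eq_dot, gMap_apply, dot_add, add_dot, dot_smul', smul_dot, dot_single,
    dot_comm (Pi.single _ _) u.1, Pi.single_eq_same, Pi.single_eq_of_ne h.symm,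
    Pi.single_eq_of_ne h, Pi.add_apply, Pi.smul_apply, smul_eq_mul]
  generalize dot u.2 u.1 = D
  generalize u.1 i2 = a, u.2 i0 = b, u.2 i2 = c
  revert D a b c
  decide

theorem beta_hMap {i0 i1 i2 : Fin n} (h01 : i0 ≠ i1) (h02 : i0 ≠ i2) (h12 : i1 ≠ i2) (u : Vec n) :
    beta n (hMap i0 i1 i2 u) (hMap i0 i1 i2 u) = beta n u u := by
  simp only [beta_eq_dot, hMap_apply, dot_add, add_dot, dot_smul', smul_dot, dot_single,
    dot_comm (Pi.single _ _) u.1, Pi.single_eq_same, Pi.single_eq_of_ne h01.symm,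
    Pi.single_eq_of_ne h02.symm, Pi.single_eq_of_ne h12.symm, Pi.single_eq_of_ne h01,
    Pi.single_eq_of_ne h02, Pi.single_eq_of_ne h12, Pi.add_apply, Pi.smul_apply, smul_eq_mul]
  generalize dot u.2 u.1 = D
  generalize u.1 i2 = a, u.2 i0 = b, u.2 i1 = c, u.2 i2 = d
  revert D a b c d
  decide

/-- The automorphism group of the model has no complement to the inner automorphisms. -/
theorem not_complement (hn : 3 ≤ n) (L : Subgroup (MulAut ↥(qm n))) :
    ¬ (MulAut.conj : ↥(qm n) →* _).range.IsComplement' L := by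
  classical
  intro hL
  obtain ⟨i0, i1, i2, h01, h02, h12⟩ : ∃ i0 i1 i2 : Fin n, i0 ≠ i1 ∧ i0 ≠ i2 ∧ i1 ≠ i2 :=
    ⟨⟨0, by omega⟩, ⟨1, by omega⟩, ⟨2, by omega⟩, by simp [Fin.ext_iff], by simp [Fin.ext_iff],
      by simp [Fin.ext_iff]⟩
  set g := gMap i0 i2 with hg
  set h := hMap i0 i1 i2 with hh
  have hgg : ∀ u, g (g u) = u := gMap_gMap h02
  have hhh : ∀ u, h (h u) = u := hMap_hMap h01 h02 h12
  -- representatives in `L`
  have hrep : ∀ (k : Vec n →ₗ[ZMod 2] Vec n), Function.Injective k →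
      (∀ u, beta n (k u) (k u) = beta n u u) → ∃ φ ∈ L, ∃ f : Vec n → ZMod 2,
        (∀ u v, f (u + v) = f u + f v + (beta n (k u) (k v) + beta n u v)) ∧
        ∀ c u, φ (elQ c u) = elQ (c + f u) (k u) := by
    intro k hk hkq
    obtain ⟨τ, f, hf, hτ⟩ := exists_aut k hk hkq
    obtain ⟨⟨⟨i, a, rfl⟩, ⟨l, hl⟩⟩, hil, -⟩ := hL.existsUnique τ
    obtain ⟨d, w, rfl⟩ := exists_elQ a
    refine ⟨l, hl, fun u => f u + (beta n w (k u) + beta n (k u) w), fun u v => ?_, fun c u => ?_⟩
    · simp only [map_add, LinearMap.add_apply]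
      rw [hf]
      ring
    · have hl' : l = (MulAut.conj (elQ d w))⁻¹ * τ := by
        simp only [] at hil
        rw [← hil, inv_mul_cancel_left]
      rw [hl', MulAut.mul_apply, hτ, ← map_inv]
      obtain ⟨e, he⟩ : ∃ e, (elQ d w)⁻¹ = elQ e w := ⟨_, Subtype.ext (el_inv d w)⟩
      rw [he, MulAut.conj_apply, elQ_conj, add_assoc]
  obtain ⟨φ, hφL, fg, hfg, hφ⟩ := hrep g (Function.LeftInverse.injective hgg) (beta_gMap h02)
  obtain ⟨ψ, hψL, fh, hfh, hψ⟩ := hrep h (Function.LeftInverse.injective hhh)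
    (beta_hMap h01 h02 h12)
  have htriv : ∀ τ ∈ L, ∀ l : Vec n → ZMod 2, (∀ c u, τ (elQ c u) = elQ (c + l u) u) →
      ∀ u, l u = 0 := by
    intro τ hτ l hl u
    have h1 : τ = 1 := Subgroup.disjoint_def.mp hL.disjoint (mem_range_conj τ l hl) hτ
    have h2 := hl 0 u
    rw [h1, MulAut.one_apply] at h2
    simpa using ((el_injective (congrArg Subtype.val h2)).1).symm
  have h4 : ∀ u, g (h (g (h u))) = u := by
    intro u
    rw [hg, hh]
    simp only [gMap_apply, hMap_apply]
    refine Prod.ext ?_ ?_ <;> funext j <;>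
      simp [h01, h01.symm, h02, h02.symm, h12, h12.symm, Pi.single_eq_of_ne, mul_add, add_mul] <;>
      grind
  have e1 := htriv _ (mul_mem hψL hψL) (fun u => fh u + fh (h u)) fun c u => by
    rw [MulAut.mul_apply, hψ, hψ, hhh, add_assoc]
  have e2 := htriv _ (mul_mem hφL hφL) (fun u => fg u + fg (g u)) fun c u => by
    rw [MulAut.mul_apply, hφ, hφ, hgg, add_assoc]
  have e3 := htriv _ (mul_mem (mul_mem hφL hψL) (mul_mem hφL hψL))
    (fun u => fh u + fg (h u) + fh (g (h u)) + fg (h (g (h u)))) fun c u => by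
    rw [MulAut.mul_apply, MulAut.mul_apply, MulAut.mul_apply, hψ, hφ, hψ, hφ, h4]
    congr 1
    simp only [add_assoc]
  -- the standard vectors
  let x : Fin n → Vec n := fun i => (Pi.single i 1, 0)
  let y : Fin n → Vec n := fun i => (0, Pi.single i 1)
  have a1 : h (x i2) = y i2 := by
    rw [hh, hMap_apply]; refine Prod.ext ?_ ?_ <;> funext j <;>
      simp [x, y, h02, h12] <;> grind
  have a2 : h (y i1) = x i0 + y i1 := by
    rw [hh, hMap_apply]; refine Prod.ext ?_ ?_ <;> funext j <;>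
      simp [x, y, h01, h12.symm] <;> grind
  have a3 : g (y i0) = y i0 + (x i0 + x i2 + y i2) := by
    rw [hg, gMap_apply]; refine Prod.ext ?_ ?_ <;> funext j <;>
      simp [x, y, h02.symm] <;> grind
  have a4 : g (y i2) = x i0 + y i2 := by
    rw [hg, gMap_apply]; refine Prod.ext ?_ ?_ <;> funext j <;>
      simp [x, y, h02] <;> grind
  have a5 : h (x i0 + y i2) = x i0 + x i2 := by
    rw [hh, hMap_apply]; refine Prod.ext ?_ ?_ <;> funext j <;>
      simp [x, y, h02, h02.symm, h12, h12.symm] <;> grind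
  have a6 : g (x i0 + x i2 + y i2) = x i0 + x i2 + y i2 := by
    rw [hg, gMap_apply]; refine Prod.ext ?_ ?_ <;> funext j <;>
      simp [x, y, h02, h02.symm] <;> grind
  have a7 : h (x i0) = x i0 := by
    rw [hh, hMap_apply]; refine Prod.ext ?_ ?_ <;> funext j <;>
      simp [x, y, h02.symm] <;> grind
  have a8 : g (x i0 + x i2) = x i2 := by
    rw [hg, gMap_apply]; refine Prod.ext ?_ ?_ <;> funext j <;>
      simp [x, y, h02, h02.symm] <;> grind
  have q1 := e1 (x i2)
  have q2 := e1 (y i1)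
  have q3 := e2 (y i0)
  have q4 := e3 (x i2)
  simp only [a1, a2, a3, a4, a5] at q1 q2 q3 q4
  rw [hfh (x i0) (y i1), a7, a2] at q2
  rw [hfh (x i0) (y i2), a7] at q4
  rw [hfg (y i0) (x i0 + x i2 + y i2), a3, a6, hfg (x i0 + x i2) (y i2), a8, a4] at q3
  simp only [beta_eq_dot, x, y, Prod.fst_add, Prod.snd_add, dot_add, add_dot, zero_dot, dot_zero,
    dot_single, Pi.single_eq_same, Pi.single_eq_of_ne h02, Pi.single_eq_of_ne h02.symm, add_zero,
    zero_add, map_add, LinearMap.add_apply, Pi.zero_apply] at q1 q2 q3 q4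
  generalize fh (x i2) = t1, fh (y i2) = t2, fh (y i1) = t3, fh (x i0) = t4, fg (y i0) = t5,
    fg (x i0 + x i2) = t6, fg (y i2) = t7 at q1 q2 q3 q4
  revert t1 t2 t3 t4 t5 t6 t7
  decide

end Cfsg.Agent.Lib.LocalEven2.PlusModel
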