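import Cfsg.Agent.Lib.LocalEven2.PlusModel
import Cfsg.Agent.Lib.Cores.Frattini
import Cfsg.Prelude.Def_Transfer

/-!
# The group of the model is extraspecial of plus type; hyperbolic coordinates
-/

set_option autoImplicit false
set_option linter.unusedSectionVars false

namespace Cfsg.Agent.Lib.LocalEven2.PlusModel

open scoped commutatorElement

variable {n : ℕ}

theorem eq_of_ne_zero : ∀ a b : ZMod 2, a ≠ 0 → b ≠ 0 → a = b := by decide

instance finite_gl : Finite (GLn n) :=
  Finite.of_injective (fun M : GLn n => (M : Spc n → Spc n)) DFunLike.coe_injective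

/-- The extraspecial group. -/
def qm (n : ℕ) : Subgroup (GLn n) where
  carrier := {M | ∃ c u, M = el c u}
  one_mem' := ⟨0, 0, el_zero.symm⟩
  mul_mem' := by
    rintro _ _ ⟨c, u, rfl⟩ ⟨d, v, rfl⟩
    exact ⟨_, _, el_mul c d u v⟩
  inv_mem' := by
    rintro _ ⟨c, u, rfl⟩
    exact ⟨_, _, el_inv c u⟩

theorem el_mem (c : ZMod 2) (u : Vec n) : el c u ∈ qm n := ⟨c, u, rfl⟩

/-- The element as a member of the group. -/
def elQ (c : ZMod 2) (u : Vec n) : ↥(qm n) := ⟨el c u, el_mem c u⟩

theorem elQ_bijective : Function.Bijective (fun p : ZMod 2 × Vec n => elQ p.1 p.2) := by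
  refine ⟨fun p q h => ?_, fun ⟨M, c, u, h⟩ => ⟨(c, u), Subtype.ext h.symm⟩⟩
  obtain ⟨h1, h2⟩ := el_injective (congrArg Subtype.val h)
  exact Prod.ext h1 h2

theorem exists_elQ (a : ↥(qm n)) : ∃ c u, a = elQ c u := by
  obtain ⟨⟨c, u⟩, rfl⟩ := elQ_bijective.2 a
  exact ⟨c, u, rfl⟩

theorem card_qm : Nat.card ↥(qm n) = 2 ^ (2 * n + 1) := by
  rw [← Nat.card_congr (Equiv.ofBijective _ elQ_bijective), Nat.card_prod, Nat.card_prod,
    Nat.card_fun, Nat.card_zmod, Nat.card_fin]
  ring

theorem elQ_mul (c d : ZMod 2) (u v : Vec n) :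
    elQ c u * elQ d v = elQ (c + d + beta n u v) (u + v) :=
  Subtype.ext (el_mul c d u v)

theorem elQ_conj (c d : ZMod 2) (u v : Vec n) :
    elQ c u * elQ d v * (elQ c u)⁻¹ = elQ (d + (beta n u v + beta n v u)) v :=
  Subtype.ext (el_conj c d u v)

theorem elQ_commutator (c d : ZMod 2) (u v : Vec n) :
    ⁅elQ c u, elQ d v⁆ = elQ (beta n u v + beta n v u) 0 := by
  rw [commutatorElement_def, elQ_conj, mul_inv_eq_iff_eq_mul, elQ_mul]
  simp [add_comm]

theorem polar_eq_zero {u : Vec n} (h : ∀ v : Vec n, beta n u v + beta n v u = 0) : u = 0 := by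
  classical
  refine Prod.ext (funext fun i => ?_) (funext fun i => ?_)
  · have := h (0, Pi.single i 1)
    simpa [beta_eq_dot, dot_comm (Pi.single i 1) u.1, dot_single, dot_zero] using this
  · have := h (Pi.single i 1, 0)
    simpa [beta_eq_dot, dot_single, zero_dot] using this

/-- The projection onto the symplectic space. -/
noncomputable def proj (n : ℕ) : ↥(qm n) →* Multiplicative (Vec n) where
  toFun a := Multiplicative.ofAdd ((Equiv.ofBijective _ elQ_bijective).symm a).2
  map_one' := by
    have : (1 : ↥(qm n)) = Equiv.ofBijective _ elQ_bijective ((0, 0) : ZMod 2 × Vec n) :=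
      Subtype.ext el_zero.symm
    rw [this, Equiv.symm_apply_apply]
    rfl
  map_mul' a b := by
    obtain ⟨⟨c, u⟩, rfl⟩ := (Equiv.ofBijective _ elQ_bijective).surjective a
    obtain ⟨⟨d, v⟩, rfl⟩ := (Equiv.ofBijective _ elQ_bijective).surjective b
    have : Equiv.ofBijective _ elQ_bijective (c, u) * Equiv.ofBijective _ elQ_bijective (d, v) =
        Equiv.ofBijective _ elQ_bijective ((c + d + beta n u v, u + v) : ZMod 2 × Vec n) :=
      elQ_mul c d u v
    rw [this, Equiv.symm_apply_apply, Equiv.symm_apply_apply, Equiv.symm_apply_apply]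
    rfl

theorem proj_elQ (c : ZMod 2) (u : Vec n) : proj n (elQ c u) = Multiplicative.ofAdd u := by
  show Multiplicative.ofAdd ((Equiv.ofBijective _ elQ_bijective).symm
    (Equiv.ofBijective _ elQ_bijective ((c, u) : ZMod 2 × Vec n))).2 = _
  rw [Equiv.symm_apply_apply]

theorem proj_surjective : Function.Surjective (proj n) := fun u =>
  ⟨elQ 0 (Multiplicative.toAdd u), by rw [proj_elQ]; rfl⟩

theorem center_eq_ker : Subgroup.center ↥(qm n) = (proj n).ker := by
  ext a
  obtain ⟨c, u, rfl⟩ := exists_elQ a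
  rw [MonoidHom.mem_ker, proj_elQ, ofAdd_eq_one, Subgroup.mem_center_iff]
  constructor
  · intro h
    refine polar_eq_zero fun v => ?_
    have h2 : ⁅elQ c u, elQ 0 v⁆ = 1 := commutatorElement_eq_one_iff_mul_comm.mpr (h _).symm
    rw [elQ_commutator] at h2
    exact (el_injective ((congrArg Subtype.val h2).trans el_zero.symm)).1
  · rintro rfl b
    obtain ⟨d, v, rfl⟩ := exists_elQ b
    rw [elQ_mul, elQ_mul]
    simp [add_comm]

theorem card_center : Nat.card (Subgroup.center ↥(qm n)) = 2 := by
  have h := Subgroup.card_eq_card_quotient_mul_card_subgroup (proj n).ker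
  rw [Nat.card_congr (QuotientGroup.quotientKerEquivOfSurjective _ proj_surjective).toEquiv,
    card_qm, Nat.card_congr Multiplicative.toAdd, Nat.card_prod, Nat.card_fun, Nat.card_zmod,
    Nat.card_fin, ← pow_add, ← two_mul, pow_succ] at h
  rw [center_eq_ker]
  exact (Nat.eq_of_mul_eq_mul_left (by positivity) h).symm

theorem isPGroup_qm : IsPGroup 2 ↥(qm n) := IsPGroup.of_card card_qm

theorem isExtraspecial_qm (hn : 1 ≤ n) : Cfsg.IsExtraspecial 2 ↥(qm n) := by
  classical
  haveI : Fact (Nat.Prime 2) := ⟨Nat.prime_two⟩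
  haveI : Group.IsNilpotent ↥(qm n) := isPGroup_qm.isNilpotent
  have hcc : commutator ↥(qm n) ≤ Subgroup.center ↥(qm n) := by
    rw [commutator_def, Subgroup.commutator_le]
    intro a _ b _
    obtain ⟨c, u, rfl⟩ := exists_elQ a
    obtain ⟨d, v, rfl⟩ := exists_elQ b
    rw [elQ_commutator, center_eq_ker, MonoidHom.mem_ker, proj_elQ]
    rfl
  have hcomm : commutator ↥(qm n) = Subgroup.center ↥(qm n) := by
    refine Subgroup.eq_of_le_of_card_ge hcc ?_
    rw [card_center]
    let i : Fin n := ⟨0, hn⟩
    have hmem : ⁅elQ 0 ((Pi.single i 1, 0) : Vec n), elQ 0 ((0, Pi.single i 1) : Vec n)⁆ ∈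
        commutator ↥(qm n) :=
      Subgroup.commutator_mem_commutator (Subgroup.mem_top _) (Subgroup.mem_top _)
    rw [elQ_commutator] at hmem
    refine Nat.succ_le_of_lt ((Subgroup.one_lt_card_iff_ne_bot _).mpr fun h => ?_)
    rw [h, Subgroup.mem_bot] at hmem
    have := (el_injective ((congrArg Subtype.val hmem).trans el_zero.symm)).1
    simp [beta_eq_dot, dot_zero, dot_single] at this
  refine ⟨⟨isPGroup_qm, le_antisymm ?_ ?_, hcomm⟩, card_center⟩
  · intro a ha
    obtain ⟨c, u, rfl⟩ := exists_elQ a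
    rw [center_eq_ker, MonoidHom.mem_ker, proj_elQ, ofAdd_eq_one]
    refine polar_eq_zero fun v => ?_
    let χ : Multiplicative (Vec n) →* Multiplicative (ZMod 2) :=
      AddMonoidHom.toMultiplicative ((beta n).flip v + beta n v).toAddMonoidHom
    by_contra hne
    set K := (χ.comp (proj n)).ker with hK
    have hsurj : Function.Surjective (χ.comp (proj n)) := by
      intro t
      obtain ⟨t, rfl⟩ := Multiplicative.ofAdd.surjective t
      by_cases ht : t = 0
      · exact ⟨1, by rw [map_one, ht]; rfl⟩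
      · refine ⟨elQ c u, ?_⟩
        show χ (proj n (elQ c u)) = _
        rw [proj_elQ]
        refine congrArg Multiplicative.ofAdd (show beta n u v + beta n v u = t from ?_)
        exact eq_of_ne_zero _ _ hne ht
    have hidx : K.index = 2 := by
      rw [hK, Subgroup.index_ker, MonoidHom.range_eq_top.mpr hsurj, Subgroup.card_top,
        Nat.card_congr Multiplicative.toAdd, Nat.card_zmod]
    have hco : IsCoatom K := by
      refine ⟨fun h => by rw [h, Subgroup.index_top] at hidx; exact absurd hidx (by norm_num),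
        fun L hL => ?_⟩
      have h2 := Subgroup.relIndex_mul_index hL.le
      rw [hidx] at h2
      rcases (Nat.dvd_prime Nat.prime_two).mp ⟨_, h2.symm⟩ with h1 | h1
      · exact absurd (Subgroup.relIndex_eq_one.mp h1) hL.not_ge
      · rw [h1] at h2
        exact Subgroup.index_eq_one.mp (by omega)
    have := frattini_le_coatom hco ha
    rw [hK, MonoidHom.mem_ker, MonoidHom.comp_apply, proj_elQ] at this
    exact hne (Multiplicative.ofAdd.injective this)
  · rw [← hcomm]; exact Cores.commutator_le_frattini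

theorem elQ_sq_iff (c : ZMod 2) (u : Vec n) : elQ c u * elQ c u = 1 ↔ beta n u u = 0 := by
  rw [elQ_mul, self_add u, self_add c, zero_add]
  constructor
  · intro h; exact (el_injective ((congrArg Subtype.val h).trans el_zero.symm)).1
  · intro h; rw [h]; exact Subtype.ext el_zero

/-- Hyperbolic coordinates for a quadratic form of plus type. -/
theorem exists_coordinates {U : Type*} [AddCommGroup U] [Module (ZMod 2) U]
    [Module.Finite (ZMod 2) U] (hn : Module.finrank (ZMod 2) U = 2 * n)
    (q : QuadraticForm (ZMod 2) U) (hnd : (QuadraticMap.polarBilin q).Nondegenerate)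
    (hplus : ∃ W : Submodule (ZMod 2) U, Module.finrank (ZMod 2) ↥W = n ∧ ∀ w ∈ W, q w = 0) :
    ∃ Φ : Vec n ≃ₗ[ZMod 2] U, ∀ u, q (Φ u) = beta n u u := by
  classical
  obtain ⟨W, hW, hq0⟩ := hplus
  set B := QuadraticMap.polarBilin q with hB
  let bW : Module.Basis (Fin n) (ZMod 2) W := Module.finBasisOfFinrankEq _ _ hW
  have hex : ∀ i, ∃ u : U, ∀ j, B u (bW j) = if j = i then 1 else 0 := by
    intro i
    obtain ⟨φ, hφ⟩ := LinearMap.dualMap_surjective_of_injective W.subtype_injective (bW.coord i)
    refine ⟨(LinearMap.BilinForm.toDual B hnd).symm φ, fun j => ?_⟩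
    rw [show B ((LinearMap.BilinForm.toDual B hnd).symm φ) (bW j) = φ (bW j) from
      LinearMap.BilinForm.apply_toDual_symm_apply φ _]
    have := LinearMap.congr_fun hφ (bW j)
    rw [LinearMap.dualMap_apply, Submodule.subtype_apply] at this
    rw [this, Module.Basis.coord_apply, Module.Basis.repr_self, Finsupp.single_apply]
  choose u hu using hex
  have hWW : ∀ a ∈ W, ∀ b ∈ W, B a b = 0 := by
    intro a ha b hb
    have := QuadraticMap.map_add q a b
    rw [hq0 a ha, hq0 b hb, hq0 _ (W.add_mem ha hb), zero_add, zero_add] at this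
    exact this.symm
  have hsymB : ∀ a b, B a b = B b a := fun a b => QuadraticMap.polar_comm q a b
  set c : Fin n → Fin n → ZMod 2 := fun i j =>
    if i = j then q (u i) else if i < j then B (u i) (u j) else 0 with hc
  set w : Fin n → U := fun i => ∑ j, c i j • (bW j : U) with hw
  have hwW : ∀ i, w i ∈ W := fun i => W.sum_mem fun j _ => W.smul_mem _ (bW j).2
  have huw : ∀ i k, B (u i) (w k) = c k i := by
    intro i k
    simp [hw, hu]
  set u' : Fin n → U := fun i => u i + w i with hu'
  have hu'w : ∀ i j, B (u' i) (bW j) = if j = i then 1 else 0 := fun i j => by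
    simp [hu', hu, hWW _ (hwW i) _ (bW j).2]
  have hu'q : ∀ i, q (u' i) = 0 := by
    intro i
    show q (u i + w i) = 0
    rw [QuadraticMap.map_add q, hq0 _ (hwW i), add_zero,
      show QuadraticMap.polar q (u i) (w i) = B (u i) (w i) from rfl, huw]
    simp [hc, self_add]
  have hu'u' : ∀ i k, i ≠ k → B (u' i) (u' k) = 0 := by
    intro i k hik
    simp only [hu', map_add, LinearMap.add_apply, hWW _ (hwW i) _ (hwW k), add_zero]
    rw [huw, hsymB (w i) (u k), huw]
    simp only [hc, if_neg hik, if_neg hik.symm]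
    rcases lt_or_gt_of_ne hik with h | h
    · simp [h, h.not_gt, self_add]
    · simp [h, h.not_gt, hsymB (u k) (u i), self_add]
  set f : Vec n →ₗ[ZMod 2] U :=
    (Fintype.linearCombination (ZMod 2) u').comp (LinearMap.fst _ _ _) +
      (Fintype.linearCombination (ZMod 2) fun i => (bW i : U)).comp (LinearMap.snd _ _ _) with hf
  have hfap : ∀ v : Vec n, f v = (∑ i, v.1 i • u' i) + ∑ i, v.2 i • (bW i : U) := fun v => by
    simp [hf, Fintype.linearCombination_apply]
  have hfB : ∀ (v : Vec n) j, B (f v) (bW j) = v.1 j := by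
    intro v j
    simp [hfap, hu'w, hWW _ (bW _).2 _ (bW j).2]
  have hfinj : Function.Injective f := by
    rw [injective_iff_map_eq_zero]
    intro v hv
    have h1 : v.1 = 0 := funext fun j => by rw [← hfB v j, hv]; simp
    refine Prod.ext h1 ?_
    rw [hfap, h1] at hv
    simp only [Pi.zero_apply, zero_smul, Finset.sum_const_zero, zero_add] at hv
    have h2 : ∑ i, v.2 i • bW i = 0 := W.subtype_injective (by simpa using hv)
    exact funext fun i => Fintype.linearIndependent_iff.mp bW.linearIndependent v.2 h2 i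
  have hdim : Module.finrank (ZMod 2) (Vec n) = Module.finrank (ZMod 2) U := by
    simp [hn, two_mul]
  refine ⟨LinearEquiv.ofInjectiveOfFinrankEq f hfinj hdim, fun v => ?_⟩
  rw [show LinearEquiv.ofInjectiveOfFinrankEq f hfinj hdim v = f v from rfl, hfap,
    QuadraticMap.map_add q,
    show QuadraticMap.polar q (∑ i, v.1 i • u' i) (∑ i, v.2 i • (bW i : U)) =
      B (∑ i, v.1 i • u' i) (∑ i, v.2 i • (bW i : U)) from rfl,
    hq0 _ (W.sum_mem fun j _ => W.smul_mem _ (bW j).2), add_zero]
  have hsum : ∀ s : Finset (Fin n), q (∑ i ∈ s, v.1 i • u' i) = 0 := by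
    intro s
    induction s using Finset.induction_on with
    | empty => simp
    | insert i s his ih =>
      rw [Finset.sum_insert his, QuadraticMap.map_add q, QuadraticMap.map_smul, hu'q, ih,
        show QuadraticMap.polar q (v.1 i • u' i) (∑ j ∈ s, v.1 j • u' j) =
          B (v.1 i • u' i) (∑ j ∈ s, v.1 j • u' j) from rfl]
      simp only [map_smul, map_sum, LinearMap.smul_apply, smul_zero, zero_add]
      exact Finset.sum_eq_zero fun j hj => by rw [hu'u' i j (fun e => his (e ▸ hj))]; simp
  rw [hsum, zero_add, beta_apply]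
  simp [hu'w, mul_comm]

end Cfsg.Agent.Lib.LocalEven2.PlusModel
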