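import Cfsg.Agent.Lib.LocalEven2.PlusExtra
import Cfsg.Prelude.Def_PLocal

/-!
# Every extraspecial 2-group of plus type is isomorphic to the model
-/

set_option autoImplicit false
set_option linter.unusedSectionVars false
set_option linter.style.haveILetI false

namespace Cfsg.Agent.Lib.LocalEven2.PlusModel

open scoped commutatorElement

section

variable {Q : Type*} [Group Q] [Finite Q]

/-- `0` on the identity and `1` elsewhere. -/
noncomputable def sig (a : Q) : ZMod 2 :=
  letI := Classical.propDecidable (a = 1)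
  if a = 1 then 0 else 1

theorem sig_one : sig (1 : Q) = 0 := by
  classical simp [sig]

theorem sig_eq_zero {a : Q} : sig a = 0 ↔ a = 1 := by
  classical
  by_cases h : a = 1 <;> simp [sig, h]

theorem center_cases (hQ : Cfsg.IsExtraspecial 2 Q) :
    ∃ z : Q, z ≠ 1 ∧ z * z = 1 ∧ z ∈ Subgroup.center Q ∧
      ∀ c ∈ Subgroup.center Q, c = 1 ∨ c = z := by
  obtain ⟨x, y, hxy, hu⟩ := Nat.card_eq_two_iff.1 hQ.2
  obtain ⟨z, hz⟩ : ∃ z : Subgroup.center Q, z ≠ 1 := by
    by_cases hx : x = 1
    · exact ⟨y, fun hy => hxy (hx.trans hy.symm)⟩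
    · exact ⟨x, hx⟩
  have hall : ∀ c : Subgroup.center Q, c = 1 ∨ c = z := by
    intro c
    have a1 := Set.mem_univ c
    have a2 := Set.mem_univ z
    have a3 := Set.mem_univ (1 : Subgroup.center Q)
    rw [← hu] at a1 a2 a3
    simp only [Set.mem_insert_iff, Set.mem_singleton_iff] at a1 a2 a3
    grind
  refine ⟨z, fun h => hz (Subtype.ext h), ?_, z.2, fun c hc => ?_⟩
  · rcases hall (z * z) with h | h
    · exact congrArg Subtype.val h
    · exact absurd (mul_eq_left.mp h) hz
  · rcases hall ⟨c, hc⟩ with h | h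
    · exact Or.inl (congrArg Subtype.val h)
    · exact Or.inr (congrArg Subtype.val h)

theorem sig_mul (hQ : Cfsg.IsExtraspecial 2 Q) {a b : Q} (ha : a ∈ Subgroup.center Q)
    (hb : b ∈ Subgroup.center Q) : sig (a * b) = sig a + sig b := by
  classical
  obtain ⟨z, hz, hzz, -, hall⟩ := center_cases hQ
  rcases hall a ha with rfl | rfl <;> rcases hall b hb with h | h <;> subst h <;>
    simp [sig, hz, hzz] <;> rfl

theorem commutator_mem (hQ : Cfsg.IsExtraspecial 2 Q) (a b : Q) :
    ⁅a, b⁆ ∈ Subgroup.center Q :=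
  hQ.1.2.2 ▸ Subgroup.commutator_mem_commutator (Subgroup.mem_top a) (Subgroup.mem_top b)

theorem commutator_mul_left (hQ : Cfsg.IsExtraspecial 2 Q) (a b c : Q) :
    ⁅a * b, c⁆ = ⁅a, c⁆ * ⁅b, c⁆ := by
  have h := Subgroup.mem_center_iff.1 (commutator_mem hQ b c) a
  have h1 : ⁅a * b, c⁆ = a * ⁅b, c⁆ * a⁻¹ * ⁅a, c⁆ := by
    simp only [commutatorElement_def]; group
  rw [h1, h, mul_inv_cancel_right]
  exact (Subgroup.mem_center_iff.1 (commutator_mem hQ b c) _).symm

theorem sq_mem_center (hQ : Cfsg.IsExtraspecial 2 Q) (a : Q) : a * a ∈ Subgroup.center Q := by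
  obtain ⟨z, -, hzz, -, hall⟩ := center_cases hQ
  rw [Subgroup.mem_center_iff]
  intro b
  have h2 : ⁅a * a, b⁆ = 1 := by
    rw [commutator_mul_left hQ]
    rcases hall _ (commutator_mem hQ a b) with h | h <;> simp [h, hzz]
  exact (commutatorElement_eq_one_iff_mul_comm.mp h2).symm

theorem comm_inv (hQ : Cfsg.IsExtraspecial 2 Q) (a b : Q) : ⁅a, b⁆ = ⁅b, a⁆ := by
  obtain ⟨z, -, hzz, -, hall⟩ := center_cases hQ
  have h1 : (⁅b, a⁆)⁻¹ = ⁅a, b⁆ := commutatorElement_inv b a
  rcases hall _ (commutator_mem hQ b a) with h | h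
  · rw [← h1, h, inv_one]
  · rw [← h1, h, inv_eq_of_mul_eq_one_right hzz]

theorem sq_mul (hQ : Cfsg.IsExtraspecial 2 Q) (a b : Q) :
    a * b * (a * b) = a * a * (b * b) * ⁅b, a⁆ := by
  have hc := Subgroup.mem_center_iff.1 (commutator_mem hQ b a)
  calc a * b * (a * b) = a * (⁅b, a⁆ * a) * b * b := by
        simp only [commutatorElement_def]; group
    _ = a * (a * ⁅b, a⁆) * (b * b) := by rw [hc a]; group
    _ = a * a * (⁅b, a⁆ * (b * b)) := by group
    _ = _ := by rw [← hc (b * b)]; group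

end

/-- An extraspecial 2-group of plus type is a copy of the model. -/
theorem exists_model_equiv {Q : Type*} [Group Q] [Finite Q] {n : ℕ}
    (hQ : Cfsg.IsExtraspecial 2 Q) (hcard : Nat.card Q = 2 ^ (2 * n + 1))
    (hplus : ∃ E : Subgroup Q, Cfsg.IsElementaryAbelian 2 E ∧ Nat.card ↥E = 2 ^ (n + 1)) :
    Nonempty (↥(qm n) ≃* Q) := by
  classical
  obtain ⟨z, hz1, hzz, hzc, hall⟩ := center_cases hQ
  letI : CommGroup (Q ⧸ Subgroup.center Q) :=
    { (inferInstance : Group (Q ⧸ Subgroup.center Q)) with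
      mul_comm := fun x y => by
        obtain ⟨a, rfl⟩ := QuotientGroup.mk_surjective x
        obtain ⟨b, rfl⟩ := QuotientGroup.mk_surjective y
        rw [← QuotientGroup.mk_mul, ← QuotientGroup.mk_mul, QuotientGroup.eq]
        have : (a * b)⁻¹ * (b * a) = ⁅b⁻¹, a⁻¹⁆ := by simp only [commutatorElement_def]; group
        rw [this]
        exact commutator_mem hQ _ _ }
  let U := Additive (Q ⧸ Subgroup.center Q)
  let π : Q → U := fun a => Additive.ofMul (QuotientGroup.mk a)
  have hπm : ∀ a b, π (a * b) = π a + π b := fun a b => rfl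
  have hπ0 : ∀ a, π a = 0 ↔ a ∈ Subgroup.center Q := fun a => by
    show (QuotientGroup.mk a : Q ⧸ Subgroup.center Q) = 1 ↔ _
    rw [QuotientGroup.eq_one_iff]
  have hπ1 : π 1 = 0 := (hπ0 1).mpr (one_mem _)
  have hπs : Function.Surjective π := fun u => by
    obtain ⟨a, ha⟩ := QuotientGroup.mk_surjective (Additive.toMul u)
    exact ⟨a, by simp only [π, ha]; rfl⟩
  letI : Module (ZMod 2) U := AddCommGroup.zmodModule fun u => by
    obtain ⟨a, rfl⟩ := hπs u
    rw [two_nsmul, ← hπm, hπ0]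
    exact sq_mem_center hQ a
  haveI : Finite U := Finite.of_surjective π hπs
  haveI : Module.Finite (ZMod 2) U := Module.Finite.of_finite
  let lift : U → Q := fun u => (hπs u).choose
  have hlift : ∀ u, π (lift u) = u := fun u => (hπs u).choose_spec
  have hsame : ∀ a b : Q, π a = π b → ∃ c ∈ Subgroup.center Q, b = a * c := fun a b h =>
    ⟨a⁻¹ * b, QuotientGroup.eq.1 (Additive.ofMul.injective h), by group⟩
  let qf : U → ZMod 2 := fun u => sig (lift u * lift u)
  have hqf : ∀ a, qf (π a) = sig (a * a) := by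
    intro a
    obtain ⟨c, hc, hca⟩ := hsame a (lift (π a)) (hlift _).symm
    show sig (lift (π a) * lift (π a)) = _
    rw [hca, show a * c * (a * c) = a * a * (c * c) from by
      calc a * c * (a * c) = a * (c * a) * c := by group
        _ = a * (a * c) * c := by rw [Subgroup.mem_center_iff.1 hc a]
        _ = _ := by group]
    rcases hall c hc with rfl | rfl <;> simp [hzz]
  let Bf : U → U → ZMod 2 := fun u v => sig ⁅lift u, lift v⁆
  have hBcomm : ∀ a b : Q, sig ⁅b, a⁆ = sig ⁅a, b⁆ := fun a b => by rw [comm_inv hQ]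
  have hBl : ∀ a a' b : Q, sig ⁅a * a', b⁆ = sig ⁅a, b⁆ + sig ⁅a', b⁆ := fun a a' b => by
    rw [commutator_mul_left hQ, sig_mul hQ (commutator_mem hQ a b) (commutator_mem hQ a' b)]
  have hBc : ∀ a b c : Q, c ∈ Subgroup.center Q → sig ⁅a * c, b⁆ = sig ⁅a, b⁆ := by
    intro a b c hc
    rw [hBl, show sig ⁅c, b⁆ = 0 from sig_eq_zero.mpr (commutatorElement_eq_one_iff_mul_comm.mpr
      (Subgroup.mem_center_iff.1 hc b).symm), add_zero]
  have hBf : ∀ a b, Bf (π a) (π b) = sig ⁅a, b⁆ := by
    intro a b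
    obtain ⟨c, hc, hca⟩ := hsame a (lift (π a)) (hlift _).symm
    obtain ⟨d, hd, hdb⟩ := hsame b (lift (π b)) (hlift _).symm
    show sig ⁅lift (π a), lift (π b)⁆ = _
    rw [hca, hdb, hBc _ _ _ hc, hBcomm, hBc _ _ _ hd, hBcomm]
  have hBadd : ∀ u u' v, Bf (u + u') v = Bf u v + Bf u' v := by
    intro u u' v
    obtain ⟨a, rfl⟩ := hπs u
    obtain ⟨a', rfl⟩ := hπs u'
    obtain ⟨b, rfl⟩ := hπs v
    rw [← hπm, hBf, hBf, hBf, hBl]
  have hBsym : ∀ u v, Bf u v = Bf v u := fun u v => hBcomm _ _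
  have hqadd : ∀ u v, qf (u + v) = qf u + qf v + Bf u v := by
    intro u v
    obtain ⟨a, rfl⟩ := hπs u
    obtain ⟨b, rfl⟩ := hπs v
    rw [← hπm, hqf, hqf, hqf, hBf, sq_mul hQ,
      sig_mul hQ (mul_mem (sq_mem_center hQ a) (sq_mem_center hQ b)) (commutator_mem hQ b a),
      sig_mul hQ (sq_mem_center hQ a) (sq_mem_center hQ b), hBcomm]
  have hqf0 : qf 0 = 0 := by rw [← hπ1, hqf, mul_one, sig_one]
  let B : LinearMap.BilinForm (ZMod 2) U :=
    AddMonoidHom.toZModLinearMap 2 (AddMonoidHom.mk'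
      (fun u => AddMonoidHom.toZModLinearMap 2 (AddMonoidHom.mk' (Bf u) fun v v' => by
        rw [hBsym, hBadd, hBsym v u, hBsym v' u]))
      fun u u' => LinearMap.ext fun v => hBadd u u' v)
  have hB : ∀ u v, B u v = Bf u v := fun _ _ => rfl
  let q : QuadraticForm (ZMod 2) U :=
    { toFun := qf
      toFun_smul := fun a u => by
        rcases (by decide : ∀ a : ZMod 2, a = 0 ∨ a = 1) a with rfl | rfl
        · simp [hqf0]
        · simp
      exists_companion' := ⟨B, fun u v => by rw [hqadd, hB]⟩ }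
  have hq : ∀ u, q u = qf u := fun _ => rfl
  have hpol : ∀ u v, QuadraticMap.polarBilin q u v = Bf u v := fun u v => by
    rw [QuadraticMap.polarBilin_apply_apply, QuadraticMap.polar, hq, hq, hq, hqadd]
    ring
  have hnd : (QuadraticMap.polarBilin q).Nondegenerate := by
    have hsep : ∀ u, (∀ v, QuadraticMap.polarBilin q u v = 0) → u = 0 := by
      intro u hu
      obtain ⟨a, rfl⟩ := hπs u
      refine (hπ0 a).mpr (Subgroup.mem_center_iff.mpr fun b => ?_)
      have h := hu (π b)
      rw [hpol, hBf, sig_eq_zero, commutatorElement_eq_one_iff_mul_comm] at h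
      exact h.symm
    refine ⟨hsep, fun v hv => hsep v fun u => ?_⟩
    have := hv u
    rwa [hpol, hBsym, ← hpol] at this
  have hcardU : Nat.card U = 2 ^ (2 * n) := by
    have h := Subgroup.card_eq_card_quotient_mul_card_subgroup (Subgroup.center Q)
    rw [hcard, hQ.2, pow_succ] at h
    exact (Nat.eq_of_mul_eq_mul_right two_pos h).symm
  have hfin : Module.finrank (ZMod 2) U = 2 * n := by
    rw [Module.natCard_eq_pow_finrank (K := ZMod 2), Nat.card_zmod] at hcardU
    exact Nat.pow_right_injective le_rfl hcardU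
  -- the singular subspace
  obtain ⟨E, hE, hEcard⟩ := hplus
  have hEadd : ∀ u ∈ π '' E, ∀ v ∈ π '' E, u + v ∈ π '' E := by
    rintro _ ⟨a, ha, rfl⟩ _ ⟨b, hb, rfl⟩
    exact ⟨a * b, mul_mem ha hb, hπm a b⟩
  let W : Submodule (ZMod 2) U :=
    { carrier := π '' E
      add_mem' := fun {u v} hu hv => hEadd u hu v hv
      zero_mem' := ⟨1, one_mem _, hπ1⟩
      smul_mem' := fun c u hu => by
        rcases (by decide : ∀ a : ZMod 2, a = 0 ∨ a = 1) c with rfl | rfl
        · rw [zero_smul]; exact ⟨1, one_mem _, hπ1⟩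
        · rw [one_smul]; exact hu }
  have hWq : ∀ w ∈ W, q w = 0 := by
    rintro _ ⟨a, ha, rfl⟩
    rw [hq, hqf, sig_eq_zero, ← pow_two]
    exact hE.2 a ha
  have hWdim : Module.finrank (ZMod 2) W = n := by
    apply le_antisymm
    · have horth : W ≤ LinearMap.BilinForm.orthogonal (QuadraticMap.polarBilin q) W := by
        intro w hw v hv
        show QuadraticMap.polarBilin q v w = 0
        have h2 := hqadd v w
        rw [← hq, ← hq, ← hq, hWq v hv, hWq w hw, hWq _ (W.add_mem hv hw), zero_add, zero_add] at h2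
        rw [hpol]; exact h2.symm
      have h3 := LinearMap.BilinForm.finrank_orthogonal hnd W
      have h4 := Submodule.finrank_mono horth
      omega
    · have hsurj : Function.Surjective (fun a : E => (⟨π a, ⟨a, a.2, rfl⟩⟩ : W)) := by
        rintro ⟨_, a, ha, rfl⟩
        exact ⟨⟨a, ha⟩, rfl⟩
      let φ : E →* Multiplicative W :=
        MonoidHom.mk' (fun a => Multiplicative.ofAdd (⟨π a, ⟨a, a.2, rfl⟩⟩ : W)) fun a b => rfl
      have hker : Nat.card φ.ker ≤ 2 := by
        refine le_trans (Nat.card_le_card_of_injective (fun a => (⟨((a : E) : Q), (hπ0 _).mp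
          (congrArg Subtype.val (Multiplicative.ofAdd.injective a.2))⟩ : Subgroup.center Q))
          fun a b h => Subtype.ext (Subtype.ext (Subtype.mk.inj h))) hQ.2.le
      have h := Subgroup.card_eq_card_quotient_mul_card_subgroup φ.ker
      have hφs : Function.Surjective φ := fun w => hsurj (Multiplicative.toAdd w)
      rw [Nat.card_congr (QuotientGroup.quotientKerEquivOfSurjective φ hφs).toEquiv, hEcard,
        Nat.card_congr Multiplicative.toAdd, Module.natCard_eq_pow_finrank (K := ZMod 2),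
        Nat.card_zmod] at h
      have : 2 ^ (n + 1) ≤ 2 ^ (Module.finrank (ZMod 2) W + 1) := by
        rw [h, pow_succ]
        exact Nat.mul_le_mul_left _ hker
      have := (Nat.pow_le_pow_iff_right Nat.one_lt_two).mp this
      omega
  obtain ⟨Φ, hΦ⟩ := exists_coordinates hfin q hnd ⟨W, hWdim, hWq⟩
  -- sections on the two halves
  have hsec : ∀ j : Crd n →ₗ[ZMod 2] U, (∀ x, q (j x) = 0) →
      ∃ s : Crd n → Q, (∀ x, π (s x) = j x) ∧ ∀ x y, s (x + y) = s x * s y := by
    intro j hj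
    let P : Subgroup Q :=
      { carrier := {a | ∃ x, π a = j x}
        one_mem' := ⟨0, by rw [hπ1, map_zero]⟩
        mul_mem' := fun {a b} ⟨x, hx⟩ ⟨y, hy⟩ => ⟨x + y, by rw [hπm, hx, hy, map_add]⟩
        inv_mem' := fun {a} ⟨x, hx⟩ => ⟨x, by
          have h := hπm a⁻¹ a
          rw [inv_mul_cancel, hπ1, hx] at h
          calc π a⁻¹ = π a⁻¹ + (j x + j x) := by rw [self_add (j x), add_zero]
            _ = (π a⁻¹ + j x) + j x := (add_assoc _ _ _).symm
            _ = _ := by rw [← h, zero_add]⟩ }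
    have hsq : ∀ a : P, a * a = 1 := fun a => Subtype.ext (by
      obtain ⟨x, hx⟩ := a.2
      have h := hqf (a : Q)
      rw [hx, ← hq, hj] at h
      exact sig_eq_zero.mp h.symm)
    have hcm : ∀ a b : P, a * b = b * a := fun a b => by
      calc a * b = (a * b)⁻¹ := (inv_eq_of_mul_eq_one_right (hsq _)).symm
        _ = _ := by rw [mul_inv_rev, inv_eq_of_mul_eq_one_right (hsq a),
          inv_eq_of_mul_eq_one_right (hsq b)]
    letI : CommGroup P := { (inferInstance : Group P) with mul_comm := hcm }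
    letI : Module (ZMod 2) (Additive P) := AddCommGroup.zmodModule fun u => by
      rw [two_nsmul]; exact hsq (Additive.toMul u)
    let b := Pi.basisFun (ZMod 2) (Fin n)
    let s₀ : Crd n →ₗ[ZMod 2] Additive P :=
      b.constr ℕ fun i => Additive.ofMul (⟨lift (j (b i)), b i, hlift _⟩ : P)
    let πP : Additive P →ₗ[ZMod 2] U := AddMonoidHom.toZModLinearMap 2
      (AddMonoidHom.mk' (fun a => π ((Additive.toMul a : P) : Q)) fun a b => hπm _ _)
    have hcomp : πP.comp s₀ = j := b.ext fun i => by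
      show π (((Additive.toMul (s₀ (b i))) : P) : Q) = _
      simp only [s₀, Module.Basis.constr_basis, toMul_ofMul, hlift]
    exact ⟨fun x => ((Additive.toMul (s₀ x) : P) : Q), fun x => LinearMap.congr_fun hcomp x,
      fun x y => by simp [map_add]⟩
  obtain ⟨sx, hsx, hsxa⟩ := hsec (Φ.toLinearMap.comp (LinearMap.inl _ _ _)) fun x => by
    simp [hΦ, beta_eq_dot, zero_dot]
  obtain ⟨sy, hsy, hsya⟩ := hsec (Φ.toLinearMap.comp (LinearMap.inr _ _ _)) fun y => by
    simp [hΦ, beta_eq_dot, dot_zero]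
  let zp : ZMod 2 → Q := fun c => if c = 0 then 1 else z
  have hzp : ∀ c d, zp (c + d) = zp c * zp d := fun c d => by
    rcases (by decide : ∀ a : ZMod 2, a = 0 ∨ a = 1) c with rfl | rfl <;>
      rcases (by decide : ∀ a : ZMod 2, a = 0 ∨ a = 1) d with rfl | rfl <;>
        simp [zp, hzz, show (1 : ZMod 2) + 1 = 0 from rfl]
  have hzpc : ∀ c, zp c ∈ Subgroup.center Q := fun c => by
    by_cases h : c = 0 <;> simp [zp, h, hzc, one_mem]
  have hzps : ∀ c, c ∈ Subgroup.center Q → zp (sig c) = c := fun c hc => by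
    rcases hall c hc with rfl | rfl <;> simp [zp, sig, hz1]
  have hswap : ∀ x y, sy y * sx x = zp (dot y x) * (sx x * sy y) := by
    intro x y
    have hs : sig ⁅sy y, sx x⁆ = dot y x := by
      rw [← hBf, hsx, hsy, ← hpol, QuadraticMap.polarBilin_apply_apply, QuadraticMap.polar]
      simp only [LinearMap.comp_apply, LinearEquiv.coe_coe, LinearMap.inl_apply,
        LinearMap.inr_apply, ← map_add, hΦ]
      simp [beta_eq_dot, zero_dot, dot_zero]
    rw [← hs, hzps _ (commutator_mem hQ _ _), commutatorElement_def]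
    group
  let pr : ↥(qm n) → ZMod 2 × Vec n := (Equiv.ofBijective _ elQ_bijective).symm
  have hpr : ∀ c u, pr (elQ c u) = (c, u) := fun c u =>
    (Equiv.ofBijective _ elQ_bijective).symm_apply_apply (c, u)
  let ψ : ↥(qm n) →* Q := MonoidHom.mk' (fun a => zp (pr a).1 * (sx (pr a).2.1 * sy (pr a).2.2)) (by
    intro a b
    obtain ⟨c, ⟨x, y⟩, rfl⟩ := exists_elQ a
    obtain ⟨d, ⟨x', y'⟩, rfl⟩ := exists_elQ b
    rw [elQ_mul, hpr, hpr, hpr]
    show zp (c + d + dot y x') * (sx (x + x') * sy (y + y')) =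
      zp c * (sx x * sy y) * (zp d * (sx x' * sy y'))
    have h1 := Subgroup.mem_center_iff.1 (hzpc d)
    have h2 := Subgroup.mem_center_iff.1 (hzpc (dot y x'))
    rw [hzp, hzp, hsxa, hsya]
    calc zp c * zp d * zp (dot y x') * (sx x * sx x' * (sy y * sy y'))
        = zp c * zp d * (zp (dot y x') * sx x) * sx x' * sy y * sy y' := by group
      _ = zp c * (zp d * sx x) * (zp (dot y x') * (sx x' * sy y)) * sy y' := by rw [← h2]; group
      _ = zp c * (sx x * (zp d * sy y)) * sx x' * sy y' := by rw [← hswap, ← h1]; group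
      _ = zp c * (sx x * sy y) * (zp d * (sx x' * sy y')) := by rw [← h1 (sy y)]; group)
  have hψ : ∀ c u, ψ (elQ c u) = zp c * (sx u.1 * sy u.2) := fun c u => by
    show zp (pr (elQ c u)).1 * (sx (pr (elQ c u)).2.1 * sy (pr (elQ c u)).2.2) = _
    rw [hpr]
  have hinj : Function.Injective ψ := by
    rw [injective_iff_map_eq_one]
    intro a ha
    obtain ⟨c, ⟨x, y⟩, rfl⟩ := exists_elQ a
    rw [hψ] at ha
    have h1 : π (zp c) + (π (sx x) + π (sy y)) = 0 := by rw [← hπm, ← hπm, ha, hπ1]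
    rw [(hπ0 _).mpr (hzpc c), zero_add, hsx, hsy] at h1
    simp only [LinearMap.comp_apply, LinearEquiv.coe_coe, LinearMap.inl_apply, LinearMap.inr_apply,
      ← map_add, LinearEquiv.map_eq_zero_iff, Prod.mk_add_mk, add_zero, zero_add] at h1
    obtain ⟨rfl, rfl⟩ : x = 0 ∧ y = 0 := Prod.mk_eq_zero.mp h1
    have hs0 : ∀ s : Crd n → Q, (∀ x y, s (x + y) = s x * s y) → s 0 = 1 := fun s hs => by
      have h := hs 0 0
      rw [add_zero] at h
      exact left_eq_mul.mp h
    rw [hs0 sx hsxa, hs0 sy hsya, mul_one, mul_one] at ha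
    have hc : c = 0 := by
      by_contra h
      simp only [zp, if_neg h] at ha
      exact hz1 ha
    subst hc
    exact Subtype.ext el_zero
  have hbij : Function.Bijective ψ :=
    (Nat.bijective_iff_injective_and_card _).mpr ⟨hinj, by rw [card_qm, hcard]⟩
  exact ⟨MulEquiv.ofBijective ψ hbij⟩

end Cfsg.Agent.Lib.LocalEven2.PlusModel
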