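import Mathlib

/-!
# The extraspecial group of plus type as a linear group over the field with three elements

`el c (x, y)` sends `f` to `z ↦ (-1) ^ (c + y · (z + x)) * f (z + x)`.  Automorphisms of the
group they form are realised by conjugation.
-/

set_option autoImplicit false
set_option linter.unusedSectionVars false

namespace Cfsg.Agent.Lib.LocalEven2.PlusModel

variable {n : ℕ}

/-- Coordinates. -/
abbrev Crd (n : ℕ) := Fin n → ZMod 2

/-- The symplectic space. -/
abbrev Vec (n : ℕ) := Crd n × Crd n

/-- The representation space. -/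
abbrev Spc (n : ℕ) := Crd n → ZMod 3

/-- The general linear group of the representation space. -/
abbrev GLn (n : ℕ) := Spc n ≃ₗ[ZMod 3] Spc n

/-- The sign. -/
def sgn (a : ZMod 2) : ZMod 3 := (-1) ^ a.val

theorem sgn_zero : sgn 0 = 1 := rfl

theorem sgn_add (a b : ZMod 2) : sgn (a + b) = sgn a * sgn b := by
  revert a b; decide

theorem sgn_ne_zero (a : ZMod 2) : sgn a ≠ 0 := by
  revert a; decide

theorem sgn_eq_one {a : ZMod 2} (h : sgn a = 1) : a = 0 := by
  revert a; decide

theorem zmod_three_cases (a : ZMod 3) (ha : a ≠ 0) : ∃ c : ZMod 2, a = sgn c := by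
  revert a; decide

theorem two_eq_zero : (2 : ZMod 2) = 0 := rfl

theorem self_add {M : Type*} [AddCommGroup M] [Module (ZMod 2) M] (u : M) : u + u = 0 := by
  rw [← two_smul (ZMod 2) u, show (2 : ZMod 2) = 0 from rfl, zero_smul]

/-- The form `β ((x, y), (x', y')) = y · x'`. -/
def beta (n : ℕ) : LinearMap.BilinForm (ZMod 2) (Vec n) :=
  LinearMap.mk₂ (ZMod 2) (fun u v => ∑ i, u.2 i * v.1 i)
    (fun u u' v => by simp [add_mul, Finset.sum_add_distrib])
    (fun c u v => by simp [Finset.mul_sum, mul_assoc])
    (fun u v v' => by simp [mul_add, Finset.sum_add_distrib])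
    (fun c u v => by simp [Finset.mul_sum, mul_left_comm])

theorem beta_apply (u v : Vec n) : beta n u v = ∑ i, u.2 i * v.1 i := rfl

/-- The dot product. -/
def dot (y z : Crd n) : ZMod 2 := ∑ i, y i * z i

theorem dot_add (y z z' : Crd n) : dot y (z + z') = dot y z + dot y z' := by
  simp [dot, mul_add, Finset.sum_add_distrib]

theorem add_dot (y y' z : Crd n) : dot (y + y') z = dot y z + dot y' z := by
  simp [dot, add_mul, Finset.sum_add_distrib]

theorem dot_comm (y z : Crd n) : dot y z = dot z y := by
  simp [dot, mul_comm]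

theorem beta_eq_dot (u v : Vec n) : beta n u v = dot u.2 v.1 := rfl

theorem dot_single (y : Crd n) (i : Fin n) : dot y (Pi.single i 1) = y i := by
  classical
  rw [dot, Finset.sum_eq_single i]
  · simp
  · intro j _ hj; simp [hj]
  · intro h; exact absurd (Finset.mem_univ i) h

theorem zero_dot (z : Crd n) : dot 0 z = 0 := by simp [dot]

theorem dot_zero (z : Crd n) : dot z 0 = 0 := by simp [dot]

/-- The underlying linear map of a group element. -/
def elMap (c : ZMod 2) (u : Vec n) : Spc n →ₗ[ZMod 3] Spc n where
  toFun f z := sgn (c + dot u.2 (z + u.1)) * f (z + u.1)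
  map_add' f g := by funext z; simp [mul_add]
  map_smul' a f := by funext z; simp [mul_left_comm]

theorem elMap_apply (c : ZMod 2) (u : Vec n) (f : Spc n) (z : Crd n) :
    elMap c u f z = sgn (c + dot u.2 (z + u.1)) * f (z + u.1) := rfl

theorem elMap_elMap (c d : ZMod 2) (u v : Vec n) (f : Spc n) :
    elMap c u (elMap d v f) = elMap (c + d + beta n u v) (u + v) f := by
  funext z
  simp only [elMap_apply, Prod.fst_add, Prod.snd_add, beta_eq_dot]
  rw [← mul_assoc, ← sgn_add, show z + (u.1 + v.1) = z + u.1 + v.1 by rw [add_assoc]]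
  congr 2
  simp only [dot_add, add_dot]
  rw [show dot u.2 v.1 = dot u.2 v.1 from rfl]
  linear_combination (-(dot u.2 v.1)) * two_eq_zero

theorem elMap_zero (f : Spc n) : elMap (0 : ZMod 2) (0 : Vec n) f = f := by
  funext z; simp [elMap_apply, zero_dot, sgn_zero]

/-- A group element. -/
def el (c : ZMod 2) (u : Vec n) : GLn n :=
  LinearEquiv.ofLinear (elMap c u) (elMap (c + beta n u u) u)
    (LinearMap.ext fun f => by
      rw [LinearMap.comp_apply, elMap_elMap, self_add u, LinearMap.id_apply,
        show c + (c + beta n u u) + beta n u u = 0 from by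
          rw [← add_assoc, add_assoc (c + c), self_add c, zero_add, self_add], elMap_zero])
    (LinearMap.ext fun f => by
      rw [LinearMap.comp_apply, elMap_elMap, self_add u, LinearMap.id_apply,
        show c + beta n u u + c + beta n u u = 0 from by
          rw [add_assoc (c + beta n u u), self_add], elMap_zero])

theorem el_apply (c : ZMod 2) (u : Vec n) (f : Spc n) (z : Crd n) :
    el c u f z = sgn (c + dot u.2 (z + u.1)) * f (z + u.1) := rfl

theorem el_mul (c d : ZMod 2) (u v : Vec n) :
    el c u * el d v = el (c + d + beta n u v) (u + v) :=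
  LinearEquiv.ext fun f => elMap_elMap c d u v f

theorem el_zero : el (0 : ZMod 2) (0 : Vec n) = 1 :=
  LinearEquiv.ext fun f => elMap_zero f

theorem el_inv (c : ZMod 2) (u : Vec n) : (el c u)⁻¹ = el (c + beta n u u) u := by
  rw [inv_eq_iff_mul_eq_one, el_mul, self_add u, ← el_zero]
  congr 1
  rw [← add_assoc, add_assoc (c + c), self_add c, zero_add, self_add]

theorem el_conj (c d : ZMod 2) (u v : Vec n) :
    el c u * el d v * (el c u)⁻¹ = el (d + (beta n u v + beta n v u)) v := by
  rw [el_inv, el_mul, el_mul]
  have e : u + v + u = v := by rw [add_comm u v, add_assoc, self_add, add_zero]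
  congr 1
  simp only [map_add, LinearMap.add_apply]
  linear_combination (c + beta n u u) * two_eq_zero

theorem el_injective {c d : ZMod 2} {u v : Vec n} (h : el c u = el d v) : c = d ∧ u = v := by
  classical
  have hp : ∀ (f : Spc n) (z : Crd n), el c u f z = el d v f z := fun f z => by rw [h]
  have h1 : u.1 = v.1 := by
    by_contra hne
    have := hp (Pi.single u.1 1) 0
    rw [el_apply, el_apply, zero_add, zero_add, Pi.single_eq_same,
      Pi.single_eq_of_ne (Ne.symm hne), mul_one, mul_zero] at this
    exact sgn_ne_zero _ this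
  have h2 : ∀ z, c + dot u.2 z = d + dot v.2 z := by
    intro z
    have := hp (fun _ => 1) (z + u.1)
    rw [el_apply, el_apply, mul_one, mul_one, ← h1, add_assoc z, self_add, add_zero] at this
    revert this
    generalize c + dot u.2 z = a
    generalize d + dot v.2 z = b
    revert a b
    decide
  have hc : c = d := by simpa [dot_zero] using h2 0
  refine ⟨hc, Prod.ext h1 (funext fun i => ?_)⟩
  have := h2 (Pi.single i 1)
  rw [dot_single, dot_single, hc] at this
  exact add_left_cancel this

theorem el_one_zero_apply (c : ZMod 2) (f : Spc n) : el c (0 : Vec n) f = sgn c • f := by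
  funext z
  simp [el_apply, zero_dot]

/-- Sums of nontrivial characters vanish. -/
theorem sum_sgn_dot {y : Crd n} (hy : y ≠ 0) (c : ZMod 2) :
    ∑ z : Crd n, sgn (c + dot y z) = 0 := by
  classical
  obtain ⟨i, hi⟩ : ∃ i, y i ≠ 0 := Function.ne_iff.mp hy
  have hi1 : y i = 1 := by
    revert hi
    generalize y i = a
    revert a
    decide
  have h := Equiv.sum_comp (Equiv.addRight (Pi.single i 1 : Crd n)) fun z => sgn (c + dot y z)
  simp only [Equiv.coe_addRight, dot_add, dot_single, hi1, ← add_assoc, sgn_add (b := 1)] at h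
  rw [← Finset.sum_mul, show sgn 1 = -1 from rfl] at h
  revert h
  generalize ∑ z : Crd n, sgn (c + dot y z) = s
  revert s
  decide

/-- A linear map commuting with all group elements is a scalar. -/
theorem scalar_of_commute (F : Spc n →ₗ[ZMod 3] Spc n)
    (h : ∀ u : Vec n, ∀ f, F (el 0 u f) = el 0 u (F f)) :
    ∃ a : ZMod 3, ∀ f, F f = a • f := by
  classical
  set k := F (Pi.single 0 1) with hk
  have hdiag : ∀ z : Crd n, z ≠ 0 → k z = 0 := by
    intro z hz
    obtain ⟨i, hi⟩ : ∃ i, z i ≠ 0 := Function.ne_iff.mp hz
    have hfix : el 0 ((0, Pi.single i 1) : Vec n) (Pi.single (0 : Crd n) (1 : ZMod 3)) =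
        Pi.single 0 1 := by
      funext w
      rw [el_apply]
      simp only [zero_add, add_zero]
      by_cases hw : w = 0
      · subst hw; simp [dot_zero, sgn_zero]
      · simp [hw]
    have h1 := congrFun (h (0, Pi.single i 1) (Pi.single 0 1)) z
    rw [hfix, el_apply] at h1
    simp only [zero_add, add_zero, ← hk, dot_comm _ z, dot_single] at h1
    have hz1 : z i = 1 := by
      revert hi
      generalize z i = a
      revert a
      decide
    rw [hz1] at h1
    revert h1
    generalize k z = a
    revert a
    decide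
  refine ⟨k 0, fun f => ?_⟩
  have hsingle : ∀ z, F (Pi.single z 1) = k 0 • Pi.single z 1 := by
    intro z
    have htr : el 0 ((z, 0) : Vec n) (Pi.single (0 : Crd n) (1 : ZMod 3)) = Pi.single z 1 := by
      funext w
      rw [el_apply]
      simp only [zero_dot, add_zero, sgn_zero, one_mul]
      by_cases hw : w = z
      · subst hw; rw [self_add w]; simp
      · have : w + z ≠ 0 := fun e => hw (by
          have := congrArg (· + z) e
          simpa [add_assoc, self_add z] using this)
        simp [this, hw]
    rw [← htr, h, htr, ← hk]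
    funext w
    rw [el_apply]
    simp only [zero_dot, add_zero, sgn_zero, one_mul, Pi.smul_apply, smul_eq_mul]
    by_cases hw : w = z
    · subst hw; rw [self_add w]; simp
    · have : w + z ≠ 0 := fun e => hw (by
        have := congrArg (· + z) e
        simpa [add_assoc, self_add z] using this)
      simp [hdiag _ this, hw]
  have hf : f = ∑ z, f z • Pi.single z 1 := by
    funext w
    simp [Finset.sum_apply, Pi.single_apply]
  conv_lhs => rw [hf]
  conv_rhs => rw [hf]
  simp only [map_sum, map_smul, hsingle, Finset.smul_sum, smul_smul, mul_comm]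

/-- An isometry of `β` up to a refinement is realised by conjugation. -/
theorem exists_intertwiner (g : Vec n →ₗ[ZMod 2] Vec n) (hg : Function.Injective g)
    (f : Vec n → ZMod 2) (hf : ∀ u v, f (u + v) = f u + f v + (beta n (g u) (g v) + beta n u v)) :
    ∃ M : GLn n, ∀ c u, M * el c u * M⁻¹ = el (c + f u) (g u) := by
  classical
  have hf0 : f 0 = 0 := by
    have := hf 0 0
    simpa [self_add] using this
  set A' : Vec n → GLn n := fun u => el (f u) (g u) with hA'
  have hmul : ∀ u v, A' u * A' v = el (beta n u v) 0 * A' (u + v) := by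
    intro u v
    simp only [hA', el_mul, map_add, map_zero, LinearMap.zero_apply, zero_add, add_zero]
    congr 1
    rw [hf u v]
    linear_combination (-(beta n u v)) * two_eq_zero
  -- a common fixed vector of the second half
  obtain ⟨v, hv0, hv⟩ : ∃ v : Spc n, v ≠ 0 ∧ ∀ y : Crd n, A' (0, y) v = v := by
    set P : Spc n → Spc n := fun w => ∑ y : Crd n, A' (0, y) w with hP
    have hfix : ∀ w y, A' (0, y) (P w) = P w := by
      intro w y
      rw [hP, map_sum]
      refine Fintype.sum_equiv (Equiv.addLeft y) _ _ fun y' => ?_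
      rw [← LinearEquiv.mul_apply, hmul]
      simp [beta_eq_dot, dot_zero, el_zero]
    obtain ⟨z, hz⟩ : ∃ z, P (Pi.single z 1) z ≠ 0 := by
      by_contra hall
      push Not at hall
      have h1 : ∑ z : Crd n, P (Pi.single z 1) z = 0 := Finset.sum_eq_zero fun z _ => hall z
      simp only [hP, Finset.sum_apply] at h1
      rw [Finset.sum_comm, Finset.sum_eq_single (0 : Crd n)] at h1
      · simp only [hA', show ((0 : Crd n), (0 : Crd n)) = (0 : Vec n) from rfl, hf0, map_zero,
          el_one_zero_apply, sgn_zero, one_smul, Pi.single_eq_same, Finset.sum_const,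
          Finset.card_univ, nsmul_eq_mul, mul_one, Fintype.card_fun, ZMod.card, Fintype.card_fin,
          Nat.cast_pow] at h1
        exact absurd (pow_eq_zero_iff'.mp h1).1 (by decide)
      · intro y _ hy
        have hne : g (0, y) ≠ 0 := fun h => hy (congrArg Prod.snd
          (hg (h.trans (map_zero g).symm) : ((0 : Crd n), y) = 0))
        simp only [hA', el_apply]
        by_cases hx : (g (0, y)).1 = 0
        · simp only [hx, add_zero, Pi.single_eq_same, mul_one]
          exact sum_sgn_dot (fun h => hne (Prod.ext hx h)) _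
        · refine Finset.sum_eq_zero fun z _ => ?_
          rw [Pi.single_eq_of_ne, mul_zero]
          intro e
          exact hx (add_eq_left.mp e)
      · intro h; exact absurd (Finset.mem_univ _) h
    refine ⟨P (Pi.single z 1), fun h => hz (by rw [h]; rfl), hfix _⟩
  set L : Spc n →ₗ[ZMod 3] Spc n :=
    { toFun := fun w => ∑ z : Crd n, w z • A' (z, 0) v
      map_add' := fun w w' => by simp [add_smul, Finset.sum_add_distrib]
      map_smul' := fun a w => by simp [Finset.smul_sum, smul_smul] } with hL
  have hLapply : ∀ w, L w = ∑ z : Crd n, w z • A' (z, 0) v := fun _ => rfl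
  have heig : ∀ y z : Crd n, A' (0, y) (A' (z, 0) v) = sgn (dot y z) • A' (z, 0) v := by
    intro y z
    have e1 := hmul (0, y) (z, 0)
    have e2 := hmul (z, 0) (0, y)
    simp only [beta_eq_dot, dot_zero, zero_dot, el_zero, one_mul] at e1 e2
    have hs : ((0 : Crd n), y) + (z, 0) = (z, 0) + (0, y) := add_comm _ _
    rw [hs, ← e2, ← mul_assoc] at e1
    calc A' (0, y) (A' (z, 0) v) = (A' (0, y) * A' (z, 0)) v := rfl
      _ = el (dot y z) 0 (A' (z, 0) (A' (0, y) v)) := by rw [e1]; rfl
      _ = _ := by rw [hv, el_one_zero_apply]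
  have hint : ∀ c u w, L (el c u w) = el (c + f u) (g u) (L w) := by
    intro c u w
    obtain ⟨x, y⟩ := u
    have hsplit : el (c + f (x, y)) (g (x, y)) = el c 0 * A' (x, 0) * A' (0, y) := by
      rw [mul_assoc, hmul]
      simp [beta_eq_dot, dot_zero, el_zero, hA', el_mul]
    rw [hsplit, hLapply, hLapply]
    simp only [LinearEquiv.mul_apply, map_sum, map_smul, heig]
    refine Fintype.sum_equiv (Equiv.addRight x) _ _ fun z => ?_
    rw [← LinearEquiv.mul_apply (A' (x, 0)), hmul, el_one_zero_apply, smul_smul, smul_smul]
    simp only [beta_eq_dot, zero_dot, el_zero, one_mul, el_apply, Equiv.coe_addRight,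
      Prod.mk_add_mk, add_zero]
    rw [add_comm x (z + x), add_assoc z, self_add, add_zero, sgn_add]
    congr 1
    ring
  have hinj : Function.Injective L := by
    rw [injective_iff_map_eq_zero]
    intro w hw
    funext z₀
    by_contra hne
    have hne' : w z₀ ≠ 0 := hne
    apply hv0
    have key : ∀ z : Crd n, (∑ y : Crd n, sgn (dot y z₀) * sgn (dot y z)) =
        if z = z₀ then (2 : ZMod 3) ^ n else 0 := by
      intro z
      by_cases hz : z = z₀
      · subst hz
        simp only [← sgn_add, self_add, sgn_zero, Finset.sum_const, Finset.card_univ, nsmul_eq_mul,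
          mul_one, if_true, Fintype.card_fun, ZMod.card, Fintype.card_fin, Nat.cast_pow]
        rfl
      · rw [if_neg hz]
        simp only [← sgn_add, ← dot_add]
        have h0 : z₀ + z ≠ 0 := fun e => hz (by
          have := congrArg (z₀ + ·) e
          simpa [← add_assoc, self_add z₀] using this)
        have := sum_sgn_dot h0 0
        simpa [dot_comm] using this
    have h1 : ∑ y : Crd n, sgn (dot y z₀) • A' (0, y) (L w) = 0 := by simp [hw]
    simp only [hLapply, map_sum, map_smul, heig, Finset.smul_sum, smul_smul] at h1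
    rw [Finset.sum_comm] at h1
    simp only [← Finset.sum_smul, mul_left_comm (sgn _) (w _), ← Finset.mul_sum, key, mul_ite,
      mul_zero, ite_smul, zero_smul, Finset.sum_ite_eq', Finset.mem_univ, if_true] at h1
    rcases smul_eq_zero.mp h1 with h2 | h2
    · exact absurd h2 (mul_ne_zero hne' (pow_ne_zero _ (by decide)))
    · exact (map_eq_zero_iff _ (A' (z₀, 0)).injective).mp h2
  refine ⟨LinearEquiv.ofInjectiveEndo L hinj, fun c u => ?_⟩
  rw [mul_inv_eq_iff_eq_mul]
  exact LinearEquiv.ext fun w => hint c u w

/-- An alternating bilinear form is the polar form of some function. -/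
theorem exists_refinement {M : Type*} [AddCommGroup M] [Module (ZMod 2) M]
    [Module.Finite (ZMod 2) M] (δ : LinearMap.BilinForm (ZMod 2) M) (hδ : ∀ u, δ u u = 0) :
    ∃ f : M → ZMod 2, ∀ u v, f (u + v) = f u + f v + δ u v := by
  classical
  let b := Module.finBasis (ZMod 2) M
  refine ⟨fun u => ∑ i, ∑ j, if i < j then b.repr u i * b.repr u j * δ (b i) (b j) else 0,
    fun u v => ?_⟩
  have hsym : ∀ x y, δ y x = δ x y := by
    intro x y
    have h := hδ (x + y)
    simp only [map_add, LinearMap.add_apply, hδ, zero_add, add_zero] at h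
    calc δ y x = δ y x + (δ x y + δ x y) := by rw [self_add (δ x y), add_zero]
      _ = (δ y x + δ x y) + δ x y := by rw [add_assoc]
      _ = _ := by rw [h, zero_add]
  have hexp : δ u v = ∑ i, ∑ j, b.repr u i * b.repr v j * δ (b i) (b j) := by
    conv_lhs => rw [← b.sum_repr u, ← b.sum_repr v]
    simp only [map_sum, map_smul, LinearMap.sum_apply, LinearMap.smul_apply, smul_eq_mul,
      Finset.mul_sum, mul_assoc]
    rw [Finset.sum_comm]
    refine Finset.sum_congr rfl fun i _ => Finset.sum_congr rfl fun j _ => ?_
    ring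
  have hsplit : δ u v =
      (∑ i, ∑ j, if i < j then b.repr u i * b.repr v j * δ (b i) (b j) else 0) +
      ∑ i, ∑ j, if i < j then b.repr v i * b.repr u j * δ (b i) (b j) else 0 := by
    have hflip : (∑ i, ∑ j, if i < j then b.repr v i * b.repr u j * δ (b i) (b j) else 0) =
        ∑ i, ∑ j, if j < i then b.repr u i * b.repr v j * δ (b i) (b j) else 0 := by
      rw [Finset.sum_comm]
      refine Finset.sum_congr rfl fun i _ => Finset.sum_congr rfl fun j _ => ?_
      rw [hsym (b i) (b j)]
      split_ifs <;> ring
    rw [hexp, hflip]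
    simp only [← Finset.sum_add_distrib]
    refine Finset.sum_congr rfl fun i _ => Finset.sum_congr rfl fun j _ => ?_
    rcases lt_trichotomy i j with h | h | h
    · simp [h, h.not_gt]
    · subst h; simp [hδ]
    · simp [h, h.not_gt]
  show _ = _ + _ + δ u v
  rw [hsplit]
  simp only [← Finset.sum_add_distrib]
  refine Finset.sum_congr rfl fun i _ => Finset.sum_congr rfl fun j _ => ?_
  split_ifs
  · simp only [map_add, Finsupp.add_apply]; ring
  · simp

end Cfsg.Agent.Lib.LocalEven2.PlusModel
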