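import Cfsg.Prelude.Def_CaseTheorems
import Cfsg.Agent.Lib.LocalEven2.Sylow
import Cfsg.Agent.Lib.Frobenius.UniqueSubgroup

/-!
Groups of `p`-rank one.
-/

set_option autoImplicit false

namespace Cfsg.Agent.Lib.LocalEven2

variable {G : Type*} [Group G] [Finite G] {p : ℕ} [Fact p.Prime]

/-- In a group of `p`-rank at most one, commuting elements of order `p` generate the same group. -/
theorem mem_zpowers_of_rankLE_one (hrk : Cfsg.PRankLE p 1 G) {u v : G} (hu : orderOf u = p)
    (hv : orderOf v = p) (huv : u * v = v * u) : v ∈ Subgroup.zpowers u := by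
  classical
  have hc : Commute u v := huv
  set A := Subgroup.closure ({u, v} : Set G) with hA
  have hAc : ∀ a ∈ A, ∀ b ∈ A, a * b = b * a := by
    have h : A ≤ Subgroup.centralizer (A : Set G) := by
      rw [hA, Subgroup.centralizer_closure, Subgroup.closure_le]
      rintro a (rfl | rfl) <;> refine Subgroup.mem_centralizer_iff.mpr ?_ <;>
        rintro c (rfl | rfl) <;> first | rfl | exact huv | exact huv.symm
    exact fun a ha b hb => Subgroup.mem_centralizer_iff.mp (h hb) a ha
  have hexp : ∀ a ∈ A, a ^ p = 1 := by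
    intro a ha
    induction ha using Subgroup.closure_induction with
    | mem a ha => rcases ha with rfl | rfl
                  · rw [← hu, pow_orderOf_eq_one]
                  · rw [← hv, pow_orderOf_eq_one]
    | one => simp
    | mul a b ha hb iha ihb => rw [Commute.mul_pow (hAc a ha b hb), iha, ihb, one_mul]
    | inv a _ iha => rw [inv_pow, iha, inv_one]
  have hle := hrk A ⟨⟨fun a b => Subtype.ext (hAc a a.2 b b.2)⟩⟩ hexp
  rw [pow_one] at hle
  have heq := Subgroup.eq_of_le_of_card_ge
    (Subgroup.zpowers_le.mpr (Subgroup.subset_closure (Or.inl rfl)) : Subgroup.zpowers u ≤ A)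
    (by rwa [Nat.card_zpowers, hu])
  rw [heq]
  exact Subgroup.subset_closure (Or.inr rfl)

/-- Sylow subgroups of odd `p`-rank-one groups are cyclic. -/
theorem isCyclic_sylow_of_rankLE_one (hp : p ≠ 2) (hrk : Cfsg.PRankLE p 1 G) {S : Subgroup G}
    (hS : IsPGroup p ↥S) : IsCyclic ↥S := by
  refine Cfsg.Agent.Lib.Frobenius.isCyclic_of_unique_odd hp hS fun a b ha hb => ?_
  haveI : Nontrivial ↥S := by
    by_contra h
    rw [not_nontrivial_iff_subsingleton] at h
    rw [Subsingleton.elim a 1, orderOf_one] at ha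
    exact (Fact.out : p.Prime).ne_one ha.symm
  haveI := hS.center_nontrivial
  obtain ⟨n, hn, hcard⟩ := (hS.to_subgroup (Subgroup.center ↥S)).nontrivial_iff_card.mp inferInstance
  obtain ⟨z, hz⟩ := exists_prime_orderOf_dvd_card' (G := ↥(Subgroup.center ↥S)) p
    (hcard ▸ dvd_pow_self p hn.ne')
  have hzG : orderOf ((z : ↥S) : G) = p := by rw [Subgroup.orderOf_coe, Subgroup.orderOf_coe, hz]
  have key : ∀ c : ↥S, orderOf c = p → Subgroup.zpowers (c : G) = Subgroup.zpowers ((z : ↥S) : G) := by
    intro c hc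
    have hcG : orderOf (c : G) = p := by rw [Subgroup.orderOf_coe, hc]
    refine Subgroup.eq_of_le_of_card_ge (Subgroup.zpowers_le.mpr ?_)
      (by rw [Nat.card_zpowers, Nat.card_zpowers, hzG, hcG])
    exact mem_zpowers_of_rankLE_one hrk hzG hcG
      (congrArg Subtype.val (Subgroup.mem_center_iff.mp z.2 c)).symm
  obtain ⟨k, hk⟩ : (a : G) ∈ Subgroup.zpowers (b : G) := by
    rw [key b hb, ← key a ha]; exact Subgroup.mem_zpowers _
  exact ⟨k, Subtype.ext (by simpa using hk)⟩

end Cfsg.Agent.Lib.LocalEven2
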