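import Cfsg.Agent.Lib.LocalEven2.CD

/-!
# Replacement for minimal centrally large subgroups
-/

set_option autoImplicit false
set_option linter.unusedSectionVars false
open scoped Pointwise commutatorElement
open Cfsg

namespace Cfsg.Agent.Lib.LocalEven2.CD

variable {G : Type*} [Group G]

/-- The conjugations by `a₁` and `b₁` commute on `⁅A, B⁆`. -/
theorem ito_conj {A B : Subgroup G}
    (hset : ((A ⊔ B : Subgroup G) : Set G) = (A : Set G) * (B : Set G))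
    (hA : ∀ a ∈ A, ∀ a' ∈ A, a * a' = a' * a) (hB : ∀ b ∈ B, ∀ b' ∈ B, b * b' = b' * b)
    {a b a₁ b₁ : G} (ha : a ∈ A) (hb : b ∈ B) (ha₁ : a₁ ∈ A) (hb₁ : b₁ ∈ B) :
    a₁ * (b₁ * ⁅a, b⁆ * b₁⁻¹) * a₁⁻¹ = b₁ * (a₁ * ⁅a, b⁆ * a₁⁻¹) * b₁⁻¹ := by
  have decAB : ∀ x ∈ A ⊔ B, ∃ u ∈ A, ∃ v ∈ B, x = u * v := by
    intro x hx
    rw [← SetLike.mem_coe, hset] at hx
    obtain ⟨u, hu, v, hv, rfl⟩ := hx
    exact ⟨u, hu, v, hv, rfl⟩
  have memA : ∀ x ∈ A, x ∈ A ⊔ B := fun x hx => Subgroup.mem_sup_left hx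
  have memB : ∀ x ∈ B, x ∈ A ⊔ B := fun x hx => Subgroup.mem_sup_right hx
  -- `a₁ b a₁⁻¹ = b₂ a₂` and `b₁ a b₁⁻¹ = a₃ b₃`
  obtain ⟨u, hu, v, hv, huv⟩ := decAB (a₁ * b * a₁⁻¹)⁻¹ (Subgroup.inv_mem _
    (Subgroup.mul_mem _ (Subgroup.mul_mem _ (memA _ ha₁) (memB _ hb)) (Subgroup.inv_mem _ (memA _ ha₁))))
  have hb2 : a₁ * b * a₁⁻¹ = v⁻¹ * u⁻¹ := by
    rw [← mul_inv_rev, ← huv, inv_inv]
  obtain ⟨a₃, ha₃, b₃, hb₃, h3⟩ := decAB (b₁ * a * b₁⁻¹)
    (Subgroup.mul_mem _ (Subgroup.mul_mem _ (memB _ hb₁) (memA _ ha)) (Subgroup.inv_mem _ (memB _ hb₁)))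
  have hav : ∀ a' ∈ A, a₁ * ⁅a', b⁆ * a₁⁻¹ = ⁅a', v⁻¹⁆ := by
    intro a' ha'
    calc a₁ * ⁅a', b⁆ * a₁⁻¹
        = (a₁ * a') * b * (a'⁻¹ * a₁⁻¹) * (a₁ * b * a₁⁻¹)⁻¹ := by
          rw [commutatorElement_def]; group
      _ = (a' * a₁) * b * (a₁⁻¹ * a'⁻¹) * (a₁ * b * a₁⁻¹)⁻¹ := by
          rw [hA a₁ ha₁ a' ha', hA a'⁻¹ (A.inv_mem ha') a₁⁻¹ (A.inv_mem ha₁)]
      _ = a' * (a₁ * b * a₁⁻¹) * a'⁻¹ * (a₁ * b * a₁⁻¹)⁻¹ := by group
      _ = a' * v⁻¹ * (u⁻¹ * a'⁻¹) * u * v := by rw [hb2]; group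
      _ = a' * v⁻¹ * (a'⁻¹ * u⁻¹) * u * v := by
          rw [hA u⁻¹ (A.inv_mem hu) a'⁻¹ (A.inv_mem ha')]
      _ = ⁅a', v⁻¹⁆ := by rw [commutatorElement_def]; group
  have hbu : ∀ b' ∈ B, b₁ * ⁅a, b'⁆ * b₁⁻¹ = ⁅a₃, b'⁆ := by
    intro b' hb'
    calc b₁ * ⁅a, b'⁆ * b₁⁻¹
        = (b₁ * a * b₁⁻¹) * (b₁ * b') * a⁻¹ * (b'⁻¹ * b₁⁻¹) := by
          rw [commutatorElement_def]; group
      _ = (b₁ * a * b₁⁻¹) * (b' * b₁) * a⁻¹ * (b₁⁻¹ * b'⁻¹) := by
          rw [hB b₁ hb₁ b' hb', hB b'⁻¹ (B.inv_mem hb') b₁⁻¹ (B.inv_mem hb₁)]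
      _ = (b₁ * a * b₁⁻¹) * b' * (b₁ * a * b₁⁻¹)⁻¹ * b'⁻¹ := by group
      _ = a₃ * (b₃ * b') * b₃⁻¹ * a₃⁻¹ * b'⁻¹ := by rw [h3]; group
      _ = a₃ * (b' * b₃) * b₃⁻¹ * a₃⁻¹ * b'⁻¹ := by rw [hB b₃ hb₃ b' hb']
      _ = ⁅a₃, b'⁆ := by rw [commutatorElement_def]; group
  rw [hbu b hb, hav a₃ ha₃, hav a ha, hbu v⁻¹ (B.inv_mem hv)]

/-- Itô: commutators between two permutable abelian subgroups commute. -/
theorem ito_commute {A B : Subgroup G}
    (hset : ((A ⊔ B : Subgroup G) : Set G) = (A : Set G) * (B : Set G))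
    (hA : ∀ a ∈ A, ∀ a' ∈ A, a * a' = a' * a) (hB : ∀ b ∈ B, ∀ b' ∈ B, b * b' = b' * b)
    {a b a₁ b₁ : G} (ha : a ∈ A) (hb : b ∈ B) (ha₁ : a₁ ∈ A) (hb₁ : b₁ ∈ B) :
    Commute ⁅a, b⁆ ⁅a₁, b₁⁆ := by
  have h12 := ito_conj hset hA hB ha hb (A.inv_mem ha₁) (B.inv_mem hb₁)
  rw [inv_inv, inv_inv] at h12
  show ⁅a, b⁆ * ⁅a₁, b₁⁆ = ⁅a₁, b₁⁆ * ⁅a, b⁆
  generalize ⁅a, b⁆ = c at h12
  rw [commutatorElement_def]
  calc c * (a₁ * b₁ * a₁⁻¹ * b₁⁻¹)
      = a₁ * b₁ * (b₁⁻¹ * (a₁⁻¹ * c * a₁) * b₁) * a₁⁻¹ * b₁⁻¹ := by group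
    _ = a₁ * b₁ * (a₁⁻¹ * (b₁⁻¹ * c * b₁) * a₁) * a₁⁻¹ * b₁⁻¹ := by rw [h12]
    _ = _ := by group

variable [Finite G]

open scoped Classical in
/-- Weight of a subgroup along the lower central series. -/
noncomputable def weight (n : ℕ) (A : Subgroup G) : ℕ :=
  ∑ k ∈ Finset.range n, Nat.card ↥(A ⊓ Subgroup.lowerCentralSeries (⊤ : Subgroup G) k)

theorem commute_of_mem {A : Subgroup G} (hA : A ≤ Subgroup.centralizer (A : Set G)) :
    ∀ a ∈ A, ∀ a' ∈ A, a * a' = a' * a := fun a ha _ ha' =>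
  (Subgroup.mem_centralizer_iff.mp (hA ha') a ha)

/-- Replacement: a minimal centrally large subgroup of largest weight is normalized by every
element `x` whose commutators with its centre commute pairwise. -/
theorem exists_heavier {Q : Subgroup G} (hQ : IsMinimalCentrallyLarge Q) {x : G}
    (hcomm : ∀ a ∈ Subgroup.centralizer (Q : Set G), ∀ c ∈ Subgroup.centralizer (Q : Set G),
      Commute ⁅x, a⁆ ⁅x, c⁆)
    (hx : x ∉ Subgroup.normalizer (Q : Set G)) (n : ℕ)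
    (hn : Subgroup.lowerCentralSeries (⊤ : Subgroup G) n = ⊥) :
    ∃ Q' : Subgroup G, IsMinimalCentrallyLarge Q' ∧
      weight n (Subgroup.centralizer (Q : Set G)) <
        weight n (Subgroup.centralizer (Q' : Set G)) := by
  classical
  set U := Subgroup.lowerCentralSeries (⊤ : Subgroup G)
  obtain ⟨hQl, hQc⟩ := isCentrallyLarge_iff.mp hQ.1
  set Z := Subgroup.centralizer (Q : Set G) with hZdef
  have hZc : ∀ a ∈ Z, ∀ a' ∈ Z, a * a' = a' * a := commute_of_mem (Subgroup.centralizer_le hQc)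
  have hQ' : IsMinimalCentrallyLarge (Q.map (MulAut.conj x).toMonoidHom) := by
    have hcl : ∀ (e : G ≃* G) (R : Subgroup G), IsCentrallyLarge R →
        IsCentrallyLarge (R.map e.toMonoidHom) := by
      intro e R hR
      have h1 := Nat.card_congr (R.equivMapOfInjective e.toMonoidHom e.injective).toEquiv
      have h2 := Nat.card_congr
        (Subgroup.centerCongr (R.equivMapOfInjective e.toMonoidHom e.injective)).toEquiv
      unfold IsCentrallyLarge at hR ⊢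
      rw [← h1, ← h2]
      exact hR
    refine ⟨hcl _ _ hQ.1, fun R hR hRl => ?_⟩
    have h1 := hQ.2 (R.map (MulAut.conj x).symm.toMonoidHom) ?_ (hcl _ _ hRl)
    · rw [← h1, Subgroup.map_map]
      convert (Subgroup.map_id R).symm using 2
      ext y
      simp [mul_assoc]
    · rintro y ⟨r, hr, rfl⟩
      obtain ⟨q, hq, rfl⟩ := hR hr
      simpa [mul_assoc] using hq
  set Q₁ := Q.map (MulAut.conj x).toMonoidHom with hQ₁
  set K := Q ⊓ Q₁
  have hKZ : Z ⊓ Subgroup.centralizer (K : Set G) = Z := inf_eq_left.mpr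
    (Subgroup.centralizer_le inf_le_left)
  have hmK : ∀ a ∈ Z, ⁅x, a⁆ ∈ Subgroup.centralizer (K : Set G) := by
    intro a ha
    rw [commutatorElement_def]
    refine Subgroup.mul_mem _ (Subgroup.centralizer_le (inf_le_right : K ≤ Q₁) ?_)
      (Subgroup.inv_mem _ (Subgroup.centralizer_le (inf_le_left : K ≤ Q) ha))
    rw [Subgroup.mem_centralizer_iff]
    rintro y ⟨q, hq, rfl⟩
    have := Subgroup.mem_centralizer_iff.mp ha q hq
    show x * q * x⁻¹ * (x * a * x⁻¹) = x * a * x⁻¹ * (x * q * x⁻¹)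
    calc x * q * x⁻¹ * (x * a * x⁻¹) = x * (q * a) * x⁻¹ := by group
      _ = x * (a * q) * x⁻¹ := by rw [this]
      _ = _ := by group
  let R₀ : Subgroup G :=
    { carrier := {a | a ∈ Z ∧ x * a * x⁻¹ ∈ Z}
      one_mem' := ⟨Z.one_mem, by simp⟩
      mul_mem' := fun {a b} ha hb => ⟨Z.mul_mem ha.1 hb.1, by
        have := Z.mul_mem ha.2 hb.2
        simpa [mul_assoc] using this⟩
      inv_mem' := fun {a} ha => ⟨Z.inv_mem ha.1, by
        simpa [mul_assoc] using Z.inv_mem ha.2⟩ }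
  set M := Subgroup.closure ((fun a => ⁅x, a⁆) '' (Z : Set G))
  have hRM : ∀ c ∈ R₀, ∀ b ∈ Z, Commute c ⁅x, b⁆ := by
    rintro c ⟨hc, hc'⟩ b hb
    have hb' : b * ⁅x, c⁆ = ⁅x, c⁆ * b := hZc b hb _ (by
      rw [commutatorElement_def]; exact Z.mul_mem hc' (Z.inv_mem hc))
    have hprod : ∀ a a' : G, ⁅x, a * a'⁆ = ⁅x, a⁆ * (a * ⁅x, a'⁆ * a⁻¹) := fun a a' => by
      simp only [commutatorElement_def, mul_inv_rev, mul_assoc, inv_mul_cancel_left]
    have h1 : ⁅x, c⁆ * (c * ⁅x, b⁆ * c⁻¹) = ⁅x, b⁆ * ⁅x, c⁆ := by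
      rw [← hprod, hZc c hc b hb, hprod, hb']
      group
    rw [← (hcomm c hc b hb).eq] at h1
    have h2 := mul_left_cancel h1
    show c * ⁅x, b⁆ = ⁅x, b⁆ * c
    calc c * ⁅x, b⁆ = c * ⁅x, b⁆ * c⁻¹ * c := by group
      _ = _ := by rw [h2]
  have hR₀Z : R₀ ≤ Z := fun a ha => ha.1
  have hMab : M ≤ Subgroup.centralizer (M : Set G) := by
    rw [Subgroup.centralizer_closure, Subgroup.closure_le]
    rintro _ ⟨a, ha, rfl⟩
    refine Subgroup.mem_centralizer_iff.mpr ?_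
    rintro _ ⟨c, hc, rfl⟩
    exact (hcomm c hc a ha).eq
  have hRMc : M ≤ Subgroup.centralizer (R₀ : Set G) := by
    rw [Subgroup.closure_le]
    rintro _ ⟨a, ha, rfl⟩
    exact Subgroup.mem_centralizer_iff.mpr fun c hc => (hRM c hc a ha).eq
  set A := R₀ ⊔ M
  have hAab : A ≤ Subgroup.centralizer (A : Set G) :=
    sup_abelian (hR₀Z.trans ((Subgroup.centralizer_le hQc).trans (Subgroup.centralizer_le hR₀Z)))
      hMab hRMc
  -- comparison of intersections with a normal subgroup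
  have hinj : ∀ Y : Subgroup G, Y ≤ Z → ∀ V : Subgroup G, Y ≤ V →
      (∀ a ∈ Y, ⁅x, a⁆ ∈ V) → Nat.card ↥Y ≤ Nat.card ↥(A ⊓ V) := by
    intro Y hY V hYV hV
    let t : ↥Y → ↥Y := fun y => (Quotient.out (QuotientGroup.mk y : ↥Y ⧸ R₀.subgroupOf Y))
    have ht : ∀ y, ((t y : G))⁻¹ * (y : G) ∈ R₀ := fun y => by
      have h := QuotientGroup.eq.mp (QuotientGroup.out_eq' (QuotientGroup.mk y : ↥Y ⧸ R₀.subgroupOf Y))
      simpa [Subgroup.mem_subgroupOf] using h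
    refine Nat.card_le_card_of_injective
      (fun y => (⟨⁅x, (t y : G)⁆ * ((t y : G)⁻¹ * (y : G)),
        Subgroup.mul_mem _ (Subgroup.mem_sup_right (Subgroup.subset_closure ⟨_, hY (t y).2, rfl⟩))
          (Subgroup.mem_sup_left (ht y)),
        V.mul_mem (hV _ (t y).2) (V.mul_mem (V.inv_mem (hYV (t y).2)) (hYV y.2))⟩ : ↥(A ⊓ V))) ?_
    intro y z h
    have h1 : ⁅x, (t y : G)⁆ * ((t y : G)⁻¹ * (y : G)) =
        ⁅x, (t z : G)⁆ * ((t z : G)⁻¹ * (z : G)) := congrArg (fun w : ↥(A ⊓ V) => (w : G)) h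
    set p := (t y : G) with hp
    set q := (t z : G) with hq
    have h2 : x * (p⁻¹ * q) * x⁻¹ = p⁻¹ * ((p⁻¹ * (y : G)) * ((q⁻¹ * (z : G))⁻¹)) * q := by
      calc x * (p⁻¹ * q) * x⁻¹
          = p⁻¹ * (⁅x, p⁆⁻¹ * (⁅x, q⁆ * (q⁻¹ * (z : G))) * (q⁻¹ * (z : G))⁻¹) * q := by
            rw [commutatorElement_def, commutatorElement_def]; group
        _ = p⁻¹ * (⁅x, p⁆⁻¹ * (⁅x, p⁆ * (p⁻¹ * (y : G))) * (q⁻¹ * (z : G))⁻¹) * q := by rw [h1]
        _ = _ := by group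
    have h3 : p⁻¹ * q ∈ R₀ := by
      refine ⟨Z.mul_mem (Z.inv_mem (hY (t y).2)) (hY (t z).2), ?_⟩
      rw [h2]
      exact Z.mul_mem (Z.mul_mem (Z.inv_mem (hY (t y).2))
        (Z.mul_mem (hR₀Z (ht y)) (Z.inv_mem (hR₀Z (ht z))))) (hY (t z).2)
    have h4 : t y = t z := by
      have h5 : (QuotientGroup.mk (t y) : ↥Y ⧸ R₀.subgroupOf Y) = QuotientGroup.mk (t z) :=
        QuotientGroup.eq.mpr (by simpa [Subgroup.mem_subgroupOf] using h3)
      rw [QuotientGroup.out_eq', QuotientGroup.out_eq'] at h5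
      exact congrArg Quotient.out h5
    have h6 : p = q := congrArg Subtype.val h4
    rw [h6] at h1
    exact Subtype.ext (mul_left_cancel (mul_left_cancel h1))
  have hAcard : Nat.card ↥Z ≤ Nat.card ↥A := by
    simpa using hinj Z le_rfl ⊤ le_top fun _ _ => trivial
  -- the new subgroup
  have hAK : A ≤ Subgroup.centralizer (K : Set G) :=
    sup_le (hR₀Z.trans (Subgroup.centralizer_le inf_le_left))
      ((Subgroup.closure_le _).mpr (by rintro _ ⟨a, ha, rfl⟩; exact hmK a ha))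
  set Q₂ := K ⊔ A
  have hQeq : K ⊔ Z = Q := minimal_eq_inf_sup hQ hQ'
  have hCK : K ⊓ Subgroup.centralizer (K : Set G) ≤ Z := by
    rw [← minimal_inf_centre hQ hQ']; exact inf_le_right
  have hcard : Nat.card ↥Q ≤ Nat.card ↥Q₂ := by
    have h1 := card_mul_le_sup K A
    have h2 : Nat.card ↥Q * Nat.card ↥(K ⊓ Z) = Nat.card ↥K * Nat.card ↥Z := by
      rw [← card_mul_mul_card_inf K Z]
      refine congrArg (· * Nat.card ↥(K ⊓ Z)) ?_
      conv_lhs => rw [← hQeq]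
      have := Subgroup.coe_mul_of_left_le_normalizer_right K Z
        ((Subgroup.le_centralizer_iff.mp (Subgroup.centralizer_le (inf_le_left : K ≤ Q))).trans
          (Subgroup.centralizer_le_normalizer _))
      rw [← this]
      rfl
    have h3 : Nat.card ↥(K ⊓ A) ≤ Nat.card ↥(K ⊓ Z) := Subgroup.card_le_of_le
      (le_inf inf_le_left ((le_inf inf_le_left (inf_le_right.trans hAK)).trans hCK))
    refine Nat.le_of_mul_le_mul_right ?_ (Nat.card_pos (α := ↥(K ⊓ Z)))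
    rw [h2]
    exact (Nat.mul_le_mul_left _ hAcard).trans (h1.trans (Nat.mul_le_mul_left _ h3))
  have hAc2 : A ≤ Subgroup.centralizer (Q₂ : Set G) := by
    rw [centralizer_sup]; exact le_inf hAK hAab
  obtain ⟨hQ₂, hA2⟩ := isCentrallyLarge_of_le A (le_sup_right : A ≤ Q₂) hAc2 (by
    rw [← (show cdm Q = maxCentralizerProduct G from hQl)]
    exact Nat.mul_le_mul hcard hAcard)
  have hcard2 : Nat.card ↥Q₂ = Nat.card ↥Q := by
    refine le_antisymm ?_ hcard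
    have h : cdm Q₂ = cdm Q := (isCentrallyLarge_iff.mp hQ₂).1.trans hQl.symm
    refine Nat.le_of_mul_le_mul_right ?_ (Nat.card_pos (α := ↥Z))
    refine le_trans ?_ h.le
    unfold cdm
    rw [← hA2]
    exact Nat.mul_le_mul_left _ hAcard
  have hQ₂min : IsMinimalCentrallyLarge Q₂ := by
    obtain ⟨R, hR, hRm⟩ := exists_minimal_le hQ₂
    have h : R = Q₂ := Subgroup.eq_of_le_of_card_ge hR
      (by rw [hcard2, (minimal_card_eq hRm hQ).1])
    exact h ▸ hRm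
  refine ⟨Q₂, hQ₂min, ?_⟩
  rw [← hA2]
  have hle : ∀ k, Nat.card ↥(Z ⊓ U k) ≤ Nat.card ↥(A ⊓ U k) := fun k =>
    hinj _ inf_le_left (U k) inf_le_right fun a ha => by
      rw [commutatorElement_def]
      exact (U k).mul_mem ((inferInstance : (U k).Normal).conj_mem a ha.2 x) ((U k).inv_mem ha.2)
  -- the last term of the series meeting `Z` outside `R₀`
  have hnot : ¬ Z ≤ R₀ := by
    intro hle'
    apply hx
    have hQ'Q : Q.map (MulAut.conj x).toMonoidHom ≤ Q := by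
      refine le_of_le_of_eq (le_of_eq ?_) (rfl : Q = Q)
      refine Subgroup.eq_of_le_of_card_ge ?_
        (Nat.card_congr (Q.equivMapOfInjective _ (MulAut.conj x).injective).toEquiv).le
      have hQ₁eq : Q₁ ⊓ Q ⊔ Subgroup.centralizer (Q₁ : Set G) = Q₁ := minimal_eq_inf_sup hQ' hQ
      show Q₁ ≤ Q
      refine hQ₁eq.symm.le.trans (sup_le inf_le_right fun y hy => hQc ?_)
      have hy' : x⁻¹ * y * x ∈ Z := by
        refine Subgroup.mem_centralizer_iff.mpr fun q hq => ?_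
        have := Subgroup.mem_centralizer_iff.mp hy (x * q * x⁻¹) ⟨q, hq, rfl⟩
        calc q * (x⁻¹ * y * x) = x⁻¹ * ((x * q * x⁻¹) * y) * x := by group
          _ = x⁻¹ * (y * (x * q * x⁻¹)) * x := by rw [this]
          _ = _ := by group
      simpa [mul_assoc] using (hle' hy').2
    rw [Subgroup.mem_normalizer_iff]
    have heq : Q.map (MulAut.conj x).toMonoidHom = Q := Subgroup.eq_of_le_of_card_ge hQ'Q
      (Nat.card_congr (Q.equivMapOfInjective _ (MulAut.conj x).injective).toEquiv).le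
    intro y
    constructor
    · intro hy; rw [← heq]; exact ⟨y, hy, rfl⟩
    · intro hy
      rw [← heq] at hy
      obtain ⟨q, hq, hqy⟩ := hy
      have : q = y := by simpa using hqy
      rwa [← this]
  have hex : ∃ k, Z ⊓ U k ≤ R₀ := ⟨n, by rw [show U n = ⊥ from hn]; simp⟩
  obtain ⟨k, hk⟩ : ∃ k, Nat.find hex = k + 1 := by
    refine Nat.exists_eq_succ_of_ne_zero fun h0 => hnot ?_
    have := Nat.find_spec hex
    rw [h0] at this
    simpa [U] using this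
  have hk1 : Z ⊓ U (k + 1) ≤ R₀ := hk ▸ Nat.find_spec hex
  have hk2 : ¬ Z ⊓ U k ≤ R₀ := Nat.find_min hex (by omega)
  obtain ⟨a, ha, haR⟩ := SetLike.not_le_iff_exists.mp hk2
  have hkn : k + 1 < n := by
    by_contra hge
    apply haR
    have hle' : k + 1 = n := by
      have := Nat.find_min' hex (show Z ⊓ U n ≤ R₀ by rw [show U n = ⊥ from hn]; simp)
      omega
    -- then `⁅x, a⁆ = 1`
    refine ⟨ha.1, ?_⟩
    have h1 : ⁅x, a⁆ ∈ U (k + 1) := by
      rw [show U (k + 1) = ⁅U k, ⊤⁆ from rfl, Subgroup.commutator_comm]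
      exact Subgroup.commutator_mem_commutator trivial ha.2
    rw [hle', show U n = ⊥ from hn, Subgroup.mem_bot, commutatorElement_def] at h1
    rw [mul_inv_eq_one.mp h1]; exact ha.1
  refine Finset.sum_lt_sum (fun k _ => hle k) ⟨k + 1, Finset.mem_range.mpr hkn, ?_⟩
  refine lt_of_le_of_ne (hle (k + 1)) fun heq => haR ⟨ha.1, ?_⟩
  have hsub : Z ⊓ U (k + 1) ≤ A ⊓ U (k + 1) := le_inf (hk1.trans le_sup_left) inf_le_right
  have h1 : ⁅x, a⁆ ∈ A ⊓ U (k + 1) := by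
    refine ⟨Subgroup.mem_sup_right (Subgroup.subset_closure ⟨a, ha.1, rfl⟩), ?_⟩
    show ⁅x, a⁆ ∈ U (k + 1)
    rw [show U (k + 1) = ⁅U k, ⊤⁆ from rfl, Subgroup.commutator_comm]
    exact Subgroup.commutator_mem_commutator trivial ha.2
  rw [← Subgroup.eq_of_le_of_card_ge hsub heq.ge] at h1
  have := Z.mul_mem h1.1 ha.1
  rwa [commutatorElement_def, inv_mul_cancel_right] at this

/-- There is a minimal centrally large subgroup normalized by `J(G)` and by all minimal centrally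
large subgroups. -/
theorem exists_normalized [Group.IsNilpotent G] :
    ∃ Q : Subgroup G, IsMinimalCentrallyLarge Q ∧
      thompsonSubgroupA G ≤ Subgroup.normalizer (Q : Set G) ∧
      minimalCentrallyLargeJoin G ≤ Subgroup.normalizer (Q : Set G) := by
  classical
  obtain ⟨n, hn⟩ : ∃ n, Subgroup.lowerCentralSeries (⊤ : Subgroup G) n = ⊥ :=
    ⟨_, lowerCentralSeries_nilpotencyClass⟩
  obtain ⟨Q₀, hQ₀⟩ := exists_centrallyLarge (G := G)
  obtain ⟨R₀, _, hR₀⟩ := exists_minimal_le hQ₀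
  obtain ⟨Q, hQ, hmax⟩ := Set.exists_max_image {Q : Subgroup G | IsMinimalCentrallyLarge Q}
    (fun Q => weight n (Subgroup.centralizer (Q : Set G))) (Set.toFinite _) ⟨R₀, hR₀⟩
  have key : ∀ x : G, (∀ a ∈ Subgroup.centralizer (Q : Set G),
      ∀ c ∈ Subgroup.centralizer (Q : Set G), Commute ⁅x, a⁆ ⁅x, c⁆) →
      x ∈ Subgroup.normalizer (Q : Set G) := by
    intro x hx
    by_contra hxn
    obtain ⟨Q', hQ', hlt⟩ := exists_heavier hQ hx hxn n hn
    exact absurd (hmax Q' hQ') (not_le.mpr hlt)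
  obtain ⟨hQl, hQc⟩ := isCentrallyLarge_iff.mp hQ.1
  have hZc := commute_of_mem (A := Subgroup.centralizer (Q : Set G)) (Subgroup.centralizer_le hQc)
  refine ⟨Q, hQ, sSup_le fun A hA => ?_, sSup_le fun R hR => ?_⟩
  · intro x hx
    refine key x fun a ha c hc => ?_
    have h := ito_commute (sup_maxAbelian hQ.1 hA).2.2.2 hZc
      (commute_of_mem (isMulCommutative_iff_le_centralizer.mp hA.1)) ha hx hc hx
    have h' := h.inv_inv
    rwa [commutatorElement_inv, commutatorElement_inv] at h'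
  · obtain ⟨hRl, hRc⟩ := isCentrallyLarge_iff.mp hR.1
    have h1 : Q ⊓ R ≤ Subgroup.normalizer (Q : Set G) := inf_le_left.trans Subgroup.le_normalizer
    have h2 : Subgroup.centralizer (R : Set G) ≤ Subgroup.normalizer (Q : Set G) := by
      intro x hx
      refine key x fun a ha c hc => ?_
      have h := ito_commute (large_centralizer_sup_eq_mul hQl hRl) hZc
        (commute_of_mem (A := Subgroup.centralizer (R : Set G)) (Subgroup.centralizer_le hRc))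
        ha hx hc hx
      have h' := h.inv_inv
      rwa [commutatorElement_inv, commutatorElement_inv] at h'
    calc R = (R ⊓ Q) ⊔ Subgroup.centralizer (R : Set G) := (minimal_eq_inf_sup hR hQ).symm
      _ ≤ _ := sup_le (inf_comm R Q ▸ h1) h2

end Cfsg.Agent.Lib.LocalEven2.CD
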