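import Cfsg.Agent.Lib.LocalEven2.SL2Nat

/-!
# Modules for `SL₂(2ⁿ)` on which the elements of order three are fixed point free
-/

set_option autoImplicit false

namespace Cfsg.Agent.Lib.LocalEven2.SL2Nat

variable {F : Type*} [Field F] [CharP F 2] {M : Type*} [AddCommGroup M]

/-- The elements of order three act without fixed points. -/
def FpfThree (ρ : Matrix.SpecialLinearGroup (Fin 2) F →* AddMonoid.End M) : Prop :=
  ∀ (a : Fˣ) (x : M), act ρ (upp (a : F) * low ((a⁻¹ : Fˣ) : F)) (act ρ (upp (a : F) * low ((a⁻¹ : Fˣ) : F)) x) +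
    act ρ (upp (a : F) * low ((a⁻¹ : Fˣ) : F)) x + x = 0

theorem weyl_eq (a : Fˣ) : weyl a = upp (a : F) * low ((a⁻¹ : Fˣ) : F) * upp (a : F) := by
  rw [weyl, CharTwo.neg_eq]

theorem units_neg_one : (-1 : Fˣ) = 1 := Units.ext (by simp [CharTwo.neg_eq])

theorem weyl_sq : weyl (1 : Fˣ) * weyl 1 = 1 := by
  have h := weyl_one_neg_one (F := F)
  rwa [units_neg_one] at h

theorem weyl_triple' (a b : Fˣ) : weyl a * weyl 1 * weyl b = weyl (a * b) := by
  have h := weyl_triple a b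
  rwa [units_neg_one] at h

/-- The scalar action on the fixed points of the upper unitriangular group. -/
noncomputable def lam (ρ : Matrix.SpecialLinearGroup (Fin 2) F →* AddMonoid.End M) (b : F) : M →+ M :=
  ((act ρ (upp b)).comp (act ρ (weyl 1))) + act ρ (weyl 1)

variable {ρ : Matrix.SpecialLinearGroup (Fin 2) F →* AddMonoid.End M}

theorem upp_sq (a : F) (x : M) : act ρ (upp a) (act ρ (upp a) x) = x := by
  rw [← rho_mul, ← upp_add, CharTwo.add_self_eq_zero, upp_zero, rho_one]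

theorem low_sq (a : F) (x : M) : act ρ (low a) (act ρ (low a) x) = x := by
  rw [← rho_mul, ← low_add, CharTwo.add_self_eq_zero, show low (0 : F) = 1 from
    sl_ext (by simp [coe_low, Matrix.one_fin_two]), rho_one]

theorem upp_comm (a b : F) (x : M) : act ρ (upp a) (act ρ (upp b) x) = act ρ (upp b) (act ρ (upp a) x) := by
  rw [← rho_mul, ← rho_mul, ← upp_add, ← upp_add, add_comm]

theorem FpfThree.flip (hr : FpfThree ρ) (a : Fˣ) (x : M) :
    act ρ (upp (a : F)) (act ρ (low ((a⁻¹ : Fˣ) : F)) x) + x +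
      act ρ (low ((a⁻¹ : Fˣ) : F)) (act ρ (upp (a : F)) x) = 0 := by
  have h := congrArg (fun z => act ρ (low ((a⁻¹ : Fˣ) : F)) (act ρ (upp (a : F)) z)) (hr a x)
  simpa [rho_mul, upp_sq, low_sq] using h

variable (h2 : ∀ x : M, x + x = 0) (hr : FpfThree ρ)
include h2

theorem neg_eq_self (x : M) : -x = x := neg_eq_of_add_eq_zero_right (h2 x)

theorem sub_eq_add' (x y : M) : x - y = x + y := by rw [sub_eq_add_neg, neg_eq_self h2]

theorem diff_fixed (a : F) (x : M) : act ρ (upp a) (act ρ (upp a) x + x) = act ρ (upp a) x + x := by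
  rw [map_add, upp_sq, add_comm]

include hr

theorem fpf_upp_fixL (a : Fˣ) {x : M} (hx : x ∈ fixL ρ) :
    act ρ (upp (a : F)) x + x = act ρ (weyl a) x := by
  have h := hr.flip a x
  rw [hx ((a⁻¹ : Fˣ) : F), add_eq_zero_iff_eq_neg'] at h
  rw [weyl_eq, rho_mul, rho_mul, h, neg_eq_self h2, diff_fixed h2]

theorem fpf_quadPart : fixL ρ ≤ quadPart ρ := by
  refine fun x hx => ⟨hx, fun a => ?_⟩
  rcases eq_or_ne a 0 with rfl | ha
  · rw [upp_zero, rho_one, sub_self]; exact zero_mem _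
  · rw [sub_eq_add' h2, show a = ((Units.mk0 a ha : Fˣ) : F) from rfl, fpf_upp_fixL h2 hr _ hx]
    exact weyl_fixL ρ _ hx

theorem fpf_disjoint : fixU ρ ⊓ fixL ρ = ⊥ := by
  rw [eq_bot_iff]
  rintro x ⟨hu, hl⟩
  have h := hr.flip 1 x
  rw [hl, hu, hl, h2, zero_add] at h
  exact AddSubgroup.mem_bot.mpr h

theorem upp_add_fixU (a : F) {z : M} (hz : z ∈ fixU ρ ⊔ fixL ρ) : act ρ (upp a) z + z ∈ fixU ρ := by
  obtain ⟨k, hk, l, hl, rfl⟩ := AddSubgroup.mem_sup.mp hz
  have : act ρ (upp a) (k + l) + (k + l) = act ρ (upp a) l - l := by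
    rw [map_add, hk a, sub_eq_add' h2,
      show k + act ρ (upp a) l + (k + l) = (k + k) + (act ρ (upp a) l + l) by abel, h2, zero_add]
  rw [this]
  exact (fpf_quadPart h2 hr hl).2 a

theorem fixed_of_fixed {a : Fˣ} {z : M} (hz : z ∈ fixU ρ ⊔ fixL ρ) (h : act ρ (upp (a : F)) z = z) :
    z ∈ fixU ρ := by
  obtain ⟨k, hk, l, hl, rfl⟩ := AddSubgroup.mem_sup.mp hz
  rw [map_add, hk] at h
  have h0 : act ρ (weyl a) l = 0 := by
    rw [← fpf_upp_fixL h2 hr a hl, add_left_cancel h, h2]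
  rw [show l = 0 from rho_inj ρ _ (h0.trans (map_zero _).symm), add_zero]
  exact hk

theorem lam_eq (b : Fˣ) {v : M} (hv : v ∈ fixU ρ) :
    lam ρ (b : F) v = act ρ (weyl b) (act ρ (weyl 1) v) := by
  rw [← fpf_upp_fixL h2 hr b (weyl_fixU ρ 1 hv)]
  rfl

theorem lam_apply (b : F) (v : M) :
    lam ρ b v = act ρ (upp b) (act ρ (weyl 1) v) + act ρ (weyl 1) v := rfl

theorem lam_zero (v : M) : lam ρ (0 : F) v = 0 := by rw [lam_apply h2 hr, upp_zero, rho_one, h2]

theorem lam_one {v : M} (hv : v ∈ fixU ρ) : lam ρ (1 : F) v = v := by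
  rw [show (1 : F) = ((1 : Fˣ) : F) from rfl, lam_eq h2 hr 1 hv, ← rho_mul, weyl_sq, rho_one]

theorem lam_mem (b : F) {v : M} (hv : v ∈ fixU ρ) : lam ρ b v ∈ fixU ρ :=
  upp_add_fixU h2 hr b (AddSubgroup.mem_sup_right (weyl_fixU ρ 1 hv))

theorem lam_add (b c : F) {v : M} (hv : v ∈ fixU ρ) :
    lam ρ (b + c) v = lam ρ b v + lam ρ c v := by
  set l := act ρ (weyl 1) v
  have hl : l ∈ fixL ρ := weyl_fixU ρ 1 hv
  have h1 : act ρ (upp b) (act ρ (upp c) l + l) = act ρ (upp c) l + l :=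
    upp_add_fixU h2 hr c (AddSubgroup.mem_sup_right hl) b
  rw [map_add] at h1
  show act ρ (upp (b + c)) l + l = (act ρ (upp b) l + l) + (act ρ (upp c) l + l)
  rw [upp_add, rho_mul, ← h1,
    show act ρ (upp b) l + l + (act ρ (upp b) (act ρ (upp c) l) + act ρ (upp b) l) =
      (act ρ (upp b) (act ρ (upp c) l) + l) + (act ρ (upp b) l + act ρ (upp b) l) by abel, h2, add_zero]

theorem lam_lam (b c : F) {v : M} (hv : v ∈ fixU ρ) : lam ρ b (lam ρ c v) = lam ρ (b * c) v := by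
  rcases eq_or_ne b 0 with rfl | hb
  · rw [zero_mul, lam_zero h2 hr, lam_zero h2 hr]
  rcases eq_or_ne c 0 with rfl | hc
  · rw [mul_zero, lam_zero h2 hr, map_zero]
  lift b to Fˣ using hb.isUnit
  lift c to Fˣ using hc.isUnit
  rw [← Units.val_mul, lam_eq h2 hr b (lam_mem h2 hr _ hv), lam_eq h2 hr c hv, lam_eq h2 hr (b * c) hv,
    ← rho_mul, ← rho_mul, weyl_triple']

theorem lam_inj {b : F} (hb : b ≠ 0) {v : M} (hv : v ∈ fixU ρ) (h : lam ρ b v = 0) : v = 0 := by
  have h1 := lam_lam h2 hr b⁻¹ b hv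
  rw [h, map_zero, inv_mul_cancel₀ hb, lam_one h2 hr hv] at h1
  exact h1.symm

variable [Fintype F] [Finite M]

theorem fpf_sup : fixU ρ ⊔ fixL ρ = ⊤ := by
  set W := fixU ρ ⊔ fixL ρ with hW
  by_contra hne
  obtain ⟨y₀, hy₀W, hy₀⟩ := exists_fixed_mod (ρ := ρ) (p := 2) (fun x => by rw [two_nsmul, h2]) W hne
    fun a x hx => by
      rw [show act ρ (upp a) x = (act ρ (upp a) x + x) + x by rw [add_assoc, h2, add_zero]]
      exact add_mem (AddSubgroup.mem_sup_left (upp_add_fixU h2 hr a hx)) hx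
  have hd0 : ∀ b, act ρ (upp b) y₀ + y₀ ∈ fixU ρ := fun b => by
    rcases eq_or_ne b 0 with rfl | hb
    · rw [upp_zero, rho_one, h2]; exact zero_mem _
    lift b to Fˣ using hb.isUnit
    exact fixed_of_fixed h2 hr (sub_eq_add' h2 (act ρ (upp (b : F)) y₀) y₀ ▸ hy₀ _) (diff_fixed h2 _ _)
  set l₀ := act ρ (weyl 1) (act ρ (upp 1) y₀ + y₀) with hl₀
  have hl₀L : l₀ ∈ fixL ρ := weyl_fixU ρ 1 (hd0 1)
  set y := y₀ + l₀ with hy
  have hyW : y ∉ W := fun h => hy₀W (by
    have := sub_mem h (AddSubgroup.mem_sup_right (T := fixL ρ) (S := fixU ρ) hl₀L)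
    rwa [hy, add_sub_cancel_right] at this)
  let f : F → M := fun b => act ρ (upp b) y + y
  have hfd : ∀ b, f b = act ρ (upp b) y + y := fun _ => rfl
  have hfU : ∀ b, f b ∈ fixU ρ := fun b => by
    have : f b = (act ρ (upp b) y₀ + y₀) + (act ρ (upp b) l₀ + l₀) := by rw [hfd, hy, map_add]; abel
    rw [this]
    exact add_mem (hd0 b) (upp_add_fixU h2 hr b (AddSubgroup.mem_sup_right hl₀L))
  have hf1 : act ρ (upp (1 : F)) y = y := by
    have h1 : act ρ (upp (1 : F)) l₀ + l₀ = act ρ (upp 1) y₀ + y₀ := by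
      rw [show (1 : F) = ((1 : Fˣ) : F) from rfl, fpf_upp_fixL h2 hr 1 hl₀L, hl₀, ← rho_mul, weyl_sq, rho_one]
      rfl
    have : act ρ (upp (1 : F)) y + y = 0 := by
      rw [hy, map_add, show act ρ (upp (1 : F)) y₀ + act ρ (upp 1) l₀ + (y₀ + l₀) =
        (act ρ (upp 1) y₀ + y₀) + (act ρ (upp 1) l₀ + l₀) by abel, h1, h2]
    rw [add_eq_zero_iff_eq_neg.mp this, neg_eq_self h2]
  set y' := act ρ (weyl 1) y with hy'
  have hy'1 : act ρ (upp (1 : F)) y' + y' = y := by
    have h := hr.flip 1 y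
    simp only [inv_one, Units.val_one, hf1] at h
    rw [hy', weyl_eq, rho_mul, rho_mul]
    simp only [inv_one, Units.val_one, hf1, upp_sq]
    rw [show act ρ (low (1 : F)) y + act ρ (upp 1) (act ρ (low 1) y) =
      (act ρ (upp 1) (act ρ (low 1) y) + y + act ρ (low 1) y) + -y by abel, h, zero_add, neg_eq_self h2]
  have hlow : ∀ b : F, act ρ (low b) y' + y' ∈ fixL ρ := fun b => by
    rw [hy', ← rho_mul, low_mul_weyl, rho_mul, ← map_add]
    exact weyl_fixU ρ 1 (hfU _)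
  have hWu : ∀ (a : F), ∀ z ∈ W, act ρ (upp a) z ∈ W := fun a z hz => by
    rw [show act ρ (upp a) z = (act ρ (upp a) z + z) + z by rw [add_assoc, h2, add_zero]]
    exact add_mem (AddSubgroup.mem_sup_left (upp_add_fixU h2 hr a hz)) hz
  have heq : ∀ b : Fˣ, act ρ (upp (b : F)) y' + y' + act ρ (weyl b) (act ρ (weyl 1) y) ∈ W := by
    intro b
    rw [← hy', weyl_eq, rho_mul, rho_mul]
    set z := act ρ (upp (b : F)) y' + y' with hz
    set w := act ρ (low ((b⁻¹ : Fˣ) : F)) y' + y'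
    have h1 : act ρ (upp (b : F)) y' = z + y' := by rw [hz, add_assoc, h2, add_zero]
    have h3 : act ρ (low ((b⁻¹ : Fˣ) : F)) (act ρ (upp (b : F)) y') = z + (act ρ (upp (b : F)) w + w) + w := by
      have hf := hr.flip b y'
      rw [show act ρ (upp (b : F)) (act ρ (low ((b⁻¹ : Fˣ) : F)) y') = act ρ (upp (b : F)) w + act ρ (upp (b : F)) y' by
        rw [← map_add, show w + y' = act ρ (low ((b⁻¹ : Fˣ) : F)) y' from by rw [add_assoc, h2, add_zero]]] at hf
      rw [add_eq_zero_iff_eq_neg'] at hf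
      rw [hf, neg_eq_self h2, h1, show z + (act ρ (upp (b : F)) w + w) + w = act ρ (upp (b : F)) w + z + (w + w) by abel,
        h2, add_zero, show act ρ (upp (b : F)) w + (z + y') + y' = act ρ (upp (b : F)) w + z + (y' + y') by abel, h2,
        add_zero]
    rw [h3, map_add, map_add, map_add, upp_sq, hz, diff_fixed h2]
    have hwW : w ∈ W := AddSubgroup.mem_sup_right (hlow _)
    rw [show ∀ A B C D : M, A + B + (B + A + (C + D) + C) = (A + A) + (B + B) + (C + C) + D from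
      fun A B C D => by abel]
    simp only [h2, zero_add]
    exact hwW
  have hE : ∀ b : Fˣ, f (b : F) + f ((b⁻¹ : Fˣ) : F) = lam ρ (b : F) (f (((b⁻¹ * b⁻¹ : Fˣ)) : F)) := by
    intro b
    obtain ⟨k, hk, l, hl, hkl⟩ := AddSubgroup.mem_sup.mp (heq b)
    have hcom : ∀ c : F, act ρ (upp c) (act ρ (weyl b) (act ρ (weyl 1) y)) + act ρ (weyl b) (act ρ (weyl 1) y) =
        act ρ (weyl b) (act ρ (weyl 1) (f (c * ((b⁻¹ : Fˣ) : F) * ((b⁻¹ : Fˣ) : F)))) := by
      intro c
      rw [← rho_mul ρ (upp c), upp_mul_weyl, rho_mul, ← rho_mul ρ (low _), low_mul_weyl, rho_mul, ← map_add,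
        ← map_add, hfd]
      congr 4
      simp [CharTwo.neg_eq]
      ring_nf
    have hUe : ∀ c : Fˣ, act ρ (weyl c) l = (act ρ (upp (c : F)) (act ρ (upp (b : F)) y' + y') +
        (act ρ (upp (b : F)) y' + y')) +
          act ρ (weyl b) (act ρ (weyl 1) (f ((c : F) * ((b⁻¹ : Fˣ) : F) * ((b⁻¹ : Fˣ) : F)))) := by
      intro c
      rw [← hcom, ← fpf_upp_fixL h2 hr c hl]
      have : act ρ (upp (c : F)) (k + l) + (k + l) = act ρ (upp (c : F)) l + l := by
        rw [map_add, hk, show k + act ρ (upp (c : F)) l + (k + l) = k + k + (act ρ (upp (c : F)) l + l) by abel,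
          h2, zero_add]
      rw [← this, hkl, map_add]
      abel
    have e1 := hUe b
    rw [diff_fixed h2, h2, zero_add, Units.mul_inv, one_mul] at e1
    have hl' : l = act ρ (weyl 1) (f ((b⁻¹ : Fˣ) : F)) := rho_inj ρ _ e1
    have e2 := hUe 1
    rw [hl', ← rho_mul, weyl_sq, rho_one, Units.val_one, map_add, upp_comm 1 (b : F) y',
      show act ρ (upp (b : F)) (act ρ (upp 1) y') + act ρ (upp 1) y' + (act ρ (upp (b : F)) y' + y') =
        act ρ (upp (b : F)) (act ρ (upp 1) y' + y') + (act ρ (upp 1) y' + y') by rw [map_add]; abel,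
      hy'1, ← hfd, one_mul, ← lam_eq h2 hr b (hfU _), ← Units.val_mul] at e2
    rw [e2, ← add_assoc, h2, zero_add]
  have hfadd : ∀ b c, f (b + c) = f b + f c := fun b c => by
    have h1 : act ρ (upp b) (f c) = f c := hfU c b
    rw [hfd c, map_add] at h1
    rw [hfd, hfd b, hfd c, upp_add, rho_mul, ← h1,
      show act ρ (upp b) y + y + (act ρ (upp b) (act ρ (upp c) y) + act ρ (upp b) y) =
        (act ρ (upp b) (act ρ (upp c) y) + y) + (act ρ (upp b) y + act ρ (upp b) y) by abel, h2, add_zero]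
  have hf0 : f 0 = 0 := by rw [hfd, upp_zero, rho_one, h2]
  have hfone : f 1 = 0 := by rw [hfd, hf1, h2]
  have hsq : ∀ b : Fˣ, f ((b : F) * b) = lam ρ ((b : F) + 1) (f b) := by
    intro b
    have h3 := hE b⁻¹
    simp only [inv_inv] at h3
    rw [add_comm, hE b] at h3
    have h4 : f ((b : F) * b) = lam ρ ((b : F) * b) (f ((b⁻¹ * b⁻¹ : Fˣ) : F)) := by
      rw [← Units.val_mul b b]
      have := congrArg (lam ρ (b : F)) h3
      rw [lam_lam h2 hr _ _ (hfU _), lam_lam h2 hr _ _ (hfU _), Units.mul_inv, lam_one h2 hr (hfU _)] at this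
      simpa using this.symm
    obtain ⟨c, hc⟩ := (frobeniusEquiv F 2).surjective ((b : F))
    have hc' : c * c = (b : F) := by rw [← hc, frobeniusEquiv_apply, frobenius_def, sq]
    have hc0 : c ≠ 0 := fun h => by rw [h, zero_mul] at hc'; exact b.ne_zero hc'.symm
    lift c to Fˣ using hc0.isUnit
    have hb : b = c * c := Units.ext hc'.symm
    have h5 : f (b : F) = lam ρ (b : F) (f ((b⁻¹ : Fˣ) : F)) := by
      have h3c := hE c⁻¹
      simp only [inv_inv] at h3c
      rw [add_comm, hE c] at h3c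
      have := congrArg (lam ρ (c : F)) h3c
      rw [lam_lam h2 hr _ _ (hfU _), lam_lam h2 hr _ _ (hfU _), Units.mul_inv, lam_one h2 hr (hfU _)] at this
      rw [hb, mul_inv, Units.val_mul]
      simpa using this.symm
    have h6 := congrArg (lam ρ (b : F)) (hE b)
    rw [map_add, ← h5, lam_lam h2 hr _ _ (hfU _), ← h4] at h6
    rw [← h6, lam_add h2 hr _ _ (hfU _), lam_one h2 hr (hfU _)]
  have hg : ∀ b : F, f (b * b) = lam ρ (b + 1) (f b) := fun b => by
    rcases eq_or_ne b 0 with rfl | hb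
    · rw [zero_mul, hf0, map_zero]
    lift b to Fˣ using hb.isUnit
    exact hsq b
  have hzero : ∀ b, f b = 0 := fun b => by
    have h := hg (b + 1)
    rw [show (b + 1) * (b + 1) = b * b + 1 by
      rw [← sq, CharTwo.add_sq, one_pow, sq], show b + 1 + 1 = b by rw [add_assoc, CharTwo.add_self_eq_zero, add_zero],
      hfadd, hfadd, hfone, add_zero, add_zero, hg, lam_add h2 hr _ _ (hfU _), lam_one h2 hr (hfU _),
      add_eq_left] at h
    exact h
  exact hyW (AddSubgroup.mem_sup_left fun a => by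
    rw [← sub_eq_zero, sub_eq_add' h2]; exact hzero a)

theorem fpf_quadratic (a b : F) (x : M) :
    act ρ (upp a) (act ρ (upp b) x + x) = act ρ (upp b) x + x :=
  upp_add_fixU h2 hr b (by rw [fpf_sup h2 hr]; exact AddSubgroup.mem_top x) a

theorem fixU_of_fixed {z : M} (h : act ρ (upp (1 : F)) z = z) : z ∈ fixU ρ :=
  fixed_of_fixed h2 hr (a := 1) (by rw [fpf_sup h2 hr]; exact AddSubgroup.mem_top z) h

theorem upp_eq_lam (c : F) (z : M) :
    act ρ (upp c) z + z = lam ρ c (act ρ (upp 1) z + z) := by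
  obtain ⟨k, hk, l, hl, rfl⟩ := AddSubgroup.mem_sup.mp (show z ∈ fixU ρ ⊔ fixL ρ by
    rw [fpf_sup h2 hr]; exact AddSubgroup.mem_top z)
  have h : ∀ a, act ρ (upp a) (k + l) + (k + l) = act ρ (upp a) l + l := fun a => by
    rw [map_add, hk, show k + act ρ (upp a) l + (k + l) = k + k + (act ρ (upp a) l + l) by abel, h2, zero_add]
  rw [h, h, lam_apply h2 hr, show act ρ (upp (1 : F)) l + l = act ρ (weyl 1) l from fpf_upp_fixL h2 hr 1 hl,
    ← rho_mul ρ (weyl 1), weyl_sq, rho_one]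

end Cfsg.Agent.Lib.LocalEven2.SL2Nat
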