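import Cfsg.Agent.Lib.LocalEven2.SL2Nat
import Cfsg.Agent.Lib.LocalEven2.Thompson
import Cfsg.Prelude.Def_BaumannBlocks

/-!
# Conjugation actions of `SL₂(F)`
-/

set_option autoImplicit false

namespace Cfsg.Agent.Lib.LocalEven2.SL2Nat

variable {F : Type*} [Field F]

variable (F) in
/-- The upper unitriangular group. -/
def uGroup : Subgroup (Matrix.SpecialLinearGroup (Fin 2) F) where
  carrier := Set.range upp
  one_mem' := ⟨0, upp_zero⟩
  mul_mem' := by rintro _ _ ⟨a, rfl⟩ ⟨b, rfl⟩; exact ⟨a + b, upp_add a b⟩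
  inv_mem' := by
    rintro _ ⟨a, rfl⟩
    refine ⟨-a, eq_inv_of_mul_eq_one_left ?_⟩
    rw [← upp_add, neg_add_cancel, upp_zero]

theorem upp_pow (a : F) (n : ℕ) : upp a ^ n = upp (n * a) := by
  induction n with
  | zero => simp [upp_zero]
  | succ n ih => rw [pow_succ, ih, ← upp_add]; congr 1; push_cast; ring

theorem uGroup_isPGroup {p : ℕ} [Fact p.Prime] [CharP F p] : IsPGroup p ↥(uGroup F) := by
  rintro ⟨_, a, rfl⟩
  exact ⟨1, Subtype.ext (by simp [pow_one, upp_pow, CharP.cast_eq_zero, upp_zero])⟩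

theorem mem_uGroup_of_pgroup {p : ℕ} [hp : Fact p.Prime] [CharP F p]
    {P : Subgroup (Matrix.SpecialLinearGroup (Fin 2) F)} (hP : IsPGroup p ↥P) (hU : uGroup F ≤ P)
    {g : Matrix.SpecialLinearGroup (Fin 2) F} (hg : g ∈ P) : g ∈ uGroup F := by
  have htr : ∀ g ∈ P, g 0 0 + g 1 1 = 2 := by
    intro g hg
    obtain ⟨k, hk⟩ := hP ⟨g, hg⟩
    have hk' : (g : Matrix (Fin 2) (Fin 2) F) ^ p ^ k = 1 := by
      rw [← Matrix.SpecialLinearGroup.coe_pow, show g ^ p ^ k = 1 from congrArg Subtype.val hk,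
        Matrix.SpecialLinearGroup.coe_one]
    have hnil : IsNilpotent ((g : Matrix (Fin 2) (Fin 2) F) - 1) := ⟨p ^ k, by
      haveI : CharP (Matrix (Fin 2) (Fin 2) F) p := Matrix.charP p
      rw [sub_pow_char_pow_of_commute _ _ (Commute.one_right _), hk', one_pow, sub_self]⟩
    have := (Matrix.isNilpotent_trace_of_isNilpotent hnil).eq_zero
    simp [Matrix.trace_fin_two, Matrix.trace_sub] at this
    linear_combination this
  have hc : g 1 0 = 0 := by
    have h1 := htr g hg
    have h2 := htr _ (mul_mem (hU ⟨1, rfl⟩) hg)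
    simp [Matrix.SpecialLinearGroup.coe_mul, coe_upp, Matrix.mul_apply, Fin.sum_univ_two] at h2
    linear_combination h2 - h1
  have hd : g 0 0 * g 1 1 - g 0 1 * g 1 0 = 1 := by
    have := g.2; rwa [Matrix.det_fin_two] at this
  have h0 : g 0 0 = 1 := by
    have h1 := htr g hg
    have : (g 0 0 - 1) ^ 2 = 0 := by linear_combination (g 0 0) * h1 - hd - (g 0 1) * hc
    exact sub_eq_zero.mp (eq_zero_of_pow_eq_zero this)
  refine ⟨g 0 1, sl_ext ?_⟩
  have h1 : g 1 1 = 1 := by linear_combination (htr g hg) - h0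
  rw [coe_upp]
  ext i j
  fin_cases i <;> fin_cases j <;> simp [h0, h1, hc]

/-- Some isomorphism sends a given Sylow subgroup to the upper unitriangular group. -/
theorem exists_iso_uGroup [Fintype F] {p : ℕ} [Fact p.Prime] [CharP F p] {H : Type*} [Group H] [Finite H]
    (e : H ≃* Matrix.SpecialLinearGroup (Fin 2) F) (S : Sylow p H) :
    ∃ e' : H ≃* Matrix.SpecialLinearGroup (Fin 2) F, ∀ h : H, e' h ∈ uGroup F ↔ h ∈ (S : Subgroup H) := by
  haveI : Finite (Matrix.SpecialLinearGroup (Fin 2) F) := Finite.of_equiv H e.toEquiv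
  obtain ⟨P, hP⟩ := (uGroup_isPGroup (F := F) (p := p)).exists_le_sylow
  have hPU : (P : Subgroup _) = uGroup F := le_antisymm (fun g hg => mem_uGroup_of_pgroup P.2 hP hg) hP
  obtain ⟨x, hx⟩ := MulAction.exists_smul_eq H S (P.comapOfInjective e.toMonoidHom e.injective (by simp))
  refine ⟨(MulAut.conj x).trans e, fun h => ?_⟩
  rw [← hPU]
  have hS : ((x • S : Sylow p H) : Subgroup H) = (P : Subgroup _).comap e.toMonoidHom := by rw [hx]; rfl
  show e.toMonoidHom (x * h * x⁻¹) ∈ (P : Subgroup _) ↔ _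
  rw [← Subgroup.mem_comap, ← hS, Sylow.coe_subgroup_smul, Subgroup.mem_pointwise_smul_iff_inv_smul_mem,
    MulAut.smul_def]
  simp [mul_assoc]

open scoped IsMulCommutative

variable {X : Type*} [Group X] {G V : Subgroup X}

/-- The conjugation action of `G` on `V`, transported to `SL₂(F)`. -/
def conjRep (hGV : G ≤ Subgroup.normalizer (V : Set X)) (e : ↥G ≃* Matrix.SpecialLinearGroup (Fin 2) F)
    [IsMulCommutative ↥V] : Matrix.SpecialLinearGroup (Fin 2) F →* AddMonoid.End (Additive ↥V) where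
  toFun g := MonoidHom.toAdditive (MonoidHom.mk'
    (fun v : ↥V => (⟨(e.symm g : X) * v * (e.symm g : X)⁻¹,
      (Subgroup.mem_normalizer_iff.mp (hGV (e.symm g).2) v).mp v.2⟩ : ↥V))
    (fun v w => Subtype.ext (by simp only [Subgroup.coe_mul]; group)))
  map_one' := by
    refine DFunLike.ext _ _ fun v => ?_
    apply Additive.toMul.injective
    apply Subtype.ext
    show (e.symm 1 : X) * ((Additive.toMul v : ↥V) : X) * (e.symm 1 : X)⁻¹ = ((Additive.toMul v : ↥V) : X)
    simp
  map_mul' g h := by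
    refine DFunLike.ext _ _ fun v => ?_
    apply Additive.toMul.injective
    apply Subtype.ext
    show (e.symm (g * h) : X) * ((Additive.toMul v : ↥V) : X) * (e.symm (g * h) : X)⁻¹ =
      (e.symm g : X) * ((e.symm h : X) * ((Additive.toMul v : ↥V) : X) * (e.symm h : X)⁻¹) * (e.symm g : X)⁻¹
    simp [mul_assoc]

theorem conjRep_apply (hGV : G ≤ Subgroup.normalizer (V : Set X)) (e : ↥G ≃* Matrix.SpecialLinearGroup (Fin 2) F)
    [IsMulCommutative ↥V] (g : Matrix.SpecialLinearGroup (Fin 2) F) (v : Additive ↥V) :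
    ((Additive.toMul (act (conjRep hGV e) g v) : ↥V) : X) =
      (e.symm g : X) * ((Additive.toMul v : ↥V) : X) * ((e.symm g : X))⁻¹ := rfl

theorem natural_of_span [Finite X] [Fintype F] (hGV : G ≤ Subgroup.normalizer (V : Set X))
    [IsMulCommutative ↥V] (e : ↥G ≃* Matrix.SpecialLinearGroup (Fin 2) F)
    (hd : fixU (conjRep hGV e) ⊓ fixL (conjRep hGV e) = ⊥) (hall : fixL (conjRep hGV e) ≤ quadPart (conjRep hGV e))
    (hne : fixL (conjRep hGV e) ≠ ⊥)
    (hirr : ∀ A : AddSubgroup (Additive ↥V), (∀ g, ∀ x ∈ A, act (conjRep hGV e) g x ∈ A) → A = ⊥ ∨ A = ⊤) :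
    Cfsg.ActsAsSL2OnSection F ⊤ G V ⊥ := by
  haveI : Finite (Additive ↥V) := inferInstanceAs (Finite ↥V)
  obtain ⟨x, hx, hx0⟩ := (AddSubgroup.bot_or_exists_ne_zero _).resolve_left hne
  obtain ⟨f, hinj, hxr, hf⟩ := exists_natural hd (hall hx) hx0 hall
  have hsurj : Function.Surjective f := by
    rcases hirr f.range (fun g y ⟨v, hv⟩ => ⟨(g : Matrix (Fin 2) (Fin 2) F).mulVec v, by rw [← hv, hf]⟩) with h | h
    · rw [h, AddSubgroup.mem_bot] at hxr
      exact absurd hxr hx0
    · exact AddMonoidHom.range_eq_top.mp h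
  set E := AddEquiv.ofBijective f ⟨hinj, hsurj⟩
  refine ⟨hGV, bot_le, e.toMonoidHom, AddMonoidHom.toMultiplicativeRight E.symm.toAddMonoidHom,
    MonoidHom.range_eq_top.mpr e.surjective, ?_, ?_, ?_⟩
  · intro m
    exact ⟨Additive.toMul (E (Multiplicative.toAdd m)), E.symm_apply_apply _⟩
  · intro u
    constructor
    · intro h
      have : E.symm (Additive.ofMul u) = 0 := h
      have h2 : Additive.ofMul u = 0 := E.symm.injective (this.trans (map_zero _).symm)
      exact Subgroup.mem_bot.mpr (congrArg Subtype.val h2)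
    · intro h
      rw [show u = 1 from Subtype.ext (Subgroup.mem_bot.mp h), map_one]
  · intro g u
    refine ⟨Additive.toMul (act (conjRep hGV e) (e g) (Additive.ofMul u)), ?_, ?_⟩
    · rw [conjRep_apply, e.symm_apply_apply]; rfl
    · show E.symm (act (conjRep hGV e) (e g) (Additive.ofMul u)) = _
      rw [AddEquiv.symm_apply_eq]
      refine Eq.trans ?_ (hf _ _)
      exact congrArg _ (E.apply_symm_apply (Additive.ofMul u)).symm

end Cfsg.Agent.Lib.LocalEven2.SL2Nat
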