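import Cfsg.Agent.Lib.LocalEven2.SL2FpfLayers
import Cfsg.Agent.Lib.LocalEven2.SL2NatBridge
import Cfsg.Agent.Lib.SL2Trace.Basic

/-!
# Extensions of `2`-groups by `SL₂(2ⁿ)` with a fixed point free element of order three
-/

set_option autoImplicit false

namespace Cfsg.Agent.Lib.LocalEven2.SL2Nat

open scoped IsMulCommutative commutatorElement

variable {F : Type*} [Field F] [CharP F 2]

omit [CharP F 2] in
theorem exists_mulVec_eq {v w : Fin 2 → F} (hv : v ≠ 0) (hw : w ≠ 0) :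
    ∃ g : Matrix.SpecialLinearGroup (Fin 2) F, (g : Matrix (Fin 2) (Fin 2) F).mulVec v = w := by
  have key : ∀ v : Fin 2 → F, v ≠ 0 →
      ∃ g : Matrix.SpecialLinearGroup (Fin 2) F, (g : Matrix (Fin 2) (Fin 2) F).mulVec ![1, 0] = v := by
    intro v hv
    rcases eq_or_ne (v 0) 0 with h0 | h0
    · have h1 : v 1 ≠ 0 := fun h => hv (funext fun i => by fin_cases i; exacts [h0, h])
      refine ⟨⟨!![v 0, -(v 1)⁻¹; v 1, 0], by simp [Matrix.det_fin_two, h0, h1]⟩, funext fun i => ?_⟩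
      fin_cases i <;> simp [Matrix.mulVec, dotProduct, Fin.sum_univ_two]
    · refine ⟨⟨!![v 0, 0; v 1, (v 0)⁻¹], by simp [Matrix.det_fin_two, h0]⟩, funext fun i => ?_⟩
      fin_cases i <;> simp [Matrix.mulVec, dotProduct, Fin.sum_univ_two]
  obtain ⟨g, hg⟩ := key v hv
  obtain ⟨h, hh⟩ := key w hw
  refine ⟨h * g⁻¹, ?_⟩
  rw [← hg, Matrix.mulVec_mulVec, ← Matrix.SpecialLinearGroup.coe_mul, inv_mul_cancel_right, hh]

/-- A fixed point free module is a direct sum of natural modules. -/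
theorem fpf_decomposition {M : Type*} [AddCommGroup M] [Finite M] [Fintype F]
    {ρ : Matrix.SpecialLinearGroup (Fin 2) F →* AddMonoid.End M}
    (h2 : ∀ x : M, x + x = 0) (hr : FpfThree ρ) :
    ∃ (k : ℕ) (f : Fin k → (Fin 2 → F) →+ M), (∀ i, Function.Injective (f i)) ∧
      (∀ i (g : Matrix.SpecialLinearGroup (Fin 2) F) v,
        act ρ g (f i v) = f i ((g : Matrix (Fin 2) (Fin 2) F).mulVec v)) ∧
      iSupIndep (fun i => (f i).range) ∧ ⨆ i, (f i).range = ⊤ := by
  let P : AddSubgroup M → Prop := fun N =>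
    ∃ (k : ℕ) (f : Fin k → (Fin 2 → F) →+ M), (∀ i, Function.Injective (f i)) ∧
      (∀ i (g : Matrix.SpecialLinearGroup (Fin 2) F) v,
        act ρ g (f i v) = f i ((g : Matrix (Fin 2) (Fin 2) F).mulVec v)) ∧
      iSupIndep (fun i => (f i).range) ∧ ⨆ i, (f i).range = N
  haveI : Finite (AddSubgroup M) := Finite.of_injective (fun N => (N : Set M)) SetLike.coe_injective
  obtain ⟨N, hN⟩ := (Set.toFinite {N | P N}).exists_maximal ⟨⊥, 0, Fin.elim0, fun i => i.elim0,
    fun i => i.elim0, fun i => i.elim0, by simp⟩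
  obtain ⟨⟨k, f, hinj, heq, hind, hsup⟩, hmax⟩ := hN
  suffices h : N = ⊤ by exact ⟨k, f, hinj, heq, hind, hsup.trans h⟩
  by_contra hne
  have hinv : ∀ g, ∀ z ∈ N, act ρ g z ∈ N := by
    intro g z hz
    rw [← hsup] at hz ⊢
    refine AddSubgroup.iSup_induction (C := fun z => act ρ g z ∈ ⨆ i, (f i).range)
      (fun i => (f i).range) hz ?_ (by simp) (fun a b ha hb => by rw [map_add]; exact add_mem ha hb)
    rintro i _ ⟨v, rfl⟩
    exact AddSubgroup.mem_iSup_of_mem i ⟨_, (heq i g v).symm⟩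
  obtain ⟨x, hxL, hxN⟩ : ∃ x ∈ fixL ρ, x ∉ N := by
    by_contra! hc
    refine hne (eq_top_iff.mpr fun z _ => ?_)
    obtain ⟨a, ha, b, hb, rfl⟩ := AddSubgroup.mem_sup.mp (show z ∈ fixU ρ ⊔ fixL ρ by
      rw [fpf_sup h2 hr]; exact AddSubgroup.mem_top z)
    refine add_mem ?_ (hc b hb)
    have := hinv (weyl 1) _ (hc _ (weyl_fixU ρ 1 ha))
    rwa [← rho_mul, weyl_sq, rho_one] at this
  have hx0 : x ≠ 0 := fun h => hxN (h ▸ zero_mem N)
  obtain ⟨φ, hφ, ⟨u, hu⟩, hφeq⟩ := exists_natural (fpf_disjoint h2 hr) (fpf_quadPart h2 hr hxL) hx0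
    (fpf_quadPart h2 hr)
  have hdisj : ∀ v, φ v ∈ N → v = 0 := by
    intro v hv
    by_contra hv0
    obtain ⟨g, hg⟩ := exists_mulVec_eq hv0 (w := u) fun h => hx0 (by rw [← hu, h, map_zero])
    apply hxN
    rw [← hu, ← hg, ← hφeq]
    exact hinv g _ hv
  refine hxN (hmax (y := φ.range ⊔ N) ⟨k + 1, Fin.cons φ f, ?_, ?_, ?_, ?_⟩ le_sup_right
    (AddSubgroup.mem_sup_left ⟨u, hu⟩))
  · exact Fin.cases (by simpa using hφ) (fun i => by simpa using hinj i)
  · exact Fin.cases (by simpa using hφeq) (fun i => by simpa using heq i)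
  · intro i
    rw [AddSubgroup.disjoint_def]
    induction i using Fin.cases with
    | zero =>
      intro z hz hz'
      simp only [Fin.cons_zero] at hz
      obtain ⟨v, rfl⟩ := hz
      have : φ v ∈ N := by
        rw [← hsup]
        refine SetLike.le_def.mp (iSup₂_le fun j hj => ?_) hz'
        obtain ⟨j, rfl⟩ := Fin.exists_succ_eq.mpr hj
        simp only [Fin.cons_succ]
        exact le_iSup (fun i => (f i).range) j
      rw [hdisj v this, map_zero]
    | succ i =>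
      intro z hz hz'
      simp only [Fin.cons_succ] at hz
      have hle : ⨆ j, ⨆ (_ : j ≠ i.succ), ((Fin.cons φ f : Fin (k + 1) → (Fin 2 → F) →+ M) j).range ≤
          φ.range ⊔ ⨆ j, ⨆ (_ : j ≠ i), (f j).range := by
        refine iSup₂_le fun j hj => ?_
        induction j using Fin.cases with
        | zero => simpa using le_sup_left
        | succ j =>
          simp only [Fin.cons_succ]
          exact le_sup_of_le_right (le_iSup₂_of_le (f := fun j (_ : j ≠ i) => (f j).range) j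
            (fun h => hj (congrArg Fin.succ h)) le_rfl)
      obtain ⟨_, ⟨v, rfl⟩, o, ho, hvo⟩ := AddSubgroup.mem_sup.mp (hle hz')
      have h1 : φ v ∈ N := by
        rw [eq_sub_of_add_eq hvo, ← hsup]
        exact sub_mem ((le_iSup (fun i => (f i).range) i) hz)
          (SetLike.le_def.mp (iSup₂_le fun j _ => le_iSup (fun i => (f i).range) j) ho)
      rw [hdisj v h1, map_zero, zero_add] at hvo
      exact AddSubgroup.disjoint_def.mp (hind i) hz (hvo ▸ ho)
  · refine le_antisymm (iSup_le fun j => ?_) (sup_le ?_ ?_)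
    · induction j using Fin.cases with
      | zero => simp
      | succ j =>
        simp only [Fin.cons_succ]
        exact le_sup_of_le_right (hsup ▸ le_iSup (fun i => (f i).range) j)
    · exact le_iSup_of_le 0 (by simp)
    · rw [← hsup]
      exact iSup_le fun j => le_iSup_of_le j.succ (by simp)

variable {G : Type*} [Group G] {Q A : Subgroup G} [Q.Normal] [A.Normal] [IsMulCommutative ↥A]

/-- Conjugation of `G` on a normal abelian subgroup. -/
def conjEnd : G →* AddMonoid.End (Additive ↥A) where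
  toFun g := MonoidHom.toAdditive ((MulAut.conjNormal g : MulAut ↥A).toMonoidHom)
  map_one' := AddMonoidHom.ext fun v => by
    apply Additive.toMul.injective
    apply Subtype.ext
    show (1 : G) * ((Additive.toMul v : ↥A) : G) * (1 : G)⁻¹ = _
    simp
    rfl
  map_mul' g h := AddMonoidHom.ext fun v => by
    apply Additive.toMul.injective
    apply Subtype.ext
    show g * h * ((Additive.toMul v : ↥A) : G) * (g * h)⁻¹ =
      g * (h * ((Additive.toMul v : ↥A) : G) * h⁻¹) * g⁻¹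
    group

/-- The action of `SL₂(F)` on a normal abelian subgroup centralised by the kernel. -/
def quotConjRep (hc : Q ≤ Subgroup.centralizer (A : Set G)) (e : G ⧸ Q ≃* Matrix.SpecialLinearGroup (Fin 2) F) :
    Matrix.SpecialLinearGroup (Fin 2) F →* AddMonoid.End (Additive ↥A) :=
  (QuotientGroup.lift Q (conjEnd (A := A)) fun q hq => AddMonoidHom.ext fun v => by
    apply Additive.toMul.injective
    apply Subtype.ext
    show q * ((Additive.toMul v : ↥A) : G) * q⁻¹ = ((Additive.toMul v : ↥A) : G)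
    rw [← Subgroup.mem_centralizer_iff.mp (hc hq) _ (Additive.toMul v).2, mul_inv_cancel_right]).comp
    e.symm.toMonoidHom

omit [CharP F 2] in
theorem quotConjRep_apply (hc : Q ≤ Subgroup.centralizer (A : Set G))
    (e : G ⧸ Q ≃* Matrix.SpecialLinearGroup (Fin 2) F) (g : G) (v : Additive ↥A) :
    ((Additive.toMul (act (quotConjRep hc e) (e (g : G ⧸ Q)) v) : ↥A) : G) =
      g * ((Additive.toMul v : ↥A) : G) * g⁻¹ := by
  unfold quotConjRep act
  simp only [MonoidHom.coe_comp, MulEquiv.coe_toMonoidHom, Function.comp_apply, MulEquiv.symm_apply_apply]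
  rfl

variable [Finite G] [Fintype F] {x : G}

omit [A.Normal] [IsMulCommutative ↥A] in
theorem trace_of_order_three (hQ : IsPGroup 2 ↥Q) (e : G ⧸ Q ≃* Matrix.SpecialLinearGroup (Fin 2) F)
    (hx : orderOf x = 3) : SL2Trace.tr (e (x : G ⧸ Q)) = 1 := by
  set B := e (x : G ⧸ Q) with hB
  have hB3 : B ^ 3 = 1 := by
    rw [hB, ← map_pow, ← QuotientGroup.mk_pow, ← hx, pow_orderOf_eq_one, QuotientGroup.mk_one, map_one]
  have hB1 : B ≠ 1 := by
    intro h
    have hxQ : x ∈ Q := (QuotientGroup.eq_one_iff x).mp (e.injective (h.trans (map_one e).symm))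
    obtain ⟨k, hk⟩ := hQ ⟨x, hxQ⟩
    have h3 : 3 ∣ 2 ^ k := hx ▸ orderOf_dvd_of_pow_eq_one (congrArg Subtype.val hk)
    exact absurd (Nat.prime_three.dvd_of_dvd_pow h3) (by norm_num)
  set t := SL2Trace.tr B
  have hsq := SL2Trace.sq_eq B
  have hcube : (t * t - 1) • (B : Matrix (Fin 2) (Fin 2) F) - t • 1 = 1 := by
    calc (t * t - 1) • (B : Matrix (Fin 2) (Fin 2) F) - t • 1
        = t • ((B : Matrix (Fin 2) (Fin 2) F) * B) - B := by
          rw [hsq, smul_sub, smul_smul, sub_smul, one_smul]; abel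
      _ = (B : Matrix (Fin 2) (Fin 2) F) * B * B := by
          conv_rhs => rw [hsq, sub_mul, smul_mul_assoc, one_mul]
      _ = 1 := by
          rw [← Matrix.SpecialLinearGroup.coe_mul, ← Matrix.SpecialLinearGroup.coe_mul,
            show B * B * B = B ^ 3 by rw [pow_succ, pow_two], hB3, Matrix.SpecialLinearGroup.coe_one]
  by_contra ht
  have hne : t * t - 1 ≠ 0 := fun h => ht (by
    have : (t + 1) ^ 2 = 0 := by rw [CharTwo.add_sq, one_pow, sq, ← CharTwo.sub_eq_add]; exact h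
    rw [← CharTwo.add_eq_zero]
    exact eq_zero_of_pow_eq_zero this)
  have e10 : B 1 0 = 0 := by simpa [Matrix.sub_apply, hne] using congrFun (congrFun hcube 1) 0
  have e01 : B 0 1 = 0 := by simpa [Matrix.sub_apply, hne] using congrFun (congrFun hcube 0) 1
  have e00 := congrFun (congrFun hcube 0) 0
  have e11 := congrFun (congrFun hcube 1) 1
  simp only [Matrix.sub_apply, Matrix.smul_apply, Matrix.one_apply_eq, smul_eq_mul] at e00 e11
  rcases SL2Trace.eq_scalar_of_entries e10 e01 (mul_left_cancel₀ hne (by linear_combination e00 - e11)) with h | h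
  · exact hB1 h
  · exact hB1 (h.trans (sl_ext (by ext i j; simp [CharTwo.neg_eq])))

variable (Q) in
/-- The elements mapping to elements of order three are fixed point free and of order three. -/
def FpfLift (e : G ⧸ Q ≃* Matrix.SpecialLinearGroup (Fin 2) F) : Prop :=
  ∀ g : G, SL2Trace.tr (e (g : G ⧸ Q)) = 1 →
    g ^ 3 = 1 ∧ ∀ q ∈ Q, g * q * g⁻¹ = q → q = 1

omit [A.Normal] [IsMulCommutative ↥A] in
theorem fpfLift (hQ : IsPGroup 2 ↥Q) (e : G ⧸ Q ≃* Matrix.SpecialLinearGroup (Fin 2) F)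
    (hx : orderOf x = 3) (hfpf : ∀ q ∈ Q, x * q * x⁻¹ = q → q = 1) : FpfLift Q e := by
  intro g hg
  have htx := trace_of_order_three hQ e hx
  obtain ⟨c, hc⟩ := isConj_iff.mp (SL2Trace.isConj_of_tr_eq (htx.trans hg.symm) (by
    rw [htx, one_pow, show (4 : F) = 0 by
      rw [show (4 : F) = 2 * 2 by norm_num, CharTwo.two_eq_zero, zero_mul]]
    exact one_ne_zero))
  obtain ⟨h, hh⟩ := QuotientGroup.mk_surjective (e.symm c)
  have hq : x⁻¹ * (h⁻¹ * g * h) ∈ Q := by
    rw [← QuotientGroup.eq_one_iff]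
    apply e.injective
    simp only [QuotientGroup.mk_mul, QuotientGroup.mk_inv, map_mul, map_inv, hh, e.apply_symm_apply, ← hc,
      map_one]
    group
  have hmem : ∀ q : ↥Q, x⁻¹ * (q : G) * x * (q : G)⁻¹ ∈ Q := fun q =>
    mul_mem (by simpa using Subgroup.Normal.conj_mem ‹Q.Normal› _ q.2 x⁻¹) (inv_mem q.2)
  have hinj : Function.Injective (fun q : ↥Q => (⟨_, hmem q⟩ : ↥Q)) := by
    intro a b hab
    have h1 : x⁻¹ * (a : G) * x * (a : G)⁻¹ = x⁻¹ * (b : G) * x * (b : G)⁻¹ := congrArg Subtype.val hab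
    have h2 : x⁻¹ * ((b : G)⁻¹ * a) * x = (b : G)⁻¹ * a := by
      calc x⁻¹ * ((b : G)⁻¹ * a) * x = (x⁻¹ * (b : G) * x * (b : G)⁻¹ * b)⁻¹ * (x⁻¹ * (a : G) * x * (a : G)⁻¹ * a) := by
            group
        _ = _ := by rw [h1]; group
    have h3 : x * ((b : G)⁻¹ * a) * x⁻¹ = (b : G)⁻¹ * a := by
      calc x * ((b : G)⁻¹ * a) * x⁻¹ = x * (x⁻¹ * ((b : G)⁻¹ * a) * x) * x⁻¹ := by rw [h2]
        _ = _ := by group
    exact Subtype.ext (inv_mul_eq_one.mp (hfpf _ (mul_mem (inv_mem b.2) a.2) h3)).symm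
  obtain ⟨⟨q, hqQ⟩, hq'⟩ := (Finite.injective_iff_surjective.mp hinj) ⟨_, hq⟩
  have hq'' : x⁻¹ * q * x * q⁻¹ = x⁻¹ * (h⁻¹ * g * h) := congrArg Subtype.val hq'
  have hg' : g = (h * q) * x * (h * q)⁻¹ := by
    calc g = h * (x * (x⁻¹ * (h⁻¹ * g * h))) * h⁻¹ := by group
      _ = _ := by rw [← hq'']; group
  refine ⟨?_, fun r hr hfix => ?_⟩
  · rw [hg', conj_pow, show x ^ 3 = 1 by rw [← hx, pow_orderOf_eq_one]]; group
  · rw [hg'] at hfix
    have h1 := hfpf ((h * q)⁻¹ * r * (h * q))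
      (by simpa using Subgroup.Normal.conj_mem ‹Q.Normal› _ hr (h * q)⁻¹)
      (by calc x * ((h * q)⁻¹ * r * (h * q)) * x⁻¹
            = (h * q)⁻¹ * (h * q * x * (h * q)⁻¹ * r * (h * q * x * (h * q)⁻¹)⁻¹) * (h * q) := by group
          _ = _ := by rw [hfix])
    calc r = (h * q) * ((h * q)⁻¹ * r * (h * q)) * (h * q)⁻¹ := by group
      _ = 1 := by rw [h1]; group

theorem fpfThree_of_lift (hAQ : A ≤ Q) (hc : Q ≤ Subgroup.centralizer (A : Set G))
    (e : G ⧸ Q ≃* Matrix.SpecialLinearGroup (Fin 2) F) (hl : FpfLift Q e) :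
    FpfThree (quotConjRep hc e) := by
  intro a v
  obtain ⟨g, hg⟩ := QuotientGroup.mk_surjective (e.symm (upp (a : F) * low ((a⁻¹ : Fˣ) : F)))
  have hg' : upp (a : F) * low ((a⁻¹ : Fˣ) : F) = e (g : G ⧸ Q) := by rw [hg, e.apply_symm_apply]
  have ht : SL2Trace.tr (e (g : G ⧸ Q)) = 1 := by
    rw [← hg', SL2Trace.tr_eq]
    simp [coe_upp, coe_low, Matrix.mul_fin_two, CharTwo.add_self_eq_zero]
  set q := ((Additive.toMul v : ↥A) : G) with hq
  have hqQ : q ∈ Q := hAQ (Additive.toMul v).2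
  have h3 : (q * g) ^ 3 = 1 := (hl (q * g) (by
    rw [QuotientGroup.mk_mul, (QuotientGroup.eq_one_iff q).mpr hqQ, one_mul]; exact ht)).1
  apply Additive.toMul.injective
  apply Subtype.ext
  simp only [hg', toMul_add, Subgroup.coe_mul, quotConjRep_apply, toMul_zero, Subgroup.coe_one, ← hq]
  have g3 : g ^ 3 = 1 := (hl g ht).1
  have h : q * (g * q * g⁻¹) * (g * (g * q * g⁻¹) * g⁻¹) = 1 := by
    calc q * (g * q * g⁻¹) * (g * (g * q * g⁻¹) * g⁻¹) = (q * g) ^ 3 * (g ^ 3)⁻¹ := by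
          simp only [pow_succ, pow_zero, one_mul]; group
      _ = 1 := by rw [h3, g3]; group
  have hcomm : ∀ s ∈ A, ∀ t ∈ A, s * t = t * s := fun s hs t ht =>
    congrArg Subtype.val (mul_comm (⟨s, hs⟩ : ↥A) ⟨t, ht⟩)
  have m1 : g * q * g⁻¹ ∈ A := Subgroup.Normal.conj_mem ‹A.Normal› _ (Additive.toMul v).2 g
  have m2 : g * (g * q * g⁻¹) * g⁻¹ ∈ A := Subgroup.Normal.conj_mem ‹A.Normal› _ m1 g
  rw [hcomm _ m2 _ m1, hcomm _ (mul_mem m1 m2) _ (Additive.toMul v).2, ← mul_assoc]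
  exact h

end Cfsg.Agent.Lib.LocalEven2.SL2Nat
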