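import Cfsg.Agent.Lib.LocalEven2.SL2Fpf

/-!
# Pairings and layers of fixed point free modules for `SL₂(2ⁿ)`
-/

set_option autoImplicit false

namespace Cfsg.Agent.Lib.LocalEven2.SL2Nat

variable {F : Type*} [Field F] [CharP F 2] [Fintype F] {M N : Type*} [AddCommGroup M] [AddCommGroup N]

section pairing

variable {ρ : Matrix.SpecialLinearGroup (Fin 2) F →* AddMonoid.End M}
  {σ : Matrix.SpecialLinearGroup (Fin 2) F →* AddMonoid.End N}
  (h2 : ∀ x : M, x + x = 0) (hr : FpfThree ρ) (k2 : ∀ x : N, x + x = 0) (kr : FpfThree σ)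
  (hF : ∃ c : F, c ≠ 0 ∧ c ≠ 1)
  (β : M →+ M →+ N)
  (heq : ∀ g v w, β (act ρ g v) (act ρ g w) = act σ g (β v w))
  [Finite M] [Finite N]

include h2 hr k2 kr hF heq

theorem pairing_aux {v : M} (hv : v ∈ fixU ρ) :
    (∀ w ∈ fixU ρ, β v w = 0) ∧ ∀ l ∈ fixL ρ, β v l ∈ fixU σ := by
  have hfix : ∀ w ∈ fixU ρ, β v w ∈ fixU σ := fun w hw a => by rw [← heq, hv a, hw a]
  have hlam : ∀ (c : F), ∀ x ∈ fixU ρ, ∀ w ∈ fixU ρ, β x w ∈ fixU σ →
      β (lam ρ c x) (lam ρ c w) = lam σ c (β x w) := by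
    intro c x hx w hw hxw
    rcases eq_or_ne c 0 with rfl | hc
    · rw [lam_zero h2 hr, lam_zero h2 hr, map_zero, lam_zero k2 kr]
    lift c to Fˣ using hc.isUnit
    rw [lam_eq h2 hr c hx, lam_eq h2 hr c hw, lam_eq k2 kr c hxw, heq, heq]
  have hswap : ∀ (c : F), ∀ x ∈ fixU ρ, ∀ w ∈ fixU ρ, β x w ∈ fixU σ →
      β (lam ρ c x) w = β x (lam ρ c w) := by
    intro c x hx w hw hxw
    have h := hlam (c + 1) x hx w hw hxw
    rw [lam_add h2 hr _ _ hx, lam_add h2 hr _ _ hw, lam_one h2 hr hx, lam_one h2 hr hw,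
      lam_add k2 kr _ _ hxw, lam_one k2 kr hxw, map_add, map_add, AddMonoidHom.add_apply,
      AddMonoidHom.add_apply, hlam c x hx w hw hxw,
      show ∀ A B C D : N, A + C + (B + D) = A + D + (C + B) from fun A B C D => by abel,
      add_eq_left, add_eq_zero_iff_eq_neg, neg_eq_self k2] at h
    first | exact h | exact h.symm
  have key : ∀ l ∈ fixL ρ, act σ (upp 1) (β v l) + β v l = 0 ∧ β v (act ρ (upp 1) l + l) = 0 := by
    intro l hl
    have hU : ∀ a, act σ (upp a) (β v l) + β v l = β v (act ρ (upp a) l + l) := fun a => by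
      rw [map_add (β v), ← heq, hv a]
    set r := act ρ (upp (1 : F)) l + l with hr'
    have hrU : r ∈ fixU ρ := upp_add_fixU h2 hr 1 (AddSubgroup.mem_sup_right hl)
    set p := act σ (upp (1 : F)) (β v l) + β v l with hp
    have hpr : p = β v r := hU 1
    have hpU : p ∈ fixU σ := hpr ▸ hfix r hrU
    obtain ⟨c, hc0, hc1⟩ := hF
    have h1 : lam σ (c * c) p = lam σ c p := by
      have h := hU (c * c)
      rw [upp_eq_lam k2 kr, upp_eq_lam h2 hr] at h
      rw [h, ← hr', ← lam_lam h2 hr c c hrU, ← hswap c v hv _ (lam_mem h2 hr c hrU) (hfix _ (lam_mem h2 hr c hrU)),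
        hlam c v hv r hrU (hfix r hrU), hpr]
    have h3 : lam σ (c * c + c) p = 0 := by rw [lam_add k2 kr _ _ hpU, h1, k2]
    have hne : c * c + c ≠ 0 := by
      rw [show c * c + c = c * (c + 1) by ring]
      refine mul_ne_zero hc0 fun h => hc1 ?_
      rw [add_eq_zero_iff_eq_neg.mp h, CharTwo.neg_eq]
    have hp0 := lam_inj k2 kr hne hpU h3
    exact ⟨hp0, hpr ▸ hp0⟩
  refine ⟨fun w hw => ?_, fun l hl => fixU_of_fixed k2 kr ?_⟩
  · have h := (key _ (weyl_fixU ρ 1 hw)).2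
    rwa [show (1 : F) = ((1 : Fˣ) : F) from rfl, fpf_upp_fixL h2 hr 1 (weyl_fixU ρ 1 hw), ← rho_mul, weyl_sq,
      rho_one] at h
  · rw [add_eq_zero_iff_eq_neg.mp (key l hl).1, neg_eq_self k2]

theorem pairing_eq_zero : β = 0 := by
  have hU : ∀ v ∈ fixU ρ, ∀ w ∈ fixU ρ, β v w = 0 := fun v hv => (pairing_aux h2 hr k2 kr hF β heq hv).1
  have hflip : ∀ g v w, β.flip (act ρ g v) (act ρ g w) = act σ g (β.flip v w) := fun g v w => heq g w v
  have hUL : ∀ v ∈ fixU ρ, ∀ l ∈ fixL ρ, β v l = 0 := by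
    intro v hv l hl
    have h1 : β v l ∈ fixU σ := (pairing_aux h2 hr k2 kr hF β heq hv).2 l hl
    have h2' : act σ (weyl 1) (β v l) ∈ fixU σ := by
      rw [← heq]
      exact (pairing_aux h2 hr k2 kr hF β.flip hflip (weyl_fixL ρ 1 hl)).2 _ (weyl_fixU ρ 1 hv)
    have : act σ (weyl 1) (β v l) ∈ fixU σ ⊓ fixL σ :=
      AddSubgroup.mem_inf.mpr ⟨h2', weyl_fixU σ 1 h1⟩
    rw [fpf_disjoint k2 kr, AddSubgroup.mem_bot] at this
    exact rho_inj σ _ (this.trans (map_zero _).symm)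
  have hzero : ∀ g v w, β (act ρ g v) (act ρ g w) = 0 → β v w = 0 := fun g v w h =>
    rho_inj σ g ((heq g v w).symm.trans (h.trans (map_zero _).symm))
  refine AddMonoidHom.ext fun x => AddMonoidHom.ext fun y => ?_
  obtain ⟨v, hv, l, hl, rfl⟩ := AddSubgroup.mem_sup.mp (show x ∈ fixU ρ ⊔ fixL ρ by
    rw [fpf_sup h2 hr]; exact AddSubgroup.mem_top x)
  obtain ⟨w, hw, m, hm, rfl⟩ := AddSubgroup.mem_sup.mp (show y ∈ fixU ρ ⊔ fixL ρ by
    rw [fpf_sup h2 hr]; exact AddSubgroup.mem_top y)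
  have h4 : β l w = 0 := hzero (weyl 1) _ _ (hUL _ (weyl_fixL ρ 1 hl) _ (weyl_fixU ρ 1 hw))
  have h5 : β l m = 0 := hzero (weyl 1) _ _ (hU _ (weyl_fixL ρ 1 hl) _ (weyl_fixL ρ 1 hm))
  simp [hU v hv w hw, hUL v hv m hm, h4, h5]

end pairing

section layers

variable (ρ : Matrix.SpecialLinearGroup (Fin 2) F →* AddMonoid.End M)

/-- The representation on an invariant subgroup. -/
def subRep (A : AddSubgroup M) (hA : ∀ g, ∀ x ∈ A, act ρ g x ∈ A) :
    Matrix.SpecialLinearGroup (Fin 2) F →* AddMonoid.End ↥A where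
  toFun g := (AddMonoidHom.mk' (fun x : ↥A => (⟨act ρ g x, hA g x x.2⟩ : ↥A)) fun x y => Subtype.ext (map_add (act ρ g) (x : M) y) : ↥A →+ ↥A)
  map_one' := AddMonoidHom.ext fun (x : ↥A) => Subtype.ext (rho_one ρ (x : M))
  map_mul' g h := AddMonoidHom.ext fun (x : ↥A) => Subtype.ext (rho_mul ρ g h (x : M))

theorem subRep_apply (A : AddSubgroup M) (hA : ∀ g, ∀ x ∈ A, act ρ g x ∈ A)
    (g : Matrix.SpecialLinearGroup (Fin 2) F) (x : ↥A) : ((act (subRep ρ A hA) g x : ↥A) : M) = act ρ g x := rfl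

/-- The representation on a quotient by an invariant subgroup. -/
def quotRep (A : AddSubgroup M) (hA : ∀ g, ∀ x ∈ A, act ρ g x ∈ A) :
    Matrix.SpecialLinearGroup (Fin 2) F →* AddMonoid.End (M ⧸ A) where
  toFun g := QuotientAddGroup.map A A (act ρ g) fun x hx => hA g x hx
  map_one' := DFunLike.ext _ _ fun q => by
    induction q using QuotientAddGroup.induction_on with
    | H x => exact congrArg (QuotientAddGroup.mk' A) (rho_one ρ x)
  map_mul' g h := DFunLike.ext _ _ fun q => by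
    induction q using QuotientAddGroup.induction_on with
    | H x => exact congrArg (QuotientAddGroup.mk' A) (rho_mul ρ g h x)

theorem quotRep_apply (A : AddSubgroup M) (hA : ∀ g, ∀ x ∈ A, act ρ g x ∈ A)
    (g : Matrix.SpecialLinearGroup (Fin 2) F) (x : M) :
    act (quotRep ρ A hA) g (x : M ⧸ A) = ((act ρ g x : M) : M ⧸ A) := rfl

variable {ρ} [Finite M] (h4 : ∀ x : M, x + x + (x + x) = 0) (hr : FpfThree ρ) (hF : ∃ c : F, c ≠ 0 ∧ c ≠ 1)
include h4 hr hF

theorem fpf_exponent_two (x : M) : x + x = 0 := by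
  let A : AddSubgroup M :=
    { carrier := {x | x + x = 0}
      zero_mem' := add_zero _
      add_mem' := fun {a b} (ha : a + a = 0) (hb : b + b = 0) => show a + b + (a + b) = 0 by
        rw [show a + b + (a + b) = (a + a) + (b + b) by abel, ha, hb, add_zero]
      neg_mem' := fun {a} (ha : a + a = 0) => show -a + -a = 0 by rw [← neg_add, ha, neg_zero] }
  have hA : ∀ g, ∀ x ∈ A, act ρ g x ∈ A := fun g x (hx : x + x = 0) =>
    show act ρ g x + act ρ g x = 0 by rw [← map_add, hx, map_zero]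
  let B : AddSubgroup M := (nsmulAddMonoidHom (α := M) 2).range
  have hB : ∀ g, ∀ x ∈ B, act ρ g x ∈ B := fun g x ⟨y, hy⟩ => ⟨act ρ g y, by
    rw [← hy]; simp [two_nsmul]⟩
  have hA2 : ∀ x : ↥A, x + x = 0 := fun x => Subtype.ext x.2
  have hQ2 : ∀ q : M ⧸ B, q + q = 0 := fun q => by
    induction q using QuotientAddGroup.induction_on with
    | H z => exact (QuotientAddGroup.eq_zero_iff _).mpr ⟨z, two_nsmul z⟩
  have hAr : FpfThree (subRep ρ A hA) := fun a x => Subtype.ext (hr a (x : M))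
  have hQr : FpfThree (quotRep ρ B hB) := fun a q => by
    induction q using QuotientAddGroup.induction_on with
    | H z => exact congrArg (QuotientAddGroup.mk' B) (hr a z)
  have hmemA : ∀ z : M, z + z ∈ A := fun z => h4 z
  have neg2 : ∀ z : M, -(z + z) = z + z := fun z => neg_eq_of_add_eq_zero_right (h4 z)
  have hUc : ∀ (c : F) (z : M), z ∈ A → act ρ (upp c) z + z = lam ρ c (act ρ (upp 1) z + z) := fun c z hz =>
    congrArg Subtype.val (upp_eq_lam hA2 hAr c (⟨z, hz⟩ : ↥A))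
  have hfixA : ∀ z ∈ A, act ρ (upp (1 : F)) z = z → ∀ c, act ρ (upp c) z = z := fun z hz h c =>
    congrArg Subtype.val (fixU_of_fixed hA2 hAr (z := (⟨z, hz⟩ : ↥A)) (Subtype.ext h) c)
  have hstep : ∀ (c : F) (z : M), ∃ k r, act ρ (upp c) z - z = act ρ (upp 1) k + k + (r + r) := by
    intro c z
    set q : M ⧸ B := ((act ρ (upp c) z - z : M) : M ⧸ B) with hq
    have hqU : q ∈ fixU (quotRep ρ B hB) := by
      rw [show q = act (quotRep ρ B hB) (upp c) (z : M ⧸ B) + (z : M ⧸ B) by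
        rw [← sub_eq_add' hQ2]; rfl]
      exact upp_add_fixU hQ2 hQr c (by rw [fpf_sup hQ2 hQr]; exact AddSubgroup.mem_top _)
    obtain ⟨k, hk⟩ := QuotientAddGroup.mk_surjective (act (quotRep ρ B hB) (weyl 1) q)
    refine ⟨k, ?_⟩
    have h : q = ((act ρ (upp 1) k + k : M) : M ⧸ B) := by
      have h := fpf_upp_fixL hQ2 hQr 1 (weyl_fixU _ 1 hqU)
      rw [← rho_mul (quotRep ρ B hB) (weyl 1), weyl_sq, rho_one, ← hk] at h
      exact h.symm
    obtain ⟨r, hr'⟩ := QuotientAddGroup.eq_iff_sub_mem.mp h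
    exact ⟨r, by rw [eq_comm, ← eq_sub_iff_add_eq']; exact (two_nsmul r).symm.trans hr'⟩
  let P : AddSubgroup M := ((act ρ (upp (1 : F)) + AddMonoidHom.id M).comp (nsmulAddMonoidHom (α := M) 2)).range
  have hP : ∀ z, act ρ (upp (1 : F)) (z + z) + (z + z) ∈ P := fun z => ⟨z, by simp [two_nsmul]⟩
  have hPU : ∀ p ∈ P, ∃ z, act ρ (upp (1 : F)) (z + z) + (z + z) = p := fun p ⟨z, hz⟩ =>
    ⟨z, by rw [← hz]; simp [two_nsmul]⟩
  have hPA : ∀ p ∈ P, p ∈ A := fun p hp => by
    obtain ⟨z, rfl⟩ := hPU p hp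
    exact add_mem (hA _ _ (hmemA z)) (hmemA z)
  have hPfix : ∀ p (hp : p ∈ P), (⟨p, hPA p hp⟩ : ↥A) ∈ fixU (subRep ρ A hA) := fun p hp => by
    refine fun c => Subtype.ext (hfixA p (hPA p hp) ?_ c)
    obtain ⟨z, rfl⟩ := hPU p hp
    rw [map_add (act ρ (upp (1 : F))), upp_sq, add_comm]
  have hlamP : ∀ c, ∀ p ∈ P, lam ρ c p ∈ P := by
    intro c p hp
    obtain ⟨z, rfl⟩ := hPU p hp
    rw [← hUc c _ (hmemA z)]
    obtain ⟨k, r, hkr⟩ := hstep c z
    rw [show act ρ (upp c) (z + z) + (z + z) = act ρ (upp (1 : F)) (k + k) + (k + k) by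
      have h1 : act ρ (upp c) z = act ρ (upp 1) k + k + (r + r) + z := sub_eq_iff_eq_add.mp hkr
      rw [map_add, map_add, h1,
        show act ρ (upp 1) k + k + (r + r) + z + (act ρ (upp 1) k + k + (r + r) + z) + (z + z) =
          act ρ (upp 1) k + act ρ (upp 1) k + (k + k) + (r + r + (r + r)) + (z + z + (z + z)) by abel,
        h4, h4, add_zero, add_zero]]
    exact hP k
  -- the deviation operator
  obtain ⟨c, hc0, hc1⟩ := hF
  have hwell : ∀ k k' : M, act ρ (upp (1 : F)) (k + k) + (k + k) = act ρ (upp 1) (k' + k') + (k' + k') →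
      act ρ (upp c) (act ρ (upp 1) k + k) - (act ρ (upp 1) k + k) =
        act ρ (upp c) (act ρ (upp 1) k' + k') - (act ρ (upp 1) k' + k') := by
    intro k k' h
    set d := (act ρ (upp (1 : F)) k + k) - (act ρ (upp 1) k' + k') with hd
    have hdA : d ∈ A := by
      show d + d = 0
      rw [hd, show (act ρ (upp (1 : F)) k + k - (act ρ (upp 1) k' + k')) + (act ρ (upp 1) k + k - (act ρ (upp 1) k' + k')) =
        (act ρ (upp 1) k + act ρ (upp 1) k + (k + k)) - (act ρ (upp 1) k' + act ρ (upp 1) k' + (k' + k')) by abel,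
        ← map_add, ← map_add, h, sub_self]
    have hd1 : act ρ (upp (1 : F)) d = d := by
      rw [hd, map_sub, map_add, map_add, upp_sq, upp_sq]; abel
    have := hfixA d hdA hd1 c
    rw [hd, map_sub] at this
    rw [sub_eq_sub_iff_sub_eq_sub, this]
  choose Xf hXf using fun p : ↥P => hPU p p.2
  have hkey : ∀ z : M, ∀ q : ↥P, (q : M) = act ρ (upp (1 : F)) (z + z) + (z + z) →
      act ρ (upp c) (act ρ (upp 1) (Xf q) + Xf q) - (act ρ (upp 1) (Xf q) + Xf q) =
        act ρ (upp c) (act ρ (upp 1) z + z) - (act ρ (upp 1) z + z) :=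
    fun z q hq => hwell _ _ ((hXf q).trans hq)
  have hid : ∀ z : M, ∀ k r, act ρ (upp c) z - z = act ρ (upp 1) k + k + (r + r) →
      act ρ (upp c) (act ρ (upp 1) z + z) - (act ρ (upp 1) z + z) =
        (act ρ (upp (1 : F)) (k + k) + (k + k)) + (act ρ (upp 1) (r + r) + (r + r)) ∧
      act ρ (upp c) (act ρ (upp 1) k + k) - (act ρ (upp 1) k + k) =
        (act ρ (upp (1 : F)) (k + k) + (k + k)) + (act ρ (upp c) (r + r) + (r + r)) ∧
      act ρ (upp (1 : F)) (k + k) + (k + k) = lam ρ c (act ρ (upp 1) (z + z) + (z + z)) := by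
    intro z k r hkr
    have hr0 : r + r + (r + r) = 0 := h4 r
    refine ⟨?_, ?_, ?_⟩
    · rw [map_add, upp_comm c 1,
        show act ρ (upp (1 : F)) (act ρ (upp c) z) + act ρ (upp c) z - (act ρ (upp 1) z + z) =
          act ρ (upp 1) (act ρ (upp c) z) - act ρ (upp 1) z + (act ρ (upp c) z - z) by abel,
        ← map_sub, hkr, map_add, map_add, upp_sq, map_add (act ρ (upp (1 : F))) k k]
      abel
    · have h1 : act ρ (upp c) (act ρ (upp c) z - z) - (act ρ (upp c) z - z) =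
          (act ρ (upp c) z - z) + (act ρ (upp c) z - z) := by
        rw [map_sub, upp_sq, show z - act ρ (upp c) z - (act ρ (upp c) z - z) =
          -((act ρ (upp c) z - z) + (act ρ (upp c) z - z)) by abel, neg2]
      rw [hkr, map_add] at h1
      rw [show act ρ (upp c) (r + r) + (r + r) = act ρ (upp c) (r + r) - (r + r) by rw [sub_eq_add_neg, neg2]]
      rw [show act ρ (upp (1 : F)) (k + k) + (k + k) =
        act ρ (upp 1) k + k + (r + r) + (act ρ (upp 1) k + k + (r + r)) by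
          rw [map_add, show act ρ (upp (1 : F)) k + k + (r + r) + (act ρ (upp 1) k + k + (r + r)) =
            act ρ (upp 1) k + act ρ (upp 1) k + (k + k) + (r + r + (r + r)) by abel, hr0, add_zero], ← h1]
      rw [show ∀ a b e f : M, a + e - (b + f) + (e - f) = a - b + (e + e - (f + f)) from fun a b e f => by abel,
        ← map_add, hr0, map_zero, sub_zero, add_zero]
    · rw [← hUc c _ (hmemA z), map_add (act ρ (upp c)) z z, sub_eq_iff_eq_add.mp hkr,
        show act ρ (upp (1 : F)) k + k + (r + r) + z + (act ρ (upp 1) k + k + (r + r) + z) + (z + z) =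
          act ρ (upp 1) k + act ρ (upp 1) k + (k + k) + (r + r + (r + r)) + (z + z + (z + z)) by abel,
        hr0, h4, add_zero, add_zero, map_add]
  have hXmem : ∀ q : ↥P, act ρ (upp c) (act ρ (upp 1) (Xf q) + Xf q) - (act ρ (upp 1) (Xf q) + Xf q) ∈ P := by
    intro q
    obtain ⟨k, r, hkr⟩ := hstep c (Xf q)
    rw [(hid _ k r hkr).1]
    exact add_mem (hP k) (hP r)
  let X : AddMonoid.End ↥P := AddMonoidHom.mk' (fun q => ⟨_, hXmem q⟩) fun q q' => by
    refine Subtype.ext ((hkey (Xf q + Xf q') (q + q') ?_).trans ?_)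
    · show (q : M) + q' = _
      rw [← hXf q, ← hXf q']
      simp only [map_add]; abel
    · show _ = (act ρ (upp c) (act ρ (upp 1) (Xf q) + Xf q) - (act ρ (upp 1) (Xf q) + Xf q)) +
        (act ρ (upp c) (act ρ (upp 1) (Xf q') + Xf q') - (act ρ (upp 1) (Xf q') + Xf q'))
      simp only [map_add]; abel
  let L : F → AddMonoid.End ↥P := fun a => (AddMonoidHom.mk' (fun p : ↥P => (⟨lam ρ a p, hlamP a p p.2⟩ : ↥P)) fun p q => Subtype.ext (map_add (lam ρ a) (p : M) q) : ↥P →+ ↥P)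
  have hP2 : ∀ p : ↥P, p + p = 0 := fun p => Subtype.ext (hPA p p.2)
  have hLmul : ∀ a b, L a * L b = L (a * b) := fun a b => AddMonoidHom.ext fun (p : ↥P) => Subtype.ext
    (congrArg Subtype.val (lam_lam hA2 hAr a b (hPfix p p.2)) :)
  have hL1 : L 1 = 1 := AddMonoidHom.ext fun (p : ↥P) => Subtype.ext
    (congrArg Subtype.val (lam_one hA2 hAr (hPfix p p.2)) :)
  have hE2 : ∀ e : AddMonoid.End ↥P, e + e = 0 := fun e => AddMonoidHom.ext fun (p : ↥P) => hP2 (e p)
  have hC : X * L c + L c * X = L c * L c + L c := by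
    refine AddMonoidHom.ext fun (p : ↥P) => ?_
    show X (L c p) + L c (X p) = L c (L c p) + L c p
    obtain ⟨z, hz⟩ := hPU p p.2
    obtain ⟨k, r, hkr⟩ := hstep c z
    obtain ⟨i1, i2, i3⟩ := hid z k r hkr
    rw [hz] at i3
    have hLp : L c p = ⟨_, hP k⟩ := Subtype.ext i3.symm
    have hXp : X p = ⟨_, hP k⟩ + ⟨_, hP r⟩ := Subtype.ext ((hkey z p hz.symm).trans i1)
    have hXL : X (⟨_, hP k⟩ : ↥P) = ⟨_, hP k⟩ + L c ⟨_, hP r⟩ := Subtype.ext
      ((hkey k ⟨_, hP k⟩ rfl).trans (i2.trans (by rw [hUc c _ (hmemA r)]; rfl)))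
    rw [hXp, map_add, ← hLp] at *
    rw [hXL, show ∀ a b e : ↥P, a + b + (e + b) = e + a + (b + b) from fun a b e => by abel, hP2, add_zero]
  have hcomm : X * (L c * L c) = (L c * L c) * X := by
    have h1 : X * L c = L c * L c + L c + L c * X := by
      rw [← hC, add_assoc, hE2, add_zero]
    rw [← mul_assoc, h1, add_mul, mul_assoc (L c) X, h1, mul_add, ← mul_assoc (L c) (L c) X,
      show (L c * L c + L c) * L c = L c * (L c * L c + L c) by rw [add_mul, mul_add, mul_assoc],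
      ← add_assoc, hE2, zero_add]
  have hpow : ∀ k, L (c ^ k) = L c ^ k := fun k => by
    induction k with
    | zero => rw [pow_zero, pow_zero, hL1]
    | succ k ih => rw [pow_succ, pow_succ, ← ih, hLmul]
  have hLc : X * L c = L c * X := by
    obtain ⟨m, hm⟩ : 2 ∣ Fintype.card F := by
      obtain ⟨n, -, hn⟩ := FiniteField.card F 2
      rw [hn]; exact dvd_pow_self 2 n.pos.ne'
    have : L c = (L c * L c) ^ m := by
      rw [← sq, ← pow_mul, ← hm, ← hpow, FiniteField.pow_card]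
    rw [this]
    exact (Commute.pow_right (show Commute X (L c * L c) from hcomm) m)
  have hP0 : ∀ p ∈ P, p = 0 := by
    intro p hp
    rw [hLc, hE2] at hC
    have h : (L c * L c + L c) ⟨p, hp⟩ = 0 := by rw [← hC]; rfl
    have h' : lam (subRep ρ A hA) (c * c + c) ⟨p, hPA p hp⟩ = 0 := by
      rw [lam_add hA2 hAr _ _ (hPfix p hp), ← lam_lam hA2 hAr _ _ (hPfix p hp)]
      exact Subtype.ext (congrArg Subtype.val h :)
    refine congrArg Subtype.val (lam_inj hA2 hAr ?_ (hPfix p hp) h')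
    rw [show c * c + c = c * (c + 1) by ring]
    refine mul_ne_zero hc0 fun h => hc1 ?_
    rw [add_eq_zero_iff_eq_neg.mp h, CharTwo.neg_eq]
  have hfin : ∀ z : M, (⟨z + z, hmemA z⟩ : ↥A) ∈ fixU (subRep ρ A hA) := fun z c => Subtype.ext
    (hfixA _ (hmemA z) (by
      have := hP0 _ (hP z)
      rwa [add_eq_zero_iff_eq_neg, neg2] at this) c)
  obtain ⟨x', hx'⟩ : ∃ x', act ρ (weyl 1) x' = x :=
    ⟨act ρ (weyl 1) x, by rw [← rho_mul, weyl_sq, rho_one]⟩
  have hmem : (⟨x + x, hmemA x⟩ : ↥A) ∈ fixU (subRep ρ A hA) ⊓ fixL (subRep ρ A hA) := by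
    refine AddSubgroup.mem_inf.mpr ⟨hfin x, ?_⟩
    have := weyl_fixU (subRep ρ A hA) 1 (hfin x')
    have e : act (subRep ρ A hA) (weyl 1) (⟨x' + x', hmemA x'⟩ : ↥A) = ⟨x + x, hmemA x⟩ := Subtype.ext (by
      rw [subRep_apply, map_add, hx'])
    rwa [e] at this
  rw [fpf_disjoint hA2 hAr, AddSubgroup.mem_bot] at hmem
  exact congrArg Subtype.val hmem

end layers

end Cfsg.Agent.Lib.LocalEven2.SL2Nat
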