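import Cfsg.Agent.Lib.LocalEven2.SL2FpfGroup

/-!
# The kernel is elementary abelian
-/

set_option autoImplicit false

namespace Cfsg.Agent.Lib.LocalEven2.SL2Nat

open scoped IsMulCommutative commutatorElement

variable {F : Type*} [Field F] [CharP F 2] [Fintype F]

theorem isMulCommutative_of_forall {G : Type*} [Group G] {A : Subgroup G}
    (h : ∀ a ∈ A, ∀ b ∈ A, a * b = b * a) : IsMulCommutative ↥A :=
  ⟨⟨fun a b => Subtype.ext (h a a.2 b b.2)⟩⟩

/-- The inductive step: a central elementary layer below an elementary quotient. -/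
theorem elementary_of_layer {G : Type*} [Group G] [Finite G] (hF : ∃ c : F, c ≠ 0 ∧ c ≠ 1)
    {Q Z : Subgroup G} [Q.Normal] [Z.Normal] (e : G ⧸ Q ≃* Matrix.SpecialLinearGroup (Fin 2) F)
    (hl : FpfLift Q e) (hZQ : Z ≤ Q) (hQc : Q ≤ Subgroup.centralizer (Z : Set G)) (hZ2 : ∀ z ∈ Z, z * z = 1)
    (e' : (G ⧸ Z) ⧸ Q.map (QuotientGroup.mk' Z) ≃* Matrix.SpecialLinearGroup (Fin 2) F)
    (he' : ∀ g : G, e' ((g : G ⧸ Z) : (G ⧸ Z) ⧸ Q.map (QuotientGroup.mk' Z)) = e (g : G ⧸ Q))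
    (hl' : FpfLift (Q.map (QuotientGroup.mk' Z)) e')
    (hsq : ∀ q ∈ Q, q * q ∈ Z) (hcm : ∀ q ∈ Q, ∀ r ∈ Q, ⁅q, r⁆ ∈ Z) :
    (∀ q ∈ Q, ∀ r ∈ Q, q * r = r * q) ∧ ∀ q ∈ Q, q * q = 1 := by
  set Q' := Q.map (QuotientGroup.mk' Z) with hQ'
  have hzc : ∀ z ∈ Z, ∀ q ∈ Q, q * z = z * q := fun z hz q hq =>
    (Subgroup.mem_centralizer_iff.mp (hQc hq) z hz).symm
  haveI : IsMulCommutative ↥Z := isMulCommutative_of_forall fun a ha b hb => hzc b hb a (hZQ ha)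
  haveI : IsMulCommutative ↥Q' := isMulCommutative_of_forall (by
    rintro _ ⟨q, hq, rfl⟩ _ ⟨r, hr, rfl⟩
    rw [← map_mul, ← map_mul]
    refine (QuotientGroup.eq.mpr ?_)
    rw [show (q * r)⁻¹ * (r * q) = ⁅r⁻¹, q⁻¹⁆ by rw [commutatorElement_def]; group]
    exact hcm _ (inv_mem hr) _ (inv_mem hq))
  have hc' : Q' ≤ Subgroup.centralizer (Q' : Set (G ⧸ Z)) := fun a ha =>
    Subgroup.mem_centralizer_iff.mpr fun b hb => congrArg Subtype.val (mul_comm (⟨b, hb⟩ : ↥Q') ⟨a, ha⟩)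
  set σ := quotConjRep (A := Z) hQc e
  set τ := quotConjRep (A := Q') hc' e'
  have hσ : FpfThree σ := fpfThree_of_lift hZQ hQc e hl
  have hτ : FpfThree τ := fpfThree_of_lift le_rfl hc' e' hl'
  haveI : Finite (Additive ↥Q') := inferInstanceAs (Finite ↥Q')
  haveI : Finite (Additive ↥Z) := inferInstanceAs (Finite ↥Z)
  have hτ2 : ∀ v : Additive ↥Q', v + v = 0 := fun v => by
    apply Additive.toMul.injective
    apply Subtype.ext
    obtain ⟨q, hq, hqv⟩ := (Additive.toMul v).2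
    show ((Additive.toMul v : ↥Q') : G ⧸ Z) * ((Additive.toMul v : ↥Q') : G ⧸ Z) = 1
    rw [← hqv, ← map_mul]
    exact (QuotientGroup.eq_one_iff _).mpr (hsq q hq)
  have hσ2 : ∀ v : Additive ↥Z, v + v = 0 := fun v => by
    apply Additive.toMul.injective
    exact Subtype.ext (hZ2 _ (Additive.toMul v).2)
  have hclass : ∀ q ∈ Q, ∀ q' ∈ Q, ∀ r ∈ Q, ∀ r' ∈ Q, (q : G ⧸ Z) = q' → (r : G ⧸ Z) = r' →
      ⁅q, r⁆ = ⁅q', r'⁆ := by
    intro q hq q' hq' r hr r' hr' e1 e2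
    obtain ⟨z, hz, rfl⟩ : ∃ z ∈ Z, q' = q * z := ⟨q⁻¹ * q', QuotientGroup.eq.mp e1, by group⟩
    obtain ⟨w, hw, rfl⟩ : ∃ w ∈ Z, r' = r * w := ⟨r⁻¹ * r', QuotientGroup.eq.mp e2, by group⟩
    have a1 : ⁅q * z, r * w⁆ = q * (z * r) * (w * z⁻¹) * q⁻¹ * w⁻¹ * r⁻¹ := by
      rw [commutatorElement_def]; group
    rw [a1, ← hzc z hz r hr, show w * z⁻¹ = z⁻¹ * w from (hzc w hw _ (hZQ (inv_mem hz))).symm,
      show q * (r * z) * (z⁻¹ * w) * q⁻¹ * w⁻¹ * r⁻¹ = q * r * (w * q⁻¹) * w⁻¹ * r⁻¹ by group,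
      ← hzc w hw q⁻¹ (inv_mem hq), commutatorElement_def]
    group
  choose s hsQ hs using fun v : ↥Q' => v.2
  let β' : Additive ↥Q' → Additive ↥Q' → Additive ↥Z := fun v w =>
    Additive.ofMul ⟨⁅s (Additive.toMul v), s (Additive.toMul w)⁆, hcm _ (hsQ _) _ (hsQ _)⟩
  have hβ1 : ∀ u v w, β' (u + v) w = β' u w + β' v w := fun u v w => by
    apply Additive.toMul.injective
    apply Subtype.ext
    show ⁅s (Additive.toMul u * Additive.toMul v), s (Additive.toMul w)⁆ =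
      ⁅s (Additive.toMul u), s (Additive.toMul w)⁆ * ⁅s (Additive.toMul v), s (Additive.toMul w)⁆
    rw [hclass _ (hsQ _) (s (Additive.toMul u) * s (Additive.toMul v)) (mul_mem (hsQ _) (hsQ _)) _ (hsQ _) _ (hsQ _)
      (by show (QuotientGroup.mk' Z) _ = (QuotientGroup.mk' Z) _; rw [map_mul, hs, hs, hs]; rfl) rfl,
      hzc _ (hcm _ (hsQ (Additive.toMul v)) _ (hsQ (Additive.toMul w))) ⁅s (Additive.toMul u), s (Additive.toMul w)⁆
        (hZQ (hcm _ (hsQ _) _ (hsQ _)))]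
    set a := s (Additive.toMul u)
    set b := s (Additive.toMul v)
    set c := s (Additive.toMul w)
    rw [show ⁅a * b, c⁆ = a * ⁅b, c⁆ * a⁻¹ * ⁅a, c⁆ by simp only [commutatorElement_def]; group,
      hzc _ (hcm b (hsQ _) c (hsQ _)) a (hsQ _), mul_inv_cancel_right]
  have hβ2 : ∀ u v w, β' u (v + w) = β' u v + β' u w := fun u v w => by
    apply Additive.toMul.injective
    apply Subtype.ext
    show ⁅s (Additive.toMul u), s (Additive.toMul v * Additive.toMul w)⁆ =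
      ⁅s (Additive.toMul u), s (Additive.toMul v)⁆ * ⁅s (Additive.toMul u), s (Additive.toMul w)⁆
    rw [hclass _ (hsQ _) _ (hsQ _) _ (hsQ _) (s (Additive.toMul v) * s (Additive.toMul w)) (mul_mem (hsQ _) (hsQ _))
      rfl (by show (QuotientGroup.mk' Z) _ = (QuotientGroup.mk' Z) _; rw [map_mul, hs, hs, hs]; rfl)]
    set a := s (Additive.toMul u)
    set b := s (Additive.toMul v)
    set c := s (Additive.toMul w)
    rw [show ⁅a, b * c⁆ = ⁅a, b⁆ * (b * ⁅a, c⁆ * b⁻¹) by simp only [commutatorElement_def]; group,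
      hzc _ (hcm a (hsQ _) c (hsQ _)) b (hsQ _), mul_inv_cancel_right]
  let β : Additive ↥Q' →+ Additive ↥Q' →+ Additive ↥Z :=
    AddMonoidHom.mk' (fun v => AddMonoidHom.mk' (β' v) (hβ2 v)) fun u v => AddMonoidHom.ext (hβ1 u v)
  have heq : ∀ g v w, β (act τ g v) (act τ g w) = act σ g (β v w) := by
    intro g v w
    obtain ⟨a, ha⟩ := QuotientGroup.mk_surjective (e.symm g)
    have hg : e (a : G ⧸ Q) = g := by rw [ha, e.apply_symm_apply]
    apply Additive.toMul.injective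
    apply Subtype.ext
    show ⁅s (Additive.toMul (act τ g v)), s (Additive.toMul (act τ g w))⁆ = _
    rw [← hg, quotConjRep_apply]
    show _ = a * ⁅s (Additive.toMul v), s (Additive.toMul w)⁆ * a⁻¹
    rw [← he', conjugate_commutatorElement]
    exact hclass _ (hsQ _) _ (Subgroup.Normal.conj_mem ‹Q.Normal› _ (hsQ _) a) _ (hsQ _) _
      (Subgroup.Normal.conj_mem ‹Q.Normal› _ (hsQ _) a)
      (by show (QuotientGroup.mk' Z) _ = (QuotientGroup.mk' Z) _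
          rw [map_mul, map_mul, map_inv, hs, hs, quotConjRep_apply]; rfl)
      (by show (QuotientGroup.mk' Z) _ = (QuotientGroup.mk' Z) _
          rw [map_mul, map_mul, map_inv, hs, hs, quotConjRep_apply]; rfl)
  have hβ0 := pairing_eq_zero hτ2 hτ hσ2 hσ hF β heq
  have hab : ∀ q ∈ Q, ∀ r ∈ Q, q * r = r * q := by
    intro q hq r hr
    have h : β (Additive.ofMul ⟨_, q, hq, rfl⟩) (Additive.ofMul ⟨_, r, hr, rfl⟩) = 0 := by rw [hβ0]; rfl
    have h' : ⁅s ⟨_, q, hq, rfl⟩, s ⟨_, r, hr, rfl⟩⁆ = 1 :=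
      congrArg (fun z : Additive ↥Z => ((Additive.toMul z : ↥Z) : G)) h
    rw [hclass _ (hsQ _) q hq _ (hsQ _) r hr (hs ⟨_, q, hq, rfl⟩) (hs ⟨_, r, hr, rfl⟩)] at h'
    exact commutatorElement_eq_one_iff_mul_comm.mp h'
  haveI : IsMulCommutative ↥Q := isMulCommutative_of_forall hab
  have hc : Q ≤ Subgroup.centralizer (Q : Set G) := fun a ha =>
    Subgroup.mem_centralizer_iff.mpr fun b hb => hab b hb a ha
  haveI : Finite (Additive ↥Q) := inferInstanceAs (Finite ↥Q)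
  refine ⟨hab, fun q hq => ?_⟩
  have h := fpf_exponent_two (ρ := quotConjRep (A := Q) hc e) (fun v => by
    apply Additive.toMul.injective
    exact Subtype.ext (hZ2 _ (hsq _ (Additive.toMul v).2))) (fpfThree_of_lift le_rfl hc e hl) hF
    (Additive.ofMul ⟨q, hq⟩)
  exact congrArg (fun z : Additive ↥Q => ((Additive.toMul z : ↥Q) : G)) h

universe u

/-- A `2`-group with a fixed point free element of order three over `SL₂(2ⁿ)` is elementary abelian. -/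
theorem elementary_of_fpf (hF : ∃ c : F, c ≠ 0 ∧ c ≠ 1) : ∀ (N : ℕ) (G : Type u) [Group G] [Finite G],
    Nat.card G = N → ∀ (Q : Subgroup G) [Q.Normal], IsPGroup 2 ↥Q →
      ∀ (_ : G ⧸ Q ≃* Matrix.SpecialLinearGroup (Fin 2) F) (x : G), orderOf x = 3 →
        (∀ q ∈ Q, x * q * x⁻¹ = q → q = 1) →
          (∀ q ∈ Q, ∀ r ∈ Q, q * r = r * q) ∧ ∀ q ∈ Q, q * q = 1 := by
  intro N
  induction N using Nat.strong_induction_on with
  | _ N ih =>
  intro G _ _ hN Q _ hQ e x hx hfpf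
  let Z : Subgroup G :=
    { carrier := {z | z ∈ Q ∧ z * z = 1 ∧ ∀ q ∈ Q, q * z = z * q}
      one_mem' := ⟨one_mem _, one_mul 1, fun q _ => by simp⟩
      mul_mem' := fun {a b} ha hb => ⟨mul_mem ha.1 hb.1, by
        rw [show a * b * (a * b) = a * (b * a) * b by group, hb.2.2 a ha.1 |>.symm,
          show a * (a * b) * b = (a * a) * (b * b) by group, ha.2.1, hb.2.1, one_mul], fun q hq => by
        rw [← mul_assoc, ha.2.2 q hq, mul_assoc, hb.2.2 q hq, mul_assoc]⟩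
      inv_mem' := fun {a} ha => ⟨inv_mem ha.1, by rw [← mul_inv_rev, ha.2.1, inv_one],
        fun q hq => ((show Commute q a from ha.2.2 q hq).inv_right).eq⟩ }
  haveI hZn : Z.Normal := ⟨fun z hz g => ⟨Subgroup.Normal.conj_mem ‹Q.Normal› z hz.1 g, by
    rw [show g * z * g⁻¹ * (g * z * g⁻¹) = g * (z * z) * g⁻¹ by group, hz.2.1]; group, fun q hq => by
    have h := hz.2.2 (g⁻¹ * q * g) (by simpa using Subgroup.Normal.conj_mem ‹Q.Normal› q hq g⁻¹)
    calc q * (g * z * g⁻¹) = g * ((g⁻¹ * q * g) * z) * g⁻¹ := by group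
      _ = g * (z * (g⁻¹ * q * g)) * g⁻¹ := by rw [h]
      _ = _ := by group⟩⟩
  rcases eq_or_ne Q ⊥ with hQ1 | hQ1
  · subst hQ1
    exact ⟨fun q hq r hr => by rw [Subgroup.mem_bot.mp hq, Subgroup.mem_bot.mp hr],
      fun q hq => by rw [Subgroup.mem_bot.mp hq, one_mul]⟩
  have hZ1 : Z ≠ ⊥ := by
    haveI : Nontrivial ↥Q := (Subgroup.nontrivial_iff_ne_bot Q).mpr hQ1
    haveI := hQ.center_nontrivial
    obtain ⟨k, hk0, hk⟩ := ((hQ.to_subgroup (Subgroup.center ↥Q)).nontrivial_iff_card).mp inferInstance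
    obtain ⟨z, hz⟩ := exists_prime_orderOf_dvd_card' 2 (by rw [hk]; exact dvd_pow_self 2 (by omega) :
      2 ∣ Nat.card ↥(Subgroup.center ↥Q))
    intro h
    have hmem : (((z : ↥Q) : G)) ∈ Z := ⟨(z : ↥Q).2, by
      have h2 : z * z = 1 := by rw [← pow_two, ← hz, pow_orderOf_eq_one]
      exact congrArg (fun w : ↥(Subgroup.center ↥Q) => ((w : ↥Q) : G)) h2,
      fun q hq => congrArg Subtype.val (Subgroup.mem_center_iff.mp z.2 ⟨q, hq⟩)⟩
    rw [h, Subgroup.mem_bot] at hmem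
    have : z = 1 := Subtype.ext (Subtype.ext hmem)
    rw [this, orderOf_one] at hz
    omega
  have hZQ : Z ≤ Q := fun z hz => hz.1
  have hQc : Q ≤ Subgroup.centralizer (Z : Set G) := fun q hq =>
    Subgroup.mem_centralizer_iff.mpr fun z hz => (hz.2.2 q hq).symm
  let e' := (QuotientGroup.quotientQuotientEquivQuotient Z Q hZQ).trans e
  have hQ' : IsPGroup 2 ↥(Q.map (QuotientGroup.mk' Z)) := hQ.map _
  have hx' : orderOf (QuotientGroup.mk' Z x) = 3 := by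
    refine orderOf_eq_prime (by rw [← map_pow, ← hx, pow_orderOf_eq_one, map_one]) fun h => ?_
    have hxQ : x ∈ Q := hZQ ((QuotientGroup.eq_one_iff x).mp h)
    have := hfpf x hxQ (by group)
    rw [this, orderOf_one] at hx
    omega
  have hfpf' : ∀ q ∈ Q.map (QuotientGroup.mk' Z),
      QuotientGroup.mk' Z x * q * (QuotientGroup.mk' Z x)⁻¹ = q → q = 1 := by
    rintro _ ⟨q, hq, rfl⟩ h
    rw [← map_inv, ← map_mul, ← map_mul] at h
    have hz : q⁻¹ * (x * q * x⁻¹) ∈ Z := QuotientGroup.eq.mp h.symm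
    have hmem : ∀ w : ↥Z, (w : G)⁻¹ * (x * w * x⁻¹) ∈ Z := fun w =>
      mul_mem (inv_mem w.2) (hZn.conj_mem _ w.2 x)
    have hinj : Function.Injective (fun w : ↥Z => (⟨_, hmem w⟩ : ↥Z)) := by
      intro a b hab
      have h1 : (a : G)⁻¹ * (x * a * x⁻¹) = (b : G)⁻¹ * (x * b * x⁻¹) := congrArg Subtype.val hab
      refine Subtype.ext (inv_mul_eq_one.mp (hfpf _ (mul_mem (inv_mem (hZQ b.2)) (hZQ a.2)) ?_)).symm
      calc x * ((b : G)⁻¹ * a) * x⁻¹ = ((b : G) * ((b : G)⁻¹ * (x * b * x⁻¹)))⁻¹ * (a * ((a : G)⁻¹ * (x * a * x⁻¹))) := by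
            group
        _ = ((b : G)⁻¹ * (x * b * x⁻¹))⁻¹ * ((b : G)⁻¹ * a) * ((b : G)⁻¹ * (x * b * x⁻¹)) := by rw [h1]; group
        _ = (b : G)⁻¹ * a := by
            rw [mul_assoc, (hmem b).2.2 ((b : G)⁻¹ * a) (mul_mem (inv_mem (hZQ b.2)) (hZQ a.2)),
              ← mul_assoc, inv_mul_cancel, one_mul]
    obtain ⟨⟨w, hw⟩, hw'⟩ := (Finite.injective_iff_surjective.mp hinj) ⟨_, hz⟩
    have hw'' : w⁻¹ * (x * w * x⁻¹) = q⁻¹ * (x * q * x⁻¹) := congrArg Subtype.val hw'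
    have h1 := hfpf (q * w⁻¹) (mul_mem hq (inv_mem (hZQ hw))) (by
      calc x * (q * w⁻¹) * x⁻¹ = q * (q⁻¹ * (x * q * x⁻¹)) * (w⁻¹ * (x * w * x⁻¹))⁻¹ * w⁻¹ := by group
        _ = q * w⁻¹ := by rw [hw'']; group)
    exact (QuotientGroup.eq_one_iff q).mpr ((mul_inv_eq_one.mp h1) ▸ hw)
  obtain ⟨hc', hs'⟩ := ih (Nat.card (G ⧸ Z)) (by
      rw [← hN, Subgroup.card_eq_card_quotient_mul_card_subgroup Z]
      exact lt_mul_of_one_lt_right Nat.card_pos (Z.one_lt_card_iff_ne_bot.mpr hZ1))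
    (G ⧸ Z) rfl (Q.map (QuotientGroup.mk' Z)) hQ' e' _ hx' hfpf'
  refine elementary_of_layer hF e (fpfLift hQ e hx hfpf) hZQ hQc (fun z hz => hz.2.1) e' (fun g => rfl)
    (fpfLift hQ' e' hx' hfpf') (fun q hq => ?_) (fun q hq r hr => ?_)
  · refine (QuotientGroup.eq_one_iff _).mp ?_
    exact hs' _ ⟨q, hq, rfl⟩
  · refine (QuotientGroup.eq_one_iff _).mp ?_
    show QuotientGroup.mk' Z ⁅q, r⁆ = 1
    rw [map_commutatorElement, commutatorElement_eq_one_iff_mul_comm]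
    exact hc' _ ⟨q, hq, rfl⟩ _ ⟨r, hr, rfl⟩

end Cfsg.Agent.Lib.LocalEven2.SL2Nat
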