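import Mathlib

/-!
# Natural modules for `SL₂(F)`
-/

set_option autoImplicit false

namespace Cfsg.Agent.Lib.LocalEven2.SL2Nat

open Matrix

variable {F : Type*} [Field F]

/-- Upper unitriangular element. -/
def upp (a : F) : Matrix.SpecialLinearGroup (Fin 2) F := ⟨!![1, a; 0, 1], by simp [det_fin_two]⟩

/-- Lower unitriangular element. -/
def low (a : F) : Matrix.SpecialLinearGroup (Fin 2) F := ⟨!![1, 0; a, 1], by simp [det_fin_two]⟩

/-- The Weyl element attached to `a`. -/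
def weyl (a : Fˣ) : Matrix.SpecialLinearGroup (Fin 2) F :=
  upp (a : F) * low (-((a⁻¹ : Fˣ) : F)) * upp (a : F)

theorem coe_upp (a : F) : ((upp a : Matrix.SpecialLinearGroup (Fin 2) F) : Matrix (Fin 2) (Fin 2) F) = !![1, a; 0, 1] := rfl

theorem coe_low (a : F) : ((low a : Matrix.SpecialLinearGroup (Fin 2) F) : Matrix (Fin 2) (Fin 2) F) = !![1, 0; a, 1] := rfl

theorem coe_weyl (a : Fˣ) : ((weyl a : Matrix.SpecialLinearGroup (Fin 2) F) : Matrix (Fin 2) (Fin 2) F) =
    !![0, (a : F); -((a⁻¹ : Fˣ) : F), 0] := by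
  simp [weyl, coe_upp, coe_low, Matrix.mul_fin_two]

theorem sl_ext {g h : Matrix.SpecialLinearGroup (Fin 2) F}
    (H : (g : Matrix (Fin 2) (Fin 2) F) = (h : Matrix (Fin 2) (Fin 2) F)) : g = h := Subtype.ext H

theorem upp_zero : upp (0 : F) = 1 := sl_ext (by simp [coe_upp, Matrix.one_fin_two])

theorem upp_add (a b : F) : upp (a + b) = upp a * upp b :=
  sl_ext (by simp [coe_upp, Matrix.mul_fin_two, add_comm])

theorem low_add (a b : F) : low (a + b) = low a * low b :=
  sl_ext (by simp [coe_low, Matrix.mul_fin_two])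

theorem upp_mul_weyl (a : Fˣ) (b : F) :
    upp b * weyl a = weyl a * low (-((a⁻¹ : Fˣ) : F) * ((a⁻¹ : Fˣ) : F) * b) := by
  refine sl_ext ?_
  have h := a.mul_inv
  simp only [Matrix.SpecialLinearGroup.coe_mul, coe_upp, coe_low, coe_weyl, Matrix.mul_fin_two]
  ext i j
  fin_cases i <;> fin_cases j <;> simp <;> field_simp [a.ne_zero] <;> ring

theorem low_mul_weyl (a : Fˣ) (b : F) :
    low b * weyl a = weyl a * upp (-(a : F) * (a : F) * b) := by
  refine sl_ext ?_
  have h := a.mul_inv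
  simp only [Matrix.SpecialLinearGroup.coe_mul, coe_upp, coe_low, coe_weyl, Matrix.mul_fin_two]
  ext i j
  fin_cases i <;> fin_cases j <;> simp <;> field_simp [a.ne_zero] <;> ring

theorem weyl_triple (a b : Fˣ) : weyl a * weyl (-1) * weyl b = weyl (a * b) :=
  sl_ext (by simp [coe_weyl, Matrix.mul_fin_two, mul_comm])

theorem weyl_one_neg_one : weyl (1 : Fˣ) * weyl (-1) = 1 :=
  sl_ext (by simp [coe_weyl, Matrix.mul_fin_two, Matrix.one_fin_two])

theorem weyl_neg_one_one : weyl (-1 : Fˣ) * weyl 1 = 1 :=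
  sl_ext (by simp [coe_weyl, Matrix.mul_fin_two, Matrix.one_fin_two])

theorem weyl_mul_weyl_neg (a b : Fˣ) : weyl a * weyl b = weyl (-a) * weyl (-b) :=
  sl_ext (by simp [coe_weyl, Matrix.mul_fin_two])

theorem mem_of_gens (H : Subgroup (Matrix.SpecialLinearGroup (Fin 2) F)) (hu : ∀ a, upp a ∈ H)
    (hw : weyl 1 ∈ H) (g : Matrix.SpecialLinearGroup (Fin 2) F) : g ∈ H := by
  have hl : ∀ b : F, low b ∈ H := fun b => by
    have h := low_mul_weyl (1 : Fˣ) b
    rw [← eq_mul_inv_iff_mul_eq] at h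
    rw [h]
    exact mul_mem (mul_mem hw (hu _)) (inv_mem hw)
  have key : ∀ g : Matrix.SpecialLinearGroup (Fin 2) F, g 1 0 ≠ 0 → g ∈ H := by
    intro g hc
    have hd : g 0 0 * g 1 1 - g 0 1 * g 1 0 = 1 := by
      have := g.2; rwa [det_fin_two] at this
    have : g = upp ((g 0 0 - 1) / g 1 0) * low (g 1 0) * upp ((g 1 1 - 1) / g 1 0) := by
      refine sl_ext ?_
      simp only [Matrix.SpecialLinearGroup.coe_mul, coe_upp, coe_low, Matrix.mul_fin_two]
      ext i j
      fin_cases i <;> fin_cases j <;> simp <;> field_simp <;> first | linear_combination hd | linear_combination -hd | ring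
    rw [this]
    exact mul_mem (mul_mem (hu _) (hl _)) (hu _)
  by_cases hc : g 1 0 = 0
  · have h := key (weyl 1 * g) (by
      have hd : g 0 0 * g 1 1 - g 0 1 * g 1 0 = 1 := by
        have := g.2; rwa [det_fin_two] at this
      rw [hc, mul_zero, sub_zero] at hd
      simp [Matrix.SpecialLinearGroup.coe_mul, coe_weyl, Matrix.mul_apply, Fin.sum_univ_two]
      exact left_ne_zero_of_mul_eq_one hd)
    simpa using mul_mem (inv_mem hw) h
  · exact key g hc

variable {M : Type*} [AddCommGroup M]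
variable (ρ : Matrix.SpecialLinearGroup (Fin 2) F →* AddMonoid.End M)

/-- The action of `g` as an additive map. -/
def act (g : Matrix.SpecialLinearGroup (Fin 2) F) : M →+ M := ρ g

theorem rho_mul (g h : Matrix.SpecialLinearGroup (Fin 2) F) (x : M) : act ρ (g * h) x = act ρ g (act ρ h x) := by
  show ρ (g * h) x = ρ g (ρ h x); rw [map_mul]; rfl

theorem rho_one (x : M) : act ρ 1 x = x := by show ρ 1 x = x; rw [map_one]; rfl

theorem rho_inj (g : Matrix.SpecialLinearGroup (Fin 2) F) : Function.Injective (act ρ g) := fun x y h => by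
  have := congrArg (act ρ g⁻¹) h
  rwa [← rho_mul, ← rho_mul, inv_mul_cancel, rho_one, rho_one] at this

/-- The fixed points of the upper unitriangular group. -/
def fixU : AddSubgroup M where
  carrier := {x | ∀ a, act ρ (upp a) x = x}
  zero_mem' := fun a => map_zero _
  add_mem' := fun {x y} hx hy a => by rw [map_add, hx a, hy a]
  neg_mem' := fun {x} hx a => by rw [map_neg, hx a]

/-- The fixed points of the lower unitriangular group. -/
def fixL : AddSubgroup M where
  carrier := {x | ∀ a, act ρ (low a) x = x}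
  zero_mem' := fun a => map_zero _
  add_mem' := fun {x y} hx hy a => by rw [map_add, hx a, hy a]
  neg_mem' := fun {x} hx a => by rw [map_neg, hx a]

theorem mem_fixU {x : M} : x ∈ fixU ρ ↔ ∀ a, act ρ (upp a) x = x := Iff.rfl

theorem mem_fixL {x : M} : x ∈ fixL ρ ↔ ∀ a, act ρ (low a) x = x := Iff.rfl

theorem weyl_fixL (a : Fˣ) {x : M} (hx : x ∈ fixL ρ) : act ρ (weyl a) x ∈ fixU ρ := fun b => by
  rw [← rho_mul, upp_mul_weyl, rho_mul, hx]

theorem weyl_fixU (a : Fˣ) {x : M} (hx : x ∈ fixU ρ) : act ρ (weyl a) x ∈ fixL ρ := fun b => by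
  rw [← rho_mul, low_mul_weyl, rho_mul, hx]

/-- The part of `fixL` on which the upper unitriangular group is trivial modulo `fixU`. -/
def quadPart : AddSubgroup M where
  carrier := {x | x ∈ fixL ρ ∧ ∀ a, act ρ (upp a) x - x ∈ fixU ρ}
  zero_mem' := ⟨zero_mem _, fun a => by simp⟩
  add_mem' := fun {x y} hx hy => ⟨add_mem hx.1 hy.1, fun a => by
    rw [map_add, add_sub_add_comm]; exact add_mem (hx.2 a) (hy.2 a)⟩
  neg_mem' := fun {x} hx => ⟨neg_mem hx.1, fun a => by
    rw [map_neg, ← neg_sub_neg, neg_neg, neg_neg, ← neg_sub]; exact neg_mem (hx.2 a)⟩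

variable {ρ}

theorem upp_quadPart (hd : fixU ρ ⊓ fixL ρ = ⊥) {x : M} (hx : x ∈ quadPart ρ) (a : Fˣ) :
    act ρ (upp (a : F)) x = x + act ρ (weyl a) x := by
  obtain ⟨hxL, hxq⟩ := hx
  set n := act ρ (weyl a) x with hn
  set c := act ρ (upp (a : F)) x - x with hc
  set v := act ρ (low (-((a⁻¹ : Fˣ) : F))) with hv
  have hnU : n ∈ fixU ρ := weyl_fixL ρ a hxL
  have hcU : c ∈ fixU ρ := hxq _
  have hux : act ρ (upp (a : F)) x = x + c := by rw [hc]; abel
  have h1 : n = act ρ (upp (a : F)) (x + v c) := by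
    have hvx : v x = x := hxL _
    rw [hn, weyl, rho_mul, rho_mul, hux, map_add (v )]
    exact congrArg _ (congrArg (· + v c) hvx)
  have h2 : v c = n - x := by
    have : x + v c = n := rho_inj ρ (upp (a : F)) (by rw [← h1]; exact (hnU _).symm)
    rw [← this]; abel
  have h3 : v n - n ∈ fixL ρ := by
    have he := hxq (-(a : F) * (a : F) * (-((a⁻¹ : Fˣ) : F)))
    have : v n = act ρ (weyl a) (act ρ (upp (-(a : F) * (a : F) * (-((a⁻¹ : Fˣ) : F)))) x) := by
      rw [hn, hv, ← rho_mul, low_mul_weyl, rho_mul]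
    rw [this, hn, ← map_sub (act ρ (weyl a) )]
    exact weyl_fixU ρ a he
  have h4 : v (c - n) ∈ fixL ρ := by
    rw [map_sub (v ), h2, show n - x - v n = -(v n - n) - x by abel]
    exact sub_mem (neg_mem h3) hxL
  have h5 : c - n ∈ fixL ρ := by
    have := mem_fixL ρ |>.mp h4 ((a⁻¹ : Fˣ) : F)
    rw [hv, ← rho_mul, ← low_add, add_neg_cancel] at this
    rw [show low (0 : F) = 1 from sl_ext (by simp [coe_low, Matrix.one_fin_two]), rho_one] at this
    rw [this]; exact h4
  have h6 : c - n = 0 := by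
    have : c - n ∈ fixU ρ ⊓ fixL ρ := AddSubgroup.mem_inf.mpr ⟨sub_mem hcU hnU, h5⟩
    rwa [hd, AddSubgroup.mem_bot] at this
  rw [hux, sub_eq_zero.mp h6]

variable (ρ) in
/-- Invariance under the whole group follows from invariance under generators. -/
theorem invariant_of_gens [Finite M] (A : AddSubgroup M) (hu : ∀ a, ∀ x ∈ A, act ρ (upp a) x ∈ A)
    (hw : ∀ x ∈ A, act ρ (weyl 1) x ∈ A) (g : Matrix.SpecialLinearGroup (Fin 2) F) :
    ∀ x ∈ A, act ρ g x ∈ A := by
  let H : Subgroup (Matrix.SpecialLinearGroup (Fin 2) F) :=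
    { carrier := {g | ∀ x ∈ A, act ρ g x ∈ A}
      one_mem' := fun x hx => by rwa [rho_one]
      mul_mem' := fun {g h} hg hh x hx => by rw [rho_mul]; exact hg _ (hh x hx)
      inv_mem' := fun {g} hg x hx => by
        obtain ⟨y, hy⟩ := (Finite.injective_iff_surjective (f := fun z : A => (⟨act ρ g z, hg _ z.2⟩ : A))).mp
          (fun z w h => Subtype.ext (rho_inj ρ g (congrArg Subtype.val h))) ⟨x, hx⟩
        have : act ρ g⁻¹ x = (y : M) := by
          rw [show x = act ρ g y from (congrArg Subtype.val hy).symm, ← rho_mul, inv_mul_cancel, rho_one]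
        rw [this]; exact y.2 }
  exact mem_of_gens H hu hw g

/-- A submodule generated by a piece on which the action is quadratic. -/
theorem quad_sup_invariant [Finite M] (hd : fixU ρ ⊓ fixL ρ = ⊥) (g : Matrix.SpecialLinearGroup (Fin 2) F) :
    ∀ x ∈ quadPart ρ ⊔ (quadPart ρ).map (act ρ (weyl 1)),
      act ρ g x ∈ quadPart ρ ⊔ (quadPart ρ).map (act ρ (weyl 1)) := by
  have htor : ∀ a b : Fˣ, ∀ x ∈ quadPart ρ, act ρ (weyl a) (act ρ (weyl b) x) ∈ quadPart ρ := by
    intro a b x hx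
    refine ⟨weyl_fixU ρ _ (weyl_fixL ρ _ hx.1), fun c => ?_⟩
    rw [← rho_mul ρ (upp c), upp_mul_weyl, rho_mul, ← rho_mul ρ (low _), low_mul_weyl, rho_mul,
      ← map_sub (act ρ (weyl a) ), ← map_sub (act ρ (weyl b) )]
    exact weyl_fixL ρ _ (weyl_fixU ρ _ (hx.2 _))
  refine invariant_of_gens ρ _ (fun a x hx => ?_) (fun x hx => ?_) g
  · rcases eq_or_ne a 0 with rfl | ha
    · rwa [upp_zero, rho_one]
    obtain ⟨k, hk, _, ⟨l, hl, rfl⟩, rfl⟩ := AddSubgroup.mem_sup.mp hx
    rw [map_add, show a = ((Units.mk0 a ha : Fˣ) : F) from rfl, upp_quadPart hd hk,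
      (weyl_fixL ρ 1 hl.1 : act ρ (weyl 1) l ∈ fixU ρ) _, add_assoc]
    refine add_mem (AddSubgroup.mem_sup_left hk) (add_mem (AddSubgroup.mem_sup_right ?_)
      (AddSubgroup.mem_sup_right ⟨l, hl, rfl⟩))
    refine ⟨act ρ (weyl (-1)) (act ρ (weyl (Units.mk0 a ha)) k), htor _ _ k hk, ?_⟩
    show act ρ (weyl 1) _ = _
    rw [← rho_mul, weyl_one_neg_one, rho_one]
  · obtain ⟨k, hk, _, ⟨l, hl, rfl⟩, rfl⟩ := AddSubgroup.mem_sup.mp hx
    rw [map_add]
    exact add_mem (AddSubgroup.mem_sup_right ⟨k, hk, rfl⟩) (AddSubgroup.mem_sup_left (htor 1 1 l hl))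

/-- An element fixed by the upper unitriangular group modulo an invariant proper subgroup. -/
theorem exists_fixed_mod [Finite M] [Fintype F] {p : ℕ} [Fact p.Prime] [CharP F p] (hp : ∀ x : M, p • x = 0)
    (A : AddSubgroup M) (hA : A ≠ ⊤) (hinv : ∀ a, ∀ x ∈ A, act ρ (upp a) x ∈ A) :
    ∃ y, y ∉ A ∧ ∀ a, act ρ (upp a) y - y ∈ A := by
  haveI := Fintype.ofFinite M
  let bar : F → (M ⧸ A) →+ (M ⧸ A) := fun a => QuotientAddGroup.map A A (act ρ (upp a)) fun x hx => hinv a x hx
  letI : MulAction (Multiplicative F) (M ⧸ A) :=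
    { smul := fun a y => bar a.toAdd y
      one_smul := fun y => by
        induction y using QuotientAddGroup.induction_on with
        | H z =>
          show ((act ρ (upp 0) z : M) : M ⧸ A) = z
          rw [upp_zero, rho_one]
      mul_smul := fun a b y => by
        induction y using QuotientAddGroup.induction_on with
        | H z =>
          show ((act ρ (upp (a.toAdd + b.toAdd)) z : M) : M ⧸ A) = ((act ρ (upp a.toAdd) (act ρ (upp b.toAdd) z) : M) : M ⧸ A)
          rw [upp_add, rho_mul] }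
  have hF : IsPGroup p (Multiplicative F) := fun x => ⟨1, by
    rw [pow_one]
    apply Multiplicative.toAdd.injective
    rw [toAdd_pow, nsmul_eq_mul, CharP.cast_eq_zero, zero_mul, toAdd_one]⟩
  haveI : Nontrivial (M ⧸ A) := QuotientAddGroup.nontrivial_iff.mpr hA
  have hdvd : p ∣ Nat.card (M ⧸ A) := by
    obtain ⟨q, hq⟩ := exists_ne (0 : M ⧸ A)
    induction q using QuotientAddGroup.induction_on with
    | H z =>
      have h0 : p • ((z : M) : M ⧸ A) = 0 := by rw [← QuotientAddGroup.mk_nsmul, hp, QuotientAddGroup.mk_zero]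
      rw [← addOrderOf_eq_prime h0 hq]
      exact addOrderOf_dvd_natCard _
  obtain ⟨q, hqf, hq0⟩ := hF.exists_fixed_point_of_prime_dvd_card_of_fixed_point (M ⧸ A) hdvd
    (a := 0) (fun a => map_zero (bar a.toAdd))
  induction q using QuotientAddGroup.induction_on with
  | H z =>
    refine ⟨z, fun hz => hq0 ((QuotientAddGroup.eq_zero_iff z).mpr hz).symm, fun a => ?_⟩
    exact QuotientAddGroup.eq_iff_sub_mem.mp (hqf (Multiplicative.ofAdd a))

theorem weyl_inv_mem (hz : ∀ x : M, x ∈ fixU ρ) : ∀ g : Matrix.SpecialLinearGroup (Fin 2) F, ∀ x, act ρ g x = x := by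
  have hl : ∀ b x, act ρ (low b) x = x := fun b x => by
    have h : act ρ (low b) (act ρ (weyl 1) x) = act ρ (weyl 1) x := by
      rw [← rho_mul, low_mul_weyl, rho_mul]
      exact congrArg _ (hz x _)
    obtain ⟨y, rfl⟩ : ∃ y, act ρ (weyl 1) y = x := ⟨act ρ (weyl 1)⁻¹ x, by rw [← rho_mul, mul_inv_cancel, rho_one]⟩
    rw [← rho_mul, low_mul_weyl, rho_mul]
    exact congrArg _ (hz y _)
  let H : Subgroup (Matrix.SpecialLinearGroup (Fin 2) F) :=
    { carrier := {g | ∀ x, act ρ g x = x}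
      one_mem' := fun x => rho_one ρ x
      mul_mem' := fun {g h} hg hh x => by rw [rho_mul, hh, hg]
      inv_mem' := fun {g} hg x => by
        conv_lhs => rw [← hg x]
        rw [← rho_mul, inv_mul_cancel, rho_one] }
  refine mem_of_gens H (fun a x => hz x a) (fun x => ?_)
  rw [weyl, rho_mul, rho_mul, hz x, hl, hz x]

section Irreducible

variable (hirr : ∀ A : AddSubgroup M, (∀ g, ∀ x ∈ A, act ρ g x ∈ A) → A = ⊥ ∨ A = ⊤)
variable (hnt : ∃ g x, act ρ g x ≠ x)
include hirr hnt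

theorem disjoint_fix [Finite M] : fixU ρ ⊓ fixL ρ = ⊥ := by
  have hw : ∀ x ∈ fixU ρ ⊓ fixL ρ, act ρ (weyl 1) x = x := fun x hx => by
    rw [weyl, rho_mul, rho_mul, hx.1, hx.2, hx.1]
  refine (hirr _ (invariant_of_gens ρ _ (fun a x hx => by rw [hx.1 a]; exact hx)
    fun x hx => by rw [hw x hx]; exact hx)).resolve_right fun h => ?_
  obtain ⟨g, x, hgx⟩ := hnt
  exact hgx (weyl_inv_mem (fun y => (h ▸ AddSubgroup.mem_top y : y ∈ fixU ρ ⊓ fixL ρ).1) g x)

theorem fixL_ne_bot [Finite M] [Fintype F] {p : ℕ} [Fact p.Prime] [CharP F p] (hp : ∀ x : M, p • x = 0) :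
    fixL ρ ≠ ⊥ := by
  intro h
  obtain ⟨g, x, hgx⟩ := hnt
  have hne : (⊥ : AddSubgroup M) ≠ ⊤ := fun e => hgx (by
    rw [(AddSubgroup.mem_bot.mp (e ▸ AddSubgroup.mem_top x : x ∈ (⊥ : AddSubgroup M))), map_zero])
  obtain ⟨y, hy, hy'⟩ := exists_fixed_mod (ρ := ρ) hp ⊥ hne fun a z hz => by
    rw [AddSubgroup.mem_bot] at hz ⊢; rw [hz, map_zero]
  apply hy
  have := weyl_fixU ρ 1 (x := y) fun a => sub_eq_zero.mp (AddSubgroup.mem_bot.mp (hy' a))
  rw [h, AddSubgroup.mem_bot] at this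
  exact AddSubgroup.mem_bot.mpr (rho_inj ρ _ (this.trans (map_zero _).symm))

/-- Under either hypothesis the fixed points of opposite unipotent groups span. -/
theorem sup_fix [Finite M]
    (hyp : (∀ a b x, act ρ (upp a) (act ρ (upp b) x - x) = act ρ (upp b) x - x) ∨
      Nat.card M ≤ Nat.card (fixU ρ) ^ 2) : fixU ρ ⊔ fixL ρ = ⊤ := by
  have hd := disjoint_fix hirr hnt
  rcases hyp with hq | hc
  · refine (hirr _ (invariant_of_gens ρ _ (fun a x hx => ?_) fun x hx => ?_)).resolve_left fun h => ?_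
    · rw [show act ρ (upp a) x = (act ρ (upp a) x - x) + x by abel]
      exact add_mem (AddSubgroup.mem_sup_left fun b => hq b a x) hx
    · obtain ⟨k, hk, l, hl, rfl⟩ := AddSubgroup.mem_sup.mp hx
      rw [map_add]
      exact add_mem (AddSubgroup.mem_sup_right (weyl_fixU ρ 1 hk))
        (AddSubgroup.mem_sup_left (weyl_fixL ρ 1 hl))
    · obtain ⟨g, x, hgx⟩ := hnt
      refine hgx (weyl_inv_mem (fun y a => sub_eq_zero.mp ?_) g x)
      have : act ρ (upp a) y - y ∈ fixU ρ ⊔ fixL ρ := AddSubgroup.mem_sup_left fun b => hq b a y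
      rwa [h, AddSubgroup.mem_bot] at this
  · have hcard : Nat.card (fixU ρ) ≤ Nat.card (fixL ρ) :=
      Nat.card_le_card_of_injective (fun x : fixU ρ => (⟨act ρ (weyl 1) x, weyl_fixU ρ 1 x.2⟩ : fixL ρ))
        fun x y h => Subtype.ext (rho_inj ρ _ (congrArg Subtype.val h))
    have hinj : Function.Injective (fun z : fixU ρ × fixL ρ => (z.1 : M) + z.2) := by
      rintro ⟨a, b⟩ ⟨c, d⟩ h
      have h0 : (a : M) - c = d - b := by
        dsimp only at h; rw [sub_eq_sub_iff_add_eq_add, h]; abel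
      have h1 : (a : M) - c ∈ fixU ρ ⊓ fixL ρ := AddSubgroup.mem_inf.mpr ⟨sub_mem a.2 c.2, h0 ▸ sub_mem d.2 b.2⟩
      rw [hd, AddSubgroup.mem_bot] at h1
      refine Prod.ext (Subtype.ext (sub_eq_zero.mp h1)) (Subtype.ext (sub_eq_zero.mp (h0 ▸ h1)).symm)
    obtain ⟨-, hsurj⟩ := (Nat.bijective_iff_injective_and_card _).mpr ⟨hinj, le_antisymm
      (Nat.card_le_card_of_injective _ hinj) (by
        rw [Nat.card_prod]; refine hc.trans ?_; rw [sq]; exact Nat.mul_le_mul_left _ hcard)⟩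
    rw [eq_top_iff]
    rintro x -
    obtain ⟨⟨a, b⟩, rfl⟩ := hsurj x
    exact add_mem (AddSubgroup.mem_sup_left a.2) (AddSubgroup.mem_sup_right b.2)

theorem quadPart_eq [Finite M] [Fintype F] {p : ℕ} [Fact p.Prime] [CharP F p] (hp : ∀ x : M, p • x = 0)
    (hsum : fixU ρ ⊔ fixL ρ = ⊤) : fixL ρ ≤ quadPart ρ := by
  have hd := disjoint_fix hirr hnt
  have hL := fixL_ne_bot hirr hnt hp
  have hU : fixU ρ ≠ ⊤ := fun h => hL (by rwa [h, top_inf_eq] at hd)
  obtain ⟨y, hy, hy'⟩ := exists_fixed_mod hp (fixU ρ) hU fun a x hx => by rwa [hx a]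
  obtain ⟨k, hk, l, hl, rfl⟩ := AddSubgroup.mem_sup.mp (hsum ▸ AddSubgroup.mem_top y : y ∈ fixU ρ ⊔ fixL ρ)
  have hlq : l ∈ quadPart ρ := ⟨hl, fun a => by
    have := hy' a
    rwa [map_add, hk a, add_sub_add_left_eq_sub] at this⟩
  have htop := (hirr _ (quad_sup_invariant hd)).resolve_left fun h => by
    apply hy
    have : l = 0 := AddSubgroup.mem_bot.mp (h ▸ AddSubgroup.mem_sup_left hlq)
    rwa [this, add_zero]
  intro z hz
  obtain ⟨m, hm, _, ⟨m', hm', rfl⟩, rfl⟩ := AddSubgroup.mem_sup.mp (htop ▸ AddSubgroup.mem_top z :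
    z ∈ quadPart ρ ⊔ (quadPart ρ).map (act ρ (weyl 1)))
  have h0 : act ρ (weyl 1) m' ∈ fixU ρ ⊓ fixL ρ := ⟨weyl_fixL ρ 1 hm'.1,
    by simpa using sub_mem hz hm.1⟩
  rw [hd, AddSubgroup.mem_bot] at h0
  show m + act ρ (weyl 1) m' ∈ quadPart ρ
  rwa [h0, add_zero]

end Irreducible

/-- The map from `F²` attached to a nonzero fixed point of the lower unitriangular group. -/
theorem exists_natural [Finite M] (hd : fixU ρ ⊓ fixL ρ = ⊥) {x : M} (hx : x ∈ quadPart ρ) (hx0 : x ≠ 0)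
    (hall : fixL ρ ≤ quadPart ρ) :
    ∃ f : (Fin 2 → F) →+ M, Function.Injective f ∧ x ∈ f.range ∧
      ∀ (g : Matrix.SpecialLinearGroup (Fin 2) F) v, act ρ g (f v) = f ((g : Matrix (Fin 2) (Fin 2) F).mulVec v) := by
  let d : F →+ M := AddMonoidHom.mk' (fun a => act ρ (upp a) x - x) fun a b => by
    have h1 : act ρ (upp a) (act ρ (upp b) x - x) = act ρ (upp b) x - x := hx.2 b a
    rw [map_sub] at h1
    rw [upp_add, rho_mul]
    calc act ρ (upp a) (act ρ (upp b) x) - x = (act ρ (upp a) (act ρ (upp b) x) - act ρ (upp a) x) + (act ρ (upp a) x - x) := by abel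
      _ = _ := by rw [h1]; abel
  have hdU : ∀ a, d a ∈ fixU ρ := hx.2
  have hdu : ∀ a : Fˣ, d (a : F) = act ρ (weyl a) x := fun a => by
    show act ρ (upp (a : F)) x - x = _
    rw [upp_quadPart hd hx a, add_sub_cancel_left]
  let f : (Fin 2 → F) →+ M := AddMonoidHom.mk' (fun v => d (v 0) + act ρ (weyl (-1)) (d (v 1))) fun v w => by
    simp only [Pi.add_apply, map_add]; abel
  have hd0 : ∀ a, d a = 0 → a = 0 := fun a h => by
    by_contra ha
    rw [show a = ((Units.mk0 a ha : Fˣ) : F) from rfl, hdu] at h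
    exact hx0 (rho_inj ρ _ (h.trans (map_zero _).symm))
  have hfU : ∀ a b : F, act ρ (upp a) (act ρ (weyl (-1)) (d b)) = act ρ (weyl (-1)) (d b) + d (a * b) := by
    intro a b
    rcases eq_or_ne a 0 with rfl | ha
    · rw [upp_zero, rho_one, zero_mul, map_zero d, add_zero]
    rcases eq_or_ne b 0 with rfl | hb
    · rw [mul_zero, map_zero d, map_zero, map_zero, add_zero]
    have := upp_quadPart hd (hall (weyl_fixU ρ (-1) (hdU b))) (Units.mk0 a ha)
    rw [Units.val_mk0] at this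
    rw [this]
    congr 1
    rw [show d b = d ((Units.mk0 b hb : Fˣ) : F) from rfl, hdu, ← rho_mul, ← rho_mul, weyl_triple,
      ← hdu]
    rfl
  have hfW : ∀ b : F, act ρ (weyl 1) (d b) = act ρ (weyl (-1)) (d (-b)) := by
    intro b
    rcases eq_or_ne b 0 with rfl | hb
    · simp
    rw [show d b = d ((Units.mk0 b hb : Fˣ) : F) from rfl,
      show d (-b) = d ((-Units.mk0 b hb : Fˣ) : F) by simp, hdu, hdu, ← rho_mul, ← rho_mul,
      weyl_mul_weyl_neg 1 (Units.mk0 b hb)]
  refine ⟨f, ?_, ⟨![0, 1], ?_⟩, ?_⟩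
  · rw [injective_iff_map_eq_zero]
    intro v hv
    have hv' : d (v 0) + act ρ (weyl (-1)) (d (v 1)) = 0 := hv
    have h0 : d (v 0) ∈ fixU ρ ⊓ fixL ρ := AddSubgroup.mem_inf.mpr ⟨hdU _, by
      rw [eq_neg_of_add_eq_zero_left hv']; exact neg_mem (weyl_fixU ρ _ (hdU _))⟩
    rw [hd, AddSubgroup.mem_bot] at h0
    rw [h0, zero_add] at hv'
    funext i
    fin_cases i
    · exact hd0 _ h0
    · exact hd0 _ (rho_inj ρ _ (hv'.trans (map_zero _).symm))
  · show d ((![0, 1] : Fin 2 → F) 0) + act ρ (weyl (-1)) (d ((![0, 1] : Fin 2 → F) 1)) = x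
    simp only [Matrix.cons_val_zero, Matrix.cons_val_one, map_zero d, zero_add]
    rw [show d (1 : F) = d ((1 : Fˣ) : F) from rfl, hdu, ← rho_mul, weyl_neg_one_one, rho_one]
  · let H : Subgroup (Matrix.SpecialLinearGroup (Fin 2) F) :=
      { carrier := {g | ∀ v, act ρ g (f v) = f ((g : Matrix (Fin 2) (Fin 2) F).mulVec v)}
        one_mem' := fun v => by simp [rho_one]
        mul_mem' := fun {g h} hg hh v => by
          rw [rho_mul, hh, hg, Matrix.SpecialLinearGroup.coe_mul, Matrix.mulVec_mulVec]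
        inv_mem' := fun {g} hg v => by
          apply rho_inj ρ g
          rw [← rho_mul, mul_inv_cancel, rho_one, hg, Matrix.mulVec_mulVec,
            ← Matrix.SpecialLinearGroup.coe_mul, mul_inv_cancel, Matrix.SpecialLinearGroup.coe_one,
            Matrix.one_mulVec] }
    refine mem_of_gens H (fun a v => ?_) (fun v => ?_)
    · show act ρ (upp a) (d (v 0) + act ρ (weyl (-1)) (d (v 1))) = d _ + act ρ (weyl (-1)) (d _)
      rw [map_add, hdU, hfU]
      simp [coe_upp, Matrix.mulVec, dotProduct, Fin.sum_univ_two]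
      abel
    · show act ρ (weyl 1) (d (v 0) + act ρ (weyl (-1)) (d (v 1))) = d _ + act ρ (weyl (-1)) (d _)
      rw [map_add, hfW, ← rho_mul, weyl_one_neg_one, rho_one]
      simp [coe_weyl, Matrix.mulVec, dotProduct, Fin.sum_univ_two]
      abel

end Cfsg.Agent.Lib.LocalEven2.SL2Nat
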