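import Cfsg.Agent.Lib.Solvable.Huppert
import Cfsg.Agent.Lib.LocalEven2.HFocal

/-!
Supersolvability from the action on a normal `p`-subgroup.
-/

set_option autoImplicit false

namespace Cfsg.Agent.Lib.LocalEven2

universe u

open scoped commutatorElement

open Solvable in
/-- If `G/Q` is supersolvable and commutators and `(p-1)`-st powers of order prime to `p` centralize
the normal `p`-subgroup `Q`, then `G` is supersolvable. -/
theorem isSupersolvable_of_pGroup_action {p : ℕ} [hp : Fact p.Prime] :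
    ∀ (n : ℕ) (G : Type u) [Group G] [Finite G], Nat.card G = n →
      ∀ (Q : Subgroup G) [Q.Normal], IsPGroup p ↥Q → Cfsg.IsSupersolvable (G ⧸ Q) →
      (∀ g : G, (g ∈ commutator G ∨ ∃ h : G, g = h ^ (p - 1)) → (orderOf g).Coprime p →
        g ∈ Subgroup.centralizer (Q : Set G)) → Cfsg.IsSupersolvable G := by
  intro n
  induction n using Nat.strongRecOn with
  | ind n IH =>
  intro G _ _ hn Q _ hQ hq hact
  by_cases hQ0 : Q = ⊥
  · subst hQ0
    exact isSupersolvable_map (QuotientGroup.quotientBot (G := G)).toMonoidHom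
      (QuotientGroup.quotientBot (G := G)).surjective hq
  set Z := Q ⊓ Subgroup.centralizer (Q : Set G)
  haveI : Z.Normal := inferInstance
  have hZ0 : Z ≠ ⊥ := ThompsonComplement.center_ne_bot hQ hQ0
  obtain ⟨N, ⟨hNn, hN0, hNZ⟩, hmin⟩ := (Set.toFinite {N : Subgroup G |
    N.Normal ∧ N ≠ ⊥ ∧ N ≤ Z}).exists_minimal ⟨_, inferInstance, hZ0, le_rfl⟩
  haveI := hNn
  have hminN : ∀ L : Subgroup G, L.Normal → L ≤ N → L ≠ ⊥ → L = N := fun L hL hLN h0 =>
    le_antisymm hLN (hmin ⟨hL, h0, hLN.trans hNZ⟩ hLN)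
  have hNQ : N ≤ Q := hNZ.trans inf_le_left
  have hNcomm : ∀ x ∈ N, ∀ y ∈ N, x * y = y * x := fun x hx y hy =>
    Subgroup.mem_centralizer_iff.mp (hNZ hy).2 x (hNQ hx)
  have hNp : IsPGroup p ↥N := hQ.to_le hNQ
  obtain ⟨e, he, hecard⟩ := Coprime.exists_card_eq_prime_pow hp.out hNp hN0
  have hpN : p ∣ Nat.card ↥N := hecard ▸ dvd_pow_self p (by omega)
  have hNe : ∀ x ∈ N, x ^ p = 1 := by
    let E : Subgroup G :=
      { carrier := {x | x ∈ N ∧ x ^ p = 1}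
        one_mem' := ⟨one_mem _, one_pow _⟩
        mul_mem' := fun {x y} hx hy => ⟨mul_mem hx.1 hy.1, by
          rw [(show Commute x y from hNcomm x hx.1 y hy.1).mul_pow, hx.2, hy.2, one_mul]⟩
        inv_mem' := fun {x} hx => ⟨inv_mem hx.1, by rw [inv_pow, hx.2, inv_one]⟩ }
    have hEn : E.Normal := ⟨fun x hx g => ⟨hNn.conj_mem x hx.1 g, by
      rw [conj_pow, hx.2, mul_one, mul_inv_cancel]⟩⟩
    have hE : E = N := by
      refine hminN E hEn (fun x hx => hx.1) fun e0 => ?_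
      obtain ⟨x, hx⟩ := exists_prime_orderOf_dvd_card' (G := ↥N) p hpN
      have hxE : (x : G) ∈ E := ⟨x.2, by rw [← hx, ← Subgroup.orderOf_coe, pow_orderOf_eq_one]⟩
      rw [e0, Subgroup.mem_bot] at hxE
      rw [← Subgroup.orderOf_coe, hxE, orderOf_one] at hx
      exact hp.out.ne_one hx.symm
    exact fun x hx => (hE.ge hx).2
  let φ : G →* MulAut ↥N := MulAut.conjNormal
  have hφ : ∀ (g : G) (x : ↥N), ((φ g x : ↥N) : G) = g * x * g⁻¹ := fun g x => MulAut.conjNormal_apply g x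
  -- the relevant elements act as `p`-elements
  have hpel : ∀ g : G, (g ∈ commutator G ∨ ∃ h : G, g = h ^ (p - 1)) → ∃ j : ℕ, (φ g) ^ p ^ j = 1 := by
    intro g hg
    obtain ⟨j, m, hm, hjm⟩ := Nat.exists_eq_pow_mul_and_not_dvd (orderOf_pos g).ne' p hp.out.ne_one
    refine ⟨j, ?_⟩
    have hcen := hact (g ^ p ^ j) (hg.imp (fun h => pow_mem h _) fun ⟨h, hh⟩ =>
      ⟨h ^ p ^ j, by rw [hh, ← pow_mul, ← pow_mul, mul_comm]⟩) (by
        rw [orderOf_pow' g (pow_ne_zero _ hp.out.ne_zero), hjm,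
          Nat.gcd_eq_right (dvd_mul_right _ m), Nat.mul_div_cancel_left _ (pow_pos hp.out.pos j)]
        exact (hp.out.coprime_iff_not_dvd.mpr hm).symm)
    rw [← map_pow]
    ext x
    rw [hφ, MulAut.one_apply, ← Subgroup.mem_centralizer_iff.mp hcen _ (hNQ x.2), mul_inv_cancel_right]
  have hfix : ∀ I : Subgroup (MulAut ↥N), IsPGroup p ↥I → (∀ g : G, ∀ σ ∈ I, φ g * σ * (φ g)⁻¹ ∈ I) →
      ∀ σ ∈ I, σ = 1 := by
    intro I hI hIn σ hσ
    let F : Subgroup G :=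
      { carrier := {x | ∃ hx : x ∈ N, ∀ τ ∈ I, τ ⟨x, hx⟩ = ⟨x, hx⟩}
        one_mem' := ⟨one_mem _, fun τ _ => map_one τ⟩
        mul_mem' := fun {a b} ⟨ha, ha'⟩ ⟨hb, hb'⟩ => ⟨mul_mem ha hb, fun τ hτ => by
          show τ (⟨a, ha⟩ * ⟨b, hb⟩) = _
          rw [map_mul, ha' τ hτ, hb' τ hτ]; rfl⟩
        inv_mem' := fun {a} ⟨ha, ha'⟩ => ⟨inv_mem ha, fun τ hτ => by
          show τ (⟨a, ha⟩⁻¹) = _
          rw [map_inv, ha' τ hτ]; rfl⟩ }
    have hFn : F.Normal := ⟨fun x ⟨hx, hx'⟩ g => ⟨hNn.conj_mem x hx g, fun τ hτ => by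
      have h1 := hx' ((φ g)⁻¹ * τ * φ g) (by simpa using hIn g⁻¹ τ hτ)
      have h2 := congrArg (φ g) h1
      rw [MulAut.mul_apply, MulAut.mul_apply, MulAut.apply_inv_self] at h2
      rw [show (⟨g * x * g⁻¹, hNn.conj_mem x hx g⟩ : ↥N) = φ g ⟨x, hx⟩ from Subtype.ext (hφ g ⟨x, hx⟩).symm]
      exact h2⟩⟩
    have hF0 : F ≠ ⊥ := by
      intro h0
      obtain ⟨b, hb, hb1⟩ := hI.exists_fixed_point_of_prime_dvd_card_of_fixed_point ↥N hpN
        (a := 1) (fun τ => map_one (τ : MulAut ↥N))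
      have : (b : G) ∈ F := ⟨b.2, fun τ hτ => hb ⟨τ, hτ⟩⟩
      rw [h0, Subgroup.mem_bot] at this
      exact hb1 (Subtype.ext this).symm
    have hFN := hminN F hFn (fun x hx => hx.1) hF0
    refine MulEquiv.ext fun x => ?_
    obtain ⟨_, hx⟩ := hFN.ge x.2
    exact hx σ hσ
  have hab : ∀ g h : G, φ g * φ h = φ h * φ g := by
    intro g h
    refine commutatorElement_eq_one_iff_mul_comm.mp ?_
    refine hfix ((commutator G).map φ) ?_ ?_ _ ⟨⁅g, h⁆, ?_, map_commutatorElement φ g h⟩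
    · rintro ⟨_, x, hx, rfl⟩
      obtain ⟨j, hj⟩ := hpel x (Or.inl hx)
      exact ⟨j, Subtype.ext (by simpa using hj)⟩
    · rintro a _ ⟨x, hx, rfl⟩
      exact ⟨a * x * a⁻¹, (inferInstance : (commutator G).Normal).conj_mem x hx a, by simp⟩
    · rw [commutator_def]
      exact Subgroup.commutator_mem_commutator (Subgroup.mem_top g) (Subgroup.mem_top h)
  have hpow : ∀ g : G, φ g ^ (p - 1) = 1 := by
    intro g
    obtain ⟨j, hj⟩ := hpel (g ^ (p - 1)) (Or.inr ⟨g, rfl⟩)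
    rw [map_pow] at hj
    refine hfix (Subgroup.zpowers (φ g ^ (p - 1))) ?_ ?_ _ (Subgroup.mem_zpowers _)
    · obtain ⟨i, -, hi⟩ := (Nat.dvd_prime_pow hp.out).mp (orderOf_dvd_of_pow_eq_one hj)
      exact IsPGroup.of_card (n := i) (by rw [Nat.card_zpowers, hi])
    · intro a σ hσ
      obtain ⟨i, rfl⟩ := Subgroup.mem_zpowers_iff.mp hσ
      rw [show φ a * (φ g ^ (p - 1)) ^ i = (φ g ^ (p - 1)) ^ i * φ a from
        (((show Commute (φ a) (φ g) from hab a g).pow_right (p - 1)).zpow_right i).eq,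
        mul_inv_cancel_right]
      exact zpow_mem (Subgroup.mem_zpowers _) i
  haveI : Nontrivial ↥N := (Subgroup.nontrivial_iff_ne_bot N).mpr hN0
  have hscal : ∀ g : G, ∃ k : ℕ, ∀ x : ↥N, φ g x = x ^ k := by
    intro g
    obtain ⟨k, n₀, hn₀, hk⟩ := Huppert.exists_eigenvector (p := p)
      (fun x y : ↥N => Subtype.ext (hNcomm x x.2 y y.2)) (fun x => Subtype.ext (by simpa using hNe x x.2))
      (φ g) (hpow g)
    refine ⟨k, fun x => ?_⟩
    let E : Subgroup G :=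
      { carrier := {x | ∃ hx : x ∈ N, φ g ⟨x, hx⟩ = (⟨x, hx⟩ : ↥N) ^ k}
        one_mem' := ⟨one_mem _, by
          show φ g 1 = (1 : ↥N) ^ k
          rw [map_one, one_pow]⟩
        mul_mem' := fun {a b} ⟨ha, ha'⟩ ⟨hb, hb'⟩ => ⟨mul_mem ha hb, by
          show φ g (⟨a, ha⟩ * ⟨b, hb⟩) = ((⟨a, ha⟩ : ↥N) * ⟨b, hb⟩) ^ k
          rw [map_mul, ha', hb', (show Commute (⟨a, ha⟩ : ↥N) ⟨b, hb⟩ from
            Subtype.ext (hNcomm a ha b hb)).mul_pow]⟩
        inv_mem' := fun {a} ⟨ha, ha'⟩ => ⟨inv_mem ha, by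
          show φ g (⟨a, ha⟩⁻¹) = (⟨a, ha⟩ : ↥N)⁻¹ ^ k
          rw [map_inv, ha', inv_pow]⟩ }
    have hEn : E.Normal := ⟨fun x ⟨hx, hx'⟩ y => ⟨hNn.conj_mem x hx y, by
      rw [show (⟨y * x * y⁻¹, hNn.conj_mem x hx y⟩ : ↥N) = φ y ⟨x, hx⟩ from Subtype.ext (hφ y ⟨x, hx⟩).symm,
        ← MulAut.mul_apply, hab, MulAut.mul_apply, hx', map_pow]⟩⟩
    have hE := hminN E hEn (fun x hx => hx.1) fun h0 => hn₀ (Subtype.ext (by
      have : (n₀ : G) ∈ E := ⟨n₀.2, hk⟩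
      rwa [h0, Subgroup.mem_bot] at this))
    obtain ⟨_, hx⟩ := hE.ge x.2
    exact hx
  obtain ⟨n₁, hn₁N, hn₁⟩ := (Subgroup.bot_or_exists_ne_one N).resolve_left hN0
  have hcyc : IsCyclic ↥N := by
    have hn : (Subgroup.zpowers n₁).Normal := by
      refine ⟨fun x hx y => ?_⟩
      obtain ⟨k, hk⟩ := hscal y
      have h1 := hk ⟨x, Subgroup.zpowers_le.mpr hn₁N hx⟩
      have h2 : y * x * y⁻¹ = x ^ k := by
        rw [← hφ y ⟨x, Subgroup.zpowers_le.mpr hn₁N hx⟩, h1]; rfl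
      rw [h2]; exact pow_mem hx k
    rw [← hminN _ hn (Subgroup.zpowers_le.mpr hn₁N) (fun h => hn₁ (Subgroup.zpowers_eq_bot.mp h))]
    infer_instance
  refine isSupersolvable_of_cyclic_normal N hcyc ?_
  let π := QuotientGroup.mk' N
  have hπ : Function.Surjective π := QuotientGroup.mk'_surjective N
  haveI hQn : (Q.map π).Normal := Subgroup.Normal.map inferInstance π hπ
  refine IH (Nat.card (G ⧸ N)) ?_ (G ⧸ N) rfl (Q.map π) (hQ.map π) ?_ ?_
  · rw [← hn, Subgroup.card_eq_card_quotient_mul_card_subgroup N]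
    refine lt_mul_of_one_lt_right Nat.card_pos ?_
    rw [hecard]; exact Nat.one_lt_pow (by omega) hp.out.one_lt
  · refine isSupersolvable_map (QuotientGroup.lift Q ((QuotientGroup.mk' (Q.map π)).comp π) fun x hx => by
      rw [MonoidHom.mem_ker, MonoidHom.comp_apply, QuotientGroup.mk'_apply, QuotientGroup.eq_one_iff]
      exact Subgroup.mem_map_of_mem π hx) ?_ hq
    intro y
    obtain ⟨y', rfl⟩ := QuotientGroup.mk'_surjective (Q.map π) y
    obtain ⟨a, rfl⟩ := hπ y'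
    exact ⟨(a : G ⧸ Q), rfl⟩
  · intro x hx hxo
    have hlift : ∃ y : G, π y = x ∧ (y ∈ commutator G ∨ ∃ h : G, y = h ^ (p - 1)) := by
      rcases hx with hx | ⟨h, rfl⟩
      · have h1 : commutator (G ⧸ N) = (commutator G).map π := by
          rw [commutator_def, commutator_def, Subgroup.map_commutator, Subgroup.map_top_of_surjective π hπ]
        rw [h1] at hx
        obtain ⟨y, hy, hye⟩ := hx
        exact ⟨y, hye, Or.inl hy⟩
      · obtain ⟨h', rfl⟩ := hπ h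
        exact ⟨h' ^ (p - 1), map_pow π _ _, Or.inr ⟨h', rfl⟩⟩
    obtain ⟨y, rfl, hy⟩ := hlift
    obtain ⟨j, m, hm, hjm⟩ := Nat.exists_eq_pow_mul_and_not_dvd (orderOf_pos y).ne' p hp.out.ne_one
    obtain ⟨a, ha⟩ := exists_pow_eq_self_of_coprime (x := π y) (n := p ^ j)
      ((Nat.Coprime.pow_right j hxo).symm)
    have hcen := hact ((y ^ p ^ j) ^ a) (hy.imp (fun h => pow_mem (pow_mem h _) _) fun ⟨h, hh⟩ =>
      ⟨h ^ (p ^ j * a), by rw [hh, ← pow_mul, ← pow_mul, ← pow_mul]; congr 1; ring⟩) (by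
        refine ((hp.out.coprime_iff_not_dvd.mpr hm).symm).coprime_dvd_left ((orderOf_pow_dvd a).trans ?_)
        rw [orderOf_pow' y (pow_ne_zero _ hp.out.ne_zero), hjm,
          Nat.gcd_eq_right (dvd_mul_right _ m), Nat.mul_div_cancel_left _ (pow_pos hp.out.pos j)])
    rw [show π y = π ((y ^ p ^ j) ^ a) by rw [map_pow, map_pow]; exact ha.symm]
    rintro _ ⟨q, hq', rfl⟩
    rw [← map_mul, ← map_mul, Subgroup.mem_centralizer_iff.mp hcen q hq']

end Cfsg.Agent.Lib.LocalEven2
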