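import Cfsg.Agent.Lib.LocalEven2.Sylow
import Cfsg.Prelude.Def_SylowChains

/-!
Control of Sylow intersections and strong control of fusion.
-/

set_option autoImplicit false

open Pointwise

namespace Cfsg.Agent.Lib.LocalEven2

variable {G : Type*} [Group G] {p : ℕ}

theorem mem_subgroupConjRight {g y : G} {X : Subgroup G} :
    y ∈ Cfsg.subgroupConjRight g X ↔ g * y * g⁻¹ ∈ X := by
  rw [Cfsg.subgroupConjRight, mem_map_conj, inv_inv]

theorem subgroupConjRight_mul (g h : G) (X : Subgroup G) :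
    Cfsg.subgroupConjRight (g * h) X = Cfsg.subgroupConjRight h (Cfsg.subgroupConjRight g X) := by
  ext y; simp only [mem_subgroupConjRight]; simp [mul_assoc]

theorem subgroupConjRight_one (X : Subgroup G) : Cfsg.subgroupConjRight 1 X = X := by
  ext y; simp [mem_subgroupConjRight]

theorem subgroupConjRight_sylow (g : G) (P : Sylow p G) :
    Cfsg.subgroupConjRight g (P : Subgroup G) = ((g⁻¹ • P : Sylow p G) : Subgroup G) := by
  ext y; rw [mem_subgroupConjRight, mem_smul_sylow, inv_inv]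

theorem subgroupConjRight_of_mem {g : G} {X : Subgroup G} (hg : g ∈ X) :
    Cfsg.subgroupConjRight g X = X := by
  ext y
  rw [mem_subgroupConjRight]
  refine ⟨fun h => ?_, fun h => X.mul_mem (X.mul_mem hg h) (inv_mem hg)⟩
  have := X.mul_mem (X.mul_mem (inv_mem hg) h) hg
  simpa [mul_assoc] using this

theorem subgroupConjRight_inf (g : G) (X Y : Subgroup G) :
    Cfsg.subgroupConjRight g (X ⊓ Y) =
      Cfsg.subgroupConjRight g X ⊓ Cfsg.subgroupConjRight g Y := by
  ext y; simp [mem_subgroupConjRight]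

theorem subgroupConjRight_mono (g : G) {X Y : Subgroup G} (h : X ≤ Y) :
    Cfsg.subgroupConjRight g X ≤ Cfsg.subgroupConjRight g Y :=
  fun _ hy => mem_subgroupConjRight.mpr (h (mem_subgroupConjRight.mp hy))

theorem subgroupConjRight_isPGroup (g : G) {X : Subgroup G} (h : IsPGroup p ↥X) :
    IsPGroup p ↥(Cfsg.subgroupConjRight g X) := h.map _

theorem exists_ne_one_of_ne_bot' {H : Subgroup G} (h : H ≠ ⊥) : ∃ a ∈ H, a ≠ 1 := by
  by_contra hc
  push Not at hc
  exact h ((Subgroup.eq_bot_iff_forall H).mpr hc)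

/-- `X ∈ 𝓕(S)` via maximality. -/
theorem mem_sylowMembers {𝓕 : Set (Subgroup G)} {S X : Subgroup G} :
    X ∈ Cfsg.sylowMembers p 𝓕 S ↔ X ∈ 𝓕 ∧ IsPGroup p ↥(S ⊓ X) ∧
      ∀ Q : Subgroup G, IsPGroup p ↥Q → S ⊓ X ≤ Q → Q ≤ X → Q = S ⊓ X := by
  constructor
  · rintro ⟨hX, P, hP⟩
    refine ⟨hX, hP ▸ P.2.map _, fun Q hQ hle hQX => ?_⟩
    have h1 : (P : Subgroup ↥X) ≤ Q.subgroupOf X := fun y hy =>
      hle (hP ▸ Subgroup.mem_map_of_mem _ hy)
    rw [← hP, ← P.3 hQ.comap_subtype h1]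
    exact (Subgroup.map_subgroupOf_eq_of_le hQX).symm
  · rintro ⟨hX, hp, hmax⟩
    refine ⟨hX, ⟨(S ⊓ X).subgroupOf X, hp.comap_subtype, fun {Q} hQ hle => ?_⟩, ?_⟩
    · have h1 := hmax (Q.map X.subtype) (hQ.map _)
        (by
          have := Subgroup.map_mono (f := X.subtype) hle
          rwa [Subgroup.map_subgroupOf_eq_of_le inf_le_right] at this)
        (Subgroup.map_subtype_le Q)
      rw [← h1]
      exact (Subgroup.comap_map_eq_self_of_injective X.subtype_injective Q).symm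
    · exact Subgroup.map_subgroupOf_eq_of_le inf_le_right

theorem sylowMembers_conj {𝓕 : Set (Subgroup G)} (h𝓕 : Cfsg.IsNormalSet 𝓕) {S X : Subgroup G}
    (hX : X ∈ Cfsg.sylowMembers p 𝓕 S) (g : G) :
    Cfsg.subgroupConjRight g X ∈ Cfsg.sylowMembers p 𝓕 (Cfsg.subgroupConjRight g S) := by
  rw [mem_sylowMembers] at hX ⊢
  obtain ⟨hX, hp, hmax⟩ := hX
  rw [← subgroupConjRight_inf]
  refine ⟨h𝓕 X hX g, subgroupConjRight_isPGroup g hp, fun Q hQ hle hQX => ?_⟩
  have h1 := subgroupConjRight_mono g⁻¹ hle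
  have h2 := subgroupConjRight_mono g⁻¹ hQX
  rw [← subgroupConjRight_mul, mul_inv_cancel, subgroupConjRight_one] at h1 h2
  rw [← hmax _ (subgroupConjRight_isPGroup g⁻¹ hQ) h1 h2, ← subgroupConjRight_mul, inv_mul_cancel,
    subgroupConjRight_one]

theorem stronglyControls_of_controls {𝓕 : Set (Subgroup G)} (h𝓕 : Cfsg.IsNormalSet 𝓕)
    (h : Cfsg.ControlsSylowIntersections p 𝓕) : Cfsg.FamilyStronglyControlsFusion p 𝓕 := by
  intro S A g hAS hA hAg
  have hAT : ∀ a ∈ A, a ∈ ((g • S : Sylow p G) : Subgroup G) := fun a ha =>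
    mem_smul_sylow.mpr (hAg ⟨a, ha, rfl⟩)
  by_cases hT : g • S = S
  · exact ⟨0, finZeroElim, finZeroElim, g, Sylow.smul_eq_iff_mem_normalizer.mp hT, finZeroElim,
      by simp, finZeroElim⟩
  obtain ⟨a, ha, ha1⟩ := hA
  obtain ⟨n, c, X, x, hc0, hcn, hstep⟩ := h S (g • S) (Ne.symm hT)
    (fun hbot => ha1 (Subgroup.mem_bot.mp (hbot ▸ ⟨hAS ha, hAT a ha⟩)))
  let h' : ℕ → G := fun i => Nat.rec 1 (fun j r => if hj : j < n then x ⟨j, hj⟩ * r else r) i
  have hs : ∀ j (hj : j < n), h' (j + 1) = x ⟨j, hj⟩ * h' j := fun j hj => dif_pos hj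
  let y : Fin n → G := fun i => (h' i)⁻¹ * x i * h' i
  let Y : Fin n → Subgroup G := fun i => Cfsg.subgroupConjRight (h' i) (X i)
  have hconj : ∀ i : Fin (n + 1), Cfsg.subgroupConjRight (h' i) (c i : Subgroup G) = S := by
    intro i
    induction i using Fin.induction with
    | zero => simpa [h', hc0] using subgroupConjRight_one (S : Subgroup G)
    | succ i ih =>
      rw [Fin.val_succ, hs _ i.2, subgroupConjRight_mul, (hstep i).2.2.2.1]
      exact ih
  have hprod : ∀ j, j ≤ n → ((List.ofFn y).take j).prod = h' j := by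
    intro j hj
    induction j with
    | zero => simp [h']
    | succ j ih =>
      rw [List.prod_take_succ _ _ (by simpa using hj), ih (by omega), hs j (by omega),
        List.getElem_ofFn]
      simp [y, mul_assoc]
  refine ⟨n, Y, y, (h' n)⁻¹ * g, ?_, fun i => ⟨?_, ?_⟩, ?_, fun i => ?_⟩
  · apply Sylow.smul_eq_iff_mem_normalizer.mp
    have h1 := hconj (Fin.last n)
    rw [Fin.val_last, hcn, subgroupConjRight_sylow, smul_smul] at h1
    exact Sylow.ext h1
  · have h1 := sylowMembers_conj h𝓕 (hstep i).1 (h' i)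
    have h2 := hconj i.castSucc
    rw [Fin.val_castSucc] at h2
    rwa [h2] at h1
  · show (h' i)⁻¹ * x i * h' i ∈ Cfsg.subgroupConjRight (h' i) (X i)
    rw [mem_subgroupConjRight]
    simpa [mul_assoc] using (hstep i).2.2.1
  · have h1 := hprod n le_rfl
    rw [List.take_of_length_le (by simp)] at h1
    rw [h1]
    simp
  · rintro _ ⟨a, ha, rfl⟩
    rw [hprod _ i.2, hs _ i.2]
    have hmem := (hstep i).2.2.2.2 ⟨hAS ha, hAT a ha⟩
    have hS : (x i * h' i)⁻¹ * a * (x i * h' i) ∈ (S : Subgroup G) := by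
      rw [← hs _ i.2]
      have h1 := hconj i.succ
      rw [Fin.val_succ] at h1
      rw [← h1, mem_subgroupConjRight]
      rw [hs _ i.2, show x i * h' i * ((x i * h' i)⁻¹ * a * (x i * h' i)) * (x i * h' i)⁻¹ = a by group]
      exact hmem.1
    refine ⟨hS, ?_⟩
    show (x i * h' i)⁻¹ * a * (x i * h' i) ∈ Cfsg.subgroupConjRight (h' i) (X i)
    rw [mem_subgroupConjRight]
    have hxi := (hstep i).2.2.1
    have := (X i).mul_mem ((X i).mul_mem (inv_mem hxi) hmem.2) hxi
    simpa [mul_assoc] using this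

theorem controls_of_stronglyControls [Fact p.Prime] [Finite G] {𝓕 : Set (Subgroup G)}
    (h𝓕 : Cfsg.IsNormalSet 𝓕) (h : Cfsg.FamilyStronglyControlsFusion p 𝓕) :
    Cfsg.ControlsSylowIntersections p 𝓕 := by
  intro S T _ hne
  obtain ⟨g, rfl⟩ := MulAction.exists_smul_eq G S T
  obtain ⟨a, ha, ha1⟩ := exists_ne_one_of_ne_bot' hne
  obtain ⟨n, Y, y, y₀, hy₀, hY, hg, hA⟩ := h S
    (((S : Subgroup G) ⊓ ((g • S : Sylow p G) : Subgroup G) : Subgroup G) : Set G) g
    (fun z hz => hz.1) ⟨a, ha, ha1⟩ (by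
      rintro _ ⟨z, hz, rfl⟩
      exact mem_smul_sylow.mp hz.2)
  let h' : ℕ → G := fun i => ((List.ofFn y).take i).prod
  have hs : ∀ j (hj : j < n), h' (j + 1) = h' j * y ⟨j, hj⟩ := by
    intro j hj
    simp only [h']
    rw [List.prod_take_succ _ _ (by simpa using hj), List.getElem_ofFn]
  let X : Fin n → Subgroup G := fun i => Cfsg.subgroupConjRight (h' i)⁻¹ (Y i)
  let x : Fin n → G := fun i => h' i * y i * (h' i)⁻¹
  have hxX : ∀ i : Fin n, x i ∈ X i := by
    intro i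
    show h' i * y i * (h' i)⁻¹ ∈ Cfsg.subgroupConjRight (h' i)⁻¹ (Y i)
    rw [mem_subgroupConjRight]
    simpa [mul_assoc] using (hY i).2
  have hX : ∀ i : Fin n, X i ∈ Cfsg.sylowMembers p 𝓕 ((h' i • S : Sylow p G) : Subgroup G) := by
    intro i
    have := sylowMembers_conj h𝓕 (hY i).1 (h' i)⁻¹
    rwa [subgroupConjRight_sylow, inv_inv] at this
  have hsucc : ∀ i : Fin n, Cfsg.subgroupConjRight (x i)
      ((h' (i + 1) • S : Sylow p G) : Subgroup G) = ((h' i • S : Sylow p G) : Subgroup G) := by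
    intro i
    rw [subgroupConjRight_sylow, smul_smul, hs _ i.2]
    simp [x, mul_assoc]
  refine ⟨n, fun i => h' i • S, X, x, ?_, ?_, fun i => ⟨?_, ?_, hxX i, ?_, ?_⟩⟩
  · simp [h']
  · have hn : h' n = (List.ofFn y).prod := by simp [h', List.take_of_length_le]
    simp only [Fin.val_last]
    rw [hn, hg, mul_smul, Sylow.smul_eq_iff_mem_normalizer.mpr hy₀]
  · simpa using hX i
  · have h1 := sylowMembers_conj h𝓕 (hX i) (x i)⁻¹
    rw [← hsucc i, ← subgroupConjRight_mul, mul_inv_cancel, subgroupConjRight_one,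
      subgroupConjRight_of_mem (inv_mem (hxX i))] at h1
    simpa using h1
  · simpa using hsucc i
  · intro z hz
    obtain ⟨h1, h2⟩ := hA i ⟨z, hz, rfl⟩
    refine ⟨?_, ?_⟩
    · simp only [Fin.val_succ]
      exact mem_smul_sylow.mpr h1
    · change ((List.ofFn y).take (i.val + 1)).prod⁻¹ * z * _ ∈ (Y i : Set G) at h2
      have h3 : (h' (i + 1))⁻¹ * z * h' (i + 1) ∈ Y i := h2
      rw [hs _ i.2] at h3
      show z ∈ Cfsg.subgroupConjRight (h' i)⁻¹ (Y i)
      rw [mem_subgroupConjRight]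
      have := (Y i).mul_mem ((Y i).mul_mem (hY i).2 h3) (inv_mem (hY i).2)
      simpa [mul_assoc] using this

end Cfsg.Agent.Lib.LocalEven2
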