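import Cfsg.Agent.Lib.LocalEven2.TvGroup
import Cfsg.Agent.Lib.CoprimeGen.Abelian
import Cfsg.Agent.Lib.Cores.Frattini

/-!
Abelian offenders are generated by transvections, and a normal set of transvections generates a
direct product of symmetric groups of degree 3, one for each block.
-/

set_option autoImplicit false
set_option linter.unusedSectionVars false

namespace Cfsg.Agent.Lib.LocalEven2.Tv

variable {Y V : Type*} [Group Y] [CommGroup V] [MulDistribMulAction Y V]

namespace Setting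

variable (S : Setting Y V)
include S

local notation "F" => Cfsg.fittingSubgroup Y
local notation "X" => tvGroup Y V

/-- Thompson's `A × B` lemma for an abelian `2`-group of operators. -/
theorem pxq_abelian : ∀ (n : ℕ) (B : Subgroup Y), Nat.card ↥B = n →
    (∀ a ∈ B, ∀ b ∈ B, a * b = b * a) → IsPGroup 2 ↥B →
    ∀ {w : Y}, Odd (orderOf w) → (∀ b ∈ B, w * b = b * w) →
      (∀ v ∈ fixOf V (B : Set Y), w • v = v) → w = 1 := by
  haveI := S.finiteY
  haveI : Fact (Nat.Prime 2) := ⟨Nat.prime_two⟩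
  intro n
  induction n using Nat.strong_induction_on with
  | _ n ih =>
  intro B hn hBc hB2 w ho hwB hfix
  by_cases hB : B = ⊥
  · subst hB
    exact S.faithful w fun v => hfix v fun a ha => by
      rw [SetLike.mem_coe, Subgroup.mem_bot] at ha
      rw [ha, one_smul]
  obtain ⟨C, hC, hCB⟩ : ∃ C : Subgroup Y, IsCoatom (C.subgroupOf B) ∧ C ≤ B := by
    haveI : Nontrivial ↥B := B.nontrivial_iff_ne_bot.mpr hB
    obtain ⟨M, hM⟩ := (eq_top_or_exists_le_coatom (⊥ : Subgroup ↥B)).resolve_left bot_ne_top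
    refine ⟨M.map B.subtype, ?_, Subgroup.map_subtype_le M⟩
    rw [← Subgroup.comap_subtype, Subgroup.comap_map_eq_self_of_injective B.subtype_injective]
    exact hM.1
  haveI := hB2.isNilpotent
  obtain ⟨hCn, hCp⟩ := Cores.prime_index_of_isCoatom hC
  have hidx : (C.subgroupOf B).index = 2 := by
    obtain ⟨k, hk⟩ := hB2.index (C.subgroupOf B)
    rw [hk] at hCp ⊢
    rw [Nat.Prime.eq_one_of_pow hCp, pow_one]
  have hlt : Nat.card ↥C < n := by
    rw [← hn]
    by_contra h
    have := Subgroup.eq_of_le_of_card_ge hCB (not_lt.mp h)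
    rw [this, Subgroup.subgroupOf_self] at hidx
    simp at hidx
  refine ih _ hlt C rfl (fun a ha b hb => hBc a (hCB ha) b (hCB hb)) (hB2.to_le hCB) ho
    (fun b hb => hwB b (hCB hb)) fun x hx => ?_
  obtain ⟨b, hb, hbC⟩ := SetLike.exists_of_lt (lt_of_le_of_ne hCB fun h => by
    rw [h, Subgroup.subgroupOf_self] at hidx; simp at hidx)
  have hb2 : b * b ∈ C := by
    have := Subgroup.sq_mem_of_index_two hidx ⟨b, hb⟩
    rw [pow_two] at this
    exact this
  have hfixB : ∀ y : V, (∀ c ∈ C, c • y = y) → b • y = y → y ∈ fixOf V (B : Set Y) := by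
    intro y hy hby c hc
    by_cases hcC : c ∈ C
    · exact hy c hcC
    have : b⁻¹ * c ∈ C := by
      have h := Subgroup.mul_mem_iff_of_index_two hidx (a := (⟨b, hb⟩ : ↥B)⁻¹) (b := ⟨c, hc⟩)
      simp only [Subgroup.mem_subgroupOf, inv_mem_iff] at h
      exact h.mpr (by simp [hbC, hcC])
    rw [← mul_inv_cancel_left b c, mul_smul, hy _ this, hby]
  have hy : b • x * x ∈ fixOf V (B : Set Y) := by
    refine hfixB _ (fun c hc => ?_) ?_
    · rw [smul_mul', hx c hc, ← mul_smul, hBc c (hCB hc) b hb, mul_smul, hx c hc]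
    · rw [smul_mul', ← mul_smul, hx _ hb2, mul_comm]
  have hz : w • x * x ∈ fixOf V (B : Set Y) := by
    refine hfixB _ (fun c hc => ?_) ?_
    · rw [smul_mul', hx c hc, ← mul_smul, ← hwB c (hCB hc), mul_smul, hx c hc]
    · have h1 := hfix _ hy
      rw [smul_mul', ← mul_smul, hwB b hb, mul_smul] at h1
      rw [smul_mul']
      calc b • w • x * b • x = (b • w • x * w • x) * w • x * b • x := by rw [S.mul_mul_cancel]
        _ = b • x * x * w • x * b • x := by rw [h1]
        _ = (b • x * b • x) * (w • x * x) := by ac_rfl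
        _ = w • x * x := by rw [S.exp2, one_mul]
  have hwz := hfix _ hz
  have hpow : ∀ m : ℕ, w ^ m • x = x * (w • x * x) ^ m := fun m => by
    induction m with
    | zero => simp
    | succ m ihn =>
      rw [pow_succ', mul_smul, ihn, smul_mul', smul_pow', hwz, pow_succ, mul_comm _ (w • x * x),
        ← mul_assoc, ← mul_assoc, mul_comm x (w • x), S.mul_mul_cancel]
  have h1 := hpow (orderOf w)
  rw [pow_orderOf_eq_one, one_smul] at h1
  have h2 : (w • x * x) ^ orderOf w = 1 := mul_eq_left.mp h1.symm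
  obtain ⟨m, hm⟩ := ho
  rw [hm, pow_succ, pow_mul, pow_two, S.exp2, one_pow, one_mul] at h2
  exact (mul_eq_one_iff_eq_inv.mp h2).trans (S.inv_eq x)

/-- A non-trivial abelian `2`-group of operators has a subgroup of index at most 2 fixing strictly
more. -/
theorem exists_bigger_fix {A : Subgroup Y} (hAc : ∀ a ∈ A, ∀ b ∈ A, a * b = b * a)
    (hA2 : IsPGroup 2 ↥A) (hA : A ≠ ⊥) :
    ∃ B ≤ A, ∃ g ∈ A, g * g ∈ B ∧ (∀ c ∈ A, c ∈ B ∨ g⁻¹ * c ∈ B) ∧
      ∃ u ∈ fixOf V (B : Set Y), g • u ≠ u := by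
  haveI := S.finiteY
  haveI : Fact (Nat.Prime 2) := ⟨Nat.prime_two⟩
  letI : CommGroup ↥A :=
    { (inferInstance : Group ↥A) with mul_comm := fun x y => Subtype.ext (hAc x x.2 y y.2) }
  have hFn : (F).Normal := inferInstance
  let φ : ↥A →* MulAut ↥(F) := (MulAut.conjNormal (H := F)).comp A.subtype
  have hodd : Odd (Nat.card ↥(F)) := by
    by_contra h
    rw [Nat.not_odd_iff_even] at h
    obtain ⟨x, hx⟩ := exists_prime_orderOf_dvd_card' 2 h.two_dvd
    have := S.odd_fitting x.2
    rw [Subgroup.orderOf_coe, hx] at this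
    exact absurd this (by decide)
  have hcop : (Nat.card ↥A).Coprime (Nat.card ↥(F)) := by
    obtain ⟨k, hk⟩ := IsPGroup.iff_card.mp hA2
    rw [hk]
    exact (Nat.coprime_two_left.mpr hodd).pow_left k
  have htop := CoprimeGen.iSup_fix_eq_top _ ↥A ↥(F) φ rfl hcop
  obtain ⟨B₀, ⟨g, hBg⟩, q, hqB, hqg⟩ : ∃ B₀ : Subgroup ↥A,
      (∃ g, B₀ ⊔ Subgroup.zpowers g = ⊤) ∧ ∃ q ∈ CoprimeGen.fix φ B₀, ∃ a, φ a q ≠ q := by
    by_contra hcon
    push Not at hcon
    refine hA ((Subgroup.eq_bot_iff_forall _).mpr fun a ha => ?_)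
    have hle : (⊤ : Subgroup ↥(F)) ≤ CoprimeGen.fix φ (⊤ : Subgroup ↥A) := by
      rw [← htop]
      exact iSup₂_le fun B hB x hx b _ => hcon B hB x hx b
    have haF : a ∈ F := S.centralizer_fitting fun x hx => by
      have h := congrArg Subtype.val (hle (Subgroup.mem_top ⟨x, hx⟩) ⟨a, ha⟩ trivial)
      simp only [φ, MonoidHom.coe_comp, Subgroup.coe_subtype, Function.comp_apply,
        MulAut.conjNormal_apply] at h
      exact (mul_inv_eq_iff_eq_mul.mp h).symm
    obtain ⟨m, hm⟩ := hA2 ⟨a, ha⟩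
    exact S.eq_one_of_odd_pow (S.odd_fitting haF) (congrArg Subtype.val hm)
  have hdec : ∀ c : ↥A, ∃ b ∈ B₀, ∃ j : ℤ, c = b * g ^ j := by
    intro c
    obtain ⟨b, hb, z, hz, rfl⟩ := Subgroup.mem_sup.mp (hBg ▸ Subgroup.mem_top c)
    obtain ⟨j, rfl⟩ := Subgroup.mem_zpowers_iff.mp hz
    exact ⟨b, hb, j, rfl⟩
  have hqg' : (g : Y) * q * (g : Y)⁻¹ ≠ q := by
    intro h
    have hg : φ g q = q := Subtype.ext (by simpa [φ] using h)
    obtain ⟨a, ha⟩ := hqg
    obtain ⟨b, hb, j, rfl⟩ := hdec a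
    refine ha ?_
    have hz : (φ g ^ j) q = q :=
      zpow_mem (show φ g ∈ MulAction.stabilizer (MulAut ↥(F)) q from hg) j
    rw [map_mul, MulAut.mul_apply, map_zpow, hz, hqB b hb]
  -- the subgroup
  refine ⟨(B₀ ⊔ Subgroup.zpowers (g * g)).map A.subtype, Subgroup.map_subtype_le _, g, g.2,
    ⟨g * g, Subgroup.mem_sup_right (Subgroup.mem_zpowers _), rfl⟩, fun c hc => ?_, ?_⟩
  · obtain ⟨b, hb, j, hj⟩ := hdec ⟨c, hc⟩
    rcases Int.even_or_odd j with ⟨t, rfl⟩ | ⟨t, rfl⟩
    · left
      refine ⟨⟨c, hc⟩, ?_, rfl⟩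
      rw [SetLike.mem_coe, hj, ← two_mul, zpow_mul, zpow_two]
      exact mul_mem (Subgroup.mem_sup_left hb)
        (Subgroup.mem_sup_right (Subgroup.zpow_mem _ (Subgroup.mem_zpowers _) t))
    · right
      refine ⟨g⁻¹ * ⟨c, hc⟩, ?_, rfl⟩
      rw [SetLike.mem_coe, hj, mul_left_comm, zpow_add_one, zpow_mul, zpow_two,
        mul_comm ((g * g) ^ t) g, inv_mul_cancel_left]
      exact mul_mem (Subgroup.mem_sup_left hb)
        (Subgroup.mem_sup_right (Subgroup.zpow_mem _ (Subgroup.mem_zpowers _) t))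
  by_contra hcon
  push Not at hcon
  -- then `g` fixes all of the fixed points of `B₀`
  set U := fixOf V ((B₀.map A.subtype : Subgroup Y) : Set Y) with hU
  have hUinv : ∀ c ∈ A, ∀ u ∈ U, c • u ∈ U := by
    intro c hc u hu b hb
    have hbA : b ∈ A := Subgroup.map_subtype_le B₀ hb
    rw [← mul_smul, hAc b hbA c hc, mul_smul, hu b hb]
  have hfix2 : ∀ m : ℕ, ∀ u ∈ U, (g : Y) ^ 2 ^ m • u = u → (g : Y) • u = u := by
    intro m
    induction m with
    | zero => intro u _ h; simpa using h
    | succ m ih =>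
      intro u hu h
      by_contra hne
      have hgm : (g : Y) ^ 2 ^ m ∈ A := pow_mem g.2 _
      set z := (g : Y) • u * u with hz
      have hzU : z ∈ U := mul_mem (hUinv _ g.2 u hu) hu
      set y := (g : Y) ^ 2 ^ m • u * u with hy
      have hyU : y ∈ U := mul_mem (hUinv _ hgm u hu) hu
      have hyfix : (g : Y) • y = y := ih y hyU (by
        rw [hy, smul_mul', ← mul_smul, ← pow_add, ← two_mul, ← pow_succ', h, mul_comm])
      have hym : (g : Y) ^ 2 ^ m • u = y * u := by rw [hy, S.mul_mul_cancel]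
      have hzfix : (g : Y) • z = z := ih z hzU (by
        rw [hz, smul_mul', ← mul_smul, ← pow_succ, pow_succ' (g : Y) (2 ^ m), mul_smul, hym,
          smul_mul', hyfix]
        calc y * (g : Y) • u * (y * u) = (y * y) * ((g : Y) • u * u) := by ac_rfl
          _ = (g : Y) • u * u := by rw [S.exp2, one_mul])
      have h2 : (g : Y) • (g : Y) • u = u := by
        rw [hz, smul_mul'] at hzfix
        calc (g : Y) • (g : Y) • u = (g : Y) • (g : Y) • u * (g : Y) • u * (g : Y) • u :=
              (S.mul_mul_cancel _ _).symm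
          _ = (g : Y) • u * u * (g : Y) • u := by rw [hzfix]
          _ = u := by rw [mul_comm ((g : Y) • u) u, S.mul_mul_cancel]
      refine hne (hcon u fun b hb => ?_)
      obtain ⟨b', hb', rfl⟩ := hb
      have hle : B₀ ⊔ Subgroup.zpowers (g * g) ≤
          (MulAction.stabilizer Y u).comap A.subtype := by
        refine sup_le (fun b hb => hu _ ⟨b, hb, rfl⟩) (Subgroup.zpowers_le.mpr ?_)
        show ((g * g : ↥A) : Y) • u = u
        rw [Subgroup.coe_mul, mul_smul, h2]
      exact hle hb'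
  have hgU : ∀ u ∈ U, (g : Y) • u = u := by
    intro u hu
    obtain ⟨m, hm⟩ := hA2 g
    have hm' : (g : Y) ^ 2 ^ m = 1 := congrArg Subtype.val hm
    exact hfix2 m u hu (by rw [hm', one_smul])
  -- contradiction with coprime action
  set w := (q : Y)⁻¹ * ((g : Y) * q * (g : Y)⁻¹) with hw
  have hwF : w ∈ F := mul_mem (inv_mem q.2) (hFn.conj_mem _ q.2 _)
  have hBq : ∀ b ∈ B₀, (b : Y) * q = q * b := fun b hb => by
    have h := congrArg Subtype.val (hqB b hb)
    simp only [φ, MonoidHom.coe_comp, Subgroup.coe_subtype, Function.comp_apply,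
      MulAut.conjNormal_apply] at h
    exact mul_inv_eq_iff_eq_mul.mp h
  refine hqg' (inv_mul_eq_one.mp
    (S.pxq_abelian _ (B₀.map A.subtype) rfl
      (fun a ha b hb => hAc a (Subgroup.map_subtype_le B₀ ha) b (Subgroup.map_subtype_le B₀ hb))
      (hA2.to_le (Subgroup.map_subtype_le B₀)) (w := w) (S.odd_fitting hwF) ?_ ?_)).symm
  · rintro _ ⟨b, hb, rfl⟩
    have h1 : Commute (b : Y) (q : Y) := hBq b hb
    have h2 : Commute (b : Y) (g : Y) := hAc b b.2 g g.2
    exact ((h1.inv_right).mul_right ((h2.mul_right h1).mul_right h2.inv_right)).eq.symm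
  · intro v hv
    have hqU : ∀ u ∈ U, (q : Y) • u ∈ U := by
      rintro u hu _ ⟨b, hb, rfl⟩
      rw [← mul_smul, Subgroup.coe_subtype, hBq b hb, mul_smul]
      exact congrArg _ (hu _ ⟨b, hb, rfl⟩)
    rw [hw, mul_smul, mul_smul, mul_smul, inv_smul_eq_iff.mpr (hgU v hv).symm,
      hgU _ (hqU v hv), inv_smul_smul]

/-- An abelian `2`-group moves at least its order; in case of equality it is elementary abelian and
generated by transvections. -/
theorem offender_abelian : ∀ (n : ℕ) (A : Subgroup Y), Nat.card ↥A = n →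
    (∀ a ∈ A, ∀ b ∈ A, a * b = b * a) → IsPGroup 2 ↥A →
    Nat.card ↥A ≤ (fixOf V (A : Set Y)).index ∧
      ((fixOf V (A : Set Y)).index ≤ Nat.card ↥A →
        A ≤ Subgroup.closure {t : Y | t ∈ A ∧ IsTv V t}) := by
  haveI := S.finiteY
  haveI := S.finiteV
  intro n
  induction n using Nat.strong_induction_on with
  | _ n ih =>
  intro A hn hAc hA2
  by_cases hel : ∀ a ∈ A, a * a = 1
  · exact S.offender _ A rfl hAc hel
  have hA : A ≠ ⊥ := fun h => hel fun a ha => by
    rw [h, Subgroup.mem_bot] at ha; rw [ha, mul_one]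
  obtain ⟨B, hBA, g, hg, hgg, hplane, u, huU, hgu⟩ := S.exists_bigger_fix hAc hA2 hA
  have hgB : g ∉ B := fun h => hgu (huU g h)
  have hlt : Nat.card ↥B < n := by
    rw [← hn]
    exact lt_of_not_ge fun h => hgB ((Subgroup.eq_of_le_of_card_ge hBA h).symm ▸ hg)
  obtain ⟨hIH, hIHeq⟩ := ih _ hlt B rfl (fun x hx y hy => hAc x (hBA hx) y (hBA hy))
    (hA2.to_le hBA)
  set U := fixOf V (B : Set Y) with hU
  set UA := fixOf V (A : Set Y) with hUA
  have hUAU : UA ≤ U := fun v hv b hb => hv b (hBA hb)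
  have hrel : 2 ≤ UA.relIndex U := by
    rcases h : UA.relIndex U with _ | _ | k
    · exact absurd h Subgroup.FiniteIndex.index_ne_zero
    · exact absurd (Subgroup.relIndex_eq_one.mp h huU g hg) hgu
    · omega
  have hcardA : Nat.card ↥A ≤ 2 * Nat.card ↥B := by
    have hsub : (A : Set Y) ⊆ (B : Set Y) ∪ (fun c => g * c) '' (B : Set Y) := by
      intro c hc
      rcases hplane c hc with h | h
      · exact Or.inl h
      · exact Or.inr ⟨_, h, mul_inv_cancel_left g c⟩
    have h1 := (Set.ncard_le_ncard hsub).trans (Set.ncard_union_le _ _)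
    have h2 := Set.ncard_image_le (f := fun c => g * c) (s := (B : Set Y)) (Set.toFinite _)
    have h3 : Nat.card ↥A ≤ Nat.card ↥B + ((fun c => g * c) '' (B : Set Y)).ncard := h1
    have h4 : ((fun c => g * c) '' (B : Set Y)).ncard ≤ Nat.card ↥B := h2
    omega
  have hmul := Subgroup.relIndex_mul_index hUAU
  refine ⟨?_, fun hle => absurd (?_ : ∀ a ∈ A, a * a = 1) hel⟩
  · rw [← hmul]
    exact hcardA.trans (Nat.mul_le_mul hrel hIH)
  rw [← hmul] at hle
  have hUi : U.index ≤ Nat.card ↥B :=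
    Nat.le_of_mul_le_mul_left ((Nat.mul_le_mul_right _ hrel).trans (hle.trans hcardA))
      Nat.two_pos
  have hBgen := hIHeq hUi
  have hBX : B ≤ X := hBgen.trans ((Subgroup.closure_le _).mpr fun t ht => S.tv_mem ht.2)
  have hsq : ∀ c ∈ A, c * c ∈ B := by
    intro c hc
    rcases hplane c hc with h | h
    · exact mul_mem h h
    · have : c * c = (g * g) * ((g⁻¹ * c) * (g⁻¹ * c)) := by
        have hcg : c * g⁻¹ = g⁻¹ * c := ((show Commute c g from hAc c hc g hg).inv_right).eq
        calc c * c = g * (g * (g⁻¹ * (g⁻¹ * c))) * c := by group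
          _ = g * (g * (g⁻¹ * (c * g⁻¹))) * c := by rw [hcg]
          _ = (g * g) * ((g⁻¹ * c) * (g⁻¹ * c)) := by group
      rw [this]
      exact mul_mem hgg (mul_mem h h)
  intro c hc
  refine S.eq_one_of_fix_blocks (hBX (hsq c hc)) fun r hr x hx => ?_
  by_cases hcase : ∃ t ∈ B, IsTv V t ∧ blockOf V t = blockOf V r
  · obtain ⟨t, htB, ⟨d, hd⟩, hbl⟩ := hcase
    rw [← hbl] at hx
    have e : c * t * c⁻¹ = t := by rw [hAc c hc t (hBA htB)]; group
    have hcd : c • d = d := by
      have h1 := S.cen_conj hd c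
      rw [e] at h1
      exact (S.cen_unique hd h1).symm
    obtain ⟨s', e', he', -, hde, -, -, -, -, hmem, -⟩ := S.block_data hd
    have heW : e' ∈ blockOf V t := (hmem e').mpr (Or.inr (Or.inr (Or.inl rfl)))
    have hce : c • c • e' = e' := by
      have hm := S.smul_block_mem c t heW
      rw [e] at hm
      rcases (hmem _).mp hm with h | h | h | h
      · exact absurd ((smul_left_cancel_iff c).mp (h.trans (smul_one c).symm)) he'.1
      · exact absurd ((smul_left_cancel_iff c).mp (h.trans hcd.symm)) (Ne.symm hde)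
      · rw [h, h]
      · rw [h, smul_mul', hcd, h, ← mul_assoc, S.exp2, one_mul]
    rw [mul_smul]
    rcases (hmem x).mp hx with rfl | rfl | rfl | rfl
    · rw [smul_one, smul_one]
    · rw [hcd, hcd]
    · exact hce
    · rw [smul_mul', smul_mul', hcd, hcd, hce]
  · have hfixall : ∀ b ∈ Subgroup.closure {t : Y | t ∈ B ∧ IsTv V t}, b • x = x := by
      intro b hb
      induction hb using Subgroup.closure_induction with
      | mem t ht =>
        by_contra h
        exact hcase ⟨t, ht.1, ht.2, S.block_eq_of_moves ht.2 hr hx h⟩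
      | one => exact one_smul _ _
      | mul p q _ _ hp hq => rw [mul_smul, hq, hp]
      | inv p _ hp => exact inv_smul_eq_iff.mpr hp.symm
    exact hfixall _ (hBgen (hsq c hc))

end Setting

/-- The non-trivial elements of a block. -/
abbrev Pts (W : Subgroup V) : Type _ := {w : ↥W // w ≠ 1}

namespace Setting

variable (S : Setting Y V)
include S

local notation "F" => Cfsg.fittingSubgroup Y

theorem pts_card {t : Y} (ht : IsTv V t) : Nat.card (Pts (blockOf V t)) = 3 := by
  classical
  haveI := S.finiteV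
  obtain ⟨d, hd⟩ := ht
  obtain ⟨s, e, hs, -, hde, -, -, -, -, hmem, -⟩ := S.block_data hd
  have hne : d * e ≠ 1 := fun h => hde ((mul_eq_one_iff_eq_inv.mp h).trans (S.inv_eq e))
  have h1 : d * e ≠ d := fun h => hs.1 (mul_eq_left.mp h)
  have h2 : d * e ≠ e := fun h => hd.1 (mul_eq_right.mp h)
  have hbij : Function.Bijective
      (fun i : Fin 3 => (⟨⟨![d, e, d * e] i, (hmem _).mpr (by fin_cases i <;> simp)⟩, by
        fin_cases i <;> simp [Subtype.ext_iff, hd.1, hs.1, hne]⟩ : Pts (blockOf V t))) := by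
    constructor
    · intro i j h
      have h' : ![d, e, d * e] i = ![d, e, d * e] j := congrArg (fun p => (p.1 : V)) h
      fin_cases i <;> fin_cases j <;>
        first
          | rfl
          | (exfalso; simp at h'; first
              | exact hde h' | exact hde h'.symm | exact h1 h' | exact h1 h'.symm
              | exact h2 h' | exact h2 h'.symm | exact hd.1 h' | exact hs.1 h')
    · rintro ⟨⟨w, hw⟩, hw1⟩
      rcases (hmem w).mp hw with rfl | rfl | rfl | rfl
      · exact absurd rfl hw1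
      · exact ⟨0, rfl⟩
      · exact ⟨1, rfl⟩
      · exact ⟨2, rfl⟩
  exact (Nat.card_eq_of_bijective _ hbij).symm.trans (Nat.card_fin 3)

/-- A normal set of transvections generates a direct product of copies of `S₃`. -/
theorem closure_equiv {D : Set Y} (hD : ∀ t ∈ D, IsTv V t) (hne : D.Nonempty)
    (hconj : ∀ t ∈ D, ∀ y : Y, y * t * y⁻¹ ∈ D) :
    ∃ n : ℕ, 1 ≤ n ∧ Nonempty (↥(Subgroup.closure D) ≃* (Fin n → Equiv.Perm (Fin 3))) := by
  classical
  haveI := S.finiteY
  haveI := S.finiteV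
  haveI : Fintype {W : Subgroup V // ∃ t ∈ D, blockOf V t = W} := Fintype.ofFinite _
  set I := {W : Subgroup V // ∃ t ∈ D, blockOf V t = W} with hI
  have hXd : Subgroup.closure D ≤ tvGroup Y V := Subgroup.closure_mono hD
  have hinv : ∀ (W : I), ∀ x ∈ Subgroup.closure D, ∀ w ∈ W.1, x • w ∈ W.1 := by
    rintro ⟨W, t, ht, rfl⟩ x hx w hw
    exact S.tvGroup_smul_block (hXd hx) (hD t ht) hw
  let P : (W : I) → ↥(Subgroup.closure D) → Equiv.Perm (Pts W.1) := fun W x =>
    { toFun := fun w => ⟨⟨(x : Y) • ((w.1 : ↥W.1) : V), hinv W x x.2 _ w.1.2⟩, fun h => w.2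
        (Subtype.ext ((smul_left_cancel_iff (x : Y)).mp
          ((congrArg Subtype.val h :).trans (smul_one _).symm)))⟩
      invFun := fun w => ⟨⟨(x : Y)⁻¹ • ((w.1 : ↥W.1) : V), hinv W _ (inv_mem x.2) _ w.1.2⟩,
        fun h => w.2 (Subtype.ext ((smul_left_cancel_iff (x : Y)⁻¹).mp
          ((congrArg Subtype.val h :).trans (smul_one _).symm)))⟩
      left_inv := fun w => Subtype.ext (Subtype.ext (inv_smul_smul _ _))
      right_inv := fun w => Subtype.ext (Subtype.ext (smul_inv_smul _ _)) }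
  let Φ : ↥(Subgroup.closure D) →* ((W : I) → Equiv.Perm (Pts W.1)) :=
    { toFun := fun x W => P W x
      map_one' := funext fun W => Equiv.ext fun w => Subtype.ext (Subtype.ext (one_smul Y _))
      map_mul' := fun x y => funext fun W => Equiv.ext fun w =>
        Subtype.ext (Subtype.ext (mul_smul (x : Y) (y : Y) _)) }
  have hΦ : ∀ (x : ↥(Subgroup.closure D)) (W : I) (w : Pts W.1),
      (((Φ x W w).1 : ↥W.1) : V) = (x : Y) • ((w.1 : ↥W.1) : V) := fun _ _ _ => rfl
  have hinj : Function.Injective Φ := by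
    intro x y h
    refine Subtype.ext (S.ext_blocks (hXd x.2) (hXd y.2) fun r hr w hw => ?_)
    by_cases hcase : ∃ t ∈ D, blockOf V t = blockOf V r
    · by_cases hw1 : w = 1
      · rw [hw1, smul_one, smul_one]
      · exact congrArg (fun f : (W : I) → Equiv.Perm (Pts W.1) =>
          ((((f ⟨blockOf V r, hcase⟩ :) :
            Equiv.Perm (Pts (blockOf V r))) ⟨⟨w, hw⟩, fun e => hw1 (congrArg Subtype.val e)⟩).1 : V)) h
    · have hfix : ∀ z ∈ Subgroup.closure D, z • w = w := by
        intro z hz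
        induction hz using Subgroup.closure_induction with
        | mem t ht =>
          by_contra h'
          exact hcase ⟨t, ht, S.block_eq_of_moves (hD t ht) hr hw h'⟩
        | one => exact one_smul _ _
        | mul p q _ _ hp hq => rw [mul_smul, hq, hp]
        | inv p _ hp => exact inv_smul_eq_iff.mpr hp.symm
      rw [hfix _ x.2, hfix _ y.2]
  -- the image contains each coordinate
  have hsingle : ∀ (W : I) (σ : Equiv.Perm (Pts W.1)), Pi.mulSingle W σ ∈ Φ.range := by
    intro W σ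
    obtain ⟨W, t, ht, rfl⟩ := W
    set W' : I := ⟨blockOf V t, t, ht, rfl⟩ with hW'
    set R : Subgroup (Equiv.Perm (Pts (blockOf V t))) :=
      Φ.range.comap (MonoidHom.mulSingle (fun W : I => Equiv.Perm (Pts W.1)) W') with hR
    suffices R = ⊤ by
      exact this.ge (Subgroup.mem_top σ)
    have hmemR : ∀ t' (ht' : t' ∈ D), blockOf V t' = blockOf V t →
        P W' ⟨t', Subgroup.subset_closure ht'⟩ ∈ R := by
      intro t' ht' hb
      refine ⟨⟨t', Subgroup.subset_closure ht'⟩, ?_⟩
      funext U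
      by_cases hU : U = W'
      · subst hU
        rw [MonoidHom.mulSingle_apply, Pi.mulSingle_eq_same]
        rfl
      · rw [MonoidHom.mulSingle_apply, Pi.mulSingle_eq_of_ne hU]
        refine Equiv.ext fun w => Subtype.ext (Subtype.ext ?_)
        rw [hΦ]
        show t' • ((w.1 : ↥U.1) : V) = ((w.1 : ↥U.1) : V)
        by_contra h'
        obtain ⟨r, hr, hrU⟩ := U.2
        have hwU : ((w.1 : ↥U.1) : V) ∈ blockOf V r := hrU.symm ▸ w.1.2
        exact hU (Subtype.ext (hrU ▸ (S.block_eq_of_moves (hD t' ht') (hD r hr) hwU h').symm.trans hb))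
    obtain ⟨d, hd⟩ := hD t ht
    obtain ⟨s, e, hs, hF, hde, hte, hsd, hstd, hste, hmem, -⟩ := S.block_data hd
    set t' := (s * t) * t * (s * t)⁻¹ with ht'def
    have ht'D : t' ∈ D := hconj t ht _
    have hc : IsCen t' (d * e) := hstd ▸ S.cen_conj hd (s * t)
    have hdW : d ∈ blockOf V t := S.cen_mem_block hd
    have heW : e ∈ blockOf V t := (hmem e).mpr (Or.inr (Or.inr (Or.inl rfl)))
    have hb : blockOf V t' = blockOf V t := by
      have h1 : d * e ∈ blockOf V t := mul_mem hdW heW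
      exact S.block_eq_of_meet ⟨_, hc⟩ (hD t ht) (S.cen_mem_block hc) h1 hc.1
    have ha := hmemR t ht rfl
    have hb' := hmemR t' ht'D hb
    set a := P W' ⟨t, Subgroup.subset_closure ht⟩ with hadef
    set b := P W' ⟨t', Subgroup.subset_closure ht'D⟩ with hbdef
    have hsq : ∀ (z : ↥(Subgroup.closure D)), (z : Y) * z = 1 → P W' z ^ 2 = 1 := by
      intro z hz
      rw [pow_two]
      exact Equiv.ext fun w => Subtype.ext (Subtype.ext (by
        show (z : Y) • (z : Y) • ((w.1 : V)) = (w.1 : V)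
        rw [← mul_smul, hz, one_smul]))
    have hdeW : d * e ∈ blockOf V t := mul_mem hdW heW
    have hde1 : d * e ≠ 1 := fun h => hde ((mul_eq_one_iff_eq_inv.mp h).trans (S.inv_eq e))
    let pd : Pts (blockOf V t) := ⟨⟨d, hdW⟩, fun h => hd.1 (congrArg Subtype.val h)⟩
    let pe : Pts (blockOf V t) := ⟨⟨d * e, hdeW⟩, fun h => hde1 (congrArg Subtype.val h)⟩
    have tde : t • (d * e) = e := by
      rw [smul_mul', S.cen_fix hd, hte, mul_comm e d, ← mul_assoc, S.exp2, one_mul]
    have hane : a pe ≠ pe := fun h => by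
      have : t • (d * e) = d * e := congrArg (fun p : Pts _ => (p.1 : V)) h
      rw [tde] at this
      exact hd.1 (mul_eq_right.mp this.symm)
    have hbne : b pe = pe := Subtype.ext (Subtype.ext (S.cen_fix hc))
    have hab : a ≠ b := fun h => hane (h ▸ hbne)
    have ha1 : a ≠ 1 := fun h => hane (by rw [h]; rfl)
    have hb1 : b ≠ 1 := by
      intro h
      obtain ⟨v, hv⟩ := hd.2.2
      have hmv : t' • d ≠ d ∨ t' • e ≠ e := by
        by_contra hh
        push Not at hh
        have hfd : t' • d = d := hh.1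
        have hde' := hc.2.1 d
        -- `t'` is the conjugate of `t` moving `(s * t) • e = d`
        have h3 : t' • d = d * (d * e) := by
          have h4 : t' • ((s * t) • e) = (s * t) • (t • e) := by
            rw [ht'def, ← mul_smul, inv_mul_cancel_right, mul_smul]
          rw [hte, smul_mul', hste, hstd] at h4
          exact h4
        rw [hfd] at h3
        exact hde1 (mul_eq_left.mp h3.symm)
      rcases hmv with hmv | hmv
      · exact hmv (congrArg (fun f : Equiv.Perm (Pts (blockOf V t)) => ((f pd).1 : V)) h)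
      · exact hmv (congrArg (fun f : Equiv.Perm (Pts (blockOf V t)) =>
          ((f ⟨⟨e, heW⟩, fun h => hs.1 (congrArg Subtype.val h)⟩).1 : V)) h)
    have hcard : Nat.card (Equiv.Perm (Pts (blockOf V t))) = 6 := by
      rw [Nat.card_perm, S.pts_card ⟨d, hd⟩]; rfl
    refine Subgroup.eq_top_of_le_card R ?_
    rw [hcard]
    have hoa : orderOf a = 2 :=
      orderOf_eq_prime (hsq _ (S.sq_one hd)) ha1
    have hob : orderOf b = 2 :=
      orderOf_eq_prime (hsq _ (S.sq_one hc)) hb1
    have h2R : 2 ∣ Nat.card ↥R := hoa ▸ Subgroup.orderOf_dvd_natCard R ha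
    have h6 : Nat.card ↥R ∣ 6 := hcard ▸ Subgroup.card_subgroup_dvd_card R
    have hne2 : Nat.card ↥R ≠ 2 := by
      intro h
      obtain ⟨x, y, hxy, huniv⟩ := Nat.card_eq_two_iff.mp h
      have h1 : (1 : ↥R) ∈ ({x, y} : Set ↥R) := huniv ▸ Set.mem_univ _
      have hA : (⟨a, ha⟩ : ↥R) ∈ ({x, y} : Set ↥R) := huniv ▸ Set.mem_univ _
      have hB : (⟨b, hb'⟩ : ↥R) ∈ ({x, y} : Set ↥R) := huniv ▸ Set.mem_univ _
      simp only [Set.mem_insert_iff, Set.mem_singleton_iff] at h1 hA hB
      rcases h1 with h1 | h1 <;> rcases hA with hA | hA <;> rcases hB with hB | hB <;>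
        first
          | exact hab (congrArg Subtype.val (hA.trans hB.symm))
          | exact ha1 (congrArg Subtype.val (hA.trans h1.symm))
          | exact hb1 (congrArg Subtype.val (hB.trans h1.symm))
    have h6' := Nat.le_of_dvd (by norm_num) h6
    have hpos := Nat.card_pos (α := ↥R)
    interval_cases hk : Nat.card ↥R <;> omega
  have hsurj : Function.Surjective Φ := fun f =>
    Subgroup.pi_mem_of_mulSingle_mem (H := Φ.range) f fun W => hsingle W (f W)
  have heq : ∀ W : I, Nonempty (Pts W.1 ≃ Fin 3) := by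
    rintro ⟨W, t, ht, rfl⟩
    exact ⟨(Finite.equivFinOfCardEq (S.pts_card (hD t ht)))⟩
  refine ⟨Fintype.card I, ?_, ⟨((MulEquiv.ofBijective Φ ⟨hinj, hsurj⟩).trans
    (MulEquiv.piCongrRight fun W => (heq W).some.permCongrHom)).trans
      { Equiv.arrowCongr (Fintype.equivFin I) (Equiv.refl (Equiv.Perm (Fin 3))) with
        map_mul' := fun _ _ => rfl }⟩⟩
  obtain ⟨t, ht⟩ := hne
  exact Fintype.card_pos_iff.mpr ⟨⟨_, t, ht, rfl⟩⟩

end Setting

end Cfsg.Agent.Lib.LocalEven2.Tv
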