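import Cfsg.Agent.Lib.Cores.Fitting
import Cfsg.Agent.Lib.LocalEven2.Basic
import Cfsg.Agent.Lib.Coprime.Generation
import Mathlib.Algebra.Group.Action.End

/-!
Transvections in a solvable group with trivial `2`-core acting faithfully on an elementary abelian
`2`-group: they fall into blocks, each generating a symmetric group of degree 3 on a four-group.
-/

set_option autoImplicit false
set_option linter.unusedSectionVars false

namespace Cfsg.Agent.Lib.LocalEven2.Tv

variable {Y V : Type*} [Group Y] [CommGroup V] [MulDistribMulAction Y V]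

/-! ### Elementary facts -/

/-- `t` is a transvection with center `d`. -/
def IsCen (t : Y) (d : V) : Prop :=
  d ≠ 1 ∧ (∀ v : V, t • v = v ∨ t • v = v * d) ∧ ∃ v : V, t • v = v * d

def IsTv (V : Type*) [CommGroup V] [MulDistribMulAction Y V] (t : Y) : Prop := ∃ d : V, IsCen t d

/-- The elements of `V` fixed by a set of operators. -/
def fixOf (V : Type*) [CommGroup V] [MulDistribMulAction Y V] (A : Set Y) : Subgroup V where
  carrier := {v | ∀ a ∈ A, a • v = v}
  one_mem' a _ := smul_one a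
  mul_mem' hx hy a ha := by rw [smul_mul', hx a ha, hy a ha]
  inv_mem' hx a ha := by rw [smul_inv', hx a ha]

theorem mem_fixOf {A : Set Y} {v : V} : v ∈ fixOf V A ↔ ∀ a ∈ A, a • v = v := Iff.rfl

structure Setting (Y V : Type*) [Group Y] [CommGroup V] [MulDistribMulAction Y V] : Prop where
  finiteY : Finite Y
  finiteV : Finite V
  exp2 : ∀ v : V, v * v = 1
  faithful : ∀ y : Y, (∀ v : V, y • v = v) → y = 1
  solv : Group.IsSolvable Y
  core : Cfsg.pCore 2 Y = ⊥

namespace Setting

variable (S : Setting Y V)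
include S

theorem inv_eq (v : V) : v⁻¹ = v := inv_eq_of_mul_eq_one_right (S.exp2 v)

theorem ext_smul {y z : Y} (h : ∀ v : V, y • v = z • v) : y = z := by
  have := S.faithful (z⁻¹ * y) fun v => by rw [mul_smul, h, inv_smul_smul]
  exact (inv_mul_eq_one.mp this).symm

theorem mul_mul_cancel (v w : V) : v * w * w = v := by rw [mul_assoc, S.exp2, mul_one]

theorem cen_fix {t : Y} {d : V} (h : IsCen t d) : t • d = d := by
  rcases h.2.1 d with e | e
  · exact e
  · rw [S.exp2] at e
    exact absurd ((smul_left_cancel_iff t).mp (e.trans (smul_one t).symm)) h.1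

theorem sq_one {t : Y} {d : V} (h : IsCen t d) : t * t = 1 := S.faithful _ fun v => by
  rw [mul_smul]
  rcases h.2.1 v with e | e
  · rw [e, e]
  · rw [e, smul_mul', e, S.cen_fix h, S.mul_mul_cancel]

theorem tv_inv {t : Y} {d : V} (h : IsCen t d) : t⁻¹ = t :=
  inv_eq_of_mul_eq_one_right (S.sq_one h)

theorem cen_unique {t : Y} {d d' : V} (h : IsCen t d) (h' : IsCen t d') : d = d' := by
  obtain ⟨v, hv⟩ := h.2.2
  rcases h'.2.1 v with e | e
  · rw [hv] at e
    exact absurd (mul_eq_left.mp e) h.1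
  · exact mul_left_cancel (hv.symm.trans e)

theorem cen_eq {t : Y} {d v : V} (h : IsCen t d) (hv : t • v ≠ v) : t • v = v * d :=
  (h.2.1 v).resolve_left hv

theorem cen_conj {t : Y} {d : V} (h : IsCen t d) (y : Y) : IsCen (y * t * y⁻¹) (y • d) := by
  refine ⟨fun e => h.1 ((smul_left_cancel_iff y).mp (e.trans (smul_one y).symm)), fun v => ?_, ?_⟩
  · rcases h.2.1 (y⁻¹ • v) with e | e
    · left; rw [mul_smul, mul_smul, e, smul_inv_smul]
    · right; rw [mul_smul, mul_smul, e, smul_mul', smul_inv_smul]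
  · obtain ⟨v, hv⟩ := h.2.2
    exact ⟨y • v, by rw [mul_smul, mul_smul, inv_smul_smul, hv, smul_mul']⟩

theorem commute_of_fix {t s : Y} {d e : V} (ht : IsCen t d) (hs : IsCen s e) (h1 : t • e = e)
    (h2 : s • d = d) : t * s = s * t := S.ext_smul fun v => by
  rw [mul_smul, mul_smul]
  rcases ht.2.1 v with a | a <;> rcases hs.2.1 v with b | b
  · rw [a, b, a]
  · rw [a, b, smul_mul', a, h1]
  · rw [a, b, a, smul_mul', b, h2]
  · rw [a, b, smul_mul', smul_mul', a, b, h1, h2, mul_right_comm]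

theorem eq_one_of_odd_pow {g : Y} (hg : Odd (orderOf g)) {m : ℕ} (h : g ^ 2 ^ m = 1) : g = 1 := by
  obtain ⟨r, hr⟩ := exists_pow_eq_self_of_coprime
    ((Nat.coprime_two_left.mpr hg).pow_left m)
  rw [h, one_pow] at hr
  exact hr.symm

/-- Two transvections with product of odd order larger than one move each other's centers. -/
theorem mutual_move {t s : Y} {d e : V} (ht : IsCen t d) (hs : IsCen s e) (ho : Odd (orderOf (t * s)))
    (hne : t * s ≠ 1) : d ≠ e ∧ t • e = e * d ∧ s • d = d * e := by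
  have key : ∀ {t s : Y} {d e : V}, IsCen t d → IsCen s e → Odd (orderOf (t * s)) → t * s ≠ 1 →
      t • e ≠ e := by
    intro t s d e ht hs ho hne h1
    have hss := S.sq_one hs
    have hsi := S.tv_inv hs
    have htt := S.sq_one ht
    rcases hs.2.1 d with h2 | h2
    · refine hne (S.eq_one_of_odd_pow ho (m := 1) ?_)
      rw [pow_one, pow_two]
      calc t * s * (t * s) = t * s * (s * t) := by rw [S.commute_of_fix ht hs h1 h2]
        _ = t * (s * s) * t := by group
        _ = 1 := by rw [hss, mul_one, htt]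
    · have h3 := S.cen_conj ht s
      have hc : t * (s * t * s⁻¹) = s * t * s⁻¹ * t := by
        refine S.commute_of_fix ht h3 ?_ ?_
        · rw [h2, smul_mul', S.cen_fix ht, h1]
        · rw [mul_smul, mul_smul, hsi, h2, smul_mul', S.cen_fix ht, h1, smul_mul', h2,
            S.cen_fix hs, S.mul_mul_cancel]
      refine hne (S.eq_one_of_odd_pow ho (m := 2) ?_)
      rw [hsi] at hc
      calc (t * s) ^ 2 ^ 2 = t * (s * t * s) * (t * (s * t * s)) := by
            rw [show (2 : ℕ) ^ 2 = 4 from rfl]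
            simp only [pow_succ, pow_zero, one_mul, mul_assoc]
        _ = (s * t * s * t) * (t * (s * t * s)) := by rw [hc]
        _ = s * t * s * (t * t) * s * t * s := by group
        _ = s * t * (s * s) * t * s := by rw [htt]; group
        _ = s * (t * t) * s := by rw [hss]; group
        _ = 1 := by rw [htt, mul_one, hss]
  have h1 : t • e = e * d := S.cen_eq ht (key ht hs ho hne)
  have ho' : Odd (orderOf (s * t)) ∧ s * t ≠ 1 := by
    have : s * t = (t * s)⁻¹ := by rw [mul_inv_rev, S.tv_inv hs, S.tv_inv ht]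
    rw [this, orderOf_inv]
    exact ⟨ho, inv_ne_one.mpr hne⟩
  refine ⟨fun h => ?_, h1, S.cen_eq hs (key hs ht ho'.1 ho'.2)⟩
  rw [← h, S.cen_fix ht] at h1
  exact ht.1 (mul_eq_left.mp h1.symm)

/-- An element of odd order stabilizing a chain is trivial. -/
theorem stab_eq_one {g : Y} (ho : Odd (orderOf g)) {U : Subgroup V} (hfix : ∀ u ∈ U, g • u = u)
    (hmove : ∀ v : V, g • v * v ∈ U) : g = 1 := by
  refine S.eq_one_of_odd_pow ho (m := 1) (S.faithful _ fun v => ?_)
  rw [pow_one, pow_two, mul_smul]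
  have h := hfix _ (hmove v)
  rw [smul_mul'] at h
  calc g • g • v = (g • g • v * g • v) * g • v := (S.mul_mul_cancel _ _).symm
    _ = g • v * v * g • v := by rw [h]
    _ = v := by rw [mul_comm (g • v) v, S.mul_mul_cancel]

theorem odd_fitting {x : Y} (hx : x ∈ Cfsg.fittingSubgroup Y) : Odd (orderOf x) := by
  haveI := S.finiteY
  haveI : Fact (Nat.Prime 2) := ⟨Nat.prime_two⟩
  have h := Cores.fittingSubgroup_le_pCore_sup_pPrimeCore (G := Y) 2
  rw [S.core, bot_sup_eq] at h
  exact Nat.coprime_two_left.mp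
    ((Cores.pPrimeCore_coprime 2 Y).coprime_dvd_left
      (Subgroup.orderOf_dvd_natCard _ (h hx))).symm

theorem centralizer_fitting {y : Y} (hy : ∀ x ∈ Cfsg.fittingSubgroup Y, x * y = y * x) :
    y ∈ Cfsg.fittingSubgroup Y := by
  haveI := S.finiteY
  exact Cores.centralizer_fittingSubgroup_le S.solv (Subgroup.mem_centralizer_iff.mpr hy)

end Setting

/-! ### Blocks -/

/-- The four-group of the block of the transvection `t`. -/
def blockOf (V : Type*) [CommGroup V] [MulDistribMulAction Y V] (t : Y) : Subgroup V :=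
  Subgroup.closure {d : V | ∃ s : Y, IsCen s d ∧ s * t ∈ Cfsg.fittingSubgroup Y}

/-- The subgroup generated by the transvections. -/
def tvGroup (Y V : Type*) [Group Y] [CommGroup V] [MulDistribMulAction Y V] : Subgroup Y :=
  Subgroup.closure {t : Y | IsTv V t}

namespace Setting

variable (S : Setting Y V)
include S

local notation "F" => Cfsg.fittingSubgroup Y

theorem cen_mem_block {t : Y} {d : V} (h : IsCen t d) : d ∈ blockOf V t :=
  Subgroup.subset_closure ⟨t, h, by rw [S.sq_one h]; exact one_mem _⟩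

theorem exists_partner {t : Y} {d : V} (h : IsCen t d) :
    ∃ s e, IsCen (V := V) s e ∧ s * t ∈ F ∧ s ≠ t := by
  haveI := S.finiteY
  have htF : t ∉ F := fun hF => by
    have := S.eq_one_of_odd_pow (S.odd_fitting hF) (m := 1)
      (by rw [pow_one, pow_two, S.sq_one h])
    obtain ⟨v, hv⟩ := h.2.2
    rw [this, one_smul] at hv
    exact h.1 (mul_eq_left.mp hv.symm)
  obtain ⟨x, hx, hxt⟩ : ∃ x ∈ F, x * t ≠ t * x := by
    by_contra hcon
    push Not at hcon
    exact htF (S.centralizer_fitting hcon)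
  refine ⟨x * t * x⁻¹, x • d, S.cen_conj h x, ?_, fun he => hxt ?_⟩
  · rw [show x * t * x⁻¹ * t = x * (t * x⁻¹ * t⁻¹) * (t * t) by group, S.sq_one h, mul_one]
    exact mul_mem hx ((inferInstance : (F).Normal).conj_mem _ (inv_mem hx) t)
  · calc x * t = x * t * x⁻¹ * x := by group
      _ = t * x := by rw [he]

/-- Any third member of a class has center the product of the other two. -/
theorem third {t s s' : Y} {d e e' : V} (ht : IsCen t d) (hs : IsCen s e) (hs' : IsCen s' e')
    (h1 : s * t ∈ F) (h2 : s' * t ∈ F) (n1 : s ≠ t) (n2 : s' ≠ t) (n3 : s' ≠ s) : e' = d * e := by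
  haveI := S.finiteY
  have hts : t * s ∈ F := by
    have := inv_mem h1
    rwa [mul_inv_rev, S.tv_inv hs, S.tv_inv ht] at this
  have hts' : t * s' ∈ F := by
    have := inv_mem h2
    rwa [mul_inv_rev, S.tv_inv hs', S.tv_inv ht] at this
  have hss' : s * s' ∈ F := by
    have := mul_mem h1 hts'
    rwa [mul_assoc, ← mul_assoc t t, S.sq_one ht, one_mul] at this
  have hn : ∀ {a b : Y} {c : V}, IsCen b c → a ≠ b → a * b ≠ 1 := fun hb hab h => hab (by
    rw [eq_inv_of_mul_eq_one_left h, S.tv_inv hb])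
  obtain ⟨-, hte, hsd⟩ := S.mutual_move ht hs (S.odd_fitting hts) (hn hs (Ne.symm n1))
  obtain ⟨-, hte', hs'd⟩ := S.mutual_move ht hs' (S.odd_fitting hts') (hn hs' (Ne.symm n2))
  obtain ⟨-, hse', -⟩ := S.mutual_move hs hs' (S.odd_fitting hss') (hn hs' (Ne.symm n3))
  have hs'' := S.cen_conj hs' t
  have hF'' : s * (t * s' * t⁻¹) ∈ F := by
    rw [S.tv_inv ht, show s * (t * s' * t) = (s * t) * (s' * t) by group]
    exact mul_mem h1 h2
  have hfix : s • (t • e') = t • e' := by
    rw [hte', smul_mul', hse', hsd]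
    calc e' * e * (d * e) = e' * d * e * e := by ac_rfl
      _ = e' * d := S.mul_mul_cancel _ _
  have h : s * (t * s' * t⁻¹) = 1 := by
    by_contra hne
    obtain ⟨-, hmv, -⟩ := S.mutual_move hs hs'' (S.odd_fitting hF'') hne
    rw [hfix] at hmv
    exact hs.1 (mul_eq_left.mp hmv.symm)
  have heq : s = t * s' * t⁻¹ := by
    rw [eq_inv_of_mul_eq_one_left h, S.tv_inv hs'']
  rw [← heq] at hs''
  rw [S.cen_unique hs hs'', hte', mul_comm e' d, ← mul_assoc, S.exp2, one_mul]

/-- Full description of a block. -/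
theorem block_data {t : Y} {d : V} (ht : IsCen t d) : ∃ s e, IsCen (V := V) s e ∧ s * t ∈ F ∧
    d ≠ e ∧ t • e = e * d ∧ s • d = d * e ∧ (s * t) • d = d * e ∧ (s * t) • e = d ∧
    (∀ w, w ∈ blockOf V t ↔ w = 1 ∨ w = d ∨ w = e ∨ w = d * e) ∧
    ∀ v : V, (s * t) • v * v ∈ blockOf V t := by
  haveI := S.finiteY
  obtain ⟨s, e, hs, hF, hne⟩ := S.exists_partner ht
  have hne' : s * t ≠ 1 := fun h => hne (by rw [eq_inv_of_mul_eq_one_left h, S.tv_inv ht])
  obtain ⟨hde, hsd, hte⟩ := S.mutual_move hs ht (S.odd_fitting hF) hne'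
  have hd : (s * t) • d = d * e := by rw [mul_smul, S.cen_fix ht, hsd]
  have he : (s * t) • e = d := by
    rw [mul_smul, hte, smul_mul', hsd, S.cen_fix hs, mul_comm d e, ← mul_assoc, S.exp2, one_mul]
  let U : Subgroup V :=
    { carrier := {w | w = 1 ∨ w = d ∨ w = e ∨ w = d * e}
      one_mem' := Or.inl rfl
      mul_mem' := by
        rintro a b (h1 | h1 | h1 | h1) (h2 | h2 | h2 | h2) <;>
          simp [h1, h2, ← mul_assoc, S.exp2, mul_comm e d, S.mul_mul_cancel, mul_right_comm d e]
      inv_mem' := by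
        intro a ha
        rwa [S.inv_eq a] }
  have hUd : d ∈ U := Or.inr (Or.inl rfl)
  have hUe : e ∈ U := Or.inr (Or.inr (Or.inl rfl))
  have hUle : U ≤ blockOf V t := by
    have h1 := S.cen_mem_block ht
    have h2 : e ∈ blockOf V t := Subgroup.subset_closure ⟨s, hs, hF⟩
    rintro w (rfl | rfl | rfl | rfl)
    exacts [one_mem _, h1, h2, mul_mem h1 h2]
  have hblock : blockOf V t = U := by
    refine le_antisymm ((Subgroup.closure_le _).mpr ?_) hUle
    rintro e' ⟨s', hs', hF'⟩
    by_cases hs't : s' = t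
    · subst hs't; rw [S.cen_unique hs' ht]; exact hUd
    by_cases hs's : s' = s
    · subst hs's; rw [S.cen_unique hs' hs]; exact hUe
    exact Or.inr (Or.inr (Or.inr (S.third ht hs hs' hF hF' hne hs't hs's)))
  refine ⟨s, e, hs, hF, Ne.symm hde, hte, hsd, hd, he, fun w => by rw [hblock]; rfl, fun v => ?_⟩
  rw [hblock, mul_smul]
  rcases ht.2.1 v with a | a <;> rcases hs.2.1 v with b | b <;> rw [a]
  · rw [b, S.exp2]; exact one_mem _
  · rw [b, mul_comm v e, S.mul_mul_cancel]; exact hUe
  · rw [smul_mul', b, hsd, mul_comm v (d * e), S.mul_mul_cancel]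
    exact mul_mem hUd hUe
  · rw [smul_mul', b, hsd, show v * e * (d * e) * v = (v * v) * d * e * e by ac_rfl, S.exp2,
      one_mul, S.mul_mul_cancel]
    exact hUd

theorem block_le_of_mem {t : Y} {d : V} (ht : IsCen t d) {U : Subgroup V} {w : V}
    (hw : w ∈ blockOf V t) (hw1 : w ≠ 1) (hwU : w ∈ U) (hU : ∀ x ∈ F, ∀ u ∈ U, x • u ∈ U) :
    blockOf V t ≤ U := by
  obtain ⟨s, e, -, hF, -, -, -, hd, he, hmem, -⟩ := S.block_data ht
  have hd' : d ∈ U ∧ e ∈ U := by
    rcases (hmem w).mp hw with rfl | rfl | rfl | rfl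
    · exact absurd rfl hw1
    · have h1 := hU _ hF _ hwU
      rw [hd] at h1
      have h2 := mul_mem hwU h1
      rw [← mul_assoc, S.exp2, one_mul] at h2
      exact ⟨hwU, h2⟩
    · have h1 := hU _ hF _ hwU
      rw [he] at h1
      exact ⟨h1, hwU⟩
    · have h1 := hU _ hF _ hwU
      rw [smul_mul', hd, he, mul_comm d e, S.mul_mul_cancel] at h1
      have h2 := mul_mem hwU h1
      rw [S.mul_mul_cancel] at h2
      exact ⟨h2, h1⟩
  intro x hx
  rcases (hmem x).mp hx with rfl | rfl | rfl | rfl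
  exacts [one_mem _, hd'.1, hd'.2, mul_mem hd'.1 hd'.2]

theorem smul_block_mem (y t : Y) {w : V} (hw : w ∈ blockOf V t) :
    y • w ∈ blockOf V (y * t * y⁻¹) := by
  unfold blockOf at hw
  induction hw using Subgroup.closure_induction with
  | mem d hd =>
    obtain ⟨s, hs, hF⟩ := hd
    refine Subgroup.subset_closure ⟨_, S.cen_conj hs y, ?_⟩
    rw [show y * s * y⁻¹ * (y * t * y⁻¹) = y * (s * t) * y⁻¹ by group]
    exact (inferInstance : (F).Normal).conj_mem _ hF y
  | one => rw [smul_one]; exact one_mem _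
  | mul a b _ _ ha hb => rw [smul_mul']; exact mul_mem ha hb
  | inv a _ ha => rw [smul_inv']; exact inv_mem ha

theorem block_eq_of_class {t t' : Y} {d : V} (ht : IsCen t d) (h : t' * t ∈ F) :
    blockOf V t' = blockOf V t := by
  have aux : ∀ {a b : Y}, a * b⁻¹ ∈ F → ∀ s : Y, s * a ∈ F → s * b ∈ F := fun hab s hs => by
    have := mul_mem hs (inv_mem ((inferInstance : (F).Normal).mem_comm hab))
    convert this using 1
    group
  unfold blockOf
  congr 1
  ext e
  simp only [Set.mem_setOf_eq]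
  have hti := S.tv_inv ht
  have h1 : t' * t⁻¹ ∈ F := by rwa [hti]
  have h2 : t * t'⁻¹ ∈ F := by
    have := inv_mem h1
    rwa [mul_inv_rev, inv_inv] at this
  exact ⟨fun ⟨s, hs, hF⟩ => ⟨s, hs, aux h1 s hF⟩, fun ⟨s, hs, hF⟩ => ⟨s, hs, aux h2 s hF⟩⟩

theorem fitting_smul_block {x t : Y} {d : V} (hx : x ∈ F) (ht : IsCen t d) {w : V}
    (hw : w ∈ blockOf V t) : x • w ∈ blockOf V t := by
  rw [← S.block_eq_of_class (t' := x * t * x⁻¹) ht ?_]
  · exact S.smul_block_mem x t hw
  · rw [show x * t * x⁻¹ * t = x * (t * x⁻¹ * t⁻¹) * (t * t) by group, S.sq_one ht, mul_one]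
    exact mul_mem hx ((inferInstance : (F).Normal).conj_mem _ (inv_mem hx) t)

/-- Distinct blocks meet trivially. -/
theorem block_eq_of_meet {t t' : Y} (ht : IsTv V t) (ht' : IsTv V t') {w : V} (hw : w ∈ blockOf V t)
    (hw' : w ∈ blockOf V t') (hw1 : w ≠ 1) : blockOf V t = blockOf V t' := by
  obtain ⟨d, hd⟩ := ht
  obtain ⟨d', hd'⟩ := ht'
  exact le_antisymm
    (S.block_le_of_mem hd hw hw1 hw' fun x hx u hu => S.fitting_smul_block hx hd' hu)
    (S.block_le_of_mem hd' hw' hw1 hw fun x hx u hu => S.fitting_smul_block hx hd hu)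

/-- Every transvection stabilizes every block. -/
theorem tv_smul_block {t' t : Y} (ht' : IsTv V t') (ht : IsTv V t) {w : V}
    (hw : w ∈ blockOf V t) : t' • w ∈ blockOf V t := by
  obtain ⟨d, hd⟩ := ht
  obtain ⟨d', hd'⟩ := ht'
  by_contra hne
  obtain ⟨s, e, hs, -, hde, -, -, -, -, hmem, -⟩ := S.block_data hd
  have he1 : e ≠ 1 := hs.1
  have hdis : ∀ x ∈ blockOf V t, t' • x ∈ blockOf V t → x = 1 := by
    intro x hx hx'
    by_contra hx1
    have := S.block_eq_of_meet ⟨_, hd⟩ ⟨_, S.cen_conj hd t'⟩ hx' (S.smul_block_mem t' t hx)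
      (fun h => hx1 ((smul_left_cancel_iff t').mp (h.trans (smul_one t').symm)))
    exact hne (this ▸ S.smul_block_mem t' t hw)
  have hdW : d ∈ blockOf V t := S.cen_mem_block hd
  have heW : e ∈ blockOf V t := (hmem e).mpr (Or.inr (Or.inr (Or.inl rfl)))
  have mvd : t' • d = d * d' := S.cen_eq hd' fun h => hd.1 (hdis d hdW (h.symm ▸ hdW))
  have mve : t' • e = e * d' := S.cen_eq hd' fun h => he1 (hdis e heW (h.symm ▸ heW))
  have : t' • (d * e) = d * e := by
    rw [smul_mul', mvd, mve, show d * d' * (e * d') = d * e * d' * d' by ac_rfl, S.mul_mul_cancel]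
  have := hdis _ (mul_mem hdW heW) (this.symm ▸ mul_mem hdW heW)
  exact hde (by rw [eq_inv_of_mul_eq_one_left this, S.inv_eq])

/-- A transvection moving a point of a block belongs to it. -/
theorem block_eq_of_moves {t' t : Y} (ht' : IsTv V t') (ht : IsTv V t) {w : V}
    (hw : w ∈ blockOf V t) (hmv : t' • w ≠ w) : blockOf V t' = blockOf V t := by
  obtain ⟨d', hd'⟩ := ht'
  have h1 := mul_mem hw (S.tv_smul_block ⟨d', hd'⟩ ht hw)
  rw [S.cen_eq hd' hmv, ← mul_assoc, S.exp2, one_mul] at h1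
  exact S.block_eq_of_meet ⟨d', hd'⟩ ht (S.cen_mem_block hd') h1 hd'.1

end Setting

end Cfsg.Agent.Lib.LocalEven2.Tv
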