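import Mathlib

/-!
# Groups in which every nontrivial element fixes exactly two points
-/

set_option autoImplicit false

namespace Cfsg.Agent.Lib.LocalEven2.TwoFixed

open scoped Classical

/-- The arithmetic of the orbit equation. -/
theorem orbit_arith {g a b c : ℕ} (hg : 1 ≤ g) (ha : ∃ e, 2 ≤ e ∧ e * a = g)
    (hb : ∃ e, 2 ≤ e ∧ e * b = g) (hc : ∃ e, 2 ≤ e ∧ e * c = g) (h : a + b + c = g + 2) :
    ((if 6 * a ≤ g then a else 0) + (if 6 * b ≤ g then b else 0) + (if 6 * c ≤ g then c else 0) ≤ 2) ∧
    ((if 4 * a ≤ g then a else 0) + (if 4 * b ≤ g then b else 0) + (if 4 * c ≤ g then c else 0) ≤ 12) := by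
  have key : ∀ x : ℕ, (∃ e, 2 ≤ e ∧ e * x = g) →
      2 * x = g ∨ 3 * x = g ∨ 4 * x = g ∨ 5 * x = g ∨ 6 * x ≤ g := by
    rintro x ⟨e, he, rfl⟩
    rcases Nat.lt_or_ge e 6 with h6 | h6
    · interval_cases e <;> simp
    · exact Or.inr (Or.inr (Or.inr (Or.inr (Nat.mul_le_mul_right x h6))))
  rcases key a ha with ha | ha | ha | ha | ha <;> rcases key b hb with hb | hb | hb | hb | hb <;>
    rcases key c hc with hc | hc | hc | hc | hc <;> constructor <;> split_ifs <;> omega

variable {H X : Type*} [Group H] [MulAction H X] [Fintype H] [Fintype X]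

theorem bounds (hfix : ∀ h : H, h ≠ 1 → Nat.card (MulAction.fixedBy X h) = 2)
    (hX : ∀ x : X, ∃ h : H, h ≠ 1 ∧ h • x = x) :
    (Finset.univ.filter fun x : X => 6 ≤ Nat.card (MulAction.stabilizer H x)).card ≤ 2 ∧
    (Finset.univ.filter fun x : X => 4 ≤ Nat.card (MulAction.stabilizer H x)).card ≤ 12 := by
  set g := Nat.card H with hg
  have hg1 : 1 ≤ g := Nat.card_pos
  let o : MulAction.orbitRel.Quotient H X → ℕ := fun q =>
    (Finset.univ.filter fun x : X => (Quotient.mk'' x : MulAction.orbitRel.Quotient H X) = q).card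
  have hox : ∀ x : X, o (Quotient.mk'' x) * Nat.card (MulAction.stabilizer H x) = g := by
    intro x
    have h1 : o (Quotient.mk'' x) = Nat.card (MulAction.orbit H x) := by
      rw [Nat.card_coe_set_eq, Set.ncard_eq_toFinset_card']
      refine congrArg Finset.card ?_
      ext y
      simp only [Finset.mem_filter, Finset.mem_univ, true_and, Set.mem_toFinset]
      rw [Quotient.eq'', MulAction.orbitRel_apply]
    rw [h1, hg, Nat.card_eq_fintype_card, Nat.card_eq_fintype_card, Nat.card_eq_fintype_card]
    exact MulAction.card_orbit_mul_card_stabilizer_eq_card_group H x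
  have hdiv : ∀ q, ∃ e, 2 ≤ e ∧ e * o q = g := by
    intro q
    induction q using Quotient.inductionOn' with
    | h x =>
      refine ⟨Nat.card (MulAction.stabilizer H x), ?_, by rw [mul_comm]; exact hox x⟩
      obtain ⟨h, h1, h2⟩ := hX x
      have hne : MulAction.stabilizer H x ≠ ⊥ := fun e =>
        h1 (Subgroup.mem_bot.mp (e ▸ (MulAction.mem_stabilizer_iff.mpr h2)))
      have := (MulAction.stabilizer H x).one_lt_card_iff_ne_bot.mpr hne
      omega
  have hsum : (Finset.univ.sum o) + 2 * (g - 1) =
      Fintype.card (MulAction.orbitRel.Quotient H X) * g := by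
    have h1 : Finset.univ.sum o = Fintype.card X := by
      rw [← Finset.card_univ (α := X)]
      exact (Finset.card_eq_sum_card_fiberwise (fun x _ => Finset.mem_univ _)).symm
    have h2 := MulAction.sum_card_fixedBy_eq_card_orbits_mul_card_group H X
    rw [hg, Nat.card_eq_fintype_card, ← h2, h1,
      ← Finset.add_sum_erase Finset.univ _ (Finset.mem_univ (1 : H))]
    congr 1
    · exact (Fintype.card_congr (Equiv.subtypeUnivEquiv fun x => by
        show (1 : H) • x = x; exact one_smul H x)).symm
    · rw [Finset.sum_congr rfl (g := fun _ => (2 : ℕ)) (fun a ha => by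
        rw [← Nat.card_eq_fintype_card]; exact hfix a (Finset.ne_of_mem_erase ha)),
        Finset.sum_const, Finset.card_erase_of_mem (Finset.mem_univ _), Finset.card_univ,
        smul_eq_mul, mul_comm]
  have hhalf : ∀ q, 2 * o q ≤ g := fun q => by
    obtain ⟨e, he, heq⟩ := hdiv q
    rw [← heq]; exact Nat.mul_le_mul_right _ he
  set r := Fintype.card (MulAction.orbitRel.Quotient H X) with hr
  have hr3 : r ≤ 3 := by
    have h1 : 2 * Finset.univ.sum o ≤ r * g := by
      rw [Finset.mul_sum]
      calc _ ≤ Finset.univ.sum fun _ : MulAction.orbitRel.Quotient H X => g :=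
            Finset.sum_le_sum fun q _ => hhalf q
        _ = r * g := by rw [Finset.sum_const, smul_eq_mul, Finset.card_univ]
    by_contra h4
    push Not at h4
    have h5 : 4 * g ≤ r * g := Nat.mul_le_mul_right g h4
    omega
  have hfilt : ∀ k : ℕ, (Finset.univ.filter fun x : X => k ≤ Nat.card (MulAction.stabilizer H x)).card
      = Finset.univ.sum fun q => if k * o q ≤ g then o q else 0 := by
    intro k
    rw [Finset.card_eq_sum_card_fiberwise
      (f := fun x : X => (Quotient.mk'' x : MulAction.orbitRel.Quotient H X)) (t := Finset.univ)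
      (fun x _ => Finset.mem_univ _)]
    refine Finset.sum_congr rfl fun q _ => ?_
    have hiff : ∀ x : X, (Quotient.mk'' x : MulAction.orbitRel.Quotient H X) = q →
        (k ≤ Nat.card (MulAction.stabilizer H x) ↔ k * o q ≤ g) := by
      intro x hx
      have h := hox x
      rw [hx] at h
      have hpos : 0 < o q := by
        rcases Nat.eq_zero_or_pos (o q) with h0 | h0
        · rw [h0, zero_mul] at h; omega
        · exact h0
      rw [← h, mul_comm (o q)]
      exact (Nat.mul_le_mul_right_iff hpos).symm
    split_ifs with hq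
    · show _ = (Finset.univ.filter _).card
      rw [Finset.filter_filter]
      congr 1
      ext x
      simp only [Finset.mem_filter, Finset.mem_univ, true_and]
      exact ⟨fun h => h.2, fun h => ⟨(hiff x h).mpr hq, h⟩⟩
    · rw [Finset.card_eq_zero, Finset.filter_eq_empty_iff]
      intro x hx
      exact fun h => hq ((hiff x h).mp (Finset.mem_filter.mp hx).2)
  rw [hfilt 6, hfilt 4]
  clear_value o
  have hle : ∀ k, (Finset.univ.sum fun q => if k * o q ≤ g then o q else 0) ≤ Finset.univ.sum o :=
    fun k => Finset.sum_le_sum fun q _ => by split_ifs <;> omega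
  interval_cases hrv : r
  · have := hle 6; have := hle 4
    omega
  · have := hle 6; have := hle 4
    omega
  · have := hle 6; have := hle 4
    omega
  · obtain ⟨a, b, c, hab, hac, hbc, hu⟩ := Finset.card_eq_three.mp
      (Finset.card_univ.trans (hr.symm.trans rfl) : (Finset.univ :
        Finset (MulAction.orbitRel.Quotient H X)).card = 3)
    rw [hu] at hsum ⊢
    rw [Finset.sum_insert (by simp [hab, hac]), Finset.sum_pair hbc] at hsum
    rw [Finset.sum_insert (by simp [hab, hac]), Finset.sum_pair hbc,
      Finset.sum_insert (by simp [hab, hac]), Finset.sum_pair hbc, ← add_assoc, ← add_assoc]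
    exact orbit_arith hg1 (hdiv a) (hdiv b) (hdiv c) (by omega)

end Cfsg.Agent.Lib.LocalEven2.TwoFixed
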