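import Cfsg.Agent.Lib.LocalEven2.Sylow
import Mathlib.GroupTheory.Transfer

/-!
A transfer criterion of Wielandt type.
-/

set_option autoImplicit false
open scoped Classical

namespace Cfsg.Agent.Lib.LocalEven2

variable {G : Type*} [Group G]

/-- If `M ⧸ H` is abelian and `M ∩ gMg⁻¹ ≤ H` for all `g ∉ M`, then `H = M ∩ N` for some normal
subgroup `N` of `G`. -/
theorem exists_normal_inf_eq [Finite G] (M H : Subgroup G) [hHn : (H.subgroupOf M).Normal]
    (hHM : H ≤ M) [IsMulCommutative (↥M ⧸ H.subgroupOf M)]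
    (hM : ∀ g : G, g ∉ M → M ⊓ M.map (MulAut.conj g).toMonoidHom ≤ H) :
    ∃ N : Subgroup G, N.Normal ∧ N ⊓ M = H ∧ commutator G ≤ N := by
  letI : CommGroup (↥M ⧸ H.subgroupOf M) :=
    { (inferInstance : Group (↥M ⧸ H.subgroupOf M)) with mul_comm := mul_comm' }
  set φ : ↥M →* ↥M ⧸ H.subgroupOf M := QuotientGroup.mk' _
  have hval : ∀ m : ↥M, MonoidHom.transfer φ (m : G) = φ m := by
    intro m
    haveI : Fintype (Quotient (MulAction.orbitRel (Subgroup.zpowers (m : G)) (G ⧸ M))) := Fintype.ofFinite _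
    rw [MonoidHom.transfer_eq_prod_quotient_orbitRel_zpowers_quot]
    set q₀ : Quotient (MulAction.orbitRel (Subgroup.zpowers (m : G)) (G ⧸ M)) :=
      Quotient.mk'' ((1 : G) : G ⧸ M)
    have hfix : ∀ z : ↥(Subgroup.zpowers (m : G)), z • ((1 : G) : G ⧸ M) = ((1 : G) : G ⧸ M) := by
      rintro ⟨z, hz⟩
      show ((z * 1 : G) : G ⧸ M) = _
      rw [mul_one, QuotientGroup.eq]
      simpa using M.inv_mem (Subgroup.zpowers_le.mpr m.2 hz)
    have hq₀ : q₀.out = ((1 : G) : G ⧸ M) := by
      obtain ⟨z, hz⟩ := (MulAction.orbitRel_apply.mp (Quotient.mk_out' ((1 : G) : G ⧸ M)) :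
        q₀.out ∈ MulAction.orbit (Subgroup.zpowers (m : G)) ((1 : G) : G ⧸ M))
      rw [← hz]; exact hfix z
    rw [Finset.prod_eq_single q₀]
    · have hmem : q₀.out.out ∈ M := by
        have h : ((q₀.out.out : G) : G ⧸ M) = ((1 : G) : G ⧸ M) := by rw [QuotientGroup.out_eq']; exact hq₀
        rw [QuotientGroup.eq] at h
        simpa using h
      have hper : Function.minimalPeriod ((m : G) • ·) q₀.out = 1 := by
        rw [Function.minimalPeriod_eq_one_iff_isFixedPt, hq₀]
        exact hfix ⟨m, Subgroup.mem_zpowers _⟩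
      set a : ↥M := ⟨q₀.out.out, hmem⟩
      calc φ ⟨q₀.out.out⁻¹ * (m : G) ^ Function.minimalPeriod ((m : G) • ·) q₀.out * q₀.out.out, _⟩
          = φ (a⁻¹ * m * a) := congrArg φ (Subtype.ext (by simp only [hper, pow_one]; rfl))
        _ = φ a⁻¹ * φ a * φ m := by rw [map_mul, map_mul, mul_right_comm]
        _ = φ m := by rw [map_inv, inv_mul_cancel, one_mul]
    · intro q _ hq
      refine (QuotientGroup.eq_one_iff _).mpr ?_
      rw [Subgroup.mem_subgroupOf]
      show q.out.out⁻¹ * (m : G) ^ Function.minimalPeriod ((m : G) • ·) q.out * q.out.out ∈ H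
      set g := q.out.out with hg
      have hgM : g ∉ M := by
        intro hgM
        apply hq
        have h : q.out = ((1 : G) : G ⧸ M) := by
          rw [← QuotientGroup.out_eq' q.out, QuotientGroup.eq]
          simpa [hg] using hgM
        rw [← Quotient.out_eq' q, h]
      have h1 : g⁻¹ * (m : G) ^ Function.minimalPeriod ((m : G) • ·) q.out * g ∈ M :=
        QuotientGroup.out_conj_pow_minimalPeriod_mem M (m : G) q.out
      refine hM g⁻¹ (fun h => hgM (by simpa using M.inv_mem h)) ⟨h1, ?_⟩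
      refine ⟨_, M.pow_mem m.2 (Function.minimalPeriod ((m : G) • ·) q.out), ?_⟩
      simp [mul_assoc]
    · intro h; exact absurd (Finset.mem_univ _) h
  refine ⟨(MonoidHom.transfer φ).ker, inferInstance, le_antisymm ?_ ?_,
    Abelianization.commutator_subset_ker _⟩
  · rintro x ⟨hx, hxM⟩
    have h := hval ⟨x, hxM⟩
    rw [MonoidHom.mem_ker.mp hx] at h
    exact Subgroup.mem_subgroupOf.mp ((QuotientGroup.eq_one_iff _).mp h.symm)
  · intro x hx
    refine ⟨?_, hHM hx⟩
    show MonoidHom.transfer φ x = 1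
    rw [hval ⟨x, hHM hx⟩]
    exact (QuotientGroup.eq_one_iff _).mpr (Subgroup.mem_subgroupOf.mpr hx)

/-- A conjugation-invariant pair generates a normal subgroup above a maximal subgroup. -/
theorem normal_of_le_normalizer [Finite G] {M K : Subgroup G} (hM : IsCoatom M)
    (hMK : M ≤ Subgroup.normalizer (K : Set G)) (hK : ¬ K ≤ M) : K.Normal := by
  have h : M ⊔ K = ⊤ := hM.2 _ (lt_of_le_of_ne le_sup_left fun h => hK (le_sup_right.trans h.ge))
  exact Subgroup.normalizer_eq_top_iff.mp (top_le_iff.mp (h ▸ sup_le hMK Subgroup.le_normalizer))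

theorem conj_mem_of_le_normalizer {H : Subgroup G} {y g : G}
    (hy : g⁻¹ * y * g ∈ Subgroup.normalizer (H : Set G)) :
    y ∈ Subgroup.normalizer ((H.map (MulAut.conj g).toMonoidHom : Subgroup G) : Set G) := by
  rw [Subgroup.mem_normalizer_iff]
  intro z
  rw [mem_map_conj, mem_map_conj]
  have h := Subgroup.mem_normalizer_iff.mp hy (g⁻¹ * z * g)
  simpa [mul_assoc] using h

end Cfsg.Agent.Lib.LocalEven2
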